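import Mathlib.GroupTheory.Sylow
import Mathlib.GroupTheory.Solvable
import Mathlib.GroupTheory.Nilpotent
import Mathlib.GroupTheory.Complement
import Mathlib.GroupTheory.Commutator.Basic

/-!
# Core helper lemmas: conjugates, orders, normalisers

* conjugates: `mem_conj_smul_iff`, `card_conj_smul`, `conj_smul_eq_map`, `index_conj_smul`
* orders: `card_sup_mul_card_inf` (for `H ≤ N(N)`), `card_sup_of_disjoint`,
  `card_map_mk'`, `card_quotient_lt`, `card_subgroup_lt`
* Sylow: `eq_top_of_forall_exists_sylow_le`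
* induction over normal closure operations: `sSup_normal_induction`
-/

set_option autoImplicit false
set_option linter.all false

namespace CfsgLib.Core

open scoped Pointwise

variable {G : Type*} [Group G]

/-! ### Conjugates -/

theorem mem_conj_smul_iff {g x : G} {H : Subgroup G} :
    x ∈ MulAut.conj g • H ↔ g⁻¹ * x * g ∈ H := by
  simp [Subgroup.mem_pointwise_smul_iff_inv_smul_mem]

theorem conj_mem_conj_smul {g x : G} {H : Subgroup G} (hx : x ∈ H) :
    g * x * g⁻¹ ∈ MulAut.conj g • H := by
  rw [mem_conj_smul_iff]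
  simpa [mul_assoc] using hx

theorem conj_smul_eq_map (g : G) (H : Subgroup G) :
    MulAut.conj g • H = H.map (MulAut.conj g).toMonoidHom := rfl

theorem conj_smul_conj_smul (a b : G) (H : Subgroup G) :
    MulAut.conj a • MulAut.conj b • H = MulAut.conj (a * b) • H := by
  rw [smul_smul, map_mul]

theorem conj_one_smul (H : Subgroup G) : MulAut.conj (1 : G) • H = H := by
  rw [map_one, one_smul]

theorem conj_inv_smul_eq_iff {g : G} {H K : Subgroup G} :
    MulAut.conj g⁻¹ • K = H ↔ MulAut.conj g • H = K := by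
  rw [map_inv, inv_smul_eq_iff, eq_comm]

theorem card_conj_smul (g : G) (H : Subgroup G) :
    Nat.card (MulAut.conj g • H : Subgroup G) = Nat.card H :=
  (Nat.card_congr (Subgroup.equivSMul (MulAut.conj g) H).toEquiv).symm

theorem index_conj_smul (g : G) (H : Subgroup G) :
    (MulAut.conj g • H : Subgroup G).index = H.index := by
  rw [conj_smul_eq_map]
  exact Subgroup.index_map_of_bijective (MulAut.conj g).bijective H

theorem conj_smul_mono {g : G} {H K : Subgroup G} (h : H ≤ K) :
    MulAut.conj g • H ≤ MulAut.conj g • K :=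
  Subgroup.pointwise_smul_le_pointwise_smul_iff.mpr h

theorem mem_normalizer_iff_conj_smul_eq {g : G} {H : Subgroup G} :
    g ∈ Subgroup.normalizer (H : Set G) ↔ MulAut.conj g • H = H :=
  Subgroup.mem_normalizer_iff_map_conj_eq

theorem le_normalizer_of_normal (A N : Subgroup G) [N.Normal] :
    A ≤ Subgroup.normalizer (N : Set G) := by
  rw [Subgroup.normalizer_eq_top]
  exact le_top

theorem conj_mem_of_le_normalizer {A N : Subgroup G} (h : A ≤ Subgroup.normalizer (N : Set G))
    {a n : G} (ha : a ∈ A) (hn : n ∈ N) : a * n * a⁻¹ ∈ N :=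
  Subgroup.le_normalizer_iff.mp h a ha n hn

theorem conj_mem_of_le_normalizer' {A N : Subgroup G} (h : A ≤ Subgroup.normalizer (N : Set G))
    {a n : G} (ha : a ∈ A) (hn : n ∈ N) : a⁻¹ * n * a ∈ N := by
  simpa using conj_mem_of_le_normalizer h (A.inv_mem ha) hn

/-! ### Orders -/

theorem card_sup_mul_card_inf (H N : Subgroup G) (h : H ≤ Subgroup.normalizer (N : Set G)) :
    Nat.card (H ⊔ N : Subgroup G) * Nat.card (H ⊓ N : Subgroup G) = Nat.card H * Nat.card N := by
  haveI : (N.subgroupOf (H ⊔ N)).Normal :=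
    Subgroup.normal_subgroupOf_of_le_normalizer (sup_le h Subgroup.le_normalizer)
  have h1 : Nat.card N * N.relIndex (H ⊔ N) = Nat.card (H ⊔ N : Subgroup G) := by
    rw [← Nat.card_congr (Subgroup.subgroupOfEquivOfLe (le_sup_right : N ≤ H ⊔ N)).toEquiv]
    exact (N.subgroupOf (H ⊔ N)).card_mul_index
  have h2 : N.relIndex (H ⊔ N) = N.relIndex H := by
    have hsur : (H.subgroupOf (H ⊔ N)) ⊔ (N.subgroupOf (H ⊔ N)) = ⊤ := by
      rw [← Subgroup.subgroupOf_sup le_sup_left le_sup_right, Subgroup.subgroupOf_self]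
    have := Subgroup.relIndex_sup_right (H.subgroupOf (H ⊔ N)) (N.subgroupOf (H ⊔ N))
    rw [hsur, Subgroup.relIndex_top_right, Subgroup.relIndex_subgroupOf le_sup_left] at this
    exact this
  have h3 : Nat.card (H ⊓ N : Subgroup G) * N.relIndex H = Nat.card H := by
    rw [← Subgroup.inf_relIndex_right N H, inf_comm N H,
      ← Nat.card_congr (Subgroup.subgroupOfEquivOfLe (inf_le_left : H ⊓ N ≤ H)).toEquiv]
    exact ((H ⊓ N).subgroupOf H).card_mul_index
  rw [← h1, h2, ← h3]
  ring

theorem card_sup_of_disjoint (H N : Subgroup G) (h : H ≤ Subgroup.normalizer (N : Set G))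
    (hd : H ⊓ N = ⊥) :
    Nat.card (H ⊔ N : Subgroup G) = Nat.card H * Nat.card N := by
  have := card_sup_mul_card_inf H N h
  rwa [hd, Subgroup.card_bot, mul_one] at this

theorem card_sup_of_coprime (H N : Subgroup G) (h : H ≤ Subgroup.normalizer (N : Set G))
    (hd : (Nat.card H).Coprime (Nat.card N)) :
    Nat.card (H ⊔ N : Subgroup G) = Nat.card H * Nat.card N :=
  card_sup_of_disjoint H N h (Subgroup.inf_eq_bot_of_coprime hd)

theorem card_sup_dvd (H N : Subgroup G) (h : H ≤ Subgroup.normalizer (N : Set G)) :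
    Nat.card (H ⊔ N : Subgroup G) ∣ Nat.card H * Nat.card N :=
  Dvd.intro _ (card_sup_mul_card_inf H N h)

theorem card_map_mk' (N : Subgroup G) [N.Normal] (H : Subgroup G) :
    Nat.card (H.map (QuotientGroup.mk' N)) = N.relIndex H := by
  rw [← Subgroup.relIndex_ker, QuotientGroup.ker_mk']

theorem card_mul_card_map_mk' (N : Subgroup G) [N.Normal] (H : Subgroup G) (h : N ≤ H) :
    Nat.card N * Nat.card (H.map (QuotientGroup.mk' N)) = Nat.card H := by
  rw [card_map_mk', ← Nat.card_congr (Subgroup.subgroupOfEquivOfLe h).toEquiv]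
  exact (N.subgroupOf H).card_mul_index

theorem card_comap_mk' (N : Subgroup G) [N.Normal] (K : Subgroup (G ⧸ N)) :
    Nat.card (K.comap (QuotientGroup.mk' N)) = Nat.card N * Nat.card K := by
  rw [← card_mul_card_map_mk' N _ (QuotientGroup.le_comap_mk' N K),
    Subgroup.map_comap_eq_self_of_surjective (QuotientGroup.mk'_surjective N)]

theorem index_map_mk' (N : Subgroup G) [N.Normal] (H : Subgroup G) (h : N ≤ H) :
    (H.map (QuotientGroup.mk' N)).index = H.index :=
  Subgroup.index_map_eq H (QuotientGroup.mk'_surjective N) (by rwa [QuotientGroup.ker_mk'])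

theorem card_quotient_lt [Finite G] (N : Subgroup G) (hN : N ≠ ⊥) :
    Nat.card (G ⧸ N) < Nat.card G := by
  rw [Subgroup.card_eq_card_quotient_mul_card_subgroup N]
  exact lt_mul_of_one_lt_right Nat.card_pos (N.one_lt_card_iff_ne_bot.mpr hN)

theorem card_subgroup_lt [Finite G] (H : Subgroup G) (hH : H ≠ ⊤) :
    Nat.card H < Nat.card G :=
  lt_of_le_of_ne (Subgroup.card_le_card_group H) fun h => hH ((Subgroup.card_eq_iff_eq_top _).mp h)

/-! ### Sylow subgroups -/

theorem eq_top_of_forall_exists_sylow_le [Finite G] (K : Subgroup G)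
    (h : ∀ p : ℕ, p.Prime → p ∣ Nat.card G → ∃ P : Sylow p G, (P : Subgroup G) ≤ K) : K = ⊤ := by
  rw [← Subgroup.index_eq_one]
  by_contra hne
  obtain ⟨p, hp, hpd⟩ := Nat.exists_prime_and_dvd hne
  haveI := Fact.mk hp
  obtain ⟨P, hP⟩ := h p hp (hpd.trans K.index_dvd_card)
  exact P.not_dvd_index (hpd.trans (Subgroup.index_dvd_of_le hP))

/-! ### Joins of normal subgroups -/

/-- A property of subgroups holding for `⊥` and inherited by joins of two normal subgroups with the
property is inherited by the join of any family of normal subgroups. -/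
theorem sSup_normal_induction [Finite G] (P : Subgroup G → Prop) (hbot : P ⊥)
    (hsup : ∀ H K : Subgroup G, H.Normal → K.Normal → P H → P K → P (H ⊔ K))
    (S : Set (Subgroup G)) (hS : ∀ H ∈ S, H.Normal ∧ P H) : P (sSup S) := by
  induction S, Set.toFinite S using Set.Finite.induction_on with
  | empty => rwa [sSup_empty]
  | @insert H s _ _ ih =>
    rw [sSup_insert]
    exact hsup _ _ (hS H (Set.mem_insert _ _)).1
      (Subgroup.sSup_normal s fun K hK => (hS K (Set.mem_insert_of_mem _ hK)).1)
      (hS H (Set.mem_insert _ _)).2 (ih fun K hK => hS K (Set.mem_insert_of_mem _ hK))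

end CfsgLib.Core
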