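import Cfsg.Agent.Lib.Core.Basic
import Cfsg.Prelude.Def_Solvable
import Mathlib.GroupTheory.Frattini
import Mathlib.GroupTheory.NoncommCoprod

/-!
# `pCore`, `pPrimeCore`, `fittingSubgroup`

Notation of `Cfsg.Prelude.Def_Solvable`. Normality and characteristicity are instances here.

* `isPGroup_pCore`, `le_pCore`, `pCore_le_sylow`, `pCore_eq_iInf_sylow`, `map_pCore_le`,
  `pCore_quotient_pCore`, `pCore_eq_bot_of_not_dvd`, `map_subtype_pCore_le`
* `coprime_card_pPrimeCore`, `le_pPrimeCore`, `map_pPrimeCore_le`, `pPrimeCore_quotient_pPrimeCore`,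
  `map_subtype_pPrimeCore_le`
* `isNilpotent_fittingSubgroup`, `le_fittingSubgroup`, `pCore_le_fittingSubgroup`,
  `fittingSubgroup_eq_iSup_pCore`, `map_subtype_fittingSubgroup_le`, `frattini_le_fittingSubgroup`
* `isNilpotent_sup_of_commute`, `isNilpotent_sup_of_normal`
-/

set_option autoImplicit false
set_option linter.all false

namespace CfsgLib.Core

open Cfsg

variable {G : Type*} [Group G] {p : ℕ}

instance normal_pCore (p : ℕ) (G : Type*) [Group G] : (pCore p G).Normal :=
  Subgroup.sSup_normal _ fun _ h => h.1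

instance normal_pPrimeCore (p : ℕ) (G : Type*) [Group G] : (pPrimeCore p G).Normal :=
  Subgroup.sSup_normal _ fun _ h => h.1

instance normal_fittingSubgroup (G : Type*) [Group G] : (fittingSubgroup G).Normal :=
  Subgroup.sSup_normal _ fun _ h => h.1

/-! ### Nilpotent joins -/

theorem isNilpotent_of_le {H K : Subgroup G} [Group.IsNilpotent K] (h : H ≤ K) :
    Group.IsNilpotent H :=
  Group.nilpotent_of_mulEquiv (Subgroup.subgroupOfEquivOfLe h)

theorem isNilpotent_map {H : Type*} [Group H] (f : G →* H) (N : Subgroup G)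
    [Group.IsNilpotent N] : Group.IsNilpotent (N.map f) :=
  Group.nilpotent_of_surjective (f.subgroupMap N) (f.subgroupMap_surjective N)

theorem isNilpotent_sup_of_commute (H K : Subgroup G) [Group.IsNilpotent H] [Group.IsNilpotent K]
    (hc : ∀ h ∈ H, ∀ k ∈ K, h * k = k * h) : Group.IsNilpotent (H ⊔ K : Subgroup G) := by
  let f : H × K →* G := MonoidHom.noncommCoprod H.subtype K.subtype
    fun h k => hc h h.2 k k.2
  have hr : f.range = H ⊔ K :=
    (MonoidHom.noncommCoprod_range _ _ _).trans (by rw [H.range_subtype, K.range_subtype])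
  rw [← hr]
  exact Group.nilpotent_of_surjective f.rangeRestrict f.rangeRestrict_surjective

/-! ### `pCore` -/

theorem isPGroup_pCore (p : ℕ) (G : Type*) [Group G] : IsPGroup p (pCore p G) :=
  Sylow.sSup_of_normal _ (fun _ h => h.2) fun _ h => h.1

theorem le_pCore {N : Subgroup G} [N.Normal] (h : IsPGroup p N) : N ≤ pCore p G :=
  le_sSup ⟨inferInstance, h⟩

theorem pCore_le_sylow (P : Sylow p G) : pCore p G ≤ P :=
  (isPGroup_pCore p G).le_sylow_of_normal P

theorem map_pCore_le {H : Type*} [Group H] (f : G →* H) (hf : Function.Surjective f) :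
    (pCore p G).map f ≤ pCore p H :=
  haveI := (normal_pCore p G).map f hf
  le_pCore ((isPGroup_pCore p G).map f)

theorem map_equiv_pCore {H : Type*} [Group H] (e : G ≃* H) :
    (pCore p G).map e.toMonoidHom = pCore p H := by
  refine le_antisymm (map_pCore_le e.toMonoidHom e.surjective) ?_
  intro x hx
  exact ⟨e.symm x, map_pCore_le e.symm.toMonoidHom e.symm.surjective
    (Subgroup.mem_map_of_mem _ hx), e.apply_symm_apply x⟩

instance characteristic_pCore (p : ℕ) (G : Type*) [Group G] : (pCore p G).Characteristic :=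
  Subgroup.characteristic_iff_map_eq.mpr fun φ => map_equiv_pCore φ

theorem pCore_eq_bot_of_not_dvd [Finite G] (hp : p.Prime) (h : ¬ p ∣ Nat.card G) :
    pCore p G = ⊥ := by
  haveI := Fact.mk hp
  obtain ⟨n, hn⟩ := IsPGroup.iff_card.mp (isPGroup_pCore p G)
  rw [← Subgroup.card_eq_one, hn]
  rcases n with _ | n
  · simp
  · exact absurd ((dvd_pow_self p n.succ_ne_zero).trans (hn ▸ (pCore p G).card_subgroup_dvd_card)) h

theorem pCore_eq_iInf_sylow [Finite G] (p : ℕ) [Fact p.Prime] :
    pCore p G = ⨅ P : Sylow p G, (P : Subgroup G) := by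
  refine le_antisymm (le_iInf pCore_le_sylow) ?_
  have hn : (⨅ P : Sylow p G, (P : Subgroup G)).Normal := by
    refine ⟨fun x hx g => ?_⟩
    simp only [Subgroup.mem_iInf] at hx ⊢
    intro P
    have := hx (g⁻¹ • P)
    rwa [Sylow.smul_def, Sylow.pointwise_smul_def, map_inv,
      Subgroup.mem_inv_pointwise_smul_iff, MulAut.smul_def, MulAut.conj_apply] at this
  obtain ⟨P₀⟩ := (Sylow.nonempty : Nonempty (Sylow p G))
  exact le_pCore (P₀.isPGroup'.to_le (iInf_le _ P₀))

theorem pCore_quotient_pCore (p : ℕ) (G : Type*) [Group G] :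
    pCore p (G ⧸ pCore p G) = ⊥ := by
  let π := QuotientGroup.mk' (pCore p G)
  have h : (pCore p (G ⧸ pCore p G)).comap π ≤ pCore p G :=
    le_pCore ((isPGroup_pCore p _).comap_of_ker_isPGroup π
      (by rw [QuotientGroup.ker_mk']; exact isPGroup_pCore p G))
  rw [← Subgroup.map_comap_eq_self_of_surjective (QuotientGroup.mk'_surjective (pCore p G))
    (pCore p (G ⧸ pCore p G)), Subgroup.map_eq_bot_iff, QuotientGroup.ker_mk']
  exact h

theorem map_subtype_pCore_le (N : Subgroup G) [N.Normal] :
    (pCore p N).map N.subtype ≤ pCore p G :=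
  le_pCore ((isPGroup_pCore p N).map _)

theorem pCore_subgroupOf_le (H : Subgroup G) : (pCore p G).subgroupOf H ≤ pCore p H :=
  le_pCore (IsPGroup.comap_of_injective (isPGroup_pCore p G) H.subtype H.subtype_injective)

/-! ### `pPrimeCore` -/

theorem coprime_card_sup {H N : Subgroup G} (h : H ≤ Subgroup.normalizer (N : Set G)) {m : ℕ}
    (h1 : (Nat.card H).Coprime m) (h2 : (Nat.card N).Coprime m) :
    (Nat.card (H ⊔ N : Subgroup G)).Coprime m :=
  (h1.mul_left h2).coprime_dvd_left (card_sup_dvd H N h)

theorem coprime_card_pPrimeCore (p : ℕ) (G : Type*) [Group G] [Finite G] :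
    (Nat.card (pPrimeCore p G)).Coprime p :=
  sSup_normal_induction (fun H => (Nat.card H).Coprime p) (by simp)
    (fun H K _ _ hH hK => coprime_card_sup (le_normalizer_of_normal H K) hH hK) _ fun _ h => h

theorem le_pPrimeCore {N : Subgroup G} [N.Normal] (h : (Nat.card N).Coprime p) :
    N ≤ pPrimeCore p G :=
  le_sSup ⟨inferInstance, h⟩

theorem map_pPrimeCore_le [Finite G] {H : Type*} [Group H] (f : G →* H)
    (hf : Function.Surjective f) : (pPrimeCore p G).map f ≤ pPrimeCore p H :=
  haveI := (normal_pPrimeCore p G).map f hf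
  le_pPrimeCore ((coprime_card_pPrimeCore p G).coprime_dvd_left ((pPrimeCore p G).card_map_dvd f))

theorem map_equiv_pPrimeCore {H : Type*} [Group H] (e : G ≃* H) :
    (pPrimeCore p G).map e.toMonoidHom = pPrimeCore p H := by
  have key : ∀ {A B : Type _} [Group A] [Group B] (e : A ≃* B) (N : Subgroup A),
      N.Normal → (Nat.card N).Coprime p → N.map e.toMonoidHom ≤ pPrimeCore p B := by
    intro A B _ _ e N hn hc
    haveI := hn.map e.toMonoidHom e.surjective
    refine le_pPrimeCore ?_
    rwa [← Nat.card_congr (N.equivMapOfInjective e.toMonoidHom e.injective).toEquiv]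
  refine le_antisymm ?_ ?_
  · rw [pPrimeCore, sSup_eq_iSup, Subgroup.map_iSup]
    refine iSup_le fun N => ?_
    rw [Subgroup.map_iSup]
    exact iSup_le fun hN => key e N hN.1 hN.2
  · refine sSup_le fun N hN => ?_
    haveI := hN.1
    haveI := hN.1.map e.symm.toMonoidHom e.symm.surjective
    have h' : N.map e.symm.toMonoidHom ≤ pPrimeCore p G := by
      refine le_pPrimeCore ?_
      rw [← Nat.card_congr (N.equivMapOfInjective e.symm.toMonoidHom e.symm.injective).toEquiv]
      exact hN.2
    intro x hx
    exact ⟨e.symm x, h' (Subgroup.mem_map_of_mem _ hx), e.apply_symm_apply x⟩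

instance characteristic_pPrimeCore (p : ℕ) (G : Type*) [Group G] :
    (pPrimeCore p G).Characteristic :=
  Subgroup.characteristic_iff_map_eq.mpr fun φ => map_equiv_pPrimeCore φ

theorem pPrimeCore_quotient_pPrimeCore (p : ℕ) (G : Type*) [Group G] [Finite G] :
    pPrimeCore p (G ⧸ pPrimeCore p G) = ⊥ := by
  let π := QuotientGroup.mk' (pPrimeCore p G)
  have h : (pPrimeCore p (G ⧸ pPrimeCore p G)).comap π ≤ pPrimeCore p G := by
    refine le_pPrimeCore ?_
    rw [card_comap_mk']
    exact (coprime_card_pPrimeCore p G).mul_left (coprime_card_pPrimeCore p _)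
  rw [← Subgroup.map_comap_eq_self_of_surjective (QuotientGroup.mk'_surjective (pPrimeCore p G))
    (pPrimeCore p (G ⧸ pPrimeCore p G)), Subgroup.map_eq_bot_iff, QuotientGroup.ker_mk']
  exact h

theorem map_subtype_pPrimeCore_le [Finite G] (N : Subgroup G) [N.Normal] :
    (pPrimeCore p N).map N.subtype ≤ pPrimeCore p G :=
  le_pPrimeCore ((coprime_card_pPrimeCore p N).coprime_dvd_left ((pPrimeCore p N).card_map_dvd _))

theorem pPrimeCore_subgroupOf_le [Finite G] (H : Subgroup G) :
    (pPrimeCore p G).subgroupOf H ≤ pPrimeCore p H :=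
  le_pPrimeCore ((coprime_card_pPrimeCore p G).coprime_dvd_left
    (Subgroup.card_comap_dvd_of_injective _ H.subtype H.subtype_injective))

theorem pCore_inf_pPrimeCore [Finite G] (hp : p.Prime) :
    pCore p G ⊓ pPrimeCore p G = ⊥ := by
  haveI := Fact.mk hp
  obtain ⟨n, hn⟩ := IsPGroup.iff_card.mp (isPGroup_pCore p G)
  exact Subgroup.inf_eq_bot_of_coprime (hn ▸ ((coprime_card_pPrimeCore p G).pow_right n).symm)

/-! ### The Fitting subgroup -/

theorem le_fittingSubgroup {N : Subgroup G} [N.Normal] (h : Group.IsNilpotent N) :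
    N ≤ fittingSubgroup G :=
  le_sSup ⟨inferInstance, h⟩

theorem pCore_le_fittingSubgroup [Finite G] (p : ℕ) [Fact p.Prime] :
    pCore p G ≤ fittingSubgroup G :=
  le_fittingSubgroup (isPGroup_pCore p G).isNilpotent

theorem commute_pCore_pCore {p q : ℕ} (hp : p.Prime) (hq : q.Prime) (hne : p ≠ q) :
    ∀ x ∈ pCore p G, ∀ y ∈ pCore q G, x * y = y * x := fun x hx y hy =>
  haveI := Fact.mk hp
  haveI := Fact.mk hq
  Subgroup.commute_of_normal_of_disjoint _ _ inferInstance inferInstance
    (IsPGroup.disjoint_of_ne p q hne _ _ (isPGroup_pCore p G) (isPGroup_pCore q G)) x y hx hy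

theorem isNilpotent_finset_sup_pCore [Finite G] (s : Finset ℕ) (hs : ∀ p ∈ s, p.Prime) :
    Group.IsNilpotent (s.sup (fun p => pCore p G) : Subgroup G) := by
  induction s using Finset.induction with
  | empty => rw [Finset.sup_empty]; infer_instance
  | @insert q s hq ih =>
    rw [Finset.sup_insert]
    haveI := Fact.mk (hs q (Finset.mem_insert_self q s))
    haveI := (isPGroup_pCore q G).isNilpotent
    haveI := ih fun p hp => hs p (Finset.mem_insert_of_mem hp)
    have hle : s.sup (fun p => pCore p G) ≤ Subgroup.centralizer (pCore q G : Set G) :=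
      Finset.sup_le fun p hp y hy =>
        Subgroup.mem_centralizer_iff.mpr fun x hx =>
          commute_pCore_pCore (hs q (Finset.mem_insert_self q s))
            (hs p (Finset.mem_insert_of_mem hp)) (fun h => hq (h ▸ hp)) x hx y hy
    exact isNilpotent_sup_of_commute _ _ fun x hx y hy =>
      Subgroup.mem_centralizer_iff.mp (hle hy) x hx

theorem normal_le_finset_sup_pCore [Finite G] (N : Subgroup G) [N.Normal] [Group.IsNilpotent N] :
    N ≤ (Nat.card G).primeFactors.sup (fun p => pCore p G) := by
  have h : ((Nat.card G).primeFactors.sup (fun p => pCore p G)).subgroupOf N = ⊤ := by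
    refine eq_top_of_forall_exists_sylow_le _ fun p hp hpd => ?_
    haveI := Fact.mk hp
    obtain ⟨P⟩ := (Sylow.nonempty : Nonempty (Sylow p N))
    haveI : (P : Subgroup N).Normal := inferInstance
    haveI : (P : Subgroup N).Characteristic := P.characteristic_of_normal inferInstance
    refine ⟨P, fun x hx => ?_⟩
    rw [Subgroup.mem_subgroupOf]
    refine Finset.le_sup (f := fun p => pCore p G) (Nat.mem_primeFactors.mpr
      ⟨hp, hpd.trans N.card_subgroup_dvd_card, Nat.card_pos.ne'⟩) ?_
    exact le_pCore (P.isPGroup'.map N.subtype) (Subgroup.mem_map_of_mem _ hx)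
  exact Subgroup.subgroupOf_eq_top.mp h

theorem fittingSubgroup_eq_finset_sup [Finite G] :
    fittingSubgroup G = (Nat.card G).primeFactors.sup (fun p => pCore p G) := by
  refine le_antisymm (sSup_le fun N hN => ?_) (Finset.sup_le fun p hp => ?_)
  · haveI := hN.1
    haveI := hN.2
    exact normal_le_finset_sup_pCore N
  · haveI := Fact.mk (Nat.prime_of_mem_primeFactors hp)
    exact pCore_le_fittingSubgroup p

theorem isNilpotent_fittingSubgroup (G : Type*) [Group G] [Finite G] :
    Group.IsNilpotent (fittingSubgroup G) := by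
  rw [fittingSubgroup_eq_finset_sup]
  exact isNilpotent_finset_sup_pCore _ fun p hp => Nat.prime_of_mem_primeFactors hp

theorem fittingSubgroup_eq_iSup_pCore [Finite G] :
    fittingSubgroup G = ⨆ p : Nat.Primes, pCore (p : ℕ) G := by
  refine le_antisymm ?_ (iSup_le fun p => ?_)
  · rw [fittingSubgroup_eq_finset_sup]
    exact Finset.sup_le fun p hp => le_iSup (fun p : Nat.Primes => pCore (p : ℕ) G)
      ⟨p, Nat.prime_of_mem_primeFactors hp⟩
  · haveI := Fact.mk p.2
    exact pCore_le_fittingSubgroup _

theorem isNilpotent_sup_of_normal [Finite G] (H K : Subgroup G) [H.Normal] [K.Normal]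
    [Group.IsNilpotent H] [Group.IsNilpotent K] : Group.IsNilpotent (H ⊔ K : Subgroup G) :=
  haveI := isNilpotent_fittingSubgroup G
  isNilpotent_of_le (sup_le (le_fittingSubgroup inferInstance) (le_fittingSubgroup inferInstance))

theorem fittingSubgroup_eq_top [Group.IsNilpotent G] : fittingSubgroup G = ⊤ :=
  top_unique (le_fittingSubgroup inferInstance)

theorem map_fittingSubgroup_le [Finite G] {H : Type*} [Group H] (f : G →* H)
    (hf : Function.Surjective f) : (fittingSubgroup G).map f ≤ fittingSubgroup H :=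
  haveI := (normal_fittingSubgroup G).map f hf
  haveI := isNilpotent_fittingSubgroup G
  le_fittingSubgroup (isNilpotent_map f _)

theorem map_equiv_fittingSubgroup {H : Type*} [Group H] (e : G ≃* H) :
    (fittingSubgroup G).map e.toMonoidHom = fittingSubgroup H := by
  have key : ∀ {A B : Type _} [Group A] [Group B] (e : A ≃* B) (N : Subgroup A),
      N.Normal → Group.IsNilpotent N → N.map e.toMonoidHom ≤ fittingSubgroup B := by
    intro A B _ _ e N hn hc
    haveI := hn.map e.toMonoidHom e.surjective
    exact le_fittingSubgroup (isNilpotent_map _ _)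
  refine le_antisymm ?_ (sSup_le fun N hN x hx => ?_)
  · rw [fittingSubgroup, sSup_eq_iSup, Subgroup.map_iSup]
    refine iSup_le fun N => ?_
    rw [Subgroup.map_iSup]
    exact iSup_le fun hN => key e N hN.1 hN.2
  · haveI := hN.1.map e.symm.toMonoidHom e.symm.surjective
    haveI := hN.2
    exact ⟨e.symm x, le_fittingSubgroup (isNilpotent_map e.symm.toMonoidHom N)
      (Subgroup.mem_map_of_mem _ hx), e.apply_symm_apply x⟩

instance characteristic_fittingSubgroup (G : Type*) [Group G] :
    (fittingSubgroup G).Characteristic :=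
  Subgroup.characteristic_iff_map_eq.mpr fun φ => map_equiv_fittingSubgroup φ

theorem map_subtype_fittingSubgroup_le [Finite G] (N : Subgroup G) [N.Normal] :
    (fittingSubgroup N).map N.subtype ≤ fittingSubgroup G :=
  haveI := isNilpotent_fittingSubgroup N
  le_fittingSubgroup (isNilpotent_map _ _)

theorem frattini_le_fittingSubgroup [Finite G] : frattini G ≤ fittingSubgroup G :=
  le_fittingSubgroup frattini_nilpotent

end CfsgLib.Core
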