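import Cfsg.Agent.Lib.Core.Coprime
import Cfsg.Prelude.Def_OddOrderLocal

/-!
# Hall subgroups of solvable groups

* `exists_subgroup_card_eq` (existence), `exists_conj_le_of_coprime` (conjugacy and dominance),
  `exists_conj_eq_of_card_eq`, `exists_ge_of_coprime`
* `IsPiHall` forms: `exists_piHall`, `piHall_card_eq`, `piHall_conj`, `exists_piHall_ge`
* `index_inf_of_coprime`, `exists_mul_of_coprime_index`
* `le_of_coprime_index` (normal subgroup of order prime to the index lies inside)
* `hall_frattini`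
-/

set_option autoImplicit false
set_option linter.all false

namespace CfsgLib.Core

open scoped Pointwise

open Cfsg Subgroup

universe u

/-! ### Coprime indices -/

section Index

variable {G : Type*} [Group G]

theorem index_inf_of_coprime [Finite G] {H K : Subgroup G} (h : H.index.Coprime K.index) :
    (H ⊓ K).index = H.index * K.index := by
  refine le_antisymm index_inf_le (Nat.le_of_dvd (Nat.pos_of_ne_zero index_ne_zero_of_finite) ?_)
  exact h.mul_dvd_of_dvd_of_dvd (index_dvd_of_le inf_le_left) (index_dvd_of_le inf_le_right)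

theorem exists_mul_of_index_inf [Finite G] {H K : Subgroup G}
    (h : (H ⊓ K).index = H.index * K.index) (g : G) : ∃ x ∈ H, ∃ y ∈ K, g = x * y := by
  let f : H ⧸ K.subgroupOf H → G ⧸ K :=
    Quotient.map' (Subgroup.subtype H) fun a b hab => by
      rw [QuotientGroup.leftRel_apply] at hab ⊢
      exact hab
  have hinj : Function.Injective f := by
    intro a b
    induction a using QuotientGroup.induction_on with
    | _ a =>
      induction b using QuotientGroup.induction_on with
      | _ b =>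
        intro hab
        have hab' : ((a : G) : G ⧸ K) = ((b : G) : G ⧸ K) := hab
        have hmem : (a : G)⁻¹ * (b : G) ∈ K := QuotientGroup.eq.mp hab'
        exact QuotientGroup.eq.mpr (mem_subgroupOf.mpr hmem)
  have hcard : Nat.card (H ⧸ K.subgroupOf H) = Nat.card (G ⧸ K) := by
    rw [← index_eq_card, ← index_eq_card]
    show K.relIndex H = K.index
    have := relIndex_mul_index (inf_le_left : H ⊓ K ≤ H)
    rw [inf_relIndex_left, h, mul_comm H.index] at this
    exact Nat.eq_of_mul_eq_mul_right (Nat.pos_of_ne_zero index_ne_zero_of_finite) this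
  obtain ⟨q, hq⟩ := (hinj.bijective_of_nat_card_le hcard.ge).2 (g : G ⧸ K)
  induction q using QuotientGroup.induction_on with
  | _ x =>
    have hq' : ((x : G) : G ⧸ K) = (g : G ⧸ K) := hq
    exact ⟨x, x.2, (x : G)⁻¹ * g, QuotientGroup.eq.mp hq', by rw [mul_inv_cancel_left]⟩

theorem exists_mul_of_coprime_index [Finite G] {H K : Subgroup G} (h : H.index.Coprime K.index)
    (g : G) : ∃ x ∈ H, ∃ y ∈ K, g = x * y :=
  exists_mul_of_index_inf (index_inf_of_coprime h) g

theorem le_of_coprime_index [Finite G] {H M : Subgroup G} (hM : H ≤ normalizer (M : Set G))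
    (h : (Nat.card M).Coprime H.index) : M ≤ H := by
  have h1 : Nat.card (H ⊔ M : Subgroup G) ∣ Nat.card H * Nat.card M := card_sup_dvd H M hM
  have h2 : Nat.card H * H.relIndex (H ⊔ M) = Nat.card (H ⊔ M : Subgroup G) := by
    rw [← Nat.card_congr (subgroupOfEquivOfLe (le_sup_left : H ≤ H ⊔ M)).toEquiv]
    exact (H.subgroupOf (H ⊔ M)).card_mul_index
  rw [← h2, Nat.mul_dvd_mul_iff_left Nat.card_pos] at h1
  have := Nat.eq_one_of_dvd_coprimes h h1 (relIndex_dvd_index_of_le le_sup_left)
  rw [relIndex_eq_one] at this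
  exact le_sup_right.trans this

end Index

/-! ### The main induction -/

theorem map_mk'_conj_le {G : Type*} [Group G] {M H K : Subgroup G} [M.Normal] {g : G}
    (h : MulAut.conj (QuotientGroup.mk' M g) • K.map (QuotientGroup.mk' M) ≤
      H.map (QuotientGroup.mk' M)) : MulAut.conj g • K ≤ H ⊔ M := by
  intro x hx
  rw [mem_conj_smul_iff] at hx
  have : QuotientGroup.mk' M x ∈ H.map (QuotientGroup.mk' M) := by
    refine h ?_
    rw [mem_conj_smul_iff]
    exact ⟨_, hx, by simp⟩
  rwa [← Subgroup.mem_comap, comap_map_eq, QuotientGroup.ker_mk'] at this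

private theorem hall_aux (n : ℕ) :
    ∀ (G : Type u) [Group G] [Finite G] [Group.IsSolvable G], Nat.card G = n →
      ∀ m k : ℕ, Nat.card G = m * k → m.Coprime k →
        (∃ H : Subgroup G, Nat.card H = m) ∧
        ∀ H K : Subgroup G, Nat.card H = m → (Nat.card K).Coprime k →
          ∃ g : G, MulAut.conj g • K ≤ H := by
  induction n using Nat.strongRecOn with
  | ind n ih =>
    intro G _ _ _ hG m k hmk hcop
    subst hG
    rcases subsingleton_or_nontrivial G with hG1 | hG1
    · have h1 : m * k = 1 := by rw [← hmk]; exact Nat.card_of_subsingleton 1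
      refine ⟨⟨⊥, by rw [Subgroup.card_bot]; exact (Nat.eq_one_of_mul_eq_one_right h1).symm⟩,
        fun H K _ _ => ⟨1, fun x _ => ?_⟩⟩
      rw [Subsingleton.elim x 1]
      exact one_mem _
    obtain ⟨M, hMn, hMb, -, hmin⟩ := exists_minimal_normal_le' (⊤ : Subgroup G) top_ne_bot
    obtain ⟨p, hp, hMp, hMc, -⟩ := isPGroup_of_minimal_normal M inferInstance hMb hmin
    haveI := Fact.mk hp
    obtain ⟨e, he⟩ := IsPGroup.iff_card.mp hMp
    have hMdvd : Nat.card M ∣ m * k := hmk ▸ M.card_subgroup_dvd_card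
    have hlt := card_quotient_lt M hMb
    have hquot : Nat.card M * Nat.card (G ⧸ M) = m * k := by
      rw [mul_comm, ← card_eq_card_quotient_mul_card_subgroup, hmk]
    by_cases hpk : p ∣ k
    · -- `|M|` is prime to `m`
      have hcm : (Nat.card M).Coprime m := by
        rw [he]
        refine Nat.Coprime.pow_left e ((hp.coprime_iff_not_dvd).mpr fun h => ?_)
        exact hp.ne_one (Nat.eq_one_of_dvd_coprimes hcop h hpk)
      obtain ⟨k', rfl⟩ := hcm.dvd_of_dvd_mul_left hMdvd
      have hq : Nat.card (G ⧸ M) = m * k' := by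
        apply Nat.eq_of_mul_eq_mul_left (Nat.card_pos (α := M))
        rw [hquot]; ring
      obtain ⟨⟨Hq, hHq⟩, hconj⟩ := ih _ hlt (G ⧸ M) rfl m k' hq
        (hcop.coprime_dvd_right (dvd_mul_left _ _))
      constructor
      · generalize hL : Hq.comap (QuotientGroup.mk' M) = L
        have hML : M ≤ L := hL ▸ QuotientGroup.le_comap_mk' M _
        have hLc : Nat.card L = Nat.card M * m := by rw [← hL, card_comap_mk', hHq]
        have hMc : Nat.card (M.subgroupOf L) = Nat.card M :=
          Nat.card_congr (subgroupOfEquivOfLe hML).toEquiv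
        have hidx : (M.subgroupOf L).index = m := by
          apply Nat.eq_of_mul_eq_mul_left (Nat.card_pos (α := M))
          rw [← hLc, ← hMc, card_mul_index]
        obtain ⟨B, hB⟩ := exists_right_complement'_of_coprime (N := M.subgroupOf L)
          (by rw [hidx, hMc]; exact hcm)
        refine ⟨B.map L.subtype, ?_⟩
        rw [← Nat.card_congr (B.equivMapOfInjective _ L.subtype_injective).toEquiv, ← hidx,
          hB.symm.index_eq_card]
      · intro H K hH hK
        have hKM : ∀ X : Subgroup G, (Nat.card X).Coprime (Nat.card M) → X ⊓ M = ⊥ :=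
          fun X hX => Subgroup.inf_eq_bot_of_coprime hX
        have hcKM : (Nat.card K).Coprime (Nat.card M) := hK.coprime_dvd_right (dvd_mul_right _ _)
        obtain ⟨g, hg⟩ := hconj (H.map (QuotientGroup.mk' M)) (K.map (QuotientGroup.mk' M))
          (by rw [card_map_complement le_rfl (hKM H (hH ▸ hcm.symm)), hH])
          (((hK.coprime_dvd_right (dvd_mul_left _ _))).coprime_dvd_left (K.card_map_dvd _))
        obtain ⟨g, rfl⟩ := QuotientGroup.mk'_surjective M g
        have hle := map_mk'_conj_le hg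
        generalize hK' : MulAut.conj g • K = K' at hle
        have hcK' : Nat.card K' = Nat.card K := hK' ▸ card_conj_smul g K
        have hsup : (H ⊓ (K' ⊔ M)) ⊔ M = K' ⊔ M := by
          refine le_antisymm (sup_le inf_le_right le_sup_right) (sup_le (fun y hy => ?_) le_sup_right)
          obtain ⟨a, ha, b, hb, rfl⟩ := (mem_sup_iff_mul (le_normalizer_of_normal H M)).mp (hle hy)
          refine mul_mem (mem_sup_left ⟨ha, ?_⟩) (mem_sup_right hb)
          simpa using (K' ⊔ M).mul_mem (mem_sup_left hy) ((K' ⊔ M).inv_mem (mem_sup_right hb))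
        have hcX : Nat.card (H ⊓ (K' ⊔ M) : Subgroup G) = Nat.card K' := by
          apply Nat.eq_of_mul_eq_mul_right (Nat.card_pos (α := M))
          rw [← card_sup_of_coprime _ M (le_normalizer_of_normal _ M)
              ((hH ▸ hcm.symm : (Nat.card H).Coprime (Nat.card M)).coprime_dvd_left
                (card_dvd_of_le inf_le_left)),
            ← card_sup_of_coprime K' M (le_normalizer_of_normal _ M) (hcK' ▸ hcKM), hsup]
        obtain ⟨b, -, hb⟩ := exists_conj_eq_of_coprime (le_normalizer_of_normal K' M)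
          (inf_le_right : H ⊓ (K' ⊔ M) ≤ K' ⊔ M) hcX (hcK' ▸ hcKM) (Or.inl inferInstance)
        exact ⟨b * g, by rw [← conj_smul_conj_smul, hK', hb]; exact inf_le_left⟩
    · -- `|M|` is prime to `k`
      have hck : (Nat.card M).Coprime k := by
        rw [he]; exact Nat.Coprime.pow_left e ((hp.coprime_iff_not_dvd).mpr hpk)
      obtain ⟨m', rfl⟩ := hck.dvd_of_dvd_mul_right hMdvd
      have hq : Nat.card (G ⧸ M) = m' * k := by
        apply Nat.eq_of_mul_eq_mul_left (Nat.card_pos (α := M))
        rw [hquot]; ring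
      obtain ⟨⟨Hq, hHq⟩, hconj⟩ := ih _ hlt (G ⧸ M) rfl m' k hq
        (hcop.coprime_dvd_left (dvd_mul_left _ _))
      refine ⟨⟨Hq.comap (QuotientGroup.mk' M), by rw [card_comap_mk', hHq]⟩, fun H K hH hK => ?_⟩
      have hidx : H.index = k := by
        apply Nat.eq_of_mul_eq_mul_left (Nat.card_pos (α := H))
        rw [card_mul_index, hH, hmk]
      have hMH : M ≤ H := le_of_coprime_index (le_normalizer_of_normal H M) (hidx ▸ hck)
      obtain ⟨g, hg⟩ := hconj (H.map (QuotientGroup.mk' M)) (K.map (QuotientGroup.mk' M))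
        (Nat.eq_of_mul_eq_mul_left (Nat.card_pos (α := M))
          (by rw [card_mul_card_map_mk' M H hMH, hH]))
        (hK.coprime_dvd_left (K.card_map_dvd _))
      obtain ⟨g, rfl⟩ := QuotientGroup.mk'_surjective M g
      exact ⟨g, (map_mk'_conj_le hg).trans (sup_eq_left.mpr hMH).le⟩

section API

variable {G : Type*} [Group G] [Finite G] [Group.IsSolvable G] {m k : ℕ}

theorem exists_subgroup_card_eq (hmk : Nat.card G = m * k) (hcop : m.Coprime k) :
    ∃ H : Subgroup G, Nat.card H = m :=
  (hall_aux _ G rfl m k hmk hcop).1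

theorem exists_conj_le_of_coprime (hmk : Nat.card G = m * k) (hcop : m.Coprime k)
    {H K : Subgroup G} (hH : Nat.card H = m) (hK : (Nat.card K).Coprime k) :
    ∃ g : G, MulAut.conj g • K ≤ H :=
  (hall_aux _ G rfl m k hmk hcop).2 H K hH hK

theorem exists_conj_eq_of_card_eq (hmk : Nat.card G = m * k) (hcop : m.Coprime k)
    {H K : Subgroup G} (hH : Nat.card H = m) (hK : Nat.card K = m) :
    ∃ g : G, MulAut.conj g • H = K := by
  obtain ⟨g, hg⟩ := exists_conj_le_of_coprime hmk hcop hK (hH ▸ hcop : (Nat.card H).Coprime k)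
  exact ⟨g, Subgroup.eq_of_le_of_card_ge hg (by rw [card_conj_smul, hH, hK])⟩

theorem exists_ge_of_coprime (hmk : Nat.card G = m * k) (hcop : m.Coprime k)
    {K : Subgroup G} (hK : (Nat.card K).Coprime k) :
    ∃ H : Subgroup G, Nat.card H = m ∧ K ≤ H := by
  obtain ⟨H, hH⟩ := exists_subgroup_card_eq hmk hcop
  obtain ⟨g, hg⟩ := exists_conj_le_of_coprime hmk hcop hH hK
  refine ⟨MulAut.conj g⁻¹ • H, by rw [card_conj_smul, hH], ?_⟩
  rw [map_inv, ← pointwise_smul_subset_iff]
  exact hg

end API

/-! ### Sets of primes -/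

theorem coprime_of_pi {π : Set ℕ} {a b : ℕ} (ha : ∀ p, p.Prime → p ∣ a → p ∈ π)
    (hb : ∀ p, p.Prime → p ∣ b → p ∉ π) : a.Coprime b :=
  Nat.coprime_of_dvd fun p hp hpa hpb => hb p hp hpb (ha p hp hpa)

theorem exists_pi_factor (π : Set ℕ) (n : ℕ) : n ≠ 0 →
    ∃ a b : ℕ, n = a * b ∧ (∀ p, p.Prime → p ∣ a → p ∈ π) ∧ ∀ p, p.Prime → p ∣ b → p ∉ π := by
  induction n using Nat.recOnPrimeCoprime with
  | zero => exact fun h => absurd rfl h
  | prime_pow q e hq =>
    intro _
    have hone : ∀ (s : Prop) (p : ℕ), p.Prime → p ∣ 1 → s := fun s p hp h =>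
      absurd (Nat.eq_one_of_dvd_one h) hp.ne_one
    have hq' : ∀ p : ℕ, p.Prime → p ∣ q ^ e → p = q := fun p hp h =>
      (Nat.prime_dvd_prime_iff_eq hp hq).mp (hp.dvd_of_dvd_pow h)
    by_cases h : q ∈ π
    · exact ⟨q ^ e, 1, (mul_one _).symm, fun p hp hd => hq' p hp hd ▸ h, fun p hp => hone _ p hp⟩
    · exact ⟨1, q ^ e, (one_mul _).symm, fun p hp => hone _ p hp, fun p hp hd => hq' p hp hd ▸ h⟩
  | coprime a b ha hb _ iha ihb =>
    intro _
    obtain ⟨a₁, a₂, rfl, h1, h2⟩ := iha (by omega)
    obtain ⟨b₁, b₂, rfl, h3, h4⟩ := ihb (by omega)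
    exact ⟨a₁ * b₁, a₂ * b₂, by ring,
      fun p hp hd => (hp.dvd_mul.mp hd).elim (h1 p hp) (h3 p hp),
      fun p hp hd => (hp.dvd_mul.mp hd).elim (h2 p hp) (h4 p hp)⟩

section PiHall

variable {G : Type*} [Group G] [Finite G] {π : Set ℕ}

theorem piHall_coprime {H : Subgroup G} (hH : IsPiHall π H) : (Nat.card H).Coprime H.index :=
  coprime_of_pi hH.1 fun p hp hd hπ => hH.2 p hp hπ hd

theorem piHall_card_eq {H K : Subgroup G} (hH : IsPiHall π H) (hK : IsPiHall π K) :
    Nat.card H = Nat.card K := by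
  have key : ∀ {H K : Subgroup G}, IsPiHall π H → IsPiHall π K → Nat.card H ∣ Nat.card K := by
    intro H K hH hK
    refine (coprime_of_pi hH.1 fun p hp hd hπ => hK.2 p hp hπ hd).dvd_of_dvd_mul_right ?_
    rw [card_mul_index]
    exact H.card_subgroup_dvd_card
  exact Nat.dvd_antisymm (key hH hK) (key hK hH)

theorem exists_piHall [Group.IsSolvable G] (π : Set ℕ) : ∃ H : Subgroup G, IsPiHall π H := by
  obtain ⟨a, b, hab, ha, hb⟩ := exists_pi_factor π (Nat.card G) Nat.card_pos.ne'
  obtain ⟨H, hH⟩ := exists_subgroup_card_eq hab (coprime_of_pi ha hb)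
  refine ⟨H, hH ▸ ha, fun p hp hπ hd => hb p hp ?_ hπ⟩
  have : H.index = b := by
    apply Nat.eq_of_mul_eq_mul_left (Nat.card_pos (α := H))
    rw [card_mul_index, hH, hab]
  exact this ▸ hd

theorem exists_conj_le_piHall [Group.IsSolvable G] {H K : Subgroup G} (hH : IsPiHall π H)
    (hK : ∀ p : ℕ, p.Prime → p ∣ Nat.card K → p ∈ π) : ∃ g : G, MulAut.conj g • K ≤ H :=
  exists_conj_le_of_coprime (H.card_mul_index).symm (piHall_coprime hH) rfl
    (coprime_of_pi hK fun p hp hd hπ => hH.2 p hp hπ hd)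

theorem piHall_conj [Group.IsSolvable G] {H K : Subgroup G} (hH : IsPiHall π H)
    (hK : IsPiHall π K) : ∃ g : G, MulAut.conj g • H = K :=
  exists_conj_eq_of_card_eq (H.card_mul_index).symm (piHall_coprime hH) rfl
    (piHall_card_eq hK hH)

theorem isPiHall_conj_smul {H : Subgroup G} (hH : IsPiHall π H) (g : G) :
    IsPiHall π (MulAut.conj g • H : Subgroup G) := by
  rw [IsPiHall, card_conj_smul, index_conj_smul]
  exact hH

theorem exists_piHall_ge [Group.IsSolvable G] {K : Subgroup G}
    (hK : ∀ p : ℕ, p.Prime → p ∣ Nat.card K → p ∈ π) :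
    ∃ H : Subgroup G, IsPiHall π H ∧ K ≤ H := by
  obtain ⟨H, hH⟩ := exists_piHall (G := G) π
  obtain ⟨g, hg⟩ := exists_conj_le_piHall hH hK
  refine ⟨_, isPiHall_conj_smul hH g⁻¹, ?_⟩
  rw [map_inv, ← pointwise_smul_subset_iff]
  exact hg

end PiHall

/-- The Frattini argument for Hall subgroups of a solvable normal subgroup. -/
theorem hall_frattini {G : Type*} [Group G] [Finite G] {L H : Subgroup G} [L.Normal]
    (hL : Group.IsSolvable L) (hHL : H ≤ L) (hHall : (Nat.card H).Coprime (H.relIndex L)) :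
    L ⊔ normalizer (H : Set G) = ⊤ := by
  rw [eq_top_iff]
  intro g _
  have hc : ∀ X : Subgroup G, X ≤ L → Nat.card (X.subgroupOf L) = Nat.card X :=
    fun X hX => Nat.card_congr (subgroupOfEquivOfLe hX).toEquiv
  have hgL : MulAut.conj g • H ≤ L := by
    rw [← Normal.conj_smul_eq_self g L]
    exact conj_smul_mono hHL
  obtain ⟨l, hl⟩ := exists_conj_eq_of_card_eq (G := L) (H.subgroupOf L).card_mul_index.symm
    (by rw [hc H hHL]; exact hHall) rfl
    (K := (MulAut.conj g • H).subgroupOf L) (by rw [hc _ hgL, hc H hHL, card_conj_smul])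
  have := conj_smul_eq_of_subgroupOf hHL hgL l hl
  have hmem : (l : G)⁻¹ * g ∈ normalizer (H : Set G) := by
    rw [mem_normalizer_iff_conj_smul_eq, ← conj_smul_conj_smul, ← this, conj_smul_conj_smul,
      inv_mul_cancel, conj_one_smul]
  simpa using (L ⊔ normalizer (H : Set G)).mul_mem (mem_sup_left l.2) (mem_sup_right hmem)

end CfsgLib.Core
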