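import Cfsg.Agent.Lib.Core.SchurZassenhaus

/-!
# Coprime action

Throughout, a subgroup `A` acts on a subgroup `K` by conjugation, `A ≤ N(K)`, `|A|` prime to `|K|`,
and `A` or `K` is solvable.

* `mem_sup_iff_mul`, `sup_eq_of_mul`, `mem_centralizer_of_normalizes`
* `exists_centralizing_in_coset` : an `A`-fixed coset `k N` contains an element centralizing `A`
* `exists_fixed_point`, `exists_centralizing_mapsTo` : Glauberman's lemma, for any action
* `exists_invariant_conj`, `exists_invariant_sylow`, `invariant_sylow_conj`,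
  `exists_invariant_sylow_ge`
* `commutator_sup_centralizer`, `commutator_commutator_eq`, `centralizer_mul`
* `pq_lemma` (P × Q lemma), `centralizes_of_centralizes_frattini_quotient`
* `abelian_inf_eq_bot`, `abelian_centralizes_of_prime_order`
-/

set_option autoImplicit false
set_option linter.all false

namespace CfsgLib.Core

open scoped Pointwise

open Cfsg Subgroup

variable {G : Type*} [Group G]

theorem mem_sup_iff_mul {H N : Subgroup G} (h : H ≤ normalizer (N : Set G)) {x : G} :
    x ∈ H ⊔ N ↔ ∃ a ∈ H, ∃ n ∈ N, x = a * n := by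
  rw [← SetLike.mem_coe, coe_mul_of_left_le_normalizer_right H N h, Set.mem_mul]
  simp only [SetLike.mem_coe, eq_comm]

theorem mem_sup_iff_mul' {H N : Subgroup G} (h : H ≤ normalizer (N : Set G)) {x : G} :
    x ∈ H ⊔ N ↔ ∃ n ∈ N, ∃ a ∈ H, x = n * a := by
  rw [sup_comm, ← SetLike.mem_coe, coe_mul_of_right_le_normalizer_left N H h, Set.mem_mul]
  simp only [SetLike.mem_coe, eq_comm]

/-- An element of `K` normalizing `A` centralizes `A`, for `A ≤ N(K)` with trivial intersection. -/
theorem mem_centralizer_of_normalizes {A K : Subgroup G} (hAK : A ≤ normalizer (K : Set G))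
    (hd : A ⊓ K = ⊥) {c : G} (hc : c ∈ K) (hcA : c ∈ normalizer (A : Set G)) :
    c ∈ centralizer (A : Set G) := by
  rw [mem_centralizer_iff]
  intro a ha
  have h1 : a * c * a⁻¹ * c⁻¹ ∈ A ⊓ K := by
    refine ⟨?_, K.mul_mem (conj_mem_of_le_normalizer hAK ha hc) (K.inv_mem hc)⟩
    have := (mem_normalizer_iff.mp hcA a⁻¹).mp (A.inv_mem ha)
    simpa [mul_assoc] using A.mul_mem ha this
  rw [hd, mem_bot, mul_inv_eq_one, mul_inv_eq_iff_eq_mul] at h1
  exact h1

/-- An `A`-fixed left coset of `N` contains an element centralizing `A`. -/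
theorem exists_centralizing_in_coset [Finite G] {A N : Subgroup G}
    (hAN : A ≤ normalizer (N : Set G)) (hcop : (Nat.card A).Coprime (Nat.card N))
    (hsolv : Group.IsSolvable A ∨ Group.IsSolvable N) {k : G}
    (hfix : ∀ a ∈ A, k⁻¹ * (a * k * a⁻¹) ∈ N) :
    ∃ n ∈ N, k * n ∈ centralizer (A : Set G) := by
  have hK : MulAut.conj k⁻¹ • A ≤ A ⊔ N := by
    intro x hx
    rw [mem_conj_smul_iff, inv_inv] at hx
    have h1 : k⁻¹ * (k * x * k⁻¹ * k * (k * x * k⁻¹)⁻¹) * (k * x * k⁻¹) ∈ A ⊔ N :=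
      (A ⊔ N).mul_mem (mem_sup_right (hfix _ hx)) (mem_sup_left hx)
    simpa [mul_assoc] using h1
  obtain ⟨n, hn, h⟩ := exists_conj_eq_of_coprime hAN hK (card_conj_smul _ A) hcop hsolv.symm
  refine ⟨n, hn, mem_centralizer_iff.mpr fun a ha => ?_⟩
  have hA : (k * n) * a * (k * n)⁻¹ ∈ A := by
    have := conj_mem_conj_smul (g := n) ha
    rw [h, mem_conj_smul_iff] at this
    simpa [mul_assoc] using this
  have hN : (k * n)⁻¹ * (a * (k * n) * a⁻¹) ∈ N := by
    have := N.mul_mem (N.mul_mem (N.inv_mem hn) (hfix a ha)) (conj_mem_of_le_normalizer hAN ha hn)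
    simpa [mul_assoc] using this
  have h1 : (k * n)⁻¹ * (a * (k * n) * a⁻¹) ∈ A := by
    -- it equals `(c⁻¹ a c) a⁻¹`, and `c` normalizes `A`
    have hc : k * n ∈ normalizer (A : Set G) := by
      rw [mem_normalizer_iff_conj_smul_eq, ← conj_smul_conj_smul, h, conj_smul_conj_smul,
        mul_inv_cancel, conj_one_smul]
    have := (mem_normalizer_iff''.mp hc a).mp ha
    simpa [mul_assoc] using A.mul_mem this (A.inv_mem ha)
  have := (Subgroup.inf_eq_bot_of_coprime hcop).le ⟨h1, hN⟩
  rw [mem_bot, inv_mul_eq_one] at this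
  calc a * (k * n) = a * (k * n) * a⁻¹ * a := by group
    _ = k * n * a := by rw [← this]

/-! ### Glauberman's lemma -/

section Glauberman

variable {X : Type*} [MulAction G X]

theorem exists_fixed_point [Finite G] {A K : Subgroup G} (hAK : A ≤ normalizer (K : Set G))
    (hcop : (Nat.card A).Coprime (Nat.card K))
    (hsolv : Group.IsSolvable A ∨ Group.IsSolvable K) {x : X}
    (hx : ∀ a ∈ A, ∃ k ∈ K, a • x = k • x) : ∃ k ∈ K, ∀ a ∈ A, a • k • x = k • x := by
  let M : Subgroup G := MulAction.stabilizer G x ⊓ (A ⊔ K)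
  have hM : M ≤ normalizer (K : Set G) := inf_le_right.trans (sup_le hAK le_normalizer)
  have hsup : M ⊔ K = A ⊔ K := by
    refine le_antisymm (sup_le inf_le_right le_sup_right) (sup_le (fun a ha => ?_) le_sup_right)
    obtain ⟨k, hk, h⟩ := hx a ha
    have hm : k⁻¹ * a ∈ M := ⟨MulAction.mem_stabilizer_iff.mpr (by rw [mul_smul, h,
      inv_smul_smul]), (A ⊔ K).mul_mem (mem_sup_right (K.inv_mem hk)) (mem_sup_left ha)⟩
    simpa using (M ⊔ K).mul_mem (mem_sup_right hk) (mem_sup_left hm)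
  have h1 := card_sup_mul_card_inf M K hM
  rw [hsup, card_sup_of_coprime A K hAK hcop] at h1
  have hcardM : Nat.card M = Nat.card A * Nat.card (M ⊓ K : Subgroup G) := by
    apply Nat.eq_of_mul_eq_mul_right (Nat.card_pos (α := K))
    rw [← h1]; ring
  haveI : (K.subgroupOf M).Normal := normal_subgroupOf_of_le_normalizer hM
  have hcK : Nat.card (K.subgroupOf M) = Nat.card (M ⊓ K : Subgroup G) := by
    rw [← inf_subgroupOf_right K M, inf_comm K M]
    exact Nat.card_congr (subgroupOfEquivOfLe inf_le_left).toEquiv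
  have hidx : (K.subgroupOf M).index = Nat.card A := by
    apply Nat.eq_of_mul_eq_mul_left (Nat.card_pos (α := K.subgroupOf M))
    rw [card_mul_index, hcardM, hcK, mul_comm]
  obtain ⟨B, hB⟩ := exists_right_complement'_of_coprime (N := K.subgroupOf M)
    (by rw [hidx, hcK]; exact (hcop.coprime_dvd_right (card_dvd_of_le inf_le_right)).symm)
  have hBc : Nat.card (B.map M.subtype) = Nat.card A := by
    rw [← hidx, hB.symm.index_eq_card, ← Nat.card_congr (B.equivMapOfInjective _ M.subtype_injective).toEquiv]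
  have hBM : B.map M.subtype ≤ M := map_subtype_le B
  obtain ⟨k, hk, h⟩ := exists_conj_eq_of_coprime hAK (hBM.trans inf_le_right) hBc hcop hsolv.symm
  refine ⟨k⁻¹, K.inv_mem hk, fun a ha => ?_⟩
  have : k * a * k⁻¹ ∈ M := hBM (h ▸ conj_mem_conj_smul ha)
  have hs := MulAction.mem_stabilizer_iff.mp this.1
  rw [eq_inv_smul_iff, ← mul_smul, ← mul_smul]
  exact hs

theorem exists_centralizing_mapsTo [Finite G] {A K : Subgroup G} (hAK : A ≤ normalizer (K : Set G))
    (hcop : (Nat.card A).Coprime (Nat.card K))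
    (hsolv : Group.IsSolvable A ∨ Group.IsSolvable K) {x y : X}
    (hx : ∀ a ∈ A, a • x = x) (hy : ∀ a ∈ A, a • y = y) (hxy : ∃ k ∈ K, k • x = y) :
    ∃ c ∈ K ⊓ centralizer (A : Set G), c • x = y := by
  obtain ⟨k, hk, rfl⟩ := hxy
  let D : Subgroup G := K ⊓ MulAction.stabilizer G x
  have hAD : A ≤ normalizer (D : Set G) := by
    rw [le_normalizer_iff]
    intro a ha d hd
    refine ⟨conj_mem_of_le_normalizer hAK ha hd.1, MulAction.mem_stabilizer_iff.mpr ?_⟩
    rw [mul_smul, mul_smul, hx _ (A.inv_mem ha),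
      MulAction.mem_stabilizer_iff.mp hd.2, hx a ha]
  obtain ⟨n, hn, h⟩ := exists_centralizing_in_coset hAD
    (hcop.coprime_dvd_right (card_dvd_of_le inf_le_left))
    (hsolv.imp id fun h => isSolvable_of_le h inf_le_left) (k := k) (by
      intro a ha
      refine ⟨K.mul_mem (K.inv_mem hk) (conj_mem_of_le_normalizer hAK ha hk),
        MulAction.mem_stabilizer_iff.mpr ?_⟩
      rw [mul_smul, mul_smul, mul_smul,
        hx _ (A.inv_mem ha), hy a ha, inv_smul_smul])
  exact ⟨k * n, ⟨K.mul_mem hk hn.1, h⟩, by rw [mul_smul, MulAction.mem_stabilizer_iff.mp hn.2]⟩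

end Glauberman

/-- A `K`-conjugacy class invariant under `A` contains an `A`-invariant member. -/
theorem exists_invariant_conj [Finite G] {A K P : Subgroup G} (hAK : A ≤ normalizer (K : Set G))
    (hcop : (Nat.card A).Coprime (Nat.card K))
    (hsolv : Group.IsSolvable A ∨ Group.IsSolvable K)
    (h : ∀ a ∈ A, ∃ k ∈ K, MulAut.conj a • P = MulAut.conj k • P) :
    ∃ k ∈ K, A ≤ normalizer ((MulAut.conj k • P : Subgroup G) : Set G) := by
  let _ : MulAction G (Subgroup G) := MulAction.compHom (Subgroup G) MulAut.conj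
  obtain ⟨k, hk, h⟩ := exists_fixed_point hAK hcop hsolv (x := P) h
  exact ⟨k, hk, fun a ha => mem_normalizer_iff_conj_smul_eq.mpr (h a ha)⟩

/-- Two `A`-invariant `K`-conjugate subgroups are conjugate under `C_K(A)`. -/
theorem exists_centralizing_conj [Finite G] {A K P Q : Subgroup G}
    (hAK : A ≤ normalizer (K : Set G))
    (hcop : (Nat.card A).Coprime (Nat.card K))
    (hsolv : Group.IsSolvable A ∨ Group.IsSolvable K)
    (hP : A ≤ normalizer (P : Set G)) (hQ : A ≤ normalizer (Q : Set G))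
    (h : ∃ k ∈ K, MulAut.conj k • P = Q) :
    ∃ c ∈ K ⊓ centralizer (A : Set G), MulAut.conj c • P = Q := by
  let _ : MulAction G (Subgroup G) := MulAction.compHom (Subgroup G) MulAut.conj
  exact exists_centralizing_mapsTo hAK hcop hsolv (x := P) (y := Q)
    (fun a ha => mem_normalizer_iff_conj_smul_eq.mp (hP ha))
    (fun a ha => mem_normalizer_iff_conj_smul_eq.mp (hQ ha)) h

/-! ### Invariant Sylow subgroups -/

section InvSylow

variable [Finite G] {p : ℕ} [Fact p.Prime]

theorem sylow_map_conj_smul {K : Subgroup G} (P : Sylow p K) (k : K) :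
    MulAut.conj (k : G) • (P : Subgroup K).map K.subtype =
      (k • P : Sylow p K).toSubgroup.map K.subtype := by
  rw [Sylow.coe_subgroup_smul, conj_smul_eq_map, conj_smul_eq_map, map_map, map_map]
  rfl

theorem exists_conj_of_card_eq {K Q : Subgroup G} (P : Sylow p K) (hQK : Q ≤ K)
    (hQ : Nat.card Q = Nat.card ((P : Subgroup K).map K.subtype)) :
    ∃ k ∈ K, MulAut.conj k • (P : Subgroup K).map K.subtype = Q := by
  have hc : Nat.card (Q.subgroupOf K) = p ^ (Nat.card K).factorization p := by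
    rw [Nat.card_congr (subgroupOfEquivOfLe hQK).toEquiv, hQ,
      ← Nat.card_congr ((P : Subgroup K).equivMapOfInjective _ K.subtype_injective).toEquiv]
    exact P.card_eq_multiplicity
  obtain ⟨k, hk⟩ := MulAction.exists_smul_eq K P (Sylow.ofCard _ hc)
  refine ⟨k, k.2, ?_⟩
  rw [sylow_map_conj_smul, hk, Sylow.coe_ofCard, map_subgroupOf_eq_of_le hQK]

variable {A K : Subgroup G} (hAK : A ≤ normalizer (K : Set G))
  (hcop : (Nat.card A).Coprime (Nat.card K))
  (hsolv : Group.IsSolvable A ∨ Group.IsSolvable K)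

include hAK hcop hsolv

theorem exists_invariant_sylow (p : ℕ) [Fact p.Prime] :
    ∃ P : Sylow p K, A ≤ normalizer ((P : Subgroup K).map K.subtype : Set G) := by
  obtain ⟨P⟩ := (Sylow.nonempty : Nonempty (Sylow p K))
  obtain ⟨k, hk, h⟩ := exists_invariant_conj hAK hcop hsolv
    (P := (P : Subgroup K).map K.subtype) (fun a ha => by
      obtain ⟨k, hk, h⟩ := exists_conj_of_card_eq P
        (Q := MulAut.conj a • (P : Subgroup K).map K.subtype) (by
          intro x hx
          rw [mem_conj_smul_iff] at hx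
          simpa [mul_assoc] using conj_mem_of_le_normalizer hAK ha (map_subtype_le _ hx))
        (card_conj_smul _ _)
      exact ⟨k, hk, h.symm⟩)
  refine ⟨(⟨k, hk⟩ : K) • P, ?_⟩
  rw [← sylow_map_conj_smul]
  exact h

theorem invariant_sylow_conj (P Q : Sylow p K)
    (hP : A ≤ normalizer ((P : Subgroup K).map K.subtype : Set G))
    (hQ : A ≤ normalizer ((Q : Subgroup K).map K.subtype : Set G)) :
    ∃ c : K, (c : G) ∈ centralizer (A : Set G) ∧ c • P = Q := by
  obtain ⟨k, hk⟩ := MulAction.exists_smul_eq K P Q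
  obtain ⟨c, hc, h⟩ := exists_centralizing_conj hAK hcop hsolv hP hQ
    ⟨k, k.2, by rw [sylow_map_conj_smul, hk]⟩
  refine ⟨⟨c, hc.1⟩, hc.2, Sylow.ext ?_⟩
  apply map_injective K.subtype_injective
  rw [← sylow_map_conj_smul]
  exact h

end InvSylow

theorem exists_invariant_sylow_ge [Finite G] {A K U : Subgroup G} {p : ℕ} [Fact p.Prime]
    (hAK : A ≤ normalizer (K : Set G)) (hcop : (Nat.card A).Coprime (Nat.card K))
    (hsolv : Group.IsSolvable A ∨ Group.IsSolvable K) (hUK : U ≤ K) (hU : IsPGroup p U)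
    (hUA : A ≤ normalizer (U : Set G)) :
    ∃ P : Sylow p K, U ≤ (P : Subgroup K).map K.subtype ∧
      A ≤ normalizer ((P : Subgroup K).map K.subtype : Set G) := by
  obtain ⟨V, ⟨hUV, hVK, hV, hVA⟩, hmax⟩ := WellFounded.has_min
    (wellFounded_gt (α := Subgroup G))
    {V : Subgroup G | U ≤ V ∧ V ≤ K ∧ IsPGroup p V ∧ A ≤ normalizer (V : Set G)}
    ⟨U, le_rfl, hUK, hU, hUA⟩
  have hNA : A ≤ normalizer ((K ⊓ normalizer (V : Set G) : Subgroup G) : Set G) := by
    rw [le_normalizer_iff]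
    intro a ha x hx
    exact ⟨conj_mem_of_le_normalizer hAK ha hx.1,
      (normalizer (V : Set G)).mul_mem ((normalizer (V : Set G)).mul_mem (hVA ha) hx.2)
        ((normalizer (V : Set G)).inv_mem (hVA ha))⟩
  obtain ⟨R, hR⟩ := exists_invariant_sylow hNA
    (hcop.coprime_dvd_right (card_dvd_of_le inf_le_left))
    (hsolv.imp id fun h => isSolvable_of_le h inf_le_left) p
  have hVN : V ≤ K ⊓ normalizer (V : Set G) := le_inf hVK le_normalizer
  haveI : (V.subgroupOf (K ⊓ normalizer (V : Set G))).Normal :=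
    normal_subgroupOf_of_le_normalizer inf_le_right
  have hVR : V ≤ (R : Subgroup _).map (K ⊓ normalizer (V : Set G)).subtype := by
    refine (map_subgroupOf_eq_of_le hVN).symm.le.trans ?_
    exact map_mono ((hV.of_equiv (subgroupOfEquivOfLe hVN).symm).le_sylow_of_normal R)
  have hRV : (R : Subgroup _).map (K ⊓ normalizer (V : Set G)).subtype = V := by
    by_contra hne
    exact hmax _ ⟨hUV.trans hVR, (map_subtype_le _).trans inf_le_left, R.isPGroup'.map _, hR⟩
      (lt_of_le_of_ne hVR (Ne.symm hne))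
  -- `V` is a Sylow subgroup of its own normalizer in `K`, hence of `K`
  obtain ⟨P, hP⟩ := (hV.of_equiv (subgroupOfEquivOfLe hVK).symm).exists_le_sylow
  suffices (P : Subgroup K).map K.subtype = V from ⟨P, this.symm ▸ hUV, this.symm ▸ hVA⟩
  have hVP : V ≤ (P : Subgroup K).map K.subtype := by
    rw [← map_subgroupOf_eq_of_le hVK]; exact map_mono hP
  by_contra hne
  have hPp : IsPGroup p ((P : Subgroup K).map K.subtype) := P.isPGroup'.map _
  haveI := hPp.isNilpotent
  have hlt : V.subgroupOf ((P : Subgroup K).map K.subtype) < ⊤ := by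
    rw [lt_top_iff_ne_top, Ne, subgroupOf_eq_top]
    exact fun h => hne (le_antisymm h hVP)
  have hgrow := normalizerCondition_of_isNilpotent _ hlt
  rw [← subgroupOf_normalizer_eq hVP] at hgrow
  obtain ⟨g, hg, hgV⟩ := SetLike.exists_of_lt hgrow
  rw [mem_subgroupOf] at hg hgV
  let N₁ : Subgroup G := (P : Subgroup K).map K.subtype ⊓ normalizer (V : Set G)
  have hN₁ : N₁ ≤ K ⊓ normalizer (V : Set G) := inf_le_inf_right _ (map_subtype_le _)
  have hd : Nat.card N₁ ∣ Nat.card V := by
    obtain ⟨S, hS⟩ := ((hPp.to_le inf_le_left : IsPGroup p N₁).of_equiv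
      (subgroupOfEquivOfLe hN₁).symm).exists_le_sylow
    have := card_dvd_of_le (map_mono (f := (K ⊓ normalizer (V : Set G)).subtype) hS)
    rw [map_subgroupOf_eq_of_le hN₁] at this
    rw [← hRV,
      ← Nat.card_congr ((R : Subgroup _).equivMapOfInjective _
        (K ⊓ normalizer (V : Set G)).subtype_injective).toEquiv,
      R.card_eq_multiplicity, ← S.card_eq_multiplicity,
      Nat.card_congr ((S : Subgroup _).equivMapOfInjective _
        (K ⊓ normalizer (V : Set G)).subtype_injective).toEquiv]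
    exact this
  have : V = N₁ := Subgroup.eq_of_le_of_card_ge (le_inf hVP le_normalizer)
    (Nat.le_of_dvd Nat.card_pos hd)
  exact hgV (this ▸ ⟨g.2, hg⟩)

/-! ### Commutators and centralizers -/

section CK

variable [Finite G] {A K : Subgroup G} (hAK : A ≤ normalizer (K : Set G))
  (hcop : (Nat.card A).Coprime (Nat.card K))
  (hsolv : Group.IsSolvable A ∨ Group.IsSolvable K)

theorem le_normalizer_commutator_self (A K : Subgroup G) :
    K ⊔ A ≤ normalizer ((⁅K, A⁆ : Subgroup G) : Set G) :=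
  sup_le (normalizer_commutator_ge_left K A) (normalizer_commutator_ge_right K A)

include hAK

theorem commutator_le_of_normalizes : ⁅K, A⁆ ≤ K :=
  le_normalizer_iff_commutator_le_left.mp hAK

include hcop hsolv

theorem exists_mul_centralizing {k : G} (hk : k ∈ K) :
    ∃ u ∈ ⁅K, A⁆, ∃ c ∈ K ⊓ centralizer (A : Set G), k = u * c := by
  have hle := commutator_le_of_normalizes hAK
  obtain ⟨n, hn, h⟩ := exists_centralizing_in_coset (N := ⁅K, A⁆) (normalizer_commutator_ge_right K A)
    (hcop.coprime_dvd_right (card_dvd_of_le hle))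
    (hsolv.imp id fun h => isSolvable_of_le h hle) (k := k) (by
      intro a ha
      have := commutator_mem_commutator (K.inv_mem hk) ha
      simpa [commutatorElement_def, mul_assoc] using this)
  refine ⟨k * n⁻¹ * k⁻¹, conj_mem_of_le_normalizer (normalizer_commutator_ge_left K A) hk
    (inv_mem hn), k * n, ⟨K.mul_mem hk (hle hn), h⟩, ?_⟩
  group

theorem commutator_sup_centralizer : ⁅K, A⁆ ⊔ (K ⊓ centralizer (A : Set G)) = K := by
  refine le_antisymm (sup_le (commutator_le_of_normalizes hAK) inf_le_left) fun k hk => ?_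
  obtain ⟨u, hu, c, hc, rfl⟩ := exists_mul_centralizing hAK hcop hsolv hk
  exact mul_mem (mem_sup_left hu) (mem_sup_right hc)

theorem commutator_commutator_eq : ⁅⁅K, A⁆, A⁆ = ⁅K, A⁆ := by
  refine le_antisymm (commutator_mono (commutator_le_of_normalizes hAK) le_rfl) ?_
  rw [commutator_le]
  intro k hk a ha
  obtain ⟨u, hu, c, hc, rfl⟩ := exists_mul_centralizing hAK hcop hsolv hk
  rw [commutatorElement_mul_left_eq_conj_mul,
    (commutatorElement_eq_one_iff_mul_comm (g₁ := c) (g₂ := a)).mpr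
      (mem_centralizer_iff.mp hc.2 a ha).symm]
  simpa using commutator_mem_commutator hu ha

theorem centralizer_mul {X Y : Subgroup G} (hX : X ≤ K) (hY : Y ≤ K)
    (hXA : A ≤ normalizer (X : Set G)) (hYA : A ≤ normalizer (Y : Set G))
    {x y : G} (hx : x ∈ X) (hy : y ∈ Y) (hfix : x * y ∈ centralizer (A : Set G)) :
    ∃ x' ∈ X ⊓ centralizer (A : Set G), ∃ y' ∈ Y ⊓ centralizer (A : Set G), x * y = x' * y' := by
  obtain ⟨n, hn, h⟩ := exists_centralizing_in_coset (A := A) (N := X ⊓ Y)
    ((le_inf hXA hYA).trans inf_normalizer_le_normalizer_inf)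
    (hcop.coprime_dvd_right (card_dvd_of_le (inf_le_left.trans hX)))
    (hsolv.imp id fun h => isSolvable_of_le h (inf_le_left.trans hX)) (k := x) (by
      intro a ha
      refine ⟨X.mul_mem (X.inv_mem hx) (conj_mem_of_le_normalizer hXA ha hx), ?_⟩
      have h1 : x * y = a * (x * y) * a⁻¹ := by
        rw [mem_centralizer_iff.mp hfix a ha, mul_inv_cancel_right]
      have h2 : x⁻¹ * (a * x * a⁻¹) = y * (a * y * a⁻¹)⁻¹ := by
        have h3 : x⁻¹ * (a * x * a⁻¹) = x⁻¹ * (a * (x * y) * a⁻¹) * (a * y * a⁻¹)⁻¹ := by group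
        rw [← h1] at h3
        rw [h3]; group
      rw [h2]
      exact Y.mul_mem hy (Y.inv_mem (conj_mem_of_le_normalizer hYA ha hy)))
  refine ⟨x * n, ⟨X.mul_mem hx hn.1, h⟩, n⁻¹ * y, ⟨Y.mul_mem (Y.inv_mem hn.2) hy, ?_⟩, by group⟩
  have := (centralizer (A : Set G)).mul_mem ((centralizer (A : Set G)).inv_mem h) hfix
  simpa [mul_assoc] using this

end CK

/-! ### The `P × Q` lemma -/

theorem pq_lemma [Finite G] {p : ℕ} [Fact p.Prime] {P Q U : Subgroup G}
    (hP : IsPGroup p P) (hQ : (Nat.card Q).Coprime p) (hU : IsPGroup p U)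
    (hPQ : P ≤ centralizer (Q : Set G)) (hPU : P ≤ normalizer (U : Set G))
    (hQU : Q ≤ normalizer (U : Set G))
    (hC : U ⊓ centralizer (P : Set G) ≤ centralizer (Q : Set G)) :
    Q ≤ centralizer (U : Set G) := by
  rw [le_centralizer_iff]
  by_contra hne
  generalize hU0 : U ⊓ centralizer (Q : Set G) = U0
  have hU0U : U0 ≤ U := hU0 ▸ inf_le_left
  have hPU0 : P ≤ normalizer (U0 : Set G) := by
    rw [← hU0]
    exact (le_inf hPU (hPQ.trans le_normalizer)).trans inf_normalizer_le_normalizer_inf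
  haveI := (hP.to_sup_of_normal_right' hU hPU).isNilpotent
  have hW : P ⊔ U0 ≤ P ⊔ U := sup_le_sup le_rfl hU0U
  have hlt : (P ⊔ U0).subgroupOf (P ⊔ U) < ⊤ := by
    rw [lt_top_iff_ne_top, Ne, subgroupOf_eq_top]
    intro h
    apply hne
    intro u hu
    obtain ⟨x, hx, n, hn, rfl⟩ := (mem_sup_iff_mul hPU0).mp (h (mem_sup_right hu))
    have hxU : x ∈ U := by simpa using U.mul_mem hu (U.inv_mem (hU0U hn))
    exact mul_mem (hPQ hx) (hU0 ▸ hn : n ∈ U ⊓ centralizer (Q : Set G)).2
  have hgrow := normalizerCondition_of_isNilpotent _ hlt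
  rw [← subgroupOf_normalizer_eq hW] at hgrow
  obtain ⟨⟨g, hgW⟩, hg, hg'⟩ := SetLike.exists_of_lt hgrow
  rw [mem_subgroupOf] at hg hg'
  obtain ⟨y, hy, r, hr, rfl⟩ := (mem_sup_iff_mul hPU).mp hgW
  have hr0 : r ∉ U0 := fun h => hg' (mul_mem (mem_sup_left hy) (mem_sup_right h))
  have hrN : r ∈ normalizer ((P ⊔ U0 : Subgroup G) : Set G) := by
    simpa using mul_mem (inv_mem (le_normalizer (mem_sup_left hy))) hg
  have hfix : ∀ x ∈ P, r⁻¹ * (x * r * x⁻¹) ∈ U0 := by
    intro x hx
    have h1 : r⁻¹ * x * r * x⁻¹ ∈ P ⊔ U0 :=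
      mul_mem ((mem_normalizer_iff''.mp hrN x).mp (mem_sup_left hx)) (mem_sup_left (inv_mem hx))
    have h2 : r⁻¹ * (x * r * x⁻¹) ∈ U :=
      mul_mem (inv_mem hr) (conj_mem_of_le_normalizer hPU hx hr)
    simp only [mul_assoc] at h1 h2 ⊢
    obtain ⟨z, hz, n, hn, hzn⟩ := (mem_sup_iff_mul hPU0).mp h1
    rw [hzn] at h2 ⊢
    have hzU : z ∈ U := by simpa using U.mul_mem h2 (U.inv_mem (hU0U hn))
    rw [← hU0] at hn ⊢
    exact mul_mem (⟨hzU, hPQ hz⟩ : z ∈ U ⊓ centralizer (Q : Set G)) hn
  apply hr0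
  rw [← hU0]
  refine ⟨hr, mem_centralizer_iff.mpr fun q hq => ?_⟩
  have hd : q * r * q⁻¹ * r⁻¹ ∈ U ⊓ centralizer (P : Set G) := by
    refine ⟨U.mul_mem (conj_mem_of_le_normalizer hQU hq hr) (U.inv_mem hr),
      mem_centralizer_iff.mpr fun x hx => ?_⟩
    have hu := hfix x hx
    rw [← hU0] at hu
    have hxq : q * x = x * q := mem_centralizer_iff.mp (hPQ hx) q hq
    have hcq : Commute x q := hxq.symm
    have hcu : Commute q (r⁻¹ * (x * r * x⁻¹)) := mem_centralizer_iff.mp hu.2 q hq
    generalize hu' : r⁻¹ * (x * r * x⁻¹) = u at hcu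
    have hxr : x * r * x⁻¹ = r * u := by rw [← hu', mul_inv_cancel_left]
    have key : x * (q * r * q⁻¹ * r⁻¹) * x⁻¹ = q * r * q⁻¹ * r⁻¹ := by
      calc x * (q * r * q⁻¹ * r⁻¹) * x⁻¹
          = (x * q * x⁻¹) * (x * r * x⁻¹) * (x * q * x⁻¹)⁻¹ * (x * r * x⁻¹)⁻¹ := by group
        _ = q * (r * u) * q⁻¹ * (r * u)⁻¹ := by rw [hxr, hcq.eq, mul_inv_cancel_right]
        _ = q * r * (u * q⁻¹ * u⁻¹) * r⁻¹ := by group
        _ = q * r * q⁻¹ * r⁻¹ := by rw [hcu.inv_left.symm.eq, mul_inv_cancel_right]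
    exact mul_inv_eq_iff_eq_mul.mp key
  have hdQ : Commute q (q * r * q⁻¹ * r⁻¹) := mem_centralizer_iff.mp (hC hd) q hq
  generalize hd' : q * r * q⁻¹ * r⁻¹ = d at hd hdQ
  have hpow : ∀ n : ℕ, q ^ n * r * (q ^ n)⁻¹ = d ^ n * r := by
    intro n
    induction n with
    | zero => simp
    | succ n ih =>
      calc q ^ (n + 1) * r * (q ^ (n + 1))⁻¹
          = q ^ n * (q * r * q⁻¹) * (q ^ n)⁻¹ := by rw [pow_succ]; group
        _ = q ^ n * (d * r) * (q ^ n)⁻¹ := by rw [← hd', inv_mul_cancel_right]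
        _ = d * (q ^ n * r * (q ^ n)⁻¹) := by
          rw [← mul_assoc (q ^ n) d r, (hdQ.pow_left n).eq]; group
        _ = d ^ (n + 1) * r := by rw [ih, pow_succ', mul_assoc]
  have h1 := hpow (orderOf q)
  rw [pow_orderOf_eq_one, one_mul, inv_one, mul_one, right_eq_mul] at h1
  obtain ⟨k, hk⟩ := hU ⟨d, hd.1⟩
  have hk' : d ^ p ^ k = 1 := by simpa [Subtype.ext_iff] using hk
  have hdvd : orderOf q ∣ Nat.card Q := by
    rw [← Subgroup.orderOf_mk q hq]; exact orderOf_dvd_natCard _
  have hcq : (orderOf q).Coprime (p ^ k) :=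
    (hQ.coprime_dvd_left hdvd).pow_right k
  have hd1 : d = 1 := by
    have := pow_gcd_eq_one.mpr ⟨h1, hk'⟩
    rwa [Nat.Coprime.gcd_eq_one hcq, pow_one] at this
  rw [← hd', mul_inv_eq_one, mul_inv_eq_iff_eq_mul] at hd1
  exact hd1

theorem centralizes_of_centralizes_frattini_quotient [Finite G] {A K : Subgroup G}
    (hAK : A ≤ normalizer (K : Set G)) (hcop : (Nat.card A).Coprime (Nat.card (frattini K)))
    (htriv : ∀ a ∈ A, ∀ k ∈ K, a * k * a⁻¹ * k⁻¹ ∈ (frattini K).map K.subtype) :
    A ≤ centralizer (K : Set G) := by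
  rw [le_centralizer_iff]
  generalize hN : (frattini K).map K.subtype = N at htriv
  have hKN : K ≤ normalizer (N : Set G) := by
    rw [← hN]
    have := le_normalizer_map (H := frattini K) K.subtype
    rwa [normalizer_eq_top, ← MonoidHom.range_eq_map, range_subtype] at this
  have hNK : N ≤ K := hN ▸ map_subtype_le _
  have hAN : A ≤ normalizer (N : Set G) := by
    rw [le_normalizer_iff]
    intro a ha n hn
    simpa using N.mul_mem (htriv a ha n (hNK hn)) hn
  have hNs : Group.IsSolvable N := by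
    haveI := frattini_nilpotent (G := K)
    rw [← hN]
    exact isSolvable_map _ inferInstance
  have hcN : Nat.card N = Nat.card (frattini K) :=
    hN ▸ Nat.card_congr ((frattini K).equivMapOfInjective _ K.subtype_injective).toEquiv.symm
  have h : (centralizer (A : Set G)).subgroupOf K ⊔ frattini K = ⊤ := by
    rw [eq_top_iff]
    intro k _
    obtain ⟨n, hn, hc⟩ := exists_centralizing_in_coset hAN (hcN ▸ hcop) (Or.inr hNs)
      (k := (k : G)) (by
        intro a ha
        have := conj_mem_of_le_normalizer' hKN k.2 (htriv a ha k k.2)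
        simpa [mul_assoc] using this)
    rw [← hN] at hn
    obtain ⟨n', hn', rfl⟩ := hn
    have : k = (k * n') * n'⁻¹ := by rw [mul_inv_cancel_right]
    rw [this]
    exact mul_mem (mem_sup_left (mem_subgroupOf.mpr hc)) (mem_sup_right (inv_mem hn'))
  exact subgroupOf_eq_top.mp (frattini_nongenerating h)

/-! ### Abelian groups acted on -/

theorem abelian_centralizes_of_prime_order [Finite G] {A V : Subgroup G} [IsMulCommutative V]
    (hAV : A ≤ normalizer (V : Set G)) (hcop : (Nat.card A).Coprime (Nat.card V))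
    (hΩ : ∀ v ∈ V, (orderOf v).Prime → ∀ a ∈ A, a * v = v * a) :
    A ≤ centralizer (V : Set G) := by
  rw [le_centralizer_iff]
  have hcomm : ∀ {u v : G}, u ∈ V → v ∈ V → Commute u v := fun {u v} hu hv =>
    congrArg Subtype.val ((‹IsMulCommutative V›).is_comm.comm ⟨u, hu⟩ ⟨v, hv⟩)
  suffices ∀ n, ∀ v ∈ V, orderOf v = n → ∀ a ∈ A, a * v = v * a from
    fun v hv => mem_centralizer_iff.mpr (this _ v hv rfl)
  intro n
  induction n using Nat.strongRecOn with
  | ind n ih =>
    intro v hv hn a ha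
    subst hn
    by_cases h1 : orderOf v = 1
    · simp [orderOf_eq_one_iff.mp h1]
    obtain ⟨q, hq, hqd⟩ := Nat.exists_prime_and_dvd h1
    have hvq := ih (orderOf (v ^ q))
      (by rw [orderOf_pow_of_dvd hq.ne_zero hqd]; exact Nat.div_lt_self (orderOf_pos v) hq.one_lt)
      (v ^ q) (pow_mem hv q) rfl a ha
    have hav : a * v * a⁻¹ ∈ V := conj_mem_of_le_normalizer hAV ha hv
    generalize hd : a * v * a⁻¹ * v⁻¹ = d
    have hdV : d ∈ V := hd ▸ mul_mem hav (inv_mem hv)
    have hdq : d ^ q = 1 := by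
      rw [← hd, (hcomm hav (inv_mem hv)).mul_pow, conj_pow, inv_pow, hvq, mul_inv_cancel_right,
        mul_inv_cancel]
    have hda : Commute a d := by
      by_cases hd1 : d = 1
      · rw [hd1]; exact Commute.one_right a
      · haveI := Fact.mk hq
        exact hΩ d hdV (orderOf_eq_prime hdq hd1 ▸ hq) a ha
    have hpow : ∀ m : ℕ, a ^ m * v * (a ^ m)⁻¹ = d ^ m * v := by
      intro m
      induction m with
      | zero => simp
      | succ m ihm =>
        calc a ^ (m + 1) * v * (a ^ (m + 1))⁻¹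
            = a ^ m * (a * v * a⁻¹) * (a ^ m)⁻¹ := by rw [pow_succ]; group
          _ = a ^ m * (d * v) * (a ^ m)⁻¹ := by rw [← hd, inv_mul_cancel_right]
          _ = d * (a ^ m * v * (a ^ m)⁻¹) := by
            rw [← mul_assoc (a ^ m) d v, (hda.pow_left m).eq]; group
          _ = d ^ (m + 1) * v := by rw [ihm, pow_succ', mul_assoc]
    have h2 := hpow (orderOf a)
    rw [pow_orderOf_eq_one, one_mul, inv_one, mul_one, right_eq_mul] at h2
    have hoa : orderOf a ∣ Nat.card A := by
      rw [← Subgroup.orderOf_mk a ha]; exact orderOf_dvd_natCard _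
    have hod : d ^ Nat.card V = 1 := by
      exact congrArg Subtype.val (pow_card_eq_one' (G := V) (x := ⟨d, hdV⟩))
    have hd1 : d = 1 := by
      have := pow_gcd_eq_one.mpr ⟨h2, hod⟩
      rwa [Nat.Coprime.gcd_eq_one (hcop.coprime_dvd_left hoa), pow_one] at this
    rw [← hd, mul_inv_eq_one, mul_inv_eq_iff_eq_mul] at hd1
    exact hd1

section AbelianDecomp

open scoped IsMulCommutative

theorem abelian_inf_eq_bot [Finite G] {A V : Subgroup G} [IsMulCommutative V]
    (hAV : A ≤ normalizer (V : Set G)) (hcop : (Nat.card A).Coprime (Nat.card V)) :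
    (V ⊓ centralizer (A : Set G)) ⊓ ⁅V, A⁆ = ⊥ := by
  haveI : Fintype A := Fintype.ofFinite A
  let θ : V →* V :=
    { toFun := fun v => ∏ a : A, (⟨(a : G) * v * (a : G)⁻¹,
        conj_mem_of_le_normalizer hAV a.2 v.2⟩ : V)
      map_one' := Finset.prod_eq_one fun a _ => Subtype.ext (by simp)
      map_mul' := fun u v => by
        rw [← Finset.prod_mul_distrib]
        refine Finset.prod_congr rfl fun a _ => Subtype.ext ?_
        simp only [Subgroup.coe_mul]
        group }
  have hker : ⁅V, A⁆ ≤ θ.ker.map V.subtype := by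
    rw [commutator_le]
    intro v hv b hb
    have hb' : b * v⁻¹ * b⁻¹ ∈ V := conj_mem_of_le_normalizer hAV hb (inv_mem hv)
    refine ⟨⟨v, hv⟩ * ⟨b * v⁻¹ * b⁻¹, hb'⟩, ?_, ?_⟩
    · rw [SetLike.mem_coe, MonoidHom.mem_ker, map_mul, mul_eq_one_iff_eq_inv, ← map_inv]
      refine Finset.prod_bij' (fun a _ => a * ⟨b, hb⟩⁻¹) (fun a _ => a * ⟨b, hb⟩)
        (fun _ _ => Finset.mem_univ _) (fun _ _ => Finset.mem_univ _)
        (fun a _ => inv_mul_cancel_right a _) (fun a _ => mul_inv_cancel_right a _) ?_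
      intro a _
      apply Subtype.ext
      simp only [Subgroup.coe_mul, Subgroup.coe_inv]
      group
    · simp only [Subgroup.subtype_apply, Subgroup.coe_mul, commutatorElement_def]
      group
  rw [eq_bot_iff]
  rintro x ⟨⟨hxV, hxC⟩, hxc⟩
  obtain ⟨w, hw, rfl⟩ := hker hxc
  have h1 : θ w = w ^ Nat.card A := by
    have : θ w = ∏ _a : A, w := by
      refine Finset.prod_congr rfl fun a _ => Subtype.ext ?_
      show (a : G) * w * (a : G)⁻¹ = w
      have := mem_centralizer_iff.mp hxC a a.2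
      rw [mul_inv_eq_iff_eq_mul]
      exact this
    rw [this, Finset.prod_const, Finset.card_univ, ← Nat.card_eq_fintype_card]
  rw [SetLike.mem_coe, MonoidHom.mem_ker, h1] at hw
  have h2 : w = 1 := by
    have := pow_gcd_eq_one.mpr ⟨hw, pow_card_eq_one' (x := w)⟩
    rwa [Nat.Coprime.gcd_eq_one hcop, pow_one] at this
  simp [h2]

end AbelianDecomp

end CfsgLib.Core
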