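import Cfsg.Agent.Lib.Core.Cores

/-!
# Minimal normal subgroups

* `exists_minimal_normal_le'`
* `commutative_of_minimal_normal`, `exists_prime_pow_eq_one_of_minimal_normal` (solvable minimal normal
  subgroups are elementary abelian), `isPGroup_of_minimal_normal`
-/

set_option autoImplicit false
set_option linter.all false

namespace CfsgLib.Core

open Cfsg

variable {G : Type*} [Group G]

theorem exists_minimal_normal_le' [Finite G] (N : Subgroup G) [N.Normal] (hN : N ≠ ⊥) :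
    ∃ M : Subgroup G, M.Normal ∧ M ≠ ⊥ ∧ M ≤ N ∧
      ∀ K : Subgroup G, K.Normal → K ≤ M → K = ⊥ ∨ K = M := by
  obtain ⟨M, ⟨hM1, hM2, hM3⟩, hmin⟩ := WellFounded.has_min (wellFounded_lt (α := Subgroup G))
    {M : Subgroup G | M.Normal ∧ M ≠ ⊥ ∧ M ≤ N} ⟨N, inferInstance, hN, le_rfl⟩
  refine ⟨M, hM1, hM2, hM3, fun K hK hKM => ?_⟩
  by_contra h
  push Not at h
  exact hmin K ⟨hK, h.1, hKM.trans hM3⟩ (lt_of_le_of_ne hKM h.2)

theorem isMulCommutative_iff_commutator_eq_bot {N : Subgroup G} :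
    IsMulCommutative N ↔ ⁅N, N⁆ = (⊥ : Subgroup G) := by
  rw [← Subgroup.le_centralizer_iff_isMulCommutative,
    Subgroup.commutator_eq_bot_iff_le_centralizer]

theorem commutator_self_lt {N : Subgroup G} (hs : Group.IsSolvable N) (hN : N ≠ ⊥) :
    ⁅N, N⁆ < N := by
  haveI : Nontrivial N := N.nontrivial_iff_ne_bot.mpr hN
  have h := Group.IsSolvable.commutator_lt_top_of_nontrivial N
  rw [← Subgroup.map_subtype_lt_map_subtype, ← MonoidHom.range_eq_map, N.range_subtype,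
    commutator_def, Subgroup.map_commutator, ← MonoidHom.range_eq_map, N.range_subtype] at h
  exact h

theorem commutative_of_minimal_normal (N : Subgroup G) [N.Normal] (hs : Group.IsSolvable N)
    (hN : N ≠ ⊥) (hmin : ∀ M : Subgroup G, M.Normal → M ≤ N → M = ⊥ ∨ M = N) :
    IsMulCommutative N := by
  have h := commutator_self_lt hs hN
  rcases hmin ⁅N, N⁆ inferInstance h.le with h' | h'
  · exact isMulCommutative_iff_commutator_eq_bot.mpr h'
  · exact absurd h' h.ne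

theorem exists_prime_pow_eq_one_of_minimal_normal [Finite G] (N : Subgroup G) [N.Normal]
    (hc : IsMulCommutative N) (hN : N ≠ ⊥)
    (hmin : ∀ M : Subgroup G, M.Normal → M ≤ N → M = ⊥ ∨ M = N) :
    ∃ p : ℕ, p.Prime ∧ ∀ x ∈ N, x ^ p = 1 := by
  obtain ⟨p, hp, hpd⟩ := Nat.exists_prime_and_dvd (n := Nat.card N)
    fun h => hN (Subgroup.card_eq_one.mp h)
  haveI := Fact.mk hp
  have hcomm : ∀ {a b : G}, a ∈ N → b ∈ N → Commute a b := fun {a b} ha hb =>
    congrArg Subtype.val (hc.is_comm.comm ⟨a, ha⟩ ⟨b, hb⟩)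
  let M : Subgroup G :=
    { carrier := {x | x ∈ N ∧ x ^ p = 1}
      mul_mem' := fun {a b} ha hb => ⟨N.mul_mem ha.1 hb.1, by
        rw [(hcomm ha.1 hb.1).mul_pow, ha.2, hb.2, one_mul]⟩
      one_mem' := ⟨N.one_mem, one_pow p⟩
      inv_mem' := fun {a} ha => ⟨N.inv_mem ha.1, by rw [inv_pow, ha.2, inv_one]⟩ }
  have hM : M.Normal := by
    refine ⟨fun x hx g => ⟨Subgroup.Normal.conj_mem inferInstance x hx.1 g, ?_⟩⟩
    rw [conj_pow, hx.2, mul_one, mul_inv_cancel]
  refine ⟨p, hp, ?_⟩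
  rcases hmin M hM fun x hx => hx.1 with h | h
  · obtain ⟨x, hx⟩ := exists_prime_orderOf_dvd_card' (G := N) p hpd
    have hxM : (x : G) ∈ M := ⟨x.2, by rw [← hx, ← Subgroup.orderOf_coe, pow_orderOf_eq_one]⟩
    rw [h, Subgroup.mem_bot] at hxM
    rw [← Subgroup.orderOf_coe, hxM, orderOf_one] at hx
    exact absurd hx.symm hp.ne_one
  · intro x hx
    rw [← h] at hx
    exact hx.2

theorem isPGroup_of_minimal_normal [Finite G] (N : Subgroup G) [N.Normal]
    (hs : Group.IsSolvable N) (hN : N ≠ ⊥)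
    (hmin : ∀ M : Subgroup G, M.Normal → M ≤ N → M = ⊥ ∨ M = N) :
    ∃ p : ℕ, p.Prime ∧ IsPGroup p N ∧ IsMulCommutative N ∧ ∀ x ∈ N, x ^ p = 1 := by
  have hc := commutative_of_minimal_normal N hs hN hmin
  obtain ⟨p, hp, hx⟩ := exists_prime_pow_eq_one_of_minimal_normal N hc hN hmin
  refine ⟨p, hp, fun x => ⟨1, ?_⟩, hc, hx⟩
  rw [pow_one]
  exact Subtype.ext (hx x x.2)

theorem exists_pCore_ne_bot [Finite G] [Nontrivial G] [Group.IsSolvable G] :
    ∃ p : ℕ, p.Prime ∧ pCore p G ≠ ⊥ := by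
  obtain ⟨M, hMn, hMb, -, hmin⟩ := exists_minimal_normal_le' (⊤ : Subgroup G) top_ne_bot
  obtain ⟨p, hp, hpg, -, -⟩ := isPGroup_of_minimal_normal M inferInstance hMb hmin
  exact ⟨p, hp, fun h => hMb (le_bot_iff.mp (h ▸ le_pCore hpg))⟩

end CfsgLib.Core
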