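import Cfsg.Agent.Lib.Core.MinNormal
import Mathlib.GroupTheory.SchurZassenhaus

/-!
# Conjugacy in the Schur-Zassenhaus theorem

* `exists_conj_complement_of_abelian`
* `exists_conj_complement` : complements of a normal Hall subgroup `N` are conjugate under `N`
  when `N` or `G / N` is solvable
* `exists_conj_eq_of_coprime` : the version inside a bigger group
-/

set_option autoImplicit false
set_option linter.all false

namespace CfsgLib.Core

open scoped Pointwise

open Cfsg Subgroup

universe u

variable {G : Type*} [Group G]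

section Abelian

open MulOpposite MulAction
open scoped IsMulCommutative

theorem exists_conj_complement_of_abelian [Finite G] (A : Subgroup G) [A.Normal] [IsMulCommutative A]
    (hA : (Nat.card A).Coprime A.index) {H K : Subgroup G}
    (hH : IsComplement' A H) (hK : IsComplement' A K) : ∃ a ∈ A, MulAut.conj a • H = K := by
  have key : ∀ {L : Subgroup G}, IsComplement' A L →
      ∃ α : A.QuotientDiff, MulAction.stabilizer G α = L := by
    intro L hL
    let S : A.LeftTransversal := ⟨(L : Set G), hL.symm⟩
    let α : A.QuotientDiff := Quotient.mk'' S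
    refine ⟨α, Eq.symm ?_⟩
    have hle : L ≤ MulAction.stabilizer G α := by
      intro g hg
      rw [MulAction.mem_stabilizer_iff]
      refine congrArg Quotient.mk'' (Subtype.ext ?_)
      exact op_smul_coe_set (L.inv_mem hg)
    refine Subgroup.eq_of_le_of_card_ge hle (le_of_eq ?_)
    have h1 := hL.card_mul
    have h2 := (isComplement'_stabilizer_of_coprime (α := α) hA).card_mul
    exact Nat.eq_of_mul_eq_mul_left Nat.card_pos (h2.trans h1.symm)
  obtain ⟨α, hα⟩ := key hH
  obtain ⟨β, hβ⟩ := key hK
  obtain ⟨a, ha⟩ := exists_smul_eq hA α β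
  refine ⟨a, a.2, ?_⟩
  rw [← hα, ← hβ, ← ha, conj_smul_eq_map]
  exact (MulAction.stabilizer_smul_eq_stabilizer_map_conj (a : G) α).symm

end Abelian

/-- Complements intersected with a subgroup containing the normal subgroup. -/
theorem isComplement'_subgroupOf [Finite G] {N H L : Subgroup G} [N.Normal] (hNL : N ≤ L)
    (hH : IsComplement' N H) : IsComplement' (N.subgroupOf L) (H.subgroupOf L) := by
  refine isComplement'_of_disjoint_and_mul_eq_univ ?_ ?_
  · rw [disjoint_iff, eq_bot_iff]
    rintro x ⟨hxN, hxH⟩
    have := hH.disjoint.le_bot ⟨mem_subgroupOf.mp hxN, mem_subgroupOf.mp hxH⟩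
    exact mem_bot.mpr (Subtype.ext (mem_bot.mp this))
  · refine Set.eq_univ_of_forall fun x => ?_
    obtain ⟨⟨n, h⟩, hnh, -⟩ := hH.existsUnique (x : G)
    simp only at hnh
    have hh : (h : G) ∈ L := by
      have : (h : G) = (n : G)⁻¹ * x := by rw [← hnh, inv_mul_cancel_left]
      rw [this]
      exact L.mul_mem (L.inv_mem (hNL n.2)) x.2
    exact ⟨⟨n, hNL n.2⟩, mem_subgroupOf.mpr n.2, ⟨h, hh⟩, mem_subgroupOf.mpr h.2, Subtype.ext hnh⟩

theorem conj_smul_eq_of_subgroupOf {H K L : Subgroup G} (hH : H ≤ L) (hK : K ≤ L) (g : L)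
    (h : MulAut.conj g • H.subgroupOf L = K.subgroupOf L) : MulAut.conj (g : G) • H = K := by
  rw [conj_smul_subgroupOf hH g] at h
  have := congrArg (Subgroup.map L.subtype) h
  rwa [map_subgroupOf_eq_of_le (conj_smul_le_of_le hH g), map_subgroupOf_eq_of_le hK] at this

/-- An `N`-element conjugation, from an arbitrary one. -/
theorem exists_conj_mem_of_conj {N H K : Subgroup G} [N.Normal] (hH : IsComplement' N H) {g : G}
    (hg : MulAut.conj g • H = K) : ∃ n ∈ N, MulAut.conj n • H = K := by
  obtain ⟨⟨n, h⟩, hnh, -⟩ := hH.existsUnique g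
  simp only at hnh
  refine ⟨n, n.2, ?_⟩
  rw [← hg, ← hnh, ← conj_smul_conj_smul, conj_smul_eq_self_of_mem h.2]

theorem card_map_complement {M N H : Subgroup G} [M.Normal] (hMN : M ≤ N)
    (hd : H ⊓ N = ⊥) : Nat.card (H.map (QuotientGroup.mk' M)) = Nat.card H := by
  rw [card_map_mk', ← Subgroup.inf_relIndex_right]
  rw [show M ⊓ H = ⊥ from le_bot_iff.mp (hd ▸ le_inf inf_le_right (inf_le_left.trans hMN))]
  exact Subgroup.relIndex_bot_left H

theorem isComplement'_map [Finite G] {M N H : Subgroup G} [N.Normal] [M.Normal] (hMN : M ≤ N)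
    (hN : (Nat.card N).Coprime N.index) (hH : IsComplement' N H) :
    IsComplement' (N.map (QuotientGroup.mk' M)) (H.map (QuotientGroup.mk' M)) := by
  have hd : H ⊓ N = ⊥ := disjoint_iff.mp hH.symm.disjoint
  refine isComplement'_of_coprime ?_ ?_
  · apply Nat.eq_of_mul_eq_mul_left (Nat.card_pos (α := M))
    rw [← mul_assoc, card_mul_card_map_mk' M N hMN, card_map_complement hMN hd, hH.card_mul,
      Subgroup.card_eq_card_quotient_mul_card_subgroup M, mul_comm]
  · rw [card_map_complement hMN hd, ← hH.symm.index_eq_card]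
    exact hN.coprime_dvd_left (N.card_map_dvd _)

theorem isSolvable_of_le {H K : Subgroup G} (hs : Group.IsSolvable K) (h : H ≤ K) :
    Group.IsSolvable H :=
  Group.isSolvable_of_isSolvable_injective (Subgroup.inclusion_injective h)

theorem isSolvable_map {H : Type*} [Group H] (f : G →* H) {N : Subgroup G}
    (hs : Group.IsSolvable N) : Group.IsSolvable (N.map f) :=
  Group.isSolvable_of_surjective (f.subgroupMap_surjective N)

theorem isSolvable_subgroupOf {H L : Subgroup G} (hs : Group.IsSolvable H) :
    Group.IsSolvable (H.subgroupOf L) :=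
  Group.isSolvable_of_isSolvable_injective (f := (L.subtype.subgroupComap H))
    fun _ _ h => Subtype.ext (Subtype.ext (congrArg (fun z : H => (z : G)) h))

private theorem conjugacy_aux (n : ℕ) :
    ∀ (G : Type u) [Group G] [Finite G], Nat.card G = n →
      ∀ (N : Subgroup G) [N.Normal], (Nat.card N).Coprime N.index →
      ∀ H K : Subgroup G, IsComplement' N H → IsComplement' N K →
        (Group.IsSolvable N ∨ Group.IsSolvable H) → ∃ g ∈ N, MulAut.conj g • H = K := by
  induction n using Nat.strongRecOn with
  | ind n ih =>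
    intro G _ _ hG N _ hN H K hH hK hsolv
    subst hG
    have hdH : H ⊓ N = ⊥ := disjoint_iff.mp hH.symm.disjoint
    have hdK : K ⊓ N = ⊥ := disjoint_iff.mp hK.symm.disjoint
    have hiH : N.index = Nat.card H := hH.symm.index_eq_card
    have hiK : N.index = Nat.card K := hK.symm.index_eq_card
    by_cases hNb : N = ⊥
    · subst hNb
      exact ⟨1, one_mem _, by rw [isComplement'_bot_left.mp hH, isComplement'_bot_left.mp hK,
        conj_one_smul]⟩
    rcases hsolv with hNs | hHs
    · -- the solvable kernel: pass to `G / [N,N]`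
      by_cases hc : IsMulCommutative N
      · haveI := hc
        exact exists_conj_complement_of_abelian N hN hH hK
      have hlt := commutator_self_lt hNs hNb
      have hMb : ⁅N, N⁆ ≠ ⊥ := fun h => hc (isMulCommutative_iff_commutator_eq_bot.mpr h)
      generalize hM : ⁅N, N⁆ = M at hlt hMb
      haveI : M.Normal := hM ▸ Subgroup.commutator_normal N N
      haveI := Subgroup.Normal.map (inferInstance : N.Normal) _ (QuotientGroup.mk'_surjective M)
      obtain ⟨gbar, -, hgbar⟩ := ih _ (card_quotient_lt M hMb) (G ⧸ M) rfl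
        (N.map (QuotientGroup.mk' M))
        (by rw [index_map_mk' M N hlt.le]; exact hN.coprime_dvd_left (N.card_map_dvd _))
        _ _ (isComplement'_map hlt.le hN hH) (isComplement'_map hlt.le hN hK)
        (Or.inl (isSolvable_map _ hNs))
      obtain ⟨g, rfl⟩ := QuotientGroup.mk'_surjective M gbar
      have hL : MulAut.conj g • H ≤ K ⊔ M := by
        intro x hx
        rw [mem_conj_smul_iff] at hx
        have : QuotientGroup.mk' M x ∈ K.map (QuotientGroup.mk' M) := by
          rw [← hgbar, mem_conj_smul_iff]
          exact ⟨_, hx, by simp⟩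
        rw [← Subgroup.mem_comap, comap_map_eq, QuotientGroup.ker_mk'] at this
        exact this
      have hcM : (Nat.card K).Coprime (Nat.card M) :=
        hiK ▸ (hN.coprime_dvd_left (Subgroup.card_dvd_of_le hlt.le)).symm
      have hcardL : Nat.card (K ⊔ M : Subgroup G) = Nat.card K * Nat.card M :=
        card_sup_of_coprime K M (le_normalizer_of_normal K M) hcM
      have hLlt : Nat.card (K ⊔ M : Subgroup G) < Nat.card G := by
        rw [hcardL, ← hK.card_mul, mul_comm]
        refine Nat.mul_lt_mul_of_pos_right ?_ Nat.card_pos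
        exact Set.Finite.card_lt_card (Set.toFinite _) hlt
      have hcompl : ∀ X : Subgroup G, X ≤ K ⊔ M → Nat.card X = Nat.card K →
          IsComplement' (M.subgroupOf (K ⊔ M)) (X.subgroupOf (K ⊔ M)) := by
        intro X hX hXc
        refine isComplement'_of_coprime ?_ ?_ <;>
          rw [Nat.card_congr (subgroupOfEquivOfLe (le_sup_right : M ≤ K ⊔ M)).toEquiv,
            Nat.card_congr (subgroupOfEquivOfLe hX).toEquiv, hXc]
        · rw [hcardL, mul_comm]
        · exact hcM.symm
      have hc1 := hcompl _ hL ((card_conj_smul g H).trans (hiH.symm.trans hiK))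
      obtain ⟨l, -, hl⟩ := ih _ hLlt (K ⊔ M : Subgroup G) rfl (M.subgroupOf (K ⊔ M))
        (by
          rw [hc1.symm.index_eq_card, Nat.card_congr (subgroupOfEquivOfLe hL).toEquiv,
            card_conj_smul, ← hiH, Nat.card_congr (subgroupOfEquivOfLe
              (le_sup_right : M ≤ K ⊔ M)).toEquiv]
          exact hN.coprime_dvd_left (Subgroup.card_dvd_of_le hlt.le))
        _ _ hc1 (hcompl K le_sup_left rfl)
        (Or.inl (isSolvable_subgroupOf (isSolvable_of_le hNs hlt.le)))
      exact exists_conj_mem_of_conj hH (g := (l : G) * g) (by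
        rw [← conj_smul_conj_smul]
        exact conj_smul_eq_of_subgroupOf hL le_sup_left l hl)
    · -- the solvable quotient: use a minimal normal subgroup of `G / N`
      by_cases hNt : N = ⊤
      · subst hNt
        exact ⟨1, one_mem _, by rw [isComplement'_top_left.mp hH, isComplement'_top_left.mp hK,
          conj_one_smul]⟩
      haveI : Group.IsSolvable (G ⧸ N) := by
        refine Group.isSolvable_of_surjective (f := (QuotientGroup.mk' N).comp H.subtype)
          fun q => ?_
        obtain ⟨x, rfl⟩ := QuotientGroup.mk'_surjective N q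
        obtain ⟨⟨m, h⟩, hnh, -⟩ := hH.existsUnique x
        refine ⟨h, ?_⟩
        simp only at hnh
        simp [← hnh]
      haveI : Nontrivial (G ⧸ N) := QuotientGroup.nontrivial_iff.mpr hNt
      obtain ⟨p, hp, hX⟩ := exists_pCore_ne_bot (G := G ⧸ N)
      haveI := Fact.mk hp
      have hXp : IsPGroup p (pCore p (G ⧸ N)) := isPGroup_pCore p _
      generalize hM : (pCore p (G ⧸ N)).comap (QuotientGroup.mk' N) = M
      haveI : M.Normal := hM ▸ Subgroup.Normal.comap inferInstance _
      have hNM : N ≤ M := hM ▸ QuotientGroup.le_comap_mk' N _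
      have hcard : Nat.card M = Nat.card N * Nat.card (pCore p (G ⧸ N)) := hM ▸ card_comap_mk' N _
      have hpN : ¬ p ∣ Nat.card N := by
        intro hd
        obtain ⟨k, hk⟩ := IsPGroup.iff_card.mp hXp
        have hk0 : k ≠ 0 := fun h => hX (Subgroup.card_eq_one.mp (by rw [hk, h, pow_zero]))
        have : p ∣ N.index := by
          rw [index_eq_card]
          exact ((dvd_pow_self p hk0).trans hk.symm.dvd).trans (card_subgroup_dvd_card _)
        exact hp.ne_one (Nat.eq_one_of_dvd_coprimes hN hd this)
      have hsyl : ∀ {L : Subgroup G}, IsComplement' N L →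
          Nat.card (L.subgroupOf M) = Nat.card (pCore p (G ⧸ N)) ∧
            ∃ P : Sylow p M, (P : Subgroup M) = L.subgroupOf M := by
        intro L hL
        have hc := isComplement'_subgroupOf hNM hL
        have hcN : Nat.card (N.subgroupOf M) = Nat.card N :=
          Nat.card_congr (subgroupOfEquivOfLe hNM).toEquiv
        have h2 : Nat.card (L.subgroupOf M) = Nat.card (pCore p (G ⧸ N)) := by
          have := hc.card_mul
          rw [hcN, hcard] at this
          exact Nat.eq_of_mul_eq_mul_left Nat.card_pos this
        obtain ⟨k, hk⟩ := IsPGroup.iff_card.mp hXp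
        exact ⟨h2, (IsPGroup.of_card (h2.trans hk)).toSylow
          (by rw [hc.index_eq_card, hcN]; exact hpN), rfl⟩
      obtain ⟨hcP, PH, hPH⟩ := hsyl hH
      obtain ⟨-, PK, hPK⟩ := hsyl hK
      obtain ⟨g, hg⟩ := MulAction.exists_smul_eq M PH PK
      have hg' : MulAut.conj (g : G) • (H ⊓ M) = K ⊓ M := by
        refine conj_smul_eq_of_subgroupOf inf_le_right inf_le_right g ?_
        rw [inf_subgroupOf_right, inf_subgroupOf_right, ← hPH, ← hPK, ← hg]
        rfl
      generalize hH' : MulAut.conj (g : G) • H = H'
      have hinf : H' ⊓ M = K ⊓ M := by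
        rw [← hg', smul_inf, Normal.conj_smul_eq_self (g : G) M, hH']
      have hH'c : Nat.card H' = Nat.card H := hH' ▸ card_conj_smul _ H
      have hcH' : IsComplement' N H' := by
        refine isComplement'_of_coprime ?_ ?_ <;> rw [hH'c]
        · exact hH.card_mul
        · exact hiH ▸ hN
      have hiH' : N.index = Nat.card H' := hcH'.symm.index_eq_card
      have hH's : Group.IsSolvable H' := by
        rw [← hH']
        exact isSolvable_map _ hHs
      generalize hP : K ⊓ M = P at hinf hg'
      have hPH' : P ≤ H' := hinf ▸ inf_le_left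
      have hPK : P ≤ K := hP ▸ inf_le_left
      have hPb : P ≠ ⊥ := by
        intro h
        rw [← hg', ← Subgroup.card_eq_one, card_conj_smul,
          ← Nat.card_congr (subgroupOfEquivOfLe (inf_le_right : H ⊓ M ≤ M)).toEquiv,
          inf_subgroupOf_right, hcP, Subgroup.card_eq_one] at h
        exact hX h
      have hnH : H' ≤ normalizer (P : Set G) := by
        rw [le_normalizer_iff]
        intro a ha x hx
        rw [← hinf] at hx ⊢
        exact ⟨H'.mul_mem (H'.mul_mem ha hx.1) (H'.inv_mem ha),
          Normal.conj_mem inferInstance x hx.2 a⟩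
      have hnK : K ≤ normalizer (P : Set G) := by
        rw [le_normalizer_iff]
        intro a ha x hx
        rw [← hP] at hx ⊢
        exact ⟨K.mul_mem (K.mul_mem ha hx.1) (K.inv_mem ha),
          Normal.conj_mem inferInstance x hx.2 a⟩
      suffices ∃ g' : G, MulAut.conj g' • H' = K by
        obtain ⟨g', hg''⟩ := this
        exact exists_conj_mem_of_conj hH (g := g' * g) (by rw [← conj_smul_conj_smul, hH', hg''])
      by_cases hL : normalizer (P : Set G) = ⊤
      · haveI : P.Normal := normalizer_eq_top_iff.mp hL
        haveI := Subgroup.Normal.map (inferInstance : N.Normal) _ (QuotientGroup.mk'_surjective P)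
        let π := QuotientGroup.mk' P
        have hdN : N ⊓ P = ⊥ :=
          le_bot_iff.mp (hdK ▸ le_inf (inf_le_right.trans hPK) inf_le_left)
        have hcNb : Nat.card (N.map π) = Nat.card N := by
          rw [card_map_mk', ← Subgroup.inf_relIndex_right, inf_comm, hdN, relIndex_bot_left]
        have hcompl : ∀ X : Subgroup G, P ≤ X → IsComplement' N X →
            IsComplement' (N.map π) (X.map π) := by
          intro X hPX hX
          refine isComplement'_of_coprime ?_ ?_
          · apply Nat.eq_of_mul_eq_mul_left (Nat.card_pos (α := P))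
            rw [mul_left_comm, card_mul_card_map_mk' P X hPX, hcNb, hX.card_mul,
              Subgroup.card_eq_card_quotient_mul_card_subgroup P, mul_comm]
          · rw [hcNb]
            exact (hX.symm.index_eq_card ▸ hN).coprime_dvd_right (X.card_map_dvd _)
        obtain ⟨g', -, hg''⟩ := ih _ (card_quotient_lt P hPb) (G ⧸ P) rfl (N.map π)
          (by rw [hcNb]; exact hN.coprime_dvd_right (index_map_dvd N (QuotientGroup.mk'_surjective P)))
          _ _ (hcompl H' hPH' hcH') (hcompl K hPK hK) (Or.inr (isSolvable_map _ hH's))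
        obtain ⟨g', rfl⟩ := QuotientGroup.mk'_surjective P g'
        refine ⟨g', Subgroup.eq_of_le_of_card_ge (fun x hx => ?_) ?_⟩
        · rw [mem_conj_smul_iff] at hx
          have : π x ∈ K.map π := by
            rw [← hg'', mem_conj_smul_iff]
            exact ⟨_, hx, by simp [π]⟩
          rw [← Subgroup.mem_comap, comap_map_eq, QuotientGroup.ker_mk', sup_eq_left.mpr hPK] at this
          exact this
        · rw [card_conj_smul, ← hiH', hiK]
      · generalize hLdef : normalizer (P : Set G) = L at hnH hnK hL
        have hLlt := card_subgroup_lt L hL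
        have hcompl : ∀ X : Subgroup G, X ≤ L → IsComplement' N X →
            IsComplement' (N.subgroupOf L) (X.subgroupOf L) := by
          intro X hXL hX
          refine isComplement'_of_disjoint_and_mul_eq_univ ?_ ?_
          · rw [disjoint_iff, eq_bot_iff]
            rintro x ⟨hxN, hxX⟩
            exact mem_bot.mpr (Subtype.ext (mem_bot.mp
              (hX.disjoint.le_bot ⟨mem_subgroupOf.mp hxN, mem_subgroupOf.mp hxX⟩)))
          · refine Set.eq_univ_of_forall fun x => ?_
            obtain ⟨⟨m, h⟩, hnh, -⟩ := hX.existsUnique (x : G)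
            simp only at hnh
            have hm : (m : G) ∈ L := by
              have : (m : G) = x * (h : G)⁻¹ := by rw [← hnh, mul_inv_cancel_right]
              rw [this]
              exact L.mul_mem x.2 (L.inv_mem (hXL h.2))
            exact ⟨⟨m, hm⟩, mem_subgroupOf.mpr m.2, ⟨h, hXL h.2⟩, mem_subgroupOf.mpr h.2,
              Subtype.ext hnh⟩
        have hc1 := hcompl H' hnH hcH'
        obtain ⟨l, -, hl⟩ := ih _ hLlt L rfl (N.subgroupOf L)
          (by
            rw [hc1.symm.index_eq_card, Nat.card_congr (subgroupOfEquivOfLe hnH).toEquiv, ← hiH']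
            exact hN.coprime_dvd_left (card_comap_dvd_of_injective N L.subtype L.subtype_injective))
          _ _ hc1 (hcompl K hnK hK) (Or.inr (isSolvable_subgroupOf hH's))
        exact ⟨l, conj_smul_eq_of_subgroupOf hnH hnK l hl⟩

/-- Conjugacy half of the Schur-Zassenhaus theorem. -/
theorem exists_conj_complement [Finite G] (N : Subgroup G) [N.Normal]
    (hN : (Nat.card N).Coprime N.index) (hsolv : Group.IsSolvable N ∨ Group.IsSolvable (G ⧸ N))
    {H K : Subgroup G} (hH : IsComplement' N H) (hK : IsComplement' N K) :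
    ∃ n ∈ N, MulAut.conj n • H = K := by
  refine conjugacy_aux _ G rfl N hN H K hH hK (hsolv.imp id fun h => ?_)
  haveI := h
  refine Group.isSolvable_of_isSolvable_injective (f := (QuotientGroup.mk' N).comp H.subtype) ?_
  rw [injective_iff_map_eq_one]
  intro x hx
  exact Subtype.ext (mem_bot.mp (hH.disjoint.le_bot
    ⟨(QuotientGroup.eq_one_iff _).mp hx, x.2⟩))

/-- Conjugacy of coprime complements inside a larger group. -/
theorem exists_conj_eq_of_coprime [Finite G] {N H K : Subgroup G}
    (hH : H ≤ normalizer (N : Set G)) (hK : K ≤ H ⊔ N) (hcard : Nat.card K = Nat.card H)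
    (hcop : (Nat.card H).Coprime (Nat.card N))
    (hsolv : Group.IsSolvable N ∨ Group.IsSolvable H) : ∃ n ∈ N, MulAut.conj n • H = K := by
  haveI : (N.subgroupOf (H ⊔ N)).Normal :=
    normal_subgroupOf_of_le_normalizer (sup_le hH le_normalizer)
  have hcardL := card_sup_of_coprime H N hH hcop
  have hcompl : ∀ X : Subgroup G, X ≤ H ⊔ N → Nat.card X = Nat.card H →
      IsComplement' (N.subgroupOf (H ⊔ N)) (X.subgroupOf (H ⊔ N)) := by
    intro X hX hXc
    refine isComplement'_of_coprime ?_ ?_ <;>
      rw [Nat.card_congr (subgroupOfEquivOfLe (le_sup_right : N ≤ H ⊔ N)).toEquiv,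
        Nat.card_congr (subgroupOfEquivOfLe hX).toEquiv, hXc]
    · rw [hcardL, mul_comm]
    · exact hcop.symm
  have hc1 := hcompl H le_sup_left rfl
  obtain ⟨n, hn, h⟩ := conjugacy_aux _ (H ⊔ N : Subgroup G) rfl (N.subgroupOf (H ⊔ N))
    (by
      rw [hc1.symm.index_eq_card, Nat.card_congr (subgroupOfEquivOfLe le_sup_left).toEquiv,
        Nat.card_congr (subgroupOfEquivOfLe (le_sup_right : N ≤ H ⊔ N)).toEquiv]
      exact hcop.symm)
    _ _ hc1 (hcompl K hK hcard) (hsolv.imp isSolvable_subgroupOf isSolvable_subgroupOf)
  exact ⟨n, mem_subgroupOf.mp hn, conj_smul_eq_of_subgroupOf le_sup_left hK n h⟩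

end CfsgLib.Core
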