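import Cfsg.Agent.Lib.Core.Hall
import Cfsg.Agent.Lib.Components.FStar

/-!
# Structure of solvable groups

* `centralizer_pCore_le_of_pPrimeCore_eq_bot`, `sylow_sup_pPrimeCore_normal_of_abelian`
* `isPrimePow_index_of_isCoatom`
* `abelian_minimal_normal_complemented_iff`
-/

set_option autoImplicit false
set_option linter.all false

namespace CfsgLib.Core

open scoped Pointwise

open Cfsg Subgroup

universe u

variable {G : Type u} [Group G] [Finite G]

theorem pCore_le_pPrimeCore_of_ne {p q : ℕ} (hp : p.Prime) (hq : q.Prime) (hne : q ≠ p) :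
    pCore q G ≤ pPrimeCore p G := by
  haveI := Fact.mk hq
  obtain ⟨n, hn⟩ := IsPGroup.iff_card.mp (isPGroup_pCore q G)
  exact le_pPrimeCore (hn ▸ ((Nat.coprime_primes hq hp).mpr hne).pow_left n)

theorem fittingSubgroup_eq_pCore_of_pPrimeCore_eq_bot {p : ℕ} [hp : Fact p.Prime]
    (h : pPrimeCore p G = ⊥) : fittingSubgroup G = pCore p G := by
  refine le_antisymm ?_ (pCore_le_fittingSubgroup p)
  rw [fittingSubgroup_eq_iSup_pCore]
  refine iSup_le fun q => ?_
  by_cases hq : (q : ℕ) = p
  · rw [hq]
  · exact (pCore_le_pPrimeCore_of_ne hp.out q.2 hq).trans (h ▸ bot_le)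

theorem centralizer_pCore_le_of_pPrimeCore_eq_bot [Group.IsSolvable G] {p : ℕ} [Fact p.Prime]
    (h : pPrimeCore p G = ⊥) : centralizer (pCore p G : Set G) ≤ pCore p G := by
  rw [← fittingSubgroup_eq_pCore_of_pPrimeCore_eq_bot h]
  exact Components.centralizer_fitting_le_of_isSolvable

theorem sylow_sup_pPrimeCore_normal_of_abelian [Group.IsSolvable G] {p : ℕ} [Fact p.Prime]
    (P : Sylow p G) (hP : IsMulCommutative P) :
    ((P : Subgroup G) ⊔ pPrimeCore p G).Normal := by
  let π := QuotientGroup.mk' (pPrimeCore p G)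
  let Pb := P.mapSurjective (QuotientGroup.mk'_surjective (pPrimeCore p G))
  have hab : IsMulCommutative (Pb : Subgroup (G ⧸ pPrimeCore p G)) := by
    refine ⟨⟨?_⟩⟩
    rintro ⟨_, a, ha, rfl⟩ ⟨_, b, hb, rfl⟩
    apply Subtype.ext
    simp only [Subgroup.coe_mul, ← map_mul]
    exact congrArg _ (congrArg Subtype.val (hP.is_comm.comm ⟨a, ha⟩ ⟨b, hb⟩))
  have hle : (Pb : Subgroup (G ⧸ pPrimeCore p G)) ≤ pCore p (G ⧸ pPrimeCore p G) := by
    refine le_trans ?_
      (centralizer_pCore_le_of_pPrimeCore_eq_bot (pPrimeCore_quotient_pPrimeCore p G))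
    exact (Subgroup.le_centralizer_iff_isMulCommutative.mpr hab).trans
      (centralizer_le (pCore_le_sylow Pb))
  have heq := le_antisymm hle (pCore_le_sylow Pb)
  have hsup : (P : Subgroup G) ⊔ pPrimeCore p G =
      (pCore p (G ⧸ pPrimeCore p G)).comap π := by
    rw [← heq, Sylow.coe_mapSurjective, comap_map_eq, QuotientGroup.ker_mk']
  rw [hsup]
  exact Subgroup.Normal.comap inferInstance π

private theorem coatom_aux (n : ℕ) :
    ∀ (G : Type u) [Group G] [Finite G] [Group.IsSolvable G], Nat.card G = n →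
      ∀ M : Subgroup G, IsCoatom M → IsPrimePow M.index := by
  induction n using Nat.strongRecOn with
  | ind n ih =>
    intro G _ _ _ hG M hM
    subst hG
    haveI : Nontrivial G := by
      by_contra h
      rw [not_nontrivial_iff_subsingleton] at h
      exact hM.1 (Subsingleton.elim M ⊤)
    obtain ⟨N, hNn, hNb, -, hmin⟩ := exists_minimal_normal_le' (⊤ : Subgroup G) top_ne_bot
    by_cases hNM : N ≤ M
    · let π := QuotientGroup.mk' N
      have hcm : (M.map π).comap π = M := comap_map_eq_self (by rwa [QuotientGroup.ker_mk'])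
      rw [← index_map_mk' N M hNM]
      refine ih _ (card_quotient_lt N hNb) (G ⧸ N) rfl _ ⟨fun h => hM.1 ?_, fun X hX => ?_⟩
      · rw [← hcm, h, comap_top]
      · have hlt : M < X.comap π := by
          rw [← hcm]
          exact (comap_lt_comap_of_surjective (QuotientGroup.mk'_surjective N)).mpr hX
        rw [← map_comap_eq_self_of_surjective (QuotientGroup.mk'_surjective N) X,
          hM.2 _ hlt, map_top_of_surjective _ (QuotientGroup.mk'_surjective N)]
    · obtain ⟨p, hp, hNp, -, -⟩ := isPGroup_of_minimal_normal N inferInstance hNb hmin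
      haveI := Fact.mk hp
      obtain ⟨e, he⟩ := IsPGroup.iff_card.mp hNp
      have htop : M ⊔ N = ⊤ :=
        hM.2 _ (lt_of_le_of_ne le_sup_left fun h => hNM (h ▸ le_sup_right))
      have hd : M.index ∣ p ^ e := by
        have h := card_sup_dvd M N (le_normalizer_of_normal M N)
        rw [htop, Subgroup.card_top, ← M.card_mul_index, Nat.mul_dvd_mul_iff_left Nat.card_pos, he] at h
        exact h
      obtain ⟨i, -, hi⟩ := (Nat.dvd_prime_pow hp).mp hd
      rw [hi]
      exact hp.isPrimePow.pow fun h => hM.1 (index_eq_one.mp (by rw [hi, h, pow_zero]))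

theorem isPrimePow_index_of_isCoatom [Group.IsSolvable G] {M : Subgroup G} (hM : IsCoatom M) :
    IsPrimePow M.index :=
  coatom_aux _ G rfl M hM

theorem abelian_minimal_normal_complemented_iff (N : Subgroup G) [N.Normal] [IsMulCommutative N]
    (hN : N ≠ ⊥) (hmin : ∀ M : Subgroup G, M.Normal → M ≤ N → M = ⊥ ∨ M = N) :
    (∃ H : Subgroup G, IsComplement' N H) ↔ ¬ N ≤ frattini G := by
  constructor
  · rintro ⟨H, hH⟩ hle
    have : H = ⊤ := by
      refine frattini_nongenerating (top_unique ?_)
      rw [← hH.symm.sup_eq_top]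
      exact sup_le_sup le_rfl hle
    exact hN (disjoint_top.mp (this ▸ hH.disjoint))
  · intro h
    have hex : ∃ M : Subgroup G, IsCoatom M ∧ ¬ N ≤ M := by
      by_contra hc
      push Not at hc
      exact h (le_iInf₂ hc)
    obtain ⟨M, hM, hNM⟩ := hex
    have htop : M ⊔ N = ⊤ :=
      hM.2 _ (lt_of_le_of_ne le_sup_left fun h => hNM (h ▸ le_sup_right))
    have hn : (M ⊓ N).Normal := by
      rw [← normalizer_eq_top_iff, ← top_le_iff, ← htop]
      refine sup_le ?_ ?_
      · exact (le_inf le_normalizer (le_normalizer_of_normal M N)).trans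
          inf_normalizer_le_normalizer_inf
      · have hc : N ≤ centralizer (N : Set G) :=
          Subgroup.le_centralizer_iff_isMulCommutative.mpr inferInstance
        exact (hc.trans (centralizer_le inf_le_right)).trans (centralizer_le_normalizer _)
    rcases hmin _ hn inf_le_right with h0 | h0
    · refine ⟨M, (isComplement'_of_card_mul_and_disjoint ?_ (disjoint_iff.mpr h0)).symm⟩
      rw [← card_sup_of_disjoint M N (le_normalizer_of_normal M N) h0, htop, Subgroup.card_top]
    · exact absurd (h0 ▸ inf_le_left : N ≤ M) hNM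

end CfsgLib.Core
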