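import Cfsg.Agent.Lib.Core.Cores
import Cfsg.Agent.Lib.Core.SchurZassenhaus
import Cfsg.Agent.Lib.Core.MinNormal
import Cfsg.Agent.Lib.Core.SolvableStruct
import Cfsg.Agent.Lib.Core.Coprime

/-!
# Carter subgroups

* `nilpotent_split`, `commute_of_inf_eq_bot`
* `exists_carter`, `carter_conj`
-/

set_option autoImplicit false
set_option linter.all false

universe u

namespace CfsgLib.Core.Carter

open scoped Pointwise

open Subgroup

variable {G : Type u} [Group G]

theorem commute_of_inf_eq_bot {H K : Subgroup G} (hH : H ≤ normalizer (K : Set G))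
    (hK : K ≤ normalizer (H : Set G)) (hd : H ⊓ K = ⊥) :
    ∀ h ∈ H, ∀ k ∈ K, h * k = k * h := by
  intro h hh k hk
  have h1 : h * k * h⁻¹ * k⁻¹ ∈ H ⊓ K :=
    ⟨by simpa [mul_assoc] using H.mul_mem hh (conj_mem_of_le_normalizer hK hk (H.inv_mem hh)),
      K.mul_mem (conj_mem_of_le_normalizer hH hh hk) (K.inv_mem hk)⟩
  rw [hd, mem_bot, mul_inv_eq_one, mul_inv_eq_iff_eq_mul] at h1
  exact h1

theorem inf_eq_bot_of_coprime {p : ℕ} [Fact p.Prime] [Finite G] {S P : Subgroup G}
    (hS : (Nat.card S).Coprime p) (hP : IsPGroup p P) : S ⊓ P = ⊥ := by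
  obtain ⟨i, hi⟩ := IsPGroup.iff_card.mp hP
  exact Subgroup.inf_eq_bot_of_coprime (hi ▸ hS.pow_right i)

/-- A nilpotent group is the product of its `p`-core and its `p'`-core. -/
theorem pCore_sup_pPrimeCore [Finite G] [Group.IsNilpotent G] (p : ℕ) (hp : p.Prime) :
    Cfsg.pCore p G ⊔ Cfsg.pPrimeCore p G = ⊤ := by
  rw [eq_top_iff, ← fittingSubgroup_eq_top (G := G), fittingSubgroup_eq_finset_sup]
  refine Finset.sup_le fun q hq => ?_
  by_cases h : q = p
  · exact h ▸ le_sup_left
  · exact (pCore_le_pPrimeCore_of_ne hp (Nat.prime_of_mem_primeFactors hq) h).trans le_sup_right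

theorem nilpotent_split [Finite G] {C : Subgroup G} [Group.IsNilpotent C] (p : ℕ)
    [hp : Fact p.Prime] :
    ∃ S P : Subgroup G, S ≤ C ∧ P ≤ C ∧ (Nat.card S).Coprime p ∧ IsPGroup p P ∧
      (∀ s ∈ S, ∀ x ∈ P, s * x = x * s) ∧ C ≤ normalizer (S : Set G) ∧
      (∀ c ∈ C, ∃ s ∈ S, ∃ x ∈ P, c = s * x) ∧
      ∀ c ∈ C, (orderOf c).Coprime p → c ∈ S := by
  have hsplit : ∀ c : C, ∃ s ∈ Cfsg.pPrimeCore p C, ∃ x ∈ Cfsg.pCore p C, c = s * x := by
    intro c
    have h : c ∈ Cfsg.pPrimeCore p C ⊔ Cfsg.pCore p C := by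
      rw [sup_comm, pCore_sup_pPrimeCore p hp.out]; exact mem_top c
    obtain ⟨s, hs, x, hx, h'⟩ := (mem_sup_iff_mul (CfsgLib.Core.le_normalizer_of_normal _ _)).mp h
    exact ⟨s, hs, x, hx, h'⟩
  have hcomm : ∀ s ∈ Cfsg.pPrimeCore p C, ∀ x ∈ Cfsg.pCore p C, s * x = x * s :=
    commute_of_inf_eq_bot (le_normalizer_of_normal _ _) (le_normalizer_of_normal _ _)
      (by rw [inf_comm]; exact pCore_inf_pPrimeCore hp.out)
  refine ⟨(Cfsg.pPrimeCore p C).map C.subtype, (Cfsg.pCore p C).map C.subtype, map_subtype_le _,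
    map_subtype_le _, ?_, (isPGroup_pCore p C).map _, ?_, ?_, ?_, ?_⟩
  · rw [← Nat.card_congr ((Cfsg.pPrimeCore p C).equivMapOfInjective _ C.subtype_injective).toEquiv]
    exact coprime_card_pPrimeCore p C
  · rintro _ ⟨s, hs, rfl⟩ _ ⟨x, hx, rfl⟩
    exact congrArg Subtype.val (hcomm s hs x hx)
  · intro c hc
    have h := le_normalizer_map (H := Cfsg.pPrimeCore p C) C.subtype
      (mem_map_of_mem _ ((normalizer_eq_top (H := Cfsg.pPrimeCore p C)).symm ▸ mem_top (⟨c, hc⟩ : C)))
    exact h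
  · intro c hc
    obtain ⟨s, hs, x, hx, h⟩ := hsplit ⟨c, hc⟩
    exact ⟨s, mem_map_of_mem _ hs, x, mem_map_of_mem _ hx, congrArg Subtype.val h⟩
  · intro c hc hord
    obtain ⟨s, hs, x, hx, h⟩ := hsplit ⟨c, hc⟩
    suffices x = 1 by
      subst this
      rw [mul_one] at h
      exact ⟨s, hs, (congrArg Subtype.val h).symm⟩
    obtain ⟨i, hi⟩ := IsPGroup.iff_orderOf.mp (isPGroup_pCore p C) ⟨x, hx⟩
    rw [Subgroup.orderOf_mk] at hi
    have hsp : (orderOf s).Coprime (orderOf x) := by
      rw [hi]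
      exact (Nat.Coprime.coprime_dvd_left ((Cfsg.pPrimeCore p C).orderOf_dvd_natCard hs)
        (coprime_card_pPrimeCore p C)).pow_right i
    have h2 : orderOf x ∣ orderOf c := by
      rw [← Subgroup.orderOf_mk c hc, h,
        (show Commute s x from hcomm s hs x hx).orderOf_mul_eq_mul_orderOf_of_coprime hsp]
      exact dvd_mul_left _ _
    have h3 : orderOf x = 1 :=
      Nat.eq_one_of_dvd_coprimes (hord.pow_right i) h2 (hi ▸ dvd_rfl)
    exact orderOf_eq_one_iff.mp h3

theorem exists_carter_step [Finite G] {p : ℕ} [hp : Fact p.Prime] (N : Subgroup G) [N.Normal]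
    (hNp : IsPGroup p N) {X : Subgroup (G ⧸ N)} [Group.IsNilpotent X]
    (hX : normalizer (X : Set (G ⧸ N)) = X) :
    ∃ C : Subgroup G, Group.IsNilpotent C ∧ normalizer (C : Set G) = C := by
  generalize hf : QuotientGroup.mk' N = f
  have hker : f.ker = N := hf ▸ QuotientGroup.ker_mk' N
  have hsurj : Function.Surjective f := hf ▸ QuotientGroup.mk'_surjective N
  obtain ⟨S', P', hS'X, hP'X, hS'c, hP'p, hSPc, hXS, hsplit, -⟩ := nilpotent_split (C := X) p
  generalize hK : X.comap f = K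
  generalize hT : S'.comap f = T
  have hNT : N ≤ T := hT ▸ hker.ge.trans (MonoidHom.ker_le_comap f S')
  have hTK : T ≤ K := hT ▸ hK ▸ comap_mono hS'X
  obtain ⟨i, hi⟩ := IsPGroup.iff_card.mp hNp
  have hcardT : Nat.card T = Nat.card N * Nat.card S' := by
    rw [← hT, ← hf]; exact card_comap_mk' N S'
  haveI : (N.subgroupOf T).Normal := inferInstance
  obtain ⟨B, hB⟩ := Subgroup.exists_right_complement'_of_coprime (N := N.subgroupOf T) (by
    have h1 : Nat.card (N.subgroupOf T) = Nat.card N :=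
      Nat.card_congr (subgroupOfEquivOfLe hNT).toEquiv
    have h2 : (N.subgroupOf T).index = Nat.card S' := by
      apply Nat.eq_of_mul_eq_mul_left (Nat.card_pos (α := N))
      conv_lhs => rw [← h1]
      rw [card_mul_index, hcardT]
    rw [h1, h2, hi]
    exact (hS'c.pow_right i).symm)
  generalize hS : B.map T.subtype = S
  have hST : S ≤ T := hS ▸ map_subtype_le B
  have hScard : Nat.card S = Nat.card S' := by
    have h := hB.card_mul_card
    rw [Nat.card_congr (subgroupOfEquivOfLe hNT).toEquiv, hcardT] at h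
    rw [← hS, ← Nat.card_congr (B.equivMapOfInjective _ T.subtype_injective).toEquiv]
    exact Nat.eq_of_mul_eq_mul_left Nat.card_pos h
  have hScop : (Nat.card S).Coprime p := hScard ▸ hS'c
  have hSN : S ⊓ N = ⊥ := inf_eq_bot_of_coprime hScop hNp
  have hTeq : S ⊔ N = T := by
    refine Subgroup.eq_of_le_of_card_ge (sup_le hST hNT) ?_
    rw [card_sup_of_disjoint S N (le_normalizer_of_normal _ _) hSN, hcardT, hScard, mul_comm]
  have hSnil : Group.IsNilpotent S := by
    haveI : Group.IsNilpotent S' := isNilpotent_of_le hS'X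
    let g : S →* S' := (f.comp S.subtype).codRestrict S' fun s =>
      (mem_comap.mp (hT.ge (hST s.2)))
    refine Subgroup.isNilpotent_of_ker_le_center g ?_
    intro s hs
    have h1 : f (s : G) = 1 := congrArg Subtype.val (MonoidHom.mem_ker.mp hs)
    have h2 : (s : G) ∈ S ⊓ N := ⟨s.2, hker ▸ MonoidHom.mem_ker.mpr h1⟩
    rw [hSN, mem_bot] at h2
    rw [show s = 1 from Subtype.ext h2]
    exact one_mem _
  generalize hC : normalizer (S : Set G) ⊓ K = C
  have hKN : ∀ k ∈ K, ∃ n ∈ N, n⁻¹ * k ∈ C := by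
    intro k hk
    have hconj : MulAut.conj k • S ≤ S ⊔ N := by
      rw [hTeq]
      intro y hy
      rw [← hT, mem_comap]
      have h1 : f (k⁻¹ * y * k) ∈ S' := mem_comap.mp (hT.ge (hST (mem_conj_smul_iff.mp hy)))
      have h2 : f k ∈ X := mem_comap.mp (hK.ge hk)
      have h3 := conj_mem_of_le_normalizer hXS h2 h1
      simpa [mul_assoc] using h3
    obtain ⟨n, hn, hn'⟩ := exists_conj_eq_of_coprime (le_normalizer_of_normal S N) hconj
      (card_conj_smul k S) (by rw [hi]; exact hScop.pow_right i)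
      (Or.inl (haveI := hNp.isNilpotent; inferInstance))
    refine ⟨n, hn, hC ▸ ⟨?_, K.mul_mem (K.inv_mem (hTK (hNT hn))) hk⟩⟩
    show n⁻¹ * k ∈ normalizer (S : Set G)
    rw [mem_normalizer_iff_conj_smul_eq, map_mul, mul_smul, ← hn', map_inv,
      inv_smul_smul]
  have hCK : C ≤ K := hC ▸ _root_.inf_le_right
  have hCS : C ≤ normalizer (S : Set G) := hC ▸ _root_.inf_le_left
  have hSC : S ≤ C := hC ▸ le_inf le_normalizer (hST.trans hTK)
  generalize hQ : C ⊓ P'.comap f = Q
  have hQp : IsPGroup p Q := hQ ▸ (hP'p.comap_of_ker_isPGroup f (by rw [hker]; exact hNp)).to_le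
    _root_.inf_le_right
  have hP'X' : X ≤ normalizer (P' : Set (G ⧸ N)) := by
    rw [le_normalizer_iff]
    intro a ha x hx
    obtain ⟨s, hs, y, hy, rfl⟩ := hsplit a ha
    have h1 : s * (y * x * y⁻¹) = (y * x * y⁻¹) * s :=
      hSPc s hs _ (P'.mul_mem (P'.mul_mem hy hx) (P'.inv_mem hy))
    rw [show s * y * x * (s * y)⁻¹ = s * (y * x * y⁻¹) * s⁻¹ by group, h1, mul_inv_cancel_right]
    exact P'.mul_mem (P'.mul_mem hy hx) (P'.inv_mem hy)
  have hSQ : S ≤ normalizer (Q : Set G) := by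
    rw [← hQ, le_normalizer_iff]
    intro s hs q hq
    refine ⟨C.mul_mem (C.mul_mem (hSC hs) hq.1) (C.inv_mem (hSC hs)), ?_⟩
    show f (s * q * s⁻¹) ∈ P'
    have h1 : f s ∈ X := mem_comap.mp (hK.ge (hTK (hST hs)))
    simpa using conj_mem_of_le_normalizer hP'X' h1 (mem_comap.mp hq.2)
  have hQC : Q ≤ C := hQ ▸ _root_.inf_le_left
  have hcomm := commute_of_inf_eq_bot hSQ (hQC.trans hCS) (inf_eq_bot_of_coprime hScop hQp)
  have hdec : ∀ c ∈ C, ∃ s ∈ S, ∃ q ∈ Q, c = s * q := by
    intro c hc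
    obtain ⟨s', hs', x', hx', h⟩ := hsplit (f c) (mem_comap.mp (hK.ge (hCK hc)))
    obtain ⟨t, ht⟩ := hsurj s'
    have htT : t ∈ T := hT ▸ mem_comap.mpr (ht ▸ hs')
    rw [← hTeq] at htT
    obtain ⟨s, hs, n, hn, rfl⟩ := (mem_sup_iff_mul (le_normalizer_of_normal _ _)).mp htT
    have hfs : f s = s' := by
      rw [← ht, map_mul, MonoidHom.mem_ker.mp (hker.ge hn), mul_one]
    refine ⟨s, hs, s⁻¹ * c, ?_, (mul_inv_cancel_left s c).symm⟩
    rw [← hQ]
    refine ⟨C.mul_mem (C.inv_mem (hSC hs)) hc, ?_⟩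
    show f (s⁻¹ * c) ∈ P'
    rw [map_mul, map_inv, hfs, h, inv_mul_cancel_left]
    exact hx'
  refine ⟨C, ?_, le_antisymm ?_ le_normalizer⟩
  · haveI := hSnil
    haveI := hQp.isNilpotent
    have h : C = S ⊔ Q := le_antisymm (fun c hc => by
      obtain ⟨s, hs, q, hq, rfl⟩ := hdec c hc
      exact mul_mem_sup hs hq) (sup_le hSC hQC)
    rw [h]
    exact isNilpotent_sup_of_commute S Q hcomm
  · intro g hg
    have hKX : normalizer (K : Set G) ≤ K := by
      rw [← hK]
      intro z hz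
      rw [mem_comap]
      have h1 : f z ∈ normalizer (X : Set (G ⧸ N)) := by
        have h := le_normalizer_map (H := X.comap f) f (mem_map_of_mem f hz)
        rwa [map_comap_eq_self_of_surjective hsurj] at h
      rwa [hX] at h1
    have hgK : g ∈ K := by
      apply hKX
      have hKeq : K = C ⊔ N := by
        refine le_antisymm (fun k hk => ?_) (sup_le hCK (hNT.trans hTK))
        obtain ⟨n, hn, hn'⟩ := hKN k hk
        have : n * (n⁻¹ * k) ∈ C ⊔ N := mul_mem (mem_sup_right hn) (mem_sup_left hn')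
        rwa [mul_inv_cancel_left] at this
      rw [mem_normalizer_iff_conj_smul_eq, hKeq, Subgroup.smul_sup,
        mem_normalizer_iff_conj_smul_eq.mp hg, Subgroup.Normal.conj_smul_eq_self]
    rw [← hC]
    refine ⟨?_, hgK⟩
    show g ∈ normalizer (S : Set G)
    rw [mem_normalizer_iff_conj_smul_eq]
    refine Subgroup.eq_of_le_of_card_ge ?_ (card_conj_smul g S).ge
    intro y hy
    have hy1 := mem_conj_smul_iff.mp hy
    have hyC : y ∈ C := by
      rw [← mem_normalizer_iff_conj_smul_eq.mp hg]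
      exact mem_conj_smul_iff.mpr (hSC hy1)
    have hord : (orderOf y).Coprime p := by
      refine Nat.Coprime.coprime_dvd_left ?_ hScop
      rw [← card_conj_smul g S]
      exact (MulAut.conj g • S : Subgroup G).orderOf_dvd_natCard hy
    obtain ⟨s, hs, q, hq, rfl⟩ := hdec y hyC
    obtain ⟨j, hj⟩ := IsPGroup.iff_orderOf.mp hQp ⟨q, hq⟩
    rw [Subgroup.orderOf_mk] at hj
    have hsq : (orderOf s).Coprime (orderOf q) :=
      hj ▸ (hScop.coprime_dvd_left (S.orderOf_dvd_natCard hs)).pow_right j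
    rw [(show Commute s q from hcomm s hs q hq).orderOf_mul_eq_mul_orderOf_of_coprime hsq] at hord
    have hq1 : orderOf q = 1 := Nat.eq_one_of_dvd_coprimes
      ((Nat.Coprime.coprime_dvd_left (dvd_mul_left _ _) hord).pow_right j) dvd_rfl (hj ▸ dvd_rfl)
    rw [orderOf_eq_one_iff.mp hq1, mul_one]
    exact hs

theorem carter_conj_core [Finite G] {p : ℕ} [hp : Fact p.Prime] (N : Subgroup G) [N.Normal]
    [IsMulCommutative N] (hNp : IsPGroup p N) (hNb : N ≠ ⊥)
    (hmin : ∀ M : Subgroup G, M.Normal → M ≤ N → M = ⊥ ∨ M = N) {C D : Subgroup G}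
    [Group.IsNilpotent C] [Group.IsNilpotent D] (hC : normalizer (C : Set G) = C)
    (hD : normalizer (D : Set G) = D) (hCN : C ⊔ N = ⊤) (hDN : D ⊔ N = ⊤)
    (hCi : C ⊓ N = ⊥) (hDi : D ⊓ N = ⊥) : ∃ g : G, MulAut.conj g • C = D := by
  generalize hf : QuotientGroup.mk' N = f
  have hker : f.ker = N := hf ▸ QuotientGroup.ker_mk' N
  obtain ⟨S, P, hSC, hPC, hScop, hPp, hSPc, hCS, hCsplit, hSord⟩ := nilpotent_split (C := C) p
  obtain ⟨T, R, hTD, hRD, hTcop, hRp, hTRc, hDT, hDsplit, hTord⟩ := nilpotent_split (C := D) p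
  have key : ∀ {A B U V : Subgroup G}, A ⊔ N = ⊤ → A ⊓ N = ⊥ → U ≤ B → (Nat.card U).Coprime p →
      (∀ a ∈ A, (orderOf a).Coprime p → a ∈ V) → U ≤ V ⊔ N := by
    intro A B U V hAN hAi hUB hU hV u hu
    have hu' : u ∈ A ⊔ N := hAN ▸ mem_top u
    obtain ⟨a, ha, n, hn, rfl⟩ := (mem_sup_iff_mul (le_normalizer_of_normal _ _)).mp hu'
    refine mul_mem_sup (hV a ha ?_) hn
    refine Nat.Coprime.coprime_dvd_left ?_ (hU.coprime_dvd_left (U.orderOf_dvd_natCard hu))
    have h1 : orderOf (f a) = orderOf a := by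
      rw [← Subgroup.orderOf_mk a ha]
      refine orderOf_injective (f.comp A.subtype) ?_ ⟨a, ha⟩
      rw [injective_iff_map_eq_one]
      intro x hx
      exact Subtype.ext (mem_bot.mp (hAi.le ⟨x.2, hker.le hx⟩))
    rw [← h1, show f a = f (a * n) by rw [map_mul, MonoidHom.mem_ker.mp (hker.ge hn), mul_one]]
    exact orderOf_map_dvd f _
  have hST : S ⊔ N = T ⊔ N := le_antisymm
    (sup_le (key hDN hDi hSC hScop hTord) le_sup_right)
    (sup_le (key hCN hCi hTD hTcop hSord) le_sup_right)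
  have hSN := inf_eq_bot_of_coprime hScop hNp
  have hTN := inf_eq_bot_of_coprime hTcop hNp
  have hcard : Nat.card T = Nat.card S := by
    have h := congrArg (fun H : Subgroup G => Nat.card H) hST
    simp only [card_sup_of_disjoint _ _ (le_normalizer_of_normal _ _) hSN,
      card_sup_of_disjoint _ _ (le_normalizer_of_normal _ _) hTN] at h
    exact (Nat.eq_of_mul_eq_mul_right Nat.card_pos h).symm
  obtain ⟨i, hi⟩ := IsPGroup.iff_card.mp hNp
  obtain ⟨n, -, hn⟩ := exists_conj_eq_of_coprime (le_normalizer_of_normal S N)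
    (hST ▸ le_sup_left : T ≤ S ⊔ N) hcard (by rw [hi]; exact hScop.pow_right i)
    (Or.inl (haveI := hNp.isNilpotent; inferInstance))
  refine ⟨n, ?_⟩
  haveI : (normalizer (T : Set G) ⊓ N).Normal := by
    rw [← normalizer_eq_top_iff, eq_top_iff, ← hDN]
    refine sup_le ((le_inf (hDT.trans le_normalizer) (le_normalizer_of_normal _ _)).trans
      inf_normalizer_le_normalizer_inf) ?_
    exact ((le_centralizer N).trans (centralizer_le _root_.inf_le_right)).trans
      (centralizer_le_normalizer _)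
  rcases hmin (normalizer (T : Set G) ⊓ N) inferInstance _root_.inf_le_right with h | h
  · have hnorm : ∀ A : Subgroup G, A ⊔ N = ⊤ → A ≤ normalizer (T : Set G) →
        A = normalizer (T : Set G) := by
      intro A hAN hA
      refine le_antisymm hA fun g hg => ?_
      have hg' : g ∈ A ⊔ N := hAN ▸ mem_top g
      obtain ⟨a, ha, m, hm, rfl⟩ := (mem_sup_iff_mul (le_normalizer_of_normal _ _)).mp hg'
      have h1 : m ∈ normalizer (T : Set G) ⊓ N :=
        ⟨by simpa using mul_mem (inv_mem (hA ha)) hg, hm⟩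
      rw [h, mem_bot] at h1
      rw [h1, mul_one]
      exact ha
    rw [hnorm D hDN hDT]
    refine hnorm _ ?_ ?_
    · rw [← Subgroup.Normal.conj_smul_eq_self n N, ← Subgroup.smul_sup, hCN]
      exact Subgroup.Normal.conj_smul_eq_self n ⊤
    · rw [← hn, le_normalizer_iff]
      intro a ha t ht
      rw [mem_conj_smul_iff] at ha ht ⊢
      simpa [mul_assoc] using conj_mem_of_le_normalizer hCS ha ht
  · exfalso
    have hNT : N ≤ normalizer (T : Set G) := h ▸ _root_.inf_le_left
    have hc := commute_of_inf_eq_bot (le_normalizer_of_normal T N) hNT hTN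
    haveI : Group.IsNilpotent T := isNilpotent_of_le hTD
    haveI : Group.IsNilpotent (R ⊔ N : Subgroup G) :=
      (hRp.to_sup_of_normal_right hNp).isNilpotent
    have htop : T ⊔ (R ⊔ N) = ⊤ := by
      rw [eq_top_iff, ← hDN]
      refine sup_le (fun d hd => ?_) (le_sup_right.trans le_sup_right)
      obtain ⟨t, ht, r, hr, rfl⟩ := hDsplit d hd
      exact mul_mem_sup ht (mem_sup_left hr)
    have hnil : Group.IsNilpotent (T ⊔ (R ⊔ N) : Subgroup G) := by
      refine isNilpotent_sup_of_commute T (R ⊔ N) fun t ht x hx => ?_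
      obtain ⟨r, hr, m, hm, rfl⟩ := (mem_sup_iff_mul (le_normalizer_of_normal _ _)).mp hx
      exact ((show Commute t r from hTRc t ht r hr).mul_right (show Commute t m from hc t ht m hm)).eq
    haveI : Group.IsNilpotent G := by
      rw [htop] at hnil
      haveI := hnil
      exact Group.nilpotent_of_mulEquiv Subgroup.topEquiv
    have hDtop : D = ⊤ :=
      (_root_.normalizerCondition_iff_only_full_group_self_normalizing.mp Group.normalizerCondition_of_isNilpotent) D hD
    rw [hDtop, top_inf_eq] at hDi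
    exact hNb hDi

theorem selfnorm_subgroupOf {C L : Subgroup G} (hCL : C ≤ L) (hC : normalizer (C : Set G) = C) :
    normalizer (C.subgroupOf L : Set L) = C.subgroupOf L := by
  rw [← subgroupOf_normalizer_eq hCL, hC]

theorem conj_of_subgroup {C D L : Subgroup G} [Group.IsNilpotent C] [Group.IsNilpotent D]
    (hC : normalizer (C : Set G) = C) (hD : normalizer (D : Set G) = D) (hCL : C ≤ L) (hDL : D ≤ L)
    (ih : ∀ C' D' : Subgroup L, Group.IsNilpotent C' → normalizer (C' : Set L) = C' →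
      Group.IsNilpotent D' → normalizer (D' : Set L) = D' → ∃ g : L, MulAut.conj g • C' = D') :
    ∃ g ∈ L, MulAut.conj g • C = D := by
  obtain ⟨g, hg⟩ := ih (C.subgroupOf L) (D.subgroupOf L)
    (Group.nilpotent_of_mulEquiv (subgroupOfEquivOfLe hCL).symm) (selfnorm_subgroupOf hCL hC)
    (Group.nilpotent_of_mulEquiv (subgroupOfEquivOfLe hDL).symm) (selfnorm_subgroupOf hDL hD)
  exact ⟨g, g.2, conj_smul_eq_of_subgroupOf hCL hDL g hg⟩

private theorem carter_aux (n : ℕ) :
    ∀ (G : Type u) [Group G] [Finite G] [Group.IsSolvable G], Nat.card G = n →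
      (∃ C : Subgroup G, Group.IsNilpotent C ∧ normalizer (C : Set G) = C) ∧
      ∀ C D : Subgroup G, Group.IsNilpotent C → normalizer (C : Set G) = C →
        Group.IsNilpotent D → normalizer (D : Set G) = D → ∃ g : G, MulAut.conj g • C = D := by
  induction n using Nat.strong_induction_on with
  | _ n ih =>
  intro G _ _ _ hn
  subst hn
  rcases subsingleton_or_nontrivial G with hG | hG
  · refine ⟨⟨⊥, inferInstance, Subsingleton.elim _ _⟩, fun C D _ _ _ _ => ⟨1, Subsingleton.elim _ _⟩⟩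
  obtain ⟨N, hNn, hNb, -, hmin⟩ := exists_minimal_normal_le' (⊤ : Subgroup G) top_ne_bot
  haveI := hNn
  have hNs : Group.IsSolvable N := inferInstance
  haveI : IsMulCommutative N := commutative_of_minimal_normal N hNs hNb hmin
  obtain ⟨p, hp, hNp⟩ := isPGroup_of_minimal_normal N hNs hNb hmin
  haveI := Fact.mk hp
  obtain ⟨⟨X, hXn, hX⟩, hconj⟩ := ih _ (card_quotient_lt N hNb) (G ⧸ N) rfl
  haveI := hXn
  refine ⟨exists_carter_step N hNp.1 hX, fun C D hCn hC hDn hD => ?_⟩
  haveI := hCn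
  haveI := hDn
  have himg : ∀ E : Subgroup G, Group.IsNilpotent E → normalizer (E : Set G) = E →
      Group.IsNilpotent (E.map (QuotientGroup.mk' N)) ∧
        normalizer (E.map (QuotientGroup.mk' N) : Set (G ⧸ N)) = E.map (QuotientGroup.mk' N) := by
    intro E hEn hE
    haveI := hEn
    refine ⟨isNilpotent_map _ E, le_antisymm ?_ le_normalizer⟩
    intro x hx
    obtain ⟨g, rfl⟩ := QuotientGroup.mk'_surjective N x
    have hsub : E ⊔ N = (E.map (QuotientGroup.mk' N)).comap (QuotientGroup.mk' N) := by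
      rw [comap_map_eq, QuotientGroup.ker_mk']
    suffices g ∈ E ⊔ N from mem_comap.mp (hsub ▸ this)
    by_cases htop : E ⊔ N = ⊤
    · rw [htop]; exact mem_top g
    have hgL : MulAut.conj g • E ≤ E ⊔ N := by
      rw [hsub]
      intro y hy
      rw [mem_comap]
      have h1 : QuotientGroup.mk' N (g⁻¹ * y * g) ∈ E.map (QuotientGroup.mk' N) :=
        mem_map_of_mem _ (mem_conj_smul_iff.mp hy)
      have h2 := (Subgroup.mem_normalizer_iff.mp hx _).mp h1
      simpa [mul_assoc] using h2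
    haveI : Group.IsNilpotent (MulAut.conj g • E : Subgroup G) :=
      Group.nilpotent_of_mulEquiv (Subgroup.equivSMul (MulAut.conj g) E)
    have hgE : normalizer ((MulAut.conj g • E : Subgroup G) : Set G) = MulAut.conj g • E := by
      conv_rhs => rw [← hE]
      rw [conj_smul_eq_map, conj_smul_eq_map]
      exact (Subgroup.map_equiv_normalizer_eq E (MulAut.conj g)).symm
    obtain ⟨x, hxL, hxe⟩ := conj_of_subgroup (C := MulAut.conj g • E) (D := E) hgE hE hgL
      le_sup_left (ih _ (card_subgroup_lt _ htop) (E ⊔ N : Subgroup G) rfl).2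
    rw [← mul_smul, ← map_mul, ← mem_normalizer_iff_conj_smul_eq, hE] at hxe
    simpa using mul_mem (inv_mem hxL) (mem_sup_left (T := N) hxe)
  obtain ⟨hCb, hCq⟩ := himg C hCn hC
  obtain ⟨hDb, hDq⟩ := himg D hDn hD
  obtain ⟨gb, hg⟩ := hconj _ _ hCb hCq hDb hDq
  obtain ⟨g, rfl⟩ := QuotientGroup.mk'_surjective N gb
  generalize hC' : MulAut.conj g • C = C'
  haveI : Group.IsNilpotent C' := hC' ▸ Group.nilpotent_of_mulEquiv (Subgroup.equivSMul (MulAut.conj g) C)
  have hC'n : normalizer (C' : Set G) = C' := by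
    rw [← hC']
    conv_rhs => rw [← hC]
    rw [conj_smul_eq_map, conj_smul_eq_map]
    exact (Subgroup.map_equiv_normalizer_eq C (MulAut.conj g)).symm
  have hmap : C'.map (QuotientGroup.mk' N) = D.map (QuotientGroup.mk' N) := by
    rw [← hg, ← hC', conj_smul_eq_map, conj_smul_eq_map, map_map, map_map]
    congr 1
  suffices ∃ x : G, MulAut.conj x • C' = D by
    obtain ⟨x, hx⟩ := this
    exact ⟨x * g, by rw [map_mul, mul_smul, hC', hx]⟩
  have hjoin : C' ⊔ N = D ⊔ N := by
    have := congrArg (Subgroup.comap (QuotientGroup.mk' N)) hmap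
    rwa [comap_map_eq, comap_map_eq, QuotientGroup.ker_mk'] at this
  by_cases htop : C' ⊔ N = ⊤
  swap
  · obtain ⟨x, -, hx⟩ := conj_of_subgroup (C := C') (D := D) hC'n hD le_sup_left
      (hjoin ▸ le_sup_left) (ih _ (card_subgroup_lt _ htop) (C' ⊔ N : Subgroup G) rfl).2
    exact ⟨x, hx⟩
  have hinf : ∀ E : Subgroup G, E ⊔ N = ⊤ → E ⊓ N = ⊥ ∨ E = ⊤ := by
    intro E hEN
    haveI : (E ⊓ N).Normal := by
      rw [← normalizer_eq_top_iff, eq_top_iff, ← hEN]
      refine sup_le ((le_inf le_normalizer (le_normalizer_of_normal _ _)).trans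
        inf_normalizer_le_normalizer_inf) ?_
      exact ((le_centralizer N).trans (centralizer_le _root_.inf_le_right)).trans
        (centralizer_le_normalizer _)
    rcases hmin (E ⊓ N) inferInstance _root_.inf_le_right with h | h
    · exact Or.inl h
    · exact Or.inr (by rw [← hEN]; exact (sup_eq_left.mpr (_root_.inf_eq_right.mp h)).symm)
  have hfull : ∀ E F : Subgroup G, Group.IsNilpotent E → E = ⊤ → normalizer (F : Set G) = F → F = ⊤ := by
    intro E F hEn hE hF
    subst hE
    haveI := hEn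
    haveI : Group.IsNilpotent G := Group.nilpotent_of_mulEquiv Subgroup.topEquiv
    exact (_root_.normalizerCondition_iff_only_full_group_self_normalizing.mp Group.normalizerCondition_of_isNilpotent) F hF
  rcases hinf C' htop with hCi | hCt
  swap
  · exact ⟨1, by rw [map_one, one_smul, hCt, hfull C' D inferInstance hCt hD]⟩
  rcases hinf D (hjoin ▸ htop) with hDi | hDt
  swap
  · exact ⟨1, by rw [map_one, one_smul, hDt, hfull D C' hDn hDt hC'n]⟩
  exact carter_conj_core N hNp.1 hNb hmin hC'n hD htop (hjoin ▸ htop) hCi hDi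

theorem exists_carter (G : Type u) [Group G] [Finite G] [Group.IsSolvable G] :
    ∃ C : Subgroup G, Group.IsNilpotent C ∧ normalizer (C : Set G) = C :=
  (carter_aux _ G rfl).1

theorem carter_conj [Finite G] [Group.IsSolvable G] (C D : Subgroup G) [hC : Group.IsNilpotent C]
    [hD : Group.IsNilpotent D] (hCn : normalizer (C : Set G) = C)
    (hDn : normalizer (D : Set G) = D) : ∃ g : G, MulAut.conj g • C = D :=
  (carter_aux _ G rfl).2 C D hC hCn hD hDn

end CfsgLib.Core.Carter
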