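import Cfsg.Agent.Lib.Core.FPF
import Cfsg.Agent.Lib.Char.Frobenius

/-!
# Frobenius complements are conjugate

* `kernel_inf_centralizer`, `exists_kernel`
* `eq_of_inf_ne_bot`, `exists_conj_smul_eq`
-/

set_option autoImplicit false
set_option linter.all false

namespace CfsgLib.Core.FrobeniusConj

open scoped Pointwise

open Subgroup

variable {G : Type*} [Group G] [Finite G] {H : Subgroup G}

theorem exists_kernel (hH : Cfsg.IsFrobeniusComplement H) :
    ∃ N : Subgroup G, (N : Set G) = Cfsg.frobeniusKernel H ∧ N.Normal ∧ IsComplement' N H ∧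
      N ≠ ⊥ ∧ ∀ h ∈ H, h ≠ 1 → N ⊓ centralizer {h} = ⊥ := by
  haveI := Fintype.ofFinite G
  obtain ⟨N, hN, hNn, hc⟩ := CfsgLib.Frobenius.exists_normal_complement hH
  have hd : ∀ x, x ∈ N → x ∈ H → x = 1 := fun x hx hxH =>
    mem_bot.mp (hc.disjoint.le_bot ⟨hx, hxH⟩)
  refine ⟨N, hN, hNn, hc, ?_, fun h hh h1 => ?_⟩
  · rintro rfl
    exact hH.2.1 (isComplement'_bot_left.mp hc)
  · rw [eq_bot_iff]
    rintro x ⟨hx, hxc⟩
    rw [mem_bot]
    refine hd x hx (CfsgLib.Frobenius.mem_of_conj_mem hH hh h1 ?_)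
    have h2 : x * h = h * x := mem_centralizer_singleton_iff.mp hxc
    rwa [mul_assoc, ← h2, inv_mul_cancel_left]

theorem inf_eq_left {H₀ : Subgroup G} (hH : Cfsg.IsFrobeniusComplement H)
    (hH₀ : Cfsg.IsFrobeniusComplement H₀) (hne : H ⊓ H₀ ≠ ⊥) : H ⊓ H₀ = H := by
  by_contra hD
  have hDH : (H ⊓ H₀).subgroupOf H ≠ ⊤ := fun h =>
    hD (le_antisymm inf_le_left (subgroupOf_eq_top.mp h))
  have hfc : Cfsg.IsFrobeniusComplement ((H ⊓ H₀).subgroupOf H) := by
    refine ⟨fun h => hne ?_, hDH, fun x hx => ?_⟩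
    · rw [subgroupOf_eq_bot, disjoint_iff, _root_.inf_eq_left.mpr _root_.inf_le_left] at h
      exact h
    · rw [eq_bot_iff]
      rintro y ⟨hy, hy'⟩
      have hx₀ : (x : G) ∉ H₀ := fun h => hx (mem_subgroupOf.mpr ⟨x.2, h⟩)
      have h1 := mem_subgroupOf.mp (mem_conj_smul_iff.mp hy')
      refine Subtype.ext (mem_bot.mp ((hH₀.2.2 _ hx₀).le ⟨(mem_subgroupOf.mp hy).2, ?_⟩))
      exact mem_conj_smul_iff.mpr (by simpa using h1.2)
  obtain ⟨N, -, hNn, -, hNb, hNfpf⟩ := exists_kernel hH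
  haveI := hNn
  obtain ⟨M, -, hMn, -, hMb, hMfpf⟩ := exists_kernel hfc
  haveI := hMn
  have hDne : Nat.card (H ⊓ H₀ : Subgroup G) ≠ 1 := fun h => hne (Subgroup.card_eq_one.mp h)
  obtain ⟨r, hr, hrd⟩ := Nat.exists_prime_and_dvd hDne
  haveI := Fact.mk hr
  obtain ⟨d, hd⟩ := exists_prime_orderOf_dvd_card' (G := (H ⊓ H₀ : Subgroup G)) r hrd
  obtain ⟨d', hd'⟩ := d
  rw [Subgroup.orderOf_mk] at hd
  obtain ⟨hd'H, hd'H₀⟩ := mem_inf.mp hd' 
  let δ : H := ⟨d', hd'H⟩
  have hδ : δ ∈ (H ⊓ H₀).subgroupOf H := mem_subgroupOf.mpr ⟨hd'H, hd'H₀⟩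
  have hδo : orderOf δ = r := by rw [Subgroup.orderOf_mk, hd]
  have hle : zpowers δ ≤ (H ⊓ H₀).subgroupOf H := zpowers_le.mpr hδ
  have hfp := FPF.fpf_mono hMfpf hle le_rfl
  obtain ⟨q, hq, hqM⟩ := Nat.exists_prime_and_dvd (n := Nat.card M)
    fun h => hMb (Subgroup.card_eq_one.mp h)
  haveI := Fact.mk hq
  obtain ⟨R, hR⟩ := exists_invariant_sylow (A := zpowers δ) (K := M)
    Subgroup.le_normalizer_of_normal (FPF.coprime_card Subgroup.le_normalizer_of_normal hfp)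
    (Or.inl inferInstance) q
  have hinj : Function.Injective (H.subtype.comp M.subtype) :=
    H.subtype_injective.comp M.subtype_injective
  refine FPF.no_frobenius (A := H) (K := N) Subgroup.le_normalizer_of_normal hNfpf hNb
    (E := (R : Subgroup M).map (H.subtype.comp M.subtype)) (d := d') ?_ hd'H (hd ▸ hr) ?_ ?_ ?_ ?_
  · rw [← map_map]; exact map_subtype_le _
  · rw [Ne, map_eq_bot_iff_of_injective _ hinj]
    exact R.ne_bot_of_dvd_card hqM
  · haveI := (R.isPGroup'.map (H.subtype.comp M.subtype)).isNilpotent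
    infer_instance
  · rw [← map_map]
    exact le_normalizer_map H.subtype (mem_map_of_mem _ (hR (mem_zpowers δ)))
  · rw [eq_bot_iff]
    rintro _ ⟨⟨w, hw, rfl⟩, hwc⟩
    have h1 := (hfp δ (mem_zpowers δ) (fun h => hr.ne_one (by rw [← hδo, h, orderOf_one]))).le
      ⟨w.2, mem_centralizer_singleton_iff.mpr
        (Subtype.ext (mem_centralizer_singleton_iff.mp hwc))⟩
    show ((w : H) : G) ∈ (⊥ : Subgroup G)
    rw [mem_bot.mp h1]
    exact one_mem _

theorem eq_of_inf_ne_bot {H₀ : Subgroup G} (hH : Cfsg.IsFrobeniusComplement H)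
    (hH₀ : Cfsg.IsFrobeniusComplement H₀) (hne : H ⊓ H₀ ≠ ⊥) : H = H₀ := by
  have h1 := inf_eq_left hH hH₀ hne
  have h2 := inf_eq_left hH₀ hH (by rwa [inf_comm])
  rw [inf_comm] at h2
  exact h1.symm.trans h2

theorem isFrobeniusComplement_conj (hH : Cfsg.IsFrobeniusComplement H) (g : G) :
    Cfsg.IsFrobeniusComplement (MulAut.conj g • H) := by
  refine ⟨fun h => hH.1 ?_, fun h => hH.2.1 ?_, fun x hx => ?_⟩
  · rw [← Subgroup.card_eq_one, ← card_conj_smul g H, h, Subgroup.card_bot]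
  · rw [← Subgroup.card_eq_iff_eq_top, ← card_conj_smul g H, h, Subgroup.card_top]
  · have h1 : g⁻¹ * x * g ∉ H := fun h => hx (mem_conj_smul_iff.mpr h)
    have h2 := hH.2.2 _ h1
    rw [eq_bot_iff]
    rintro y ⟨hy, hy'⟩
    have h3 := mem_conj_smul_iff.mp (mem_conj_smul_iff.mp hy')
    have h4 := mem_bot.mp (h2.le ⟨mem_conj_smul_iff.mp hy,
      mem_conj_smul_iff.mpr (by simpa [mul_assoc] using h3)⟩)
    rw [mem_bot]
    simpa [mul_assoc] using congrArg (fun z => g * z * g⁻¹) h4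

theorem exists_conj_smul_eq {H₀ : Subgroup G} (hH : Cfsg.IsFrobeniusComplement H)
    (hH₀ : Cfsg.IsFrobeniusComplement H₀) : ∃ g : G, MulAut.conj g • H₀ = H := by
  classical
  by_contra hcon
  push Not at hcon
  have hall : ∀ a b : G, ∀ x ∈ MulAut.conj a • H, x ∈ MulAut.conj b • H₀ → x = 1 := by
    intro a b x hxa hxb
    by_contra hx1
    have heq := eq_of_inf_ne_bot (isFrobeniusComplement_conj hH a)
      (isFrobeniusComplement_conj hH₀ b) fun h => hx1 (mem_bot.mp (h.le ⟨hxa, hxb⟩))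
    refine hcon (a⁻¹ * b) ?_
    rw [map_mul, mul_smul, ← heq, ← mul_smul, ← map_mul, inv_mul_cancel, map_one, one_smul]
  haveI := Fintype.ofFinite G
  have hsub : (Cfsg.frobeniusKernel H₀)ᶜ ⊆ Cfsg.frobeniusKernel H \ {1} := by
    intro x hx
    simp only [Cfsg.frobeniusKernel, Set.mem_compl_iff, Set.mem_setOf_eq, not_or, not_forall,
      not_not] at hx
    obtain ⟨hx1, b, hb⟩ := hx
    exact ⟨Or.inr fun a ha => hx1 (hall a b x ha hb), hx1⟩
  have h1 := Set.ncard_le_ncard hsub (Set.toFinite _)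
  rw [Set.ncard_compl _ (Set.toFinite _),
    Set.ncard_sdiff_singleton_of_mem (show (1 : G) ∈ Cfsg.frobeniusKernel H from Or.inl rfl),
    ← Nat.card_coe_set_eq, ← Nat.card_coe_set_eq, CfsgLib.Frobenius.card_frobeniusKernel hH,
    CfsgLib.Frobenius.card_frobeniusKernel hH₀] at h1
  have e1 := H.index_mul_card
  have e2 := H₀.index_mul_card
  have hc1 : 2 ≤ Nat.card H := by
    rcases Nat.lt_or_ge (Nat.card H) 2 with h | h
    · exact absurd (Subgroup.card_eq_one.mp (by have := (Nat.card_pos (α := H)); omega)) hH.1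
    · exact h
  have hc2 : 2 ≤ Nat.card H₀ := by
    rcases Nat.lt_or_ge (Nat.card H₀) 2 with h | h
    · exact absurd (Subgroup.card_eq_one.mp (by have := (Nat.card_pos (α := H₀)); omega)) hH₀.1
    · exact h
  have i1 : 1 ≤ H.index := Nat.one_le_iff_ne_zero.mpr H.index_ne_zero_of_finite
  have i2 : 1 ≤ H₀.index := Nat.one_le_iff_ne_zero.mpr H₀.index_ne_zero_of_finite
  have m1 := Nat.mul_le_mul_left H.index hc1
  have m2 := Nat.mul_le_mul_left H₀.index hc2
  omega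

end CfsgLib.Core.FrobeniusConj
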