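import Cfsg.Agent.Lib.Core.Cores
import Cfsg.Agent.Lib.Core.MinNormal
import Cfsg.Agent.Lib.Core.Carter
import Cfsg.Agent.Lib.Core.FrobeniusConj
import Cfsg.Agent.Lib.PLocal.PStable
import Cfsg.Agent.Lib.Transfer.PResidual
import Mathlib.GroupTheory.FixedPointFree

/-!
# Groups with a fixed point free automorphism of prime order

`isNilpotent_of_fpf` is stated relative to a normal `p`-complement criterion.
-/

set_option autoImplicit false
set_option linter.all false

universe u

namespace CfsgLib.Core.FPFAut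

open scoped Pointwise IsMulCommutative

open Subgroup Cfsg

variable {G : Type u} [Group G]

theorem eq_one_of_pow_fixed {φ : MulAut G} (hfp : ∀ x, φ x = x → x = 1) {r : ℕ} (hr : r.Prime)
    (hord : φ ^ r = 1) {j : ℕ} (hj : ¬ r ∣ j) {x : G} (hx : (φ ^ j) x = x) : x = 1 := by
  refine hfp x ?_
  have hcop : Nat.Coprime j r := ((hr.coprime_iff_not_dvd).mpr hj).symm
  obtain ⟨k, hk⟩ := Nat.exists_mul_mod_eq_one_of_coprime hcop hr.one_lt
  have hpow : φ = (φ ^ j) ^ k := by
    rw [← pow_mul]
    conv_rhs => rw [← Nat.mod_add_div (j * k) r]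
    rw [pow_add, pow_mul φ r, hord, one_pow, mul_one, hk.2, pow_one]
  have hfix : ∀ n : ℕ, ((φ ^ j) ^ n) x = x := by
    intro n
    induction n with
    | zero => simp
    | succ n ih => rw [pow_succ, MulAut.mul_apply, hx, ih]
  conv_lhs => rw [hpow]
  exact hfix k

variable [Finite G]

theorem exists_eq_mul (ψ : MulAut G) (hfp : ∀ x, ψ x = x → x = 1) :
    Function.Surjective fun t : G => t * (ψ t)⁻¹ := by
  refine Finite.surjective_of_injective fun a b hab => ?_
  have h : ψ (b⁻¹ * a) = b⁻¹ * a := by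
    rw [map_mul, map_inv]
    have h1 := congrArg (fun z => b⁻¹ * z * ψ a) hab
    simpa [mul_assoc] using h1.symm
  exact (inv_mul_eq_one.mp (hfp _ h)).symm

theorem exists_invariant_sylow_fpf {φ : MulAut G} (hfp : ∀ x, φ x = x → x = 1) (p : ℕ)
    [Fact p.Prime] : ∃ P : Sylow p G, (P : Subgroup G).map φ.toMonoidHom = P := by
  obtain ⟨P⟩ : Nonempty (Sylow p G) := inferInstance
  obtain ⟨g, hg⟩ := MulAction.exists_smul_eq G P (φ • P)
  have hg' : (P : Subgroup G).map φ.toMonoidHom = MulAut.conj g • (P : Subgroup G) := by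
    have := congrArg (fun Q : Sylow p G => (Q : Subgroup G)) hg
    simp only [Sylow.coe_subgroup_smul] at this
    exact this.symm
  obtain ⟨u, hu⟩ := exists_eq_mul φ hfp g⁻¹
  obtain ⟨t, ht⟩ : ∃ t, t = u⁻¹ := ⟨_, rfl⟩
  have ht' : t⁻¹ * φ t = g⁻¹ := by rw [ht, inv_inv, map_inv]; exact hu
  refine ⟨t • P, ?_⟩
  rw [Sylow.coe_subgroup_smul]
  show (MulAut.conj t • (P : Subgroup G)).map φ.toMonoidHom = MulAut.conj t • (P : Subgroup G)
  have hmap : ∀ (a : G) (H : Subgroup G), (MulAut.conj a • H).map φ.toMonoidHom =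
      MulAut.conj (φ a) • H.map φ.toMonoidHom := by
    intro a H
    rw [conj_smul_eq_map, conj_smul_eq_map, map_map, map_map]
    congr 1
    ext x
    simp
  rw [hmap, hg', ← mul_smul, ← map_mul]
  congr 2
  rw [← inv_inv g, ← ht']
  group

/-- An invariant coprime subgroup acting on an abelian normal subgroup centralises it. -/
theorem centralizes_of_fpf {φ : MulAut G} (hfp : ∀ x, φ x = x → x = 1) {r : ℕ} (hr : r.Prime)
    (hord : φ ^ r = 1) {S V : Subgroup G} [V.Normal] [IsMulCommutative V]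
    (hS : S.map φ.toMonoidHom = S) (hV : V.map φ.toMonoidHom = V)
    (hcop : (Nat.card S).Coprime (Nat.card V)) : S ≤ centralizer (V : Set G) := by
  classical
  haveI := Fintype.ofFinite S
  have hSj : ∀ (j : ℕ), ∀ s ∈ S, (φ ^ j) s ∈ S := by
    intro j
    induction j with
    | zero => intro s hs; simpa using hs
    | succ j ih =>
      intro s hs
      rw [pow_succ', MulAut.mul_apply]
      exact hS.le (mem_map_of_mem _ (ih s hs))
  have hVj : ∀ (j : ℕ), ∀ v ∈ V, (φ ^ j) v ∈ V := by
    intro j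
    induction j with
    | zero => intro s hs; simpa using hs
    | succ j ih =>
      intro s hs
      rw [pow_succ', MulAut.mul_apply]
      exact hV.le (mem_map_of_mem _ (ih s hs))
  have hVc : ∀ (g : G) (v : V), g * (v : G) * g⁻¹ ∈ V := fun g v =>
    (inferInstance : V.Normal).conj_mem _ v.2 g
  let nrm : V → V := fun v => ∏ s : S, ⟨(s : G) * v * (s : G)⁻¹, hVc s v⟩
  let cj : S → (V →* V) := fun s =>
    { toFun := fun v => ⟨(s : G) * v * (s : G)⁻¹, hVc s v⟩
      map_one' := Subtype.ext (by simp)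
      map_mul' := fun a b => Subtype.ext (by simp only [Subgroup.coe_mul]; group) }
  let ph : ℕ → (V →* V) := fun j =>
    { toFun := fun v => ⟨(φ ^ j) v, hVj j v v.2⟩
      map_one' := Subtype.ext (by simp)
      map_mul' := fun a b => Subtype.ext (by simp) }
  have hnrm : ∀ (s : S) (v : V), cj s (nrm v) = nrm v := by
    intro s v
    show cj s (∏ t : S, _) = _
    rw [map_prod]
    refine Fintype.prod_equiv (Equiv.mulLeft s) _ _ fun t => Subtype.ext ?_
    show (s : G) * ((t : G) * v * (t : G)⁻¹) * (s : G)⁻¹ = ((s * t : S) : G) * v * ((s * t : S) : G)⁻¹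
    simp [mul_assoc]
  have htr : ∀ w : V, ∏ j ∈ Finset.range r, ph j w = 1 := by
    intro w
    refine Subtype.ext (hfp _ ?_)
    obtain ⟨m, hm⟩ : ∃ m, r = m + 1 := ⟨r - 1, by have := hr.pos; omega⟩
    have h1 : ph 1 (∏ j ∈ Finset.range r, ph j w) = ∏ j ∈ Finset.range r, ph j w := by
      rw [map_prod, hm]
      conv_rhs => rw [Finset.prod_range_succ']
      rw [Finset.prod_range_succ]
      congr 1
      · refine Finset.prod_congr rfl fun j _ => Subtype.ext ?_
        show (φ ^ 1) ((φ ^ j) w) = (φ ^ (j + 1)) w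
        rw [← MulAut.mul_apply, ← pow_add, add_comm]
      · refine Subtype.ext ?_
        show (φ ^ 1) ((φ ^ m) w) = (φ ^ 0) w
        rw [← MulAut.mul_apply, ← pow_add, add_comm, ← hm, hord, pow_zero]
    have h2 := congrArg Subtype.val h1
    conv_rhs => rw [← h2]
    show φ _ = (φ ^ 1) _
    rw [pow_one]
  have hbij : ∀ j, ¬ r ∣ j → Function.Bijective
      fun t : S => (⟨(t : G) * ((φ ^ j) t)⁻¹, S.mul_mem t.2 (S.inv_mem (hSj j t t.2))⟩ : S) := by
    intro j hj
    refine Finite.injective_iff_bijective.mp fun a b hab => ?_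
    have h : (φ ^ j) ((b : G)⁻¹ * a) = (b : G)⁻¹ * a := by
      rw [map_mul, map_inv]
      have h1 := congrArg (fun z : S => (b : G)⁻¹ * z * (φ ^ j) a) hab
      simpa [mul_assoc] using h1.symm
    exact Subtype.ext (inv_mul_eq_one.mp (eq_one_of_pow_fixed hfp hr hord hj h)).symm
  have key : ∀ v : V, v ^ Fintype.card S = nrm v := by
    intro v
    obtain ⟨m, hm⟩ : ∃ m, r = m + 1 := ⟨r - 1, by have := hr.pos; omega⟩
    have e1 : ∏ t : S, cj t (∏ j ∈ Finset.range r, ph j (cj t⁻¹ v)) = 1 :=
      Finset.prod_eq_one fun t _ => by rw [htr, map_one]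
    simp only [map_prod] at e1
    rw [Finset.prod_comm, hm, Finset.prod_range_succ'] at e1
    have e2 : ∏ t : S, cj t (ph 0 (cj t⁻¹ v)) = v ^ Fintype.card S := by
      rw [← Finset.card_univ, ← Finset.prod_const]
      refine Finset.prod_congr rfl fun t _ => Subtype.ext ?_
      show (t : G) * ((φ ^ 0) (((t⁻¹ : S) : G) * v * ((t⁻¹ : S) : G)⁻¹)) * (t : G)⁻¹ = v
      simp [mul_assoc]
    have e3 : ∀ j ∈ Finset.range m, ∏ t : S, cj t (ph (j + 1) (cj t⁻¹ v)) = ph (j + 1) (nrm v) := by
      intro j hj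
      have hb := hbij (j + 1) (fun hd => by
        have := Nat.le_of_dvd (Nat.succ_pos j) hd
        have := Finset.mem_range.mp hj
        omega)
      show _ = ph (j + 1) (∏ s : S, _)
      rw [map_prod]
      have hb' : Function.Bijective fun s : S => (⟨(φ ^ (j + 1)) s, hSj _ s s.2⟩ : S) :=
        Finite.injective_iff_bijective.mp fun a b hab =>
          Subtype.ext ((φ ^ (j + 1)).injective (congrArg Subtype.val hab))
      calc ∏ t : S, cj t (ph (j + 1) (cj t⁻¹ v))
          = ∏ t : S, cj ⟨(t : G) * ((φ ^ (j + 1)) t)⁻¹, S.mul_mem t.2 (S.inv_mem (hSj _ t t.2))⟩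
              (ph (j + 1) v) := by
            refine Finset.prod_congr rfl fun t _ => Subtype.ext ?_
            show (t : G) * ((φ ^ (j + 1)) (((t⁻¹ : S) : G) * v * ((t⁻¹ : S) : G)⁻¹)) * (t : G)⁻¹ = _
            simp [cj, ph, mul_assoc]
        _ = ∏ s : S, cj s (ph (j + 1) v) :=
            Fintype.prod_bijective _ hb _ _ fun t => rfl
        _ = _ := by
            symm
            refine Fintype.prod_bijective _ hb' _ _ fun s => Subtype.ext ?_
            show (φ ^ (j + 1)) ((s : G) * v * (s : G)⁻¹) = _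
            simp [cj, ph]
    rw [e2, Finset.prod_congr rfl e3] at e1
    have e4 := htr (nrm v)
    rw [hm, Finset.prod_range_succ'] at e4
    have e5 : ph 0 (nrm v) = nrm v := Subtype.ext (by simp [ph])
    rw [e5] at e4
    exact mul_left_cancel (e1.trans e4.symm)
  rw [le_centralizer_iff]
  intro v hv
  rw [mem_centralizer_iff]
  intro s hs
  have h2 : cj ⟨s, hs⟩ (⟨v, hv⟩ : V) ^ Fintype.card S = (⟨v, hv⟩ : V) ^ Fintype.card S := by
    rw [← map_pow, key, hnrm]
  have hc : (Nat.card V).Coprime (Fintype.card S) := by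
    rw [← Nat.card_eq_fintype_card]; exact hcop.symm
  have h3 := (powCoprime hc).injective (by simpa only [powCoprime_apply] using h2)
  exact mul_inv_eq_iff_eq_mul.mp (congrArg Subtype.val h3)

theorem map_normalizer {φ : MulAut G} {W : Subgroup G} (hW : W.map φ.toMonoidHom = W) :
    (normalizer (W : Set G)).map φ.toMonoidHom = normalizer (W : Set G) := by
  rw [Subgroup.map_equiv_normalizer_eq W φ]
  rw [hW]

theorem hasNormalPComplement_of_isNilpotent [Group.IsNilpotent G] (p : ℕ) [hp : Fact p.Prime] :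
    HasNormalPComplement p G := by
  refine CfsgLib.Transfer.hasNormalPComplement_iff_exists.mpr
    ⟨Cfsg.pPrimeCore p G, inferInstance, coprime_card_pPrimeCore p G, fun x => ?_⟩
  obtain ⟨g, rfl⟩ := QuotientGroup.mk_surjective x
  have hg : g ∈ Cfsg.pPrimeCore p G ⊔ Cfsg.pCore p G := by
    rw [sup_comm, Carter.pCore_sup_pPrimeCore p hp.out]; exact mem_top g
  obtain ⟨a, ha, b, hb, rfl⟩ := (mem_sup_iff_mul (CfsgLib.Core.le_normalizer_of_normal _ _)).mp hg
  obtain ⟨k, hk⟩ := isPGroup_pCore p G ⟨b, hb⟩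
  refine ⟨k, ?_⟩
  rw [QuotientGroup.mk_mul, (QuotientGroup.eq_one_iff a).mpr ha, one_mul, ← QuotientGroup.mk_pow,
    show b ^ p ^ k = 1 from congrArg Subtype.val hk, QuotientGroup.mk_one]

/-- The step for solvable groups. -/
theorem isNilpotent_of_solvable_step {φ : MulAut G} (hfp : ∀ x, φ x = x → x = 1) {r : ℕ}
    (hr : r.Prime) (hord : φ ^ r = 1) {q : ℕ} [hq : Fact q.Prime] {V : Subgroup G} [V.Normal]
    [IsMulCommutative V] (hVq : IsPGroup q V) (hV : V.map φ.toMonoidHom = V)
    [Group.IsNilpotent (G ⧸ V)] : Group.IsNilpotent G := by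
  have hnorm : ∀ (s : ℕ) [Fact s.Prime] (S : Sylow s G), ((S : Subgroup G) ⊔ V).Normal := by
    intro s _ S
    have h := (Group.isNilpotent_of_finite_tfae (G := G ⧸ V)).out 0 3
    haveI := h.mp inferInstance s inferInstance (S.mapSurjective (QuotientGroup.mk'_surjective V))
    have heq : (S : Subgroup G) ⊔ V = ((S.mapSurjective (QuotientGroup.mk'_surjective V) :
        Sylow s (G ⧸ V)) : Subgroup (G ⧸ V)).comap (QuotientGroup.mk' V) := by
      rw [Sylow.coe_mapSurjective, comap_map_eq, QuotientGroup.ker_mk']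
    rw [heq]
    infer_instance
  have h := (Group.isNilpotent_of_finite_tfae (G := G)).out 0 3
  refine h.mpr fun s hs S => ?_
  haveI := hs
  by_cases hsq : s = q
  · subst hsq
    have := hnorm s S
    rwa [sup_eq_left.mpr (hVq.le_sylow_of_normal S)] at this
  obtain ⟨T, hT⟩ := exists_invariant_sylow_fpf hfp s
  obtain ⟨g, rfl⟩ := MulAction.exists_smul_eq G T S
  obtain ⟨i, hi⟩ := IsPGroup.iff_card.mp T.2
  obtain ⟨j, hj⟩ := IsPGroup.iff_card.mp hVq
  have hcop : (Nat.card T).Coprime (Nat.card V) := by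
    rw [hi, hj]; exact ((Nat.coprime_primes hs.out hq.out).mpr hsq).pow i j
  have hc := centralizes_of_fpf hfp hr hord hT hV hcop
  haveI : (T : Subgroup G).Normal := by
    refine ⟨fun x hx y => ?_⟩
    have h1 : y * x * y⁻¹ ∈ (T : Subgroup G) ⊔ V := (hnorm s T).conj_mem x (mem_sup_left hx) y
    obtain ⟨a, ha, b, hb, hab⟩ := (mem_sup_iff_mul (CfsgLib.Core.le_normalizer_of_normal _ _)).mp h1
    have hcomm : Commute a b := (mem_centralizer_iff.mp (hc ha) b hb).symm
    have hco : (orderOf a).Coprime (orderOf b) :=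
      (hcop.coprime_dvd_left ((T : Subgroup G).orderOf_dvd_natCard ha)).coprime_dvd_right
        (V.orderOf_dvd_natCard hb)
    have h2 : orderOf b ∣ Nat.card T := by
      refine dvd_trans ?_ ((T : Subgroup G).orderOf_dvd_natCard hx)
      have h3 : orderOf (y * x * y⁻¹) = orderOf x := (MulAut.conj y).orderOf_eq x
      rw [← h3, hab, hcomm.orderOf_mul_eq_mul_orderOf_of_coprime hco]
      exact dvd_mul_left _ _
    have h4 : b = 1 := orderOf_eq_one_iff.mp
      (Nat.eq_one_of_dvd_coprimes hcop h2 (V.orderOf_dvd_natCard hb))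
    rw [hab, h4, mul_one]
    exact ha
  rw [Sylow.smul_eq_of_normal]
  infer_instance

private theorem fpf_aux
    (hGl : ∀ (K : Type u) [Group K] [Finite K] (p : ℕ) [Fact p.Prime], p ≠ 2 → ∀ P : Sylow p K,
      HasNormalPComplement p (normalizer (centerThompsonAOf (P : Subgroup K) : Set K)) →
      HasNormalPComplement p K) {r : ℕ} (hr : r.Prime) (n : ℕ) :
    ∀ (G : Type u) [Group G] [Finite G] (φ : MulAut G), Nat.card G = n →
      (∀ x, φ x = x → x = 1) → φ ^ r = 1 → Group.IsNilpotent G := by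
  induction n using Nat.strong_induction_on with
  | _ n ih =>
  intro G _ _ φ hn hfp hord
  subst hn
  have hsub : ∀ H : Subgroup G, H.map φ.toMonoidHom = H → H ≠ ⊤ → Group.IsNilpotent H := by
    intro H hH hne
    let ψ : MulAut H := (φ.subgroupMap H).trans (MulEquiv.subgroupCongr hH)
    have hval : ∀ x : H, ((ψ x : H) : G) = φ x := fun x => rfl
    have hpow : ∀ (k : ℕ) (x : H), (((ψ ^ k) x : H) : G) = (φ ^ k) x := by
      intro k
      induction k with
      | zero => intro x; simp
      | succ k ihk => intro x; rw [pow_succ', pow_succ', MulAut.mul_apply, MulAut.mul_apply, hval, ihk]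
    refine ih _ (card_subgroup_lt H hne) H ψ rfl (fun x hx => Subtype.ext (hfp x ?_)) ?_
    · rw [← hval, hx]
    · ext x
      rw [hpow, hord, MulAut.one_apply, MulAut.one_apply]
  have hquo : ∀ (N : Subgroup G) [N.Normal], N.map φ.toMonoidHom = N → N ≠ ⊥ →
      Group.IsNilpotent (G ⧸ N) := by
    intro N _ hN hne
    let ψ : MulAut (G ⧸ N) := QuotientGroup.congr N N φ hN
    have hval : ∀ g : G, ψ (g : G ⧸ N) = ((φ g : G) : G ⧸ N) := fun g => rfl
    have hpow : ∀ (k : ℕ) (g : G), (ψ ^ k) (g : G ⧸ N) = (((φ ^ k) g : G) : G ⧸ N) := by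
      intro k
      induction k with
      | zero => intro g; simp
      | succ k ihk => intro g; rw [pow_succ', pow_succ', MulAut.mul_apply, MulAut.mul_apply, ihk, hval]
    refine ih _ (card_quotient_lt N hne) (G ⧸ N) ψ rfl (fun x hx => ?_) ?_
    · obtain ⟨g, rfl⟩ := QuotientGroup.mk_surjective x
      rw [hval, QuotientGroup.eq] at hx
      let c : N → N := fun y => ⟨(φ (y : G))⁻¹ * y,
        N.mul_mem (N.inv_mem (hN.le (mem_map_of_mem _ y.2))) y.2⟩
      have hc : Function.Surjective c := by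
        refine Finite.surjective_of_injective fun a b hab => ?_
        have h1 := congrArg (fun z : N => φ (a : G) * z * (b : G)⁻¹) hab
        have h2 : φ ((a : G) * (b : G)⁻¹) = a * (b : G)⁻¹ := by
          rw [map_mul, map_inv]
          simpa [c, mul_assoc] using h1.symm
        exact Subtype.ext (mul_inv_eq_one.mp (hfp _ h2))
      obtain ⟨y, hy⟩ := hc ⟨_, hx⟩
      have hy' : (φ (y : G))⁻¹ * y = (φ g)⁻¹ * g := congrArg Subtype.val hy
      have h3 : φ (g * (y : G)⁻¹) = g * (y : G)⁻¹ := by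
        rw [map_mul, map_inv]
        have := congrArg (fun z => φ g * z * (y : G)⁻¹) hy'
        simpa [mul_assoc] using this
      rw [mul_inv_eq_one.mp (hfp _ h3), QuotientGroup.eq_one_iff]
      exact y.2
    · ext x
      obtain ⟨g, rfl⟩ := QuotientGroup.mk_surjective x
      rw [hpow, hord, MulAut.one_apply, MulAut.one_apply]
  rcases subsingleton_or_nontrivial G with hG | hG
  · infer_instance
  by_cases hsolv : Group.IsSolvable G
  · obtain ⟨q, hq, hb⟩ := exists_pCore_ne_bot (G := G)
    haveI := Fact.mk hq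
    generalize hV : Cfsg.pCore q G ⊓ centralizer (Cfsg.pCore q G : Set G) = V
    haveI : V.Normal := hV ▸ inferInstance
    haveI : IsMulCommutative V := by
      rw [← le_centralizer_iff_isMulCommutative, ← hV]
      exact _root_.inf_le_right.trans (centralizer_le _root_.inf_le_left)
    have hVq : IsPGroup q V := hV ▸ (isPGroup_pCore q G).to_le _root_.inf_le_left
    have hVi : V.map φ.toMonoidHom = V := by
      rw [← hV, CfsgLib.PLocal.map_centralizer_of_injOn φ.toMonoidHom _
        (by rw [(MonoidHom.ker_eq_bot_iff _).mpr φ.injective]; exact disjoint_bot_right),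
        map_equiv_pCore φ]
    have hVb : V ≠ ⊥ := by
      haveI : Nontrivial (Cfsg.pCore q G) := (nontrivial_iff_ne_bot _).mpr hb
      obtain ⟨⟨⟨z, hz⟩, hzc⟩, hz1⟩ := ne_bot_iff_exists_ne_one.mp
        (isPGroup_pCore q G).bot_lt_center.ne'
      intro h
      apply hz1
      refine Subtype.ext (Subtype.ext (mem_bot.mp (h ▸ hV ▸ ⟨hz, ?_⟩ : z ∈ (⊥ : Subgroup G))))
      exact mem_centralizer_iff.mpr fun y hy => congrArg Subtype.val (mem_center_iff.mp hzc ⟨y, hy⟩)
    haveI := hquo V hVi hVb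
    exact isNilpotent_of_solvable_step hfp hr hord hVq hVi
  exfalso
  apply hsolv
  by_cases h2 : IsPGroup 2 G
  · haveI := h2.isNilpotent
    infer_instance
  obtain ⟨p, hp, hpd, hp2⟩ : ∃ p, p.Prime ∧ p ∣ Nat.card G ∧ p ≠ 2 := by
    by_contra h
    push Not at h
    refine h2 (IsPGroup.of_card (n := (Nat.card G).primeFactorsList.length) ?_)
    exact Nat.eq_prime_pow_of_unique_prime_dvd Nat.card_pos.ne' fun {d} hd hdd => h d hd hdd
  haveI := Fact.mk hp
  obtain ⟨P, hP⟩ := exists_invariant_sylow_fpf hfp p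
  have hdisj : Disjoint (P : Subgroup G) φ.toMonoidHom.ker := by
    rw [(MonoidHom.ker_eq_bot_iff _).mpr φ.injective]; exact disjoint_bot_right
  generalize hW : centerThompsonAOf (P : Subgroup G) = W
  have hWi : W.map φ.toMonoidHom = W := by
    rw [← hW, CfsgLib.PLocal.centerThompsonA_map _ _ hdisj, hP]
  have hWb : W ≠ ⊥ := hW ▸ CfsgLib.PLocal.centerThompsonA_ne_bot P.2 (P.ne_bot_of_dvd_card hpd)
  by_cases htop : normalizer (W : Set G) = ⊤
  · haveI := normalizer_eq_top_iff.mp htop
    haveI := hquo W hWi hWb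
    haveI : Group.IsNilpotent W :=
      (hW ▸ P.2.to_le (CfsgLib.PLocal.centerThompsonA_le _) : IsPGroup p W).isNilpotent
    exact Group.isSolvable_of_ker_le_range W.subtype (QuotientGroup.mk' W)
      (by rw [QuotientGroup.ker_mk', range_subtype])
  haveI := hsub _ (map_normalizer hWi) htop
  have hnpc := hGl G p hp2 P (hW.symm ▸ hasNormalPComplement_of_isNilpotent p)
  have hRi : (pResidual p G).map φ.toMonoidHom = pResidual p G :=
    CfsgLib.Transfer.map_pResidual_mulEquiv φ
  have hRt : pResidual p G ≠ ⊤ := by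
    intro h
    have h1 := CfsgLib.Transfer.hasNormalPComplement_iff_coprime.mp hnpc
    rw [h, card_top] at h1
    exact hp.not_dvd_one (h1.symm.dvd_of_dvd_mul_right (by simpa using hpd))
  haveI := hsub _ hRi hRt
  haveI : Group.IsNilpotent (G ⧸ pResidual p G) :=
    (CfsgLib.Transfer.isPGroup_quotient_pResidual).isNilpotent
  exact Group.isSolvable_of_ker_le_range (pResidual p G).subtype (QuotientGroup.mk' (pResidual p G))
    (by rw [QuotientGroup.ker_mk', range_subtype])

theorem isNilpotent_of_fpf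
    (hGl : ∀ (K : Type u) [Group K] [Finite K] (p : ℕ) [Fact p.Prime], p ≠ 2 → ∀ P : Sylow p K,
      HasNormalPComplement p (normalizer (centerThompsonAOf (P : Subgroup K) : Set K)) →
      HasNormalPComplement p K)
    (φ : MulAut G) (hfp : ∀ x, φ x = x → x = 1) {r : ℕ} (hr : r.Prime) (hord : φ ^ r = 1) :
    Group.IsNilpotent G :=
  fpf_aux hGl hr _ G φ rfl hfp hord

end CfsgLib.Core.FPFAut

namespace CfsgLib.Core.FPFAut

open scoped Pointwise

open Subgroup Cfsg

theorem frobeniusKernel_nilpotent {G : Type u} [Group G] [Finite G]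
    (hGl : ∀ (K : Type u) [Group K] [Finite K] (p : ℕ) [Fact p.Prime], p ≠ 2 → ∀ P : Sylow p K,
      HasNormalPComplement p (normalizer (centerThompsonAOf (P : Subgroup K) : Set K)) →
      HasNormalPComplement p K)
    {H : Subgroup G} (hH : Cfsg.IsFrobeniusComplement H) :
    ∃ N : Subgroup G, (N : Set G) = Cfsg.frobeniusKernel H ∧ N.Normal ∧ Group.IsNilpotent N := by
  obtain ⟨N, hN, hNn, -, -, hfpf⟩ := FrobeniusConj.exists_kernel hH
  haveI := hNn
  refine ⟨N, hN, hNn, ?_⟩
  obtain ⟨r, hr, hrd⟩ := Nat.exists_prime_and_dvd (n := Nat.card H)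
    fun h => hH.1 (Subgroup.card_eq_one.mp h)
  haveI := Fact.mk hr
  obtain ⟨h, hh⟩ := exists_prime_orderOf_dvd_card' (G := H) r hrd
  let φ : MulAut N := MulAut.conjNormal (h : G)
  have hh1 : (h : G) ≠ 1 := fun e => hr.ne_one (by
    rw [← hh, ← Subgroup.orderOf_coe, e, orderOf_one])
  refine isNilpotent_of_fpf hGl φ (fun x hx => ?_) hr ?_
  · refine Subtype.ext (mem_bot.mp ((hfpf h h.2 hh1).le ⟨x.2, mem_centralizer_singleton_iff.mpr ?_⟩))
    have h1 := congrArg Subtype.val hx
    rw [MulAut.conjNormal_apply] at h1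
    exact (mul_inv_eq_iff_eq_mul.mp h1).symm
  · show (MulAut.conjNormal (h : G)) ^ r = 1
    rw [← map_pow, ← SubgroupClass.coe_pow, ← hh, pow_orderOf_eq_one, OneMemClass.coe_one, map_one]

end CfsgLib.Core.FPFAut
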