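import Cfsg.Agent.Lib.Core.Hall
import Cfsg.Agent.Lib.PGroups.Basic

/-!
# Nilpotent groups, Frattini subgroups, abelian groups

* `inf_center_ne_bot_of_isNilpotent`, `centralizer_eq_of_maximal_abelian_normal`
* `isNilpotent_iff_isSubnormal`, `nilpotencyClass_le_of_card_eq_pow`
* `prime_dvd_index_frattini`, `fittingSubgroup_quotient_frattini`
* `isCyclic_of_forall_card_pow_eq_one_le`, `exists_elementary_of_not_isCyclic`
* `burnside_basis`
-/

set_option autoImplicit false
set_option linter.all false

namespace CfsgLib.Core

open scoped Pointwise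

open Cfsg Subgroup

universe u

variable {G : Type*} [Group G] [Finite G]

theorem inf_center_ne_bot_of_isNilpotent [Group.IsNilpotent G] (N : Subgroup G) [N.Normal]
    (hN : N ≠ ⊥) : N ⊓ center G ≠ ⊥ := by
  obtain ⟨M, hMn, hMb, hMN, hmin⟩ := exists_minimal_normal_le' N hN
  rcases hmin ⁅M, (⊤ : Subgroup G)⁆ inferInstance (commutator_le_left _ _) with h | h
  · intro hbot
    exact hMb (le_bot_iff.mp (hbot ▸ le_inf hMN (commutator_top_right_eq_bot_iff_le_center.mp h)))
  · obtain ⟨n, hn⟩ := _root_.nilpotent_iff_lowerCentralSeries.mp (‹Group.IsNilpotent G›)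
    have : ∀ i, M ≤ (⊤ : Subgroup G).lowerCentralSeries i := by
      intro i
      induction i with
      | zero => exact le_top
      | succ i ih =>
        rw [Subgroup.lowerCentralSeries_succ, ← h]
        exact commutator_mono ih le_rfl
    exact absurd (le_bot_iff.mp (hn ▸ this n)) hMb

theorem centralizer_eq_of_maximal_abelian_normal [Group.IsNilpotent G] (N : Subgroup G) [N.Normal]
    [IsMulCommutative N]
    (hmax : ∀ M : Subgroup G, M.Normal → IsMulCommutative M → N ≤ M → M = N) :
    centralizer (N : Set G) = N := by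
  refine le_antisymm ?_ (le_centralizer_iff_isMulCommutative.mpr inferInstance)
  by_contra hle
  let π := QuotientGroup.mk' N
  have hCn := Subgroup.Normal.map (inferInstance : (centralizer (N : Set G)).Normal) π
    (QuotientGroup.mk'_surjective N)
  have hb : (centralizer (N : Set G)).map π ≠ ⊥ := by
    rw [Ne, Subgroup.map_eq_bot_iff, QuotientGroup.ker_mk']
    exact hle
  have h1 := inf_center_ne_bot_of_isNilpotent ((centralizer (N : Set G)).map π) hb
  rw [Ne, eq_bot_iff_forall] at h1
  push Not at h1
  obtain ⟨x, ⟨⟨c, hc, rfl⟩, hz⟩, hx⟩ := h1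
  have hn : ((zpowers (π c)).comap π).Normal := by
    refine Subgroup.Normal.comap ⟨fun y hy g => ?_⟩ π
    have hyc : y ∈ center _ := (zpowers_le.mpr hz) hy
    rwa [mem_center_iff.mp hyc g, mul_inv_cancel_right]
  have heq : (zpowers (π c)).comap π = N ⊔ zpowers c := by
    rw [← MonoidHom.map_zpowers, comap_map_eq, QuotientGroup.ker_mk', sup_comm]
  have hab : IsMulCommutative ((zpowers (π c)).comap π) := by
    rw [heq, ← le_centralizer_iff_isMulCommutative]
    have h1 : N ⊔ zpowers c ≤ centralizer (N : Set G) :=
      sup_le (le_centralizer_iff_isMulCommutative.mpr inferInstance) (zpowers_le.mpr hc)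
    have h2 : zpowers c ≤ centralizer (zpowers c : Set G) :=
      le_centralizer_iff_isMulCommutative.mpr inferInstance
    exact sup_le (le_centralizer_iff.mp h1)
      (le_centralizer_iff.mp (sup_le (le_centralizer_iff.mp (zpowers_le.mpr hc)) h2))
  have := hmax _ hn hab (QuotientGroup.le_comap_mk' N _)
  refine hx ?_
  have hcN : c ∈ N := this ▸ mem_comap.mpr (mem_zpowers (π c))
  exact (QuotientGroup.eq_one_iff c).mpr hcN

theorem isSubnormal_of_isNilpotent [Group.IsNilpotent G] (H : Subgroup G) : H.IsSubnormal := by
  induction H using (wellFounded_gt (α := Subgroup G)).induction with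
  | _ H ih =>
    by_cases hH : H = ⊤
    · exact hH ▸ IsSubnormal.top
    · have hlt := normalizerCondition_of_isNilpotent H (lt_top_iff_ne_top.mpr hH)
      exact IsSubnormal.step H _ le_normalizer (ih _ hlt)
        (normal_subgroupOf_of_le_normalizer le_rfl)

theorem isNilpotent_iff_isSubnormal : Group.IsNilpotent G ↔ ∀ H : Subgroup G, H.IsSubnormal := by
  refine ⟨fun h H => isSubnormal_of_isNilpotent H, fun h => ?_⟩
  refine ((Group.isNilpotent_of_finite_tfae (G := G)).out 0 2).mpr fun M hM => ?_
  obtain ⟨K, hKn, hMK, hK⟩ := (h M).exists_normal_and_le_and_lt_top_of_ne hM.1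
  rcases eq_or_lt_of_le hMK with hMK | hMK
  · exact hMK ▸ hKn
  · exact absurd (hM.2 K hMK) hK.ne

theorem prime_dvd_index_frattini {p : ℕ} (hp : p.Prime) (hd : p ∣ Nat.card G) :
    p ∣ (frattini G).index := by
  haveI := Fact.mk hp
  by_contra hnd
  haveI := frattini_nilpotent (G := G)
  obtain ⟨Q⟩ := (Sylow.nonempty : Nonempty (Sylow p (frattini G)))
  haveI : (Q : Subgroup (frattini G)).Characteristic := Q.characteristic_of_normal inferInstance
  generalize hP : (Q : Subgroup (frattini G)).map (frattini G).subtype = P
  haveI : P.Normal := hP ▸ inferInstance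
  obtain ⟨e, he⟩ := IsPGroup.iff_card.mp (hP ▸ Q.isPGroup'.map _ : IsPGroup p P)
  have hidx : ¬ p ∣ P.index := by
    rw [← hP, index_map_subtype, hp.dvd_mul]
    rintro (h | h)
    · exact Q.not_dvd_index h
    · exact hnd h
  have hcop : (Nat.card P).Coprime P.index :=
    he ▸ Nat.Coprime.pow_left e ((hp.coprime_iff_not_dvd).mpr hidx)
  obtain ⟨H, hH⟩ := exists_right_complement'_of_coprime hcop
  have hPle : P ≤ frattini G := hP ▸ map_subtype_le _
  have hHt : H = ⊤ := by
    refine frattini_nongenerating (top_unique ?_)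
    rw [← hH.symm.sup_eq_top]
    exact sup_le_sup le_rfl hPle
  have hPb : P = ⊥ := disjoint_top.mp (hHt ▸ hH.disjoint)
  rw [hPb, index_bot] at hidx
  exact hidx hd

theorem fittingSubgroup_quotient_frattini :
    fittingSubgroup (G ⧸ frattini G) =
      (fittingSubgroup G).map (QuotientGroup.mk' (frattini G)) := by
  refine le_antisymm ?_ (map_fittingSubgroup_le _ (QuotientGroup.mk'_surjective _))
  generalize hF : fittingSubgroup (G ⧸ frattini G) = F
  haveI : F.Normal := hF ▸ inferInstance
  haveI : Group.IsNilpotent F := hF ▸ isNilpotent_fittingSubgroup _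
  let π := QuotientGroup.mk' (frattini G)
  generalize hL : F.comap π = L
  haveI : L.Normal := hL ▸ Subgroup.Normal.comap inferInstance π
  have hnil : Group.IsNilpotent L := by
    refine ((Group.isNilpotent_of_finite_tfae (G := L)).out 0 3).mpr fun p hp P => ?_
    haveI := hp
    generalize hP : (P : Subgroup L).map L.subtype = Q
    have hQL : Q ≤ L := hP ▸ map_subtype_le _
    -- the image of `P` is the normal Sylow subgroup of `F`
    let f : L →* F := (π.comp L.subtype).codRestrict F fun x => by
      exact hL.symm.le x.2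
    have hf : Function.Surjective f := by
      rintro ⟨y, hy⟩
      obtain ⟨x, rfl⟩ := QuotientGroup.mk'_surjective _ y
      exact ⟨⟨x, by rw [← hL]; exact hy⟩, rfl⟩
    haveI : (P.mapSurjective hf : Subgroup F).Characteristic :=
      (P.mapSurjective hf).characteristic_of_normal inferInstance
    have hn : (((P.mapSurjective hf : Subgroup F).map F.subtype).comap π).Normal :=
      Subgroup.Normal.comap inferInstance π
    have heq : ((P.mapSurjective hf : Subgroup F).map F.subtype).comap π = Q ⊔ frattini G := by
      have : (P.mapSurjective hf : Subgroup F).map F.subtype = Q.map π := by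
        rw [← hP, Sylow.coe_mapSurjective, map_map, map_map]
        rfl
      rw [this, comap_map_eq, QuotientGroup.ker_mk']
    rw [heq] at hn
    -- Frattini argument
    have hsyl : ∀ g : G, MulAut.conj g • Q ≤ Q ⊔ frattini G := by
      intro g
      refine (conj_smul_mono (le_sup_left (b := frattini G))).trans ?_
      rw [Normal.conj_smul_eq_self g (Q ⊔ frattini G)]
    have htop : normalizer (Q : Set G) ⊔ frattini G = ⊤ := by
      rw [eq_top_iff]
      intro g _
      have hle : MulAut.conj g • Q ≤ Q ⊔ frattini G := hsyl g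
      have hQM : Q ≤ Q ⊔ frattini G := le_sup_left
      generalize hM : Q ⊔ frattini G = M at hle hQM hn
      have hML : M ≤ L := hM ▸ sup_le hQL (hL ▸ QuotientGroup.le_comap_mk' _ F)
      have hQp : IsPGroup p Q := hP ▸ P.isPGroup'.map _
      have hidxQ : ¬ p ∣ Q.relIndex M := fun h => P.not_dvd_index (by
        have h2 : Q.relIndex M ∣ Q.relIndex L := by
          rw [← relIndex_mul_relIndex Q M L hQM hML]; exact Dvd.intro _ rfl
        have h3 := h.trans h2
        rwa [← hP, relIndex, subgroupOf, comap_map_eq_self_of_injective L.subtype_injective] at h3)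
      have hgQ : IsPGroup p (MulAut.conj g • Q : Subgroup G) := hQp.map _
      obtain ⟨S, hS⟩ := (hgQ.of_equiv (subgroupOfEquivOfLe hle).symm).exists_le_sylow
      let S₀ : Sylow p M := (hQp.of_equiv (subgroupOfEquivOfLe hQM).symm).toSylow hidxQ
      obtain ⟨m, hm⟩ := MulAction.exists_smul_eq M S₀ S
      have hcards : (MulAut.conj g • Q).subgroupOf M = (S : Subgroup M) := by
        refine Subgroup.eq_of_le_of_card_ge hS (le_of_eq ?_)
        rw [← hm, Sylow.coe_subgroup_smul, card_conj_smul]
        show Nat.card (Q.subgroupOf M) = Nat.card ((MulAut.conj g • Q).subgroupOf M)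
        rw [Nat.card_congr (subgroupOfEquivOfLe hQM).toEquiv,
          Nat.card_congr (subgroupOfEquivOfLe hle).toEquiv, card_conj_smul]
      have hconj : MulAut.conj (m : G) • Q = MulAut.conj g • Q := by
        refine conj_smul_eq_of_subgroupOf hQM hle m ?_
        rw [hcards, ← hm]
        rfl
      have hmem : (m : G)⁻¹ * g ∈ normalizer (Q : Set G) := by
        rw [mem_normalizer_iff_conj_smul_eq, ← conj_smul_conj_smul, ← hconj, conj_smul_conj_smul,
          inv_mul_cancel, conj_one_smul]
      have hmQ : (m : G) ∈ normalizer (Q : Set G) ⊔ frattini G := by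
        have : M ≤ normalizer (Q : Set G) ⊔ frattini G :=
          hM ▸ sup_le_sup le_normalizer le_rfl
        exact this m.2
      simpa using mul_mem hmQ (mem_sup_left hmem)
    haveI : Q.Normal := normalizer_eq_top_iff.mp (frattini_nongenerating htop)
    rw [← hP] at *
    exact Subgroup.Normal.of_map_subtype inferInstance
  rw [← map_comap_eq_self_of_surjective (QuotientGroup.mk'_surjective (frattini G)) F, hL]
  exact map_mono (le_fittingSubgroup hnil)

/-- A finite abelian `p`-group with at most `p` solutions of `x ^ p = 1` is cyclic. -/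
theorem isCyclic_of_isPGroup_of_card_le {A : Type*} [CommGroup A] [Finite A] {p : ℕ} [Fact p.Prime]
    (hA : IsPGroup p A) (h : Nat.card (powMonoidHom p : A →* A).ker ≤ p) : IsCyclic A := by
  refine PGroups.isCyclic_of_index_frattini_le hA (le_trans ?_ h)
  have hle : (powMonoidHom p : A →* A).range ≤ frattini A := by
    rintro _ ⟨x, rfl⟩
    exact PGroups.pow_mem_frattini hA x
  refine le_trans (Nat.le_of_dvd (Nat.pos_of_ne_zero index_ne_zero_of_finite)
    (index_dvd_of_le hle)) (le_of_eq ?_)
  apply Nat.eq_of_mul_eq_mul_left (Nat.card_pos (α := (powMonoidHom p : A →* A).range))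
  rw [card_mul_index, ← index_ker, mul_comm, card_mul_index]

/-- A noncyclic finite abelian group has a subgroup `{a | a ^ p = 1}` of order at least `p ^ 2`. -/
theorem exists_elementary_of_not_isCyclic (A : Subgroup G) [IsMulCommutative A] (hA : ¬ IsCyclic A) :
    ∃ p : ℕ, p.Prime ∧ ∃ E : Subgroup G, E ≤ A ∧ (∀ e ∈ E, e ^ p = 1) ∧ p ^ 2 ≤ Nat.card E := by
  letI : CommGroup A := { (inferInstance : Group A) with mul_comm := fun a b => mul_comm' a b }
  by_contra hc
  push Not at hc
  apply hA
  haveI : IsZGroup A := by
    refine ⟨fun p hp P => ?_⟩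
    haveI := Fact.mk hp
    refine isCyclic_of_isPGroup_of_card_le P.isPGroup' ?_
    have hker : ∀ e ∈ ((powMonoidHom p : P →* P).ker.map
        (A.subtype.comp (P : Subgroup A).subtype)), e ^ p = 1 := by
      rintro _ ⟨x, hx, rfl⟩
      rw [← map_pow]
      exact (congrArg _ hx).trans (map_one _)
    have hlt := hc p hp _ (by rintro _ ⟨x, -, rfl⟩; exact (x : A).2) hker
    rw [← Nat.card_congr (equivMapOfInjective _ _
      (fun a b hab => (P : Subgroup A).subtype_injective (A.subtype_injective hab))).toEquiv] at hlt
    obtain ⟨k, hk⟩ := IsPGroup.iff_card.mp (P.isPGroup'.to_subgroup (powMonoidHom p : P →* P).ker)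
    rw [hk, Nat.pow_lt_pow_iff_right hp.one_lt] at hlt
    rw [hk]
    calc p ^ k ≤ p ^ 1 := Nat.pow_le_pow_right hp.pos (by omega)
      _ = p := pow_one p
  infer_instance

/-- Burnside's basis theorem. -/
theorem burnside_basis {p n : ℕ} [hp : Fact p.Prime] (hG : IsPGroup p G)
    (hn : (frattini G).index = p ^ n) :
    (∀ S : Finset G, closure (S : Set G) = ⊤ →
      ∃ T : Finset G, T ⊆ S ∧ T.card = n ∧ closure (T : Set G) = ⊤) ∧
    (∀ T : Finset G, closure (T : Set G) = ⊤ → n ≤ T.card) := by
  classical
  have step : ∀ (H : Subgroup G), frattini G ≤ H → ∀ s : G, s ∉ H →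
      (H ⊔ zpowers s).index * p = H.index := by
    intro H hH s hs
    haveI : H.Normal := Subgroup.Normal.of_commutator_le G
      ((PGroups.commutator_le_frattini' hG).trans hH)
    have heq : H ⊔ zpowers s = (zpowers (QuotientGroup.mk' H s)).comap (QuotientGroup.mk' H) := by
      rw [← MonoidHom.map_zpowers, comap_map_eq, QuotientGroup.ker_mk', sup_comm]
    have hord : orderOf (QuotientGroup.mk' H s) = p := by
      refine orderOf_eq_prime ?_ fun h => hs ((QuotientGroup.eq_one_iff s).mp h)
      rw [← map_pow]
      exact (QuotientGroup.eq_one_iff _).mpr (hH (PGroups.pow_mem_frattini hG s))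
    apply Nat.eq_of_mul_eq_mul_left (Nat.card_pos (α := H))
    rw [card_mul_index, ← (H ⊔ zpowers s).card_mul_index, heq, card_comap_mk', Nat.card_zpowers,
      hord]
    ring
  have hclos : ∀ (T : Finset G) (s : G), closure (↑(insert s T) : Set G) ⊔ frattini G =
      (closure (T : Set G) ⊔ frattini G) ⊔ zpowers s := by
    intro T s
    rw [Finset.coe_insert, Set.insert_eq, Subgroup.closure_union, ← zpowers_eq_closure]
    ac_rfl
  have hlow : ∀ T : Finset G, ∃ k ≤ T.card,
      (closure (T : Set G) ⊔ frattini G).index * p ^ k = p ^ n := by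
    intro T
    induction T using Finset.induction with
    | empty => exact ⟨0, le_rfl, by simp [hn]⟩
    | @insert s T hs ih =>
      obtain ⟨k, hk, h⟩ := ih
      rw [hclos, Finset.card_insert_of_notMem hs]
      by_cases hmem : s ∈ closure (T : Set G) ⊔ frattini G
      · exact ⟨k, by omega, by rwa [sup_eq_left.mpr (zpowers_le.mpr hmem)]⟩
      · refine ⟨k + 1, by omega, ?_⟩
        rw [← h, ← step _ le_sup_right s hmem]
        ring
  refine ⟨fun S hS => ?_, fun T hT => ?_⟩
  · have hgr : ∀ k, k ≤ n → ∃ T : Finset G, T ⊆ S ∧ T.card = k ∧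
        (closure (T : Set G) ⊔ frattini G).index * p ^ k = p ^ n := by
      intro k
      induction k with
      | zero => exact fun _ => ⟨∅, Finset.empty_subset S, rfl, by simp [hn]⟩
      | succ k ih =>
        intro hk
        obtain ⟨T, hTS, hTc, h⟩ := ih (by omega)
        have hex : ∃ s ∈ S, s ∉ closure (T : Set G) ⊔ frattini G := by
          by_contra hc
          push Not at hc
          have : closure (T : Set G) ⊔ frattini G = ⊤ := top_unique (hS ▸ (closure_le _).mpr hc)
          rw [this, index_top, one_mul] at h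
          have := Nat.pow_right_injective hp.out.two_le h
          omega
        obtain ⟨s, hsS, hs⟩ := hex
        refine ⟨insert s T, Finset.insert_subset hsS hTS, ?_, ?_⟩
        · rw [Finset.card_insert_of_notMem fun hmem => hs (mem_sup_left (subset_closure hmem)), hTc]
        · rw [hclos, ← h, ← step _ le_sup_right s hs]
          ring
    obtain ⟨T, hTS, hTc, h⟩ := hgr n le_rfl
    refine ⟨T, hTS, hTc, PGroups.closure_eq_top_of_sup_frattini (index_eq_one.mp ?_)⟩
    exact Nat.eq_of_mul_eq_mul_right (pow_pos hp.out.pos n) (h.trans (one_mul _).symm)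
  · obtain ⟨k, hk, h⟩ := hlow T
    rw [hT, top_sup_eq, index_top, one_mul] at h
    exact Nat.pow_right_injective hp.out.two_le h ▸ hk

theorem nilpotencyClass_le_of_card_eq_pow {p : ℕ} [hp : Fact p.Prime] {G : Type*} [Group G]
    [Finite G] {m : ℕ} (hG : Nat.card G = p ^ m) (hm : 1 < m) : Group.nilpotencyClass G ≤ m - 1 := by
  induction m using Nat.strongRecOn generalizing G with
  | ind m ih =>
    have hpG : IsPGroup p G := IsPGroup.of_card hG
    haveI := hpG.isNilpotent
    haveI : Nontrivial G := by
      rw [← Finite.one_lt_card_iff_nontrivial, hG]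
      exact Nat.one_lt_pow (by omega) hp.out.one_lt
    obtain ⟨j, hj⟩ := IsPGroup.iff_card.mp (hpG.to_quotient (center G))
    have hjm : j < m := by
      have := card_quotient_lt (center G) (Group.IsNilpotent.center_ne_bot G)
      rwa [hj, hG, Nat.pow_lt_pow_iff_right hp.out.one_lt] at this
    have hz := nilpotencyClass_quotient_center (G := G)
    rcases lt_trichotomy j 1 with h | h | h
    · haveI : Subsingleton (G ⧸ center G) := (Nat.card_eq_one_iff_unique.mp (by
        rw [hj, Nat.lt_one_iff.mp h, pow_zero])).1
      rw [nilpotencyClass_zero_iff_subsingleton.mpr inferInstance] at hz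
      omega
    · haveI : IsCyclic (G ⧸ center G) := isCyclic_of_prime_card (by rw [hj, h, pow_one])
      have hc : IsMulCommutative G := isMulCommutative_of_isCyclic_quotient_center_self G
      have := Group.IsNilpotent.nilpotencyClass_le_one_iff.mpr hc
      omega
    · have := ih j hjm hj h
      omega

end CfsgLib.Core
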