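import Cfsg.Agent.Lib.Core.Coprime
import Cfsg.Agent.Lib.Core.Nilpotent

/-!
# Assorted facts for the solvable topic

* `isSolvable_of_maximal_nilpotent`, `card_commutator_of_index_prime`
-/

set_option autoImplicit false
set_option linter.all false

namespace CfsgLib.Core

open scoped Pointwise commutatorElement

open Subgroup

universe u

theorem solvable_simple_maximal_nilpotent {G : Type u} [Group G] [Finite G] [IsSimpleGroup G]
    (h : ∀ M : Subgroup G, IsCoatom M → Group.IsNilpotent M) : Group.IsSolvable G := by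
  classical
  by_contra hns
  have hnc : ∀ x : G, zpowers x ≠ ⊤ := fun x hx => hns (Group.isSolvable_of_comm fun a b => by
    obtain ⟨i, rfl⟩ := mem_zpowers_iff.mp (hx ▸ mem_top a : a ∈ zpowers x)
    obtain ⟨j, rfl⟩ := mem_zpowers_iff.mp (hx ▸ mem_top b : b ∈ zpowers x)
    exact ((Commute.refl x).zpow_zpow i j).eq)
  have hMb : ∀ M : Subgroup G, IsCoatom M → M ≠ ⊥ := by
    intro M hM hb
    obtain ⟨x, hx⟩ := exists_ne (1 : G)
    exact hnc x (hM.2 _ (hb ▸ bot_lt_iff_ne_bot.mpr (zpowers_ne_bot.mpr hx)))
  have hnt : ∀ D : Subgroup G, D ≠ ⊥ → D ≠ ⊤ → normalizer (D : Set G) ≠ ⊤ := fun D hb ht hc =>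
    ((normalizer_eq_top_iff.mp hc).eq_bot_or_eq_top).elim hb ht
  have hself : ∀ M : Subgroup G, IsCoatom M → normalizer (M : Set G) = M := fun M hM => by
    rcases lt_or_eq_of_le (le_normalizer (H := M)) with hlt | heq
    · exact absurd (hM.2 _ hlt) (hnt M (hMb M hM) hM.1)
    · exact heq.symm
  -- maximal subgroups meet trivially
  have hinter : ∀ M L : Subgroup G, IsCoatom M → IsCoatom L → M ≠ L → M ⊓ L = ⊥ := by
    intro M L hM hL hne
    induction hD : M ⊓ L using (wellFounded_gt (α := Subgroup G)).induction generalizing M L with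
    | _ D ih =>
      by_contra hDb
      have hDM : D ≤ M := hD ▸ inf_le_left
      have hDL : D ≤ L := hD ▸ inf_le_right
      have hDt : D ≠ ⊤ := fun hc => hM.1 (top_unique (hc ▸ hDM))
      obtain hn | ⟨X, hX, hNX⟩ := eq_top_or_exists_le_coatom (normalizer (D : Set G))
      · exact hnt D hDb hDt hn
      have grow : ∀ Y : Subgroup G, IsCoatom Y → D ≤ Y → Y ≠ D → D < X ⊓ Y := by
        intro Y hY hDY hne'
        haveI := h Y hY
        have hlt : D.subgroupOf Y < ⊤ := by
          rw [lt_top_iff_ne_top, Ne, subgroupOf_eq_top]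
          exact fun hc => hne' (le_antisymm hc hDY)
        have hgrow := normalizerCondition_of_isNilpotent _ hlt
        rw [← subgroupOf_normalizer_eq hDY] at hgrow
        obtain ⟨g, hg, hgD⟩ := SetLike.exists_of_lt hgrow
        exact lt_of_le_of_ne (le_inf (le_normalizer.trans hNX) hDY) fun he =>
          hgD (mem_subgroupOf.mpr (he ▸ ⟨hNX (mem_subgroupOf.mp hg), g.2⟩))
      have hMD : M ≠ D := fun hc => hne (by
        rcases lt_or_eq_of_le (hc.le.trans hDL) with hlt | he
        · exact absurd (hM.2 L hlt) hL.1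
        · exact he)
      have hLD : L ≠ D := fun hc => hne (by
        rcases lt_or_eq_of_le (hc.le.trans hDM) with hlt | he
        · exact absurd (hL.2 M hlt) hM.1
        · exact he.symm)
      have key : ∀ Y : Subgroup G, IsCoatom Y → D ≤ Y → Y ≠ D → X = Y := by
        intro Y hY hDY hYD
        by_contra hc
        have hlt := grow Y hY hDY hYD
        exact ne_bot_of_gt hlt (ih _ hlt X Y hX hY hc rfl)
      exact hne ((key M hM hDM hMD).symm.trans (key L hL hDL hLD))
  -- counting
  let f : (M : Subgroup G) → (G ⧸ M) × {m : M // m ≠ 1} → {g : G // g ≠ 1} := fun M z =>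
    ⟨z.1.out * (z.2.1 : G) * z.1.out⁻¹, fun hc => z.2.2 (Subtype.ext (by
      show (z.2.1 : G) = 1
      have := congrArg (fun w => z.1.out⁻¹ * w * z.1.out) hc
      simpa [mul_assoc] using this))⟩
  have hmem : ∀ (M : Subgroup G) (z : (G ⧸ M) × {m : M // m ≠ 1}),
      (f M z).1 ∈ MulAut.conj z.1.out • M := fun M z => conj_mem_conj_smul z.2.1.2
  have hcoat : ∀ (M : Subgroup G) (g : G), IsCoatom M → IsCoatom (MulAut.conj g • M) := by
    intro M g hM
    refine ⟨fun hc => hM.1 ((card_eq_iff_eq_top M).mp ?_), fun Y hY => ?_⟩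
    · rw [← card_conj_smul g M, hc, Subgroup.card_top]
    · have h1 : M < MulAut.conj g⁻¹ • Y := by
        refine lt_of_le_of_ne ?_ fun he => ?_
        · rw [map_inv, ← pointwise_smul_subset_iff]; exact hY.le
        · apply hY.ne
          rw [he, conj_smul_conj_smul, mul_inv_cancel, conj_one_smul]
      refine (card_eq_iff_eq_top Y).mp ?_
      rw [← card_conj_smul g⁻¹ Y, hM.2 _ h1, Subgroup.card_top]
  have hinj : ∀ M : Subgroup G, IsCoatom M → Function.Injective (f M) := by
    intro M hM z w hzw
    have heq : MulAut.conj z.1.out • M = MulAut.conj w.1.out • M := by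
      by_contra hne
      have hbot := hinter _ _ (hcoat M _ hM) (hcoat M _ hM) hne
      have hm : (f M z).1 ∈ MulAut.conj z.1.out • M ⊓ MulAut.conj w.1.out • M :=
        ⟨hmem M z, hzw ▸ hmem M w⟩
      rw [hbot, mem_bot] at hm
      exact (f M z).2 hm
    have hq : z.1 = w.1 := by
      rw [← z.1.out_eq, ← w.1.out_eq]
      refine Quotient.sound' ?_
      rw [QuotientGroup.leftRel_apply]
      have hn : z.1.out⁻¹ * w.1.out ∈ normalizer (M : Set G) := by
        rw [mem_normalizer_iff_conj_smul_eq, ← conj_smul_conj_smul, ← heq, conj_smul_conj_smul,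
          inv_mul_cancel, conj_one_smul]
      rwa [hself M hM] at hn
    refine Prod.ext hq (Subtype.ext (Subtype.ext ?_))
    have h3 : z.1.out * (z.2.1 : G) * z.1.out⁻¹ = w.1.out * (w.2.1 : G) * w.1.out⁻¹ :=
      congrArg Subtype.val hzw
    rwa [hq, mul_left_inj, mul_right_inj] at h3
  have hcard : ∀ M : Subgroup G, Nat.card ((G ⧸ M) × {m : M // m ≠ 1}) + M.index = Nat.card G := by
    intro M
    letI := Fintype.ofFinite M
    have : Nat.card {m : M // m ≠ 1} + 1 = Nat.card M := by
      rw [Nat.card_eq_fintype_card, Nat.card_eq_fintype_card, Fintype.card_subtype_compl,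
        Fintype.card_subtype_eq]
      have := Fintype.card_pos (α := M)
      omega
    rw [Nat.card_prod, ← M.card_mul_index, ← this, index_eq_card]
    ring
  have hhalf : ∀ M : Subgroup G, IsCoatom M → 2 * M.index ≤ Nat.card G := by
    intro M hM
    rw [← M.card_mul_index]
    exact Nat.mul_le_mul_right _ (M.one_lt_card_iff_ne_bot.mpr (hMb M hM))
  have hG1 : Nat.card {g : G // g ≠ 1} + 1 = Nat.card G := by
    letI := Fintype.ofFinite G
    rw [Nat.card_eq_fintype_card, Nat.card_eq_fintype_card, Fintype.card_subtype_compl,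
      Fintype.card_subtype_eq]
    have := Fintype.card_pos (α := G)
    omega
  obtain ⟨x0, hx0⟩ := exists_ne (1 : G)
  obtain h0 | ⟨M, hM, -⟩ := eq_top_or_exists_le_coatom (zpowers x0)
  · exact hnc x0 h0
  have hsurj : ¬ Function.Surjective (f M) := by
    intro hs
    have := Nat.card_le_card_of_surjective _ hs
    have h1 := hcard M
    have h2 := one_lt_index_of_ne_top hM.1
    omega
  rw [Function.Surjective] at hsurj
  push Not at hsurj
  obtain ⟨⟨g, hg⟩, hgM⟩ := hsurj
  obtain h0 | ⟨L, hL, hgL⟩ := eq_top_or_exists_le_coatom (zpowers g)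
  · exact hnc g h0
  have hgL' := hgL (mem_zpowers g)
  have hdisj : ∀ z w, f M z ≠ f L w := by
    intro z w hzw
    have heq : MulAut.conj z.1.out • M = MulAut.conj w.1.out • L := by
      by_contra hne
      have hbot := hinter _ _ (hcoat M _ hM) (hcoat L _ hL) hne
      have hm : (f M z).1 ∈ MulAut.conj z.1.out • M ⊓ MulAut.conj w.1.out • L :=
        ⟨hmem M z, hzw ▸ hmem L w⟩
      rw [hbot, mem_bot] at hm
      exact (f M z).2 hm
    -- `L` is then conjugate to `M`, so `g` would be covered
    generalize hu : w.1.out⁻¹ * z.1.out = u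
    have hLM : L = MulAut.conj u • M := by
      rw [← hu, ← conj_smul_conj_smul, heq, conj_smul_conj_smul, inv_mul_cancel, conj_one_smul]
    have hgu : g ∈ MulAut.conj u • M := hLM ▸ hgL'
    obtain ⟨v, hv⟩ := QuotientGroup.mk_out_eq_mul M u
    have hm : ((u : G ⧸ M).out)⁻¹ * g * (u : G ⧸ M).out ∈ M := by
      rw [hv]
      have := M.mul_mem (M.mul_mem (M.inv_mem v.2) (mem_conj_smul_iff.mp hgu)) v.2
      simpa [mul_assoc] using this
    refine hgM ((u : G ⧸ M), ⟨⟨_, hm⟩, fun hc => hg ?_⟩) (Subtype.ext ?_)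
    · have h3 : ((u : G ⧸ M).out)⁻¹ * g * (u : G ⧸ M).out = 1 := congrArg Subtype.val hc
      have := congrArg (fun y => (u : G ⧸ M).out * y * ((u : G ⧸ M).out)⁻¹) h3
      simpa [mul_assoc] using this
    · show (u : G ⧸ M).out * _ * ((u : G ⧸ M).out)⁻¹ = g
      group
  have hsum : Function.Injective (Sum.elim (f M) (f L)) :=
    (hinj M hM).sumElim (hinj L hL) hdisj
  have := Nat.card_le_card_of_injective _ hsum
  rw [Nat.card_sum] at this
  have h1 := hcard M
  have h2 := hcard L
  have h3 := hhalf M hM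
  have h4 := hhalf L hL
  omega

private theorem maxnil_aux (n : ℕ) :
    ∀ (G : Type u) [Group G] [Finite G], Nat.card G = n →
      (∀ M : Subgroup G, IsCoatom M → Group.IsNilpotent M) → Group.IsSolvable G := by
  induction n using Nat.strongRecOn with
  | ind n ih =>
    intro G _ _ hG h
    subst hG
    rcases subsingleton_or_nontrivial G with h1 | h1
    · infer_instance
    by_cases hN : ∃ N : Subgroup G, N.Normal ∧ N ≠ ⊥ ∧ N ≠ ⊤
    · obtain ⟨N, hNn, hNb, hNt⟩ := hN
      obtain h0 | ⟨M, hM, hNM⟩ := eq_top_or_exists_le_coatom N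
      · exact absurd h0 hNt
      haveI := h M hM
      haveI := isNilpotent_of_le hNM
      haveI : Group.IsSolvable (G ⧸ N) := by
        refine ih _ (card_quotient_lt N hNb) (G ⧸ N) rfl fun X hX => ?_
        haveI := h _ (isCoatom_comap_of_surjective (QuotientGroup.mk'_surjective N) hX)
        rw [← map_comap_eq_self_of_surjective (QuotientGroup.mk'_surjective N) X]
        exact isNilpotent_map _ _
      exact (Group.isSolvable_iff_subgroup_quotient N).mpr ⟨inferInstance, inferInstance⟩
    · push Not at hN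
      haveI : IsSimpleGroup G := ⟨fun N hNn => by
        by_cases hb : N = ⊥
        · exact Or.inl hb
        · exact Or.inr (hN N hNn hb)⟩
      exact solvable_simple_maximal_nilpotent h

theorem isSolvable_of_maximal_nilpotent {G : Type u} [Group G] [Finite G]
    (h : ∀ M : Subgroup G, IsCoatom M → Group.IsNilpotent M) : Group.IsSolvable G :=
  maxnil_aux _ G rfl h

/-! ### `|K : C_K(A)| = p` -/

theorem card_of_commutator_eq_self {G : Type u} [Group G] [Finite G] {A K : Subgroup G}
    (hAK : A ≤ normalizer (K : Set G)) (hcop : (Nat.card A).Coprime (Nat.card K))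
    (hsolv : Group.IsSolvable A ∨ Group.IsSolvable K) {p : ℕ} [Fact p.Prime]
    (hidx : (K ⊓ centralizer (A : Set G)).relIndex K = p) (hK : ⁅K, A⁆ = K) :
    Nat.card K = p := by
  have hp : p.Prime := Fact.out
  have hC : (centralizer (A : Set G)).subgroupOf K = (K ⊓ centralizer (A : Set G)).subgroupOf K :=
    (inf_subgroupOf_left _ _).symm
  generalize hC' : (centralizer (A : Set G)).subgroupOf K = C₁ at hC
  have hC₁ : C₁.index = p := by rw [hC]; exact hidx
  obtain ⟨P, hP⟩ := exists_invariant_sylow hAK hcop hsolv p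
  have hPC : ¬ (P : Subgroup K) ≤ C₁ := fun hle => P.not_dvd_index (by
    rw [← relIndex_mul_index hle, hC₁]; exact dvd_mul_left _ _)
  have hprod : ∀ k : K, ∃ x ∈ (P : Subgroup K), ∃ c ∈ C₁, k = x * c := by
    refine exists_mul_of_index_inf ?_
    rw [← relIndex_mul_index (inf_le_left : (P : Subgroup K) ⊓ C₁ ≤ P), inf_relIndex_left,
      mul_comm (P : Subgroup K).index, hC₁]
    congr 1
    have h1 : C₁.relIndex (P : Subgroup K) ≤ p := by
      refine (relIndex_le_of_le_right le_top ?_).trans_eq (by rw [relIndex_top_right, hC₁])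
      rw [relIndex_top_right, hC₁]; exact hp.ne_zero
    obtain ⟨i, hi⟩ := P.isPGroup'.index (C₁.subgroupOf (P : Subgroup K))
    change C₁.relIndex (P : Subgroup K) = p ^ i at hi
    rcases i with _ | i
    · rw [pow_zero, relIndex_eq_one] at hi; exact absurd hi hPC
    · refine le_antisymm h1 ?_
      rw [hi]; exact Nat.le_self_pow i.succ_ne_zero p
  have hKP : K ≤ (P : Subgroup K).map K.subtype := by
    conv_lhs => rw [← hK]
    rw [commutator_le]
    intro k hk a ha
    obtain ⟨x, hx, c, hc, hxc⟩ := hprod ⟨k, hk⟩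
    have hk' : k = (x : G) * c := congrArg Subtype.val hxc
    have hca : ⁅(c : G), a⁆ = 1 := by
      rw [← hC'] at hc
      rw [commutatorElement_eq_one_iff_mul_comm]
      exact (mem_centralizer_iff.mp (mem_subgroupOf.mp hc) a ha).symm
    rw [hk', commutatorElement_mul_left_eq_conj_mul, hca]
    simp only [mul_one, mul_inv_cancel, one_mul]
    have hxP : (x : G) ∈ (P : Subgroup K).map K.subtype := mem_map_of_mem _ hx
    rw [commutatorElement_def, mul_assoc (x : G) a, mul_assoc]
    exact mul_mem hxP (conj_mem_of_le_normalizer hP ha (inv_mem hxP))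
  have hKp : IsPGroup p K := (P.isPGroup'.map _).to_le hKP
  generalize hCdef : K ⊓ centralizer (A : Set G) = C at hidx hC
  have hCK : C ≤ K := hCdef ▸ inf_le_left
  have hCn : K ≤ normalizer (C : Set G) := by
    haveI : C₁.Normal := by
      refine PGroups.normal_of_isCoatom' hKp ?_
      refine ⟨fun hc => hp.ne_one (by rw [← hC₁, hc, index_top]), fun X hX => ?_⟩
      have hd : X.index ∣ p := hC₁ ▸ index_dvd_of_le hX.le
      rcases (Nat.dvd_prime hp).mp hd with h1 | h1
      · exact index_eq_one.mp h1
      · exact absurd (h1.trans hC₁.symm) (index_strictAnti hX).ne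
    exact (normal_subgroupOf_iff_le_normalizer hCK).mp (hC ▸ this)
  have hCA : ⁅C, A⁆ = ⊥ := commutator_eq_bot_iff_le_centralizer.mpr (hCdef ▸ inf_le_right)
  have hcent : K ≤ centralizer (C : Set G) := by
    rw [← commutator_eq_bot_iff_le_centralizer, ← hK]
    refine commutator_commutator_eq_bot_of_rotate ?_ ?_
    · rw [commutator_comm A C, hCA, commutator_bot_left]
    · exact le_bot_iff.mp ((commutator_mono (le_normalizer_iff_commutator_le_left.mp hCn) le_rfl).trans
        hCA.le)
  obtain ⟨x, hxK, hxC⟩ := SetLike.not_le_iff_exists.mp (fun hle : K ≤ C => hp.ne_one (by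
    rw [← hidx, relIndex_eq_one.mpr hle]))
  haveI : IsMulCommutative K := by
    rw [← le_centralizer_iff_isMulCommutative]
    have hsup : K ≤ C ⊔ zpowers x := by
      have h1 : (C.subgroupOf K) < (C ⊔ zpowers x).subgroupOf K :=
        lt_of_le_of_ne (fun z hz => mem_sup_left hz) fun he =>
          hxC (mem_subgroupOf.mp (he ▸ mem_subgroupOf.mpr (mem_sup_right (mem_zpowers x)) :
            (⟨x, hxK⟩ : K) ∈ C.subgroupOf K))
      have h2 : ((C ⊔ zpowers x).subgroupOf K).index ∣ p := hidx ▸ index_dvd_of_le h1.le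
      rcases (Nat.dvd_prime hp).mp h2 with h | h
      · exact subgroupOf_eq_top.mp (index_eq_one.mp h)
      · exact absurd (h.trans hidx.symm) (index_strictAnti h1).ne
    have h2 : zpowers x ≤ centralizer (zpowers x : Set G) :=
      le_centralizer_iff_isMulCommutative.mpr inferInstance
    have h3 : K ≤ centralizer (zpowers x : Set G) := hsup.trans
      (sup_le (le_centralizer_iff.mp ((zpowers_le.mpr hxK).trans hcent)) h2)
    exact hsup.trans (sup_le (le_centralizer_iff.mp hcent) (le_centralizer_iff.mp h3))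
  have hbot := abelian_inf_eq_bot hAK hcop
  rw [hK, hCdef, inf_eq_left.mpr hCK] at hbot
  rw [← hidx, hbot, relIndex_bot_left]

theorem card_commutator_of_index_prime {G : Type u} [Group G] [Finite G] {A K : Subgroup G}
    (hAK : A ≤ normalizer (K : Set G)) (hcop : (Nat.card A).Coprime (Nat.card K))
    (hsolv : Group.IsSolvable A ∨ Group.IsSolvable K) {p : ℕ} (hp : p.Prime)
    (hidx : (K ⊓ centralizer (A : Set G)).relIndex K = p) :
    Nat.card (⁅K, A⁆ : Subgroup G) = p := by
  haveI := Fact.mk hp
  have hNK : ⁅K, A⁆ ≤ K := commutator_le_of_normalizes hAK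
  have hsup := commutator_sup_centralizer hAK hcop hsolv
  have hmain := card_sup_mul_card_inf (K ⊓ centralizer (A : Set G)) ⁅K, A⁆
    (inf_le_left.trans (normalizer_commutator_ge_left K A))
  rw [sup_comm, hsup, inf_comm (K ⊓ centralizer (A : Set G)), ← inf_assoc,
    inf_eq_left.mpr hNK] at hmain
  refine card_of_commutator_eq_self (normalizer_commutator_ge_right K A)
    (hcop.coprime_dvd_right (card_dvd_of_le hNK))
    (hsolv.imp id fun h => isSolvable_of_le h hNK) ?_ (commutator_commutator_eq hAK hcop hsolv)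
  generalize hC : K ⊓ centralizer (A : Set G) = C at hidx hmain
  generalize hN : ⁅K, A⁆ = N at hmain hNK
  generalize hD : N ⊓ centralizer (A : Set G) = D at hmain
  have hDN : D ≤ N := hD ▸ inf_le_left
  have hCK : C ≤ K := hC ▸ inf_le_left
  have h1 : Nat.card D * D.relIndex N = Nat.card N := by
    rw [← Nat.card_congr (subgroupOfEquivOfLe hDN).toEquiv]
    exact (D.subgroupOf N).card_mul_index
  have h2 : Nat.card C * C.relIndex K = Nat.card K := by
    rw [← Nat.card_congr (subgroupOfEquivOfLe hCK).toEquiv]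
    exact (C.subgroupOf K).card_mul_index
  rw [← h1, ← h2, hidx] at hmain
  apply Nat.eq_of_mul_eq_mul_left (Nat.mul_pos (Nat.card_pos (α := C)) (Nat.card_pos (α := D)))
  rw [mul_assoc, ← hmain]
  ring

end CfsgLib.Core
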