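import Cfsg.Agent.Lib.Core.Nilpotent
import Cfsg.Agent.Lib.Core.Misc
import Cfsg.Agent.Lib.PGroups.MaxAbelian
import Cfsg.Agent.Lib.TwoGroups.Recognition

/-!
# `p`-groups with a unique subgroup of order `p`

* `isCyclic_or_quaternion_of_unique`: cyclic or generalised quaternion.
-/

set_option autoImplicit false
set_option linter.all false

namespace CfsgLib.Core.UniqueOrderP

open scoped IsMulCommutative

open Subgroup

variable {G : Type*} [Group G] {p : ℕ}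

theorem isCyclic_of_unique [Finite G] [hp : Fact p.Prime] (hG : IsPGroup p G)
    (huniq : ∀ H K : Subgroup G, Nat.card H = p → Nat.card K = p → H = K)
    (B : Subgroup G) [IsMulCommutative B] : IsCyclic B := by
  by_contra hnc
  obtain ⟨q, hq, E, hEB, hexp, hcard⟩ := exists_elementary_of_not_isCyclic B hnc
  have hEne : E ≠ ⊥ := fun h => by
    rw [h, Subgroup.card_bot] at hcard
    nlinarith [hq.two_le]
  obtain ⟨⟨e, he⟩, he1⟩ := ne_bot_iff_exists_ne_one.mp hEne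
  have hord : ∀ f ∈ E, f ≠ 1 → orderOf f = q := fun f hf hf1 => by
    haveI := Fact.mk hq
    exact orderOf_eq_prime (hexp f hf) hf1
  have he1' : e ≠ 1 := fun h => he1 (Subtype.ext h)
  obtain ⟨i, hi⟩ := IsPGroup.iff_orderOf.mp hG e
  have hqp : q = p := by
    rw [hord e he he1'] at hi
    exact (Nat.prime_dvd_prime_iff_eq hq hp.out).mp (hq.dvd_of_dvd_pow (n := i) (hi ▸ dvd_rfl))
  subst hqp
  have hle : E ≤ zpowers e := by
    intro f hf
    by_cases hf1 : f = 1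
    · rw [hf1]; exact one_mem _
    rw [huniq (zpowers e) (zpowers f) (by rw [Nat.card_zpowers, hord e he he1'])
      (by rw [Nat.card_zpowers, hord f hf hf1])]
    exact mem_zpowers f
  have h := hcard.trans (Subgroup.card_le_of_le hle)
  rw [Nat.card_zpowers, hord e he he1'] at h
  nlinarith [hq.two_le]

theorem conj_pow_zpow {x a : G} {r : ℤ} (hr : x * a * x⁻¹ = a ^ r) (i : ℕ) :
    x ^ i * a * (x ^ i)⁻¹ = a ^ (r ^ i) := by
  induction i with
  | zero => simp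
  | succ i ih =>
    calc x ^ (i + 1) * a * (x ^ (i + 1))⁻¹ = x ^ i * (x * a * x⁻¹) * (x ^ i)⁻¹ := by
          rw [pow_succ]; group
      _ = (x ^ i * a * (x ^ i)⁻¹) ^ r := by rw [hr, conj_zpow]
      _ = a ^ (r ^ (i + 1)) := by rw [ih, ← zpow_mul, pow_succ]

theorem zpow_mul_pow {x a : G} {r : ℤ} (hr : x * a * x⁻¹ = a ^ r) (k : ℤ) (i : ℕ) :
    (a ^ k * x) ^ i = a ^ (k * ∑ j ∈ Finset.range i, r ^ j) * x ^ i := by
  induction i with
  | zero => simp
  | succ i ih =>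
    have h1 : x ^ i * a ^ k = a ^ (r ^ i * k) * x ^ i := by
      rw [zpow_mul, ← conj_pow_zpow hr, conj_zpow]
      group
    rw [pow_succ, ih, Finset.sum_range_succ, mul_add, zpow_add, pow_succ x,
      mul_comm k (r ^ i)]
    calc a ^ (k * ∑ j ∈ Finset.range i, r ^ j) * x ^ i * (a ^ k * x)
        = a ^ (k * ∑ j ∈ Finset.range i, r ^ j) * (x ^ i * a ^ k) * x := by group
      _ = _ := by rw [h1]; group

section Main

variable [Finite G] [hp : Fact p.Prime]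
  (huniq : ∀ H K : Subgroup G, Nat.card H = p → Nat.card K = p → H = K)
  {a x : G} {n : ℕ} (ha : orderOf a = p ^ n) (hn : n ≠ 0) (hx : x ∉ zpowers a)

include huniq ha hn hx

/-- No element of `a^ℤ x` has `p`-th power one. -/
theorem pow_ne_one (k : ℤ) : (a ^ k * x) ^ p ≠ 1 := by
  intro h
  have hw : a ^ k * x ∉ zpowers a := fun hw => hx (by
    simpa using (zpowers a).mul_mem ((zpowers a).inv_mem ((zpowers a).zpow_mem (mem_zpowers a) k)) hw)
  have hw1 : a ^ k * x ≠ 1 := fun h1 => hw (h1.symm ▸ one_mem _)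
  obtain ⟨m, rfl⟩ := Nat.exists_eq_succ_of_ne_zero hn
  have hb : orderOf (a ^ (p ^ m)) = p := by
    rw [orderOf_pow' _ (pow_ne_zero _ hp.out.ne_zero), ha,
      Nat.gcd_eq_right (pow_dvd_pow p (Nat.le_succ m)), pow_succ,
      Nat.mul_div_cancel_left _ (pow_pos hp.out.pos m)]
  have heq := huniq (zpowers (a ^ k * x)) (zpowers (a ^ (p ^ m)))
    (by rw [Nat.card_zpowers, orderOf_eq_prime h hw1]) (by rw [Nat.card_zpowers, hb])
  exact hw (zpowers_le.mpr (pow_mem (mem_zpowers a) _) (heq ▸ mem_zpowers (a ^ k * x)))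

theorem not_exists_zpow {r m : ℤ} (hr : x * a * x⁻¹ = a ^ r) (hm : a ^ m = x ^ p) :
    ¬ ∃ k : ℤ, (a ^ (∑ j ∈ Finset.range p, r ^ j)) ^ k = x ^ p := by
  rintro ⟨k, hk⟩
  apply pow_ne_one huniq ha hn hx (-k)
  rw [zpow_mul_pow hr, ← hk, ← zpow_mul, ← zpow_add]
  ring_nf
  simp

theorem not_dvd_one_case {r m u : ℤ} (hr : x * a * x⁻¹ = a ^ r) (hm : a ^ m = x ^ p)
    (hpm : (p : ℤ) ∣ m) (hS : (∑ j ∈ Finset.range p, r ^ j) = p * u) (hu : ¬ (p : ℤ) ∣ u) :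
    False := by
  obtain ⟨m', rfl⟩ := hpm
  have hcop : IsCoprime ((p : ℤ) ^ n) u :=
    (Int.isCoprime_iff_gcd_eq_one.mpr (by
      have h1 : Int.gcd (p : ℤ) u ∣ p := Int.ofNat_dvd.mp (Int.gcd_dvd_left ..)
      rcases (Nat.dvd_prime hp.out).mp h1 with h | h
      · exact h
      · exact absurd (h ▸ Int.gcd_dvd_right (p : ℤ) u) hu)).pow_left
  obtain ⟨s, t, hst⟩ := hcop
  refine not_exists_zpow huniq ha hn hx hr hm ⟨m' * t, ?_⟩
  rw [← hm, ← zpow_mul, hS, zpow_eq_zpow_iff_modEq, Int.modEq_iff_dvd, ha, Nat.cast_pow]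
  exact ⟨(p : ℤ) * m' * s, by linear_combination -(p : ℤ) * m' * hst⟩

theorem inverts (hxp : x ^ p ∈ zpowers a) (hc : centralizer (zpowers a : Set G) = zpowers a)
    {r : ℤ} (hr : x * a * x⁻¹ = a ^ r) :
    p = 2 ∧ x * a * x⁻¹ = a⁻¹ ∧ x ^ 2 ≠ 1 ∧ (x ^ 2) ^ 2 = 1 := by
  have hna : ¬ Commute x a := by
    intro h
    apply hx
    rw [← hc, mem_centralizer_iff]
    intro y hy
    obtain ⟨i, rfl⟩ := mem_zpowers_iff.mp hy
    exact (h.zpow_right i).eq.symm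
  obtain ⟨m, hm⟩ := mem_zpowers_iff.mp hxp
  have hcast : ((orderOf a : ℕ) : ℤ) = (p : ℤ) ^ n := by rw [ha]; push_cast; rfl
  have hpdvd : (p : ℤ) ∣ r - 1 := by
    have h1 : a ^ (r ^ p) = a ^ (1 : ℤ) := by
      rw [← conj_pow_zpow hr, ← hm, zpow_one]
      group
    rw [zpow_eq_zpow_iff_modEq, Int.modEq_iff_dvd, hcast] at h1
    have h2 : ((1 - r ^ p : ℤ) : ZMod p) = 0 :=
      (ZMod.intCast_zmod_eq_zero_iff_dvd _ _).mpr ((dvd_pow_self _ hn).trans h1)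
    rw [← ZMod.intCast_zmod_eq_zero_iff_dvd]
    push_cast at h2 ⊢
    rw [ZMod.pow_card] at h2
    linear_combination -h2
  have hpm : (p : ℤ) ∣ m := by
    by_contra hpm
    obtain ⟨s, t, hst⟩ := ((Nat.prime_iff_prime_int.mp hp.out).coprime_iff_not_dvd.mpr hpm).pow_left (m := n)
    apply hna
    have hxm : Commute x (a ^ m) := hm ▸ Commute.self_pow x p
    have : a = (a ^ m) ^ t := by
      conv_lhs => rw [← zpow_one a]
      rw [← zpow_mul, zpow_eq_zpow_iff_modEq, Int.modEq_iff_dvd, hcast]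
      exact ⟨-s, by linear_combination hst⟩
    rw [this]
    exact hxm.zpow_right t
  rcases hp.out.eq_two_or_odd' with hp2 | hodd
  swap
  · exfalso
    obtain ⟨k, hk⟩ := hpdvd
    have h := odd_sq_dvd_geom_sum₂_sub (R := ℤ) 1 k hodd
    simp only [one_pow, mul_one] at h
    obtain ⟨w, hw⟩ := h
    have hrk : 1 + (p : ℤ) * k = r := by linear_combination -hk
    rw [hrk] at hw
    refine not_dvd_one_case huniq ha hn hx hr hm hpm (u := 1 + p * w) (by linear_combination hw) ?_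
    intro hd
    exact (Nat.prime_iff_prime_int.mp hp.out).not_dvd_one ((dvd_add_left (dvd_mul_right _ w)).mp hd)
  subst hp2
  have hS : (∑ j ∈ Finset.range 2, r ^ j) = 1 + r := by simp [Finset.sum_range_succ]
  have h4 : (4 : ℤ) ∣ 1 + r := by
    by_contra h4
    obtain ⟨k, hk⟩ := hpdvd
    refine not_dvd_one_case huniq ha hn hx hr hm hpm (u := 1 + k)
      (by rw [hS]; push_cast at hk ⊢; linear_combination hk) ?_
    intro hd
    apply h4
    obtain ⟨w, hw⟩ := hd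
    exact ⟨w, by push_cast at hk hw; linear_combination hk + 2 * hw⟩
  have hfix : a ^ (r * m) = a ^ m := by
    rw [zpow_mul, ← hr, conj_zpow, hm]
    group
  rw [zpow_eq_zpow_iff_modEq, Int.modEq_iff_dvd, hcast] at hfix
  obtain ⟨c, hc4⟩ := h4
  have h2m : ((2 : ℕ) : ℤ) ^ n ∣ 2 * m := by
    have hcop : IsCoprime (((2 : ℕ) : ℤ) ^ n) (1 - 2 * c) :=
      (show IsCoprime ((2 : ℕ) : ℤ) (1 - 2 * c) from ⟨c, 1, by push_cast; ring⟩).pow_left
    refine hcop.dvd_of_dvd_mul_right ?_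
    rwa [show 2 * m * (1 - 2 * c) = m - r * m by linear_combination m * hc4]
  have hne : x ^ 2 ≠ 1 := by
    have := pow_ne_one huniq ha hn hx 0
    simpa using this
  have hsq : (x ^ 2) ^ 2 = 1 := by
    rw [← hm, sq, ← zpow_add, ← two_mul, ← orderOf_dvd_iff_zpow_eq_one, hcast]
    exact h2m
  refine ⟨rfl, ?_, hne, hsq⟩
  by_contra hinv
  refine not_exists_zpow huniq ha hn hx hr hm ?_
  rw [hS]
  have hw1 : a ^ (1 + r) ≠ 1 := by
    intro h
    apply hinv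
    rw [hr, eq_inv_iff_mul_eq_one, ← zpow_add_one, add_comm r 1, h]
  obtain ⟨j, hj⟩ : ∃ j, orderOf (a ^ (1 + r)) = 2 ^ j := by
    have h1 : orderOf (a ^ (1 + r)) ∣ 2 ^ n :=
      (orderOf_dvd_natCard _ ((zpowers a).zpow_mem (mem_zpowers a) _)).trans
        (by rw [Nat.card_zpowers, ha])
    obtain ⟨j, -, hj⟩ := (Nat.dvd_prime_pow Nat.prime_two).mp h1
    exact ⟨j, hj⟩
  have hj0 : j ≠ 0 := fun h => hw1 (orderOf_eq_one_iff.mp (by rw [hj, h, pow_zero]))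
  have h2dvd : 2 ∣ Nat.card (zpowers (a ^ (1 + r))) := by
    rw [Nat.card_zpowers, hj]; exact dvd_pow_self 2 hj0
  obtain ⟨⟨b, hb⟩, hb2⟩ := exists_prime_orderOf_dvd_card' 2 h2dvd
  rw [Subgroup.orderOf_mk] at hb2
  have heq := huniq (zpowers b) (zpowers (x ^ 2)) (by rw [Nat.card_zpowers, hb2])
    (by rw [Nat.card_zpowers, orderOf_eq_prime hsq hne])
  exact mem_zpowers_iff.mp (zpowers_le.mpr hb (heq ▸ mem_zpowers (x ^ 2) : x ^ 2 ∈ zpowers b))

end Main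

theorem isCyclic_or_quaternion_of_unique [Finite G] [hp : Fact p.Prime] (hG : IsPGroup p G)
    (huniq : ∀ H K : Subgroup G, Nat.card H = p → Nat.card K = p → H = K) :
    IsCyclic G ∨ (p = 2 ∧ ∃ n : ℕ, Nonempty (G ≃* QuaternionGroup (2 ^ n))) := by
  obtain ⟨A, hAn, hAc, hAC⟩ := CfsgLib.PGroups.exists_selfCentralizing' hG
  haveI := hAn
  haveI := hAc
  obtain ⟨⟨a, haA⟩, hgen⟩ := (isCyclic_of_unique hG huniq A).exists_generator
  have hA : zpowers a = A := by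
    refine le_antisymm (zpowers_le.mpr haA) fun y hy => ?_
    obtain ⟨i, hi⟩ := mem_zpowers_iff.mp (hgen ⟨y, hy⟩)
    exact mem_zpowers_iff.mpr ⟨i, congrArg Subtype.val hi⟩
  by_cases hAtop : A = ⊤
  · exact Or.inl ⟨a, fun g => mem_zpowers_iff.mp (by rw [hA, hAtop]; exact mem_top g)⟩
  subst hA
  right
  have hnc : ∀ g : G, g ∉ zpowers a → ∃ r : ℤ, g * a * g⁻¹ = a ^ r := fun g _ =>
    (mem_zpowers_iff.mp (hAn.conj_mem a (mem_zpowers a) g)).imp fun _ h => h.symm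
  obtain ⟨n, ha⟩ := IsPGroup.iff_orderOf.mp hG a
  have hn : n ≠ 0 := by
    rintro rfl
    rw [pow_zero, orderOf_eq_one_iff] at ha
    subst ha
    apply hAtop
    rw [← hAC, zpowers_one_eq_bot, coe_bot]
    exact eq_top_iff.mpr fun g _ => mem_centralizer_iff.mpr fun y hy => by
      rw [Set.mem_singleton_iff.mp hy, one_mul, mul_one]
  have hlast : ∀ g : G, g ∉ zpowers a → ∃ k : ℕ,
      g ^ p ^ k ∉ zpowers a ∧ (g ^ p ^ k) ^ p ∈ zpowers a := by
    intro g hg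
    classical
    obtain ⟨i, hi⟩ := hG g
    have hex : ∃ k, g ^ p ^ k ∈ zpowers a := ⟨i, hi ▸ one_mem _⟩
    have h0 : Nat.find hex ≠ 0 := fun h => hg (by simpa [h] using Nat.find_spec hex)
    refine ⟨Nat.find hex - 1, Nat.find_min hex (by omega), ?_⟩
    rw [← pow_mul, ← pow_succ, Nat.sub_add_cancel (Nat.one_le_iff_ne_zero.mpr h0)]
    exact Nat.find_spec hex
  obtain ⟨g₀, hg₀⟩ : ∃ g₀, g₀ ∉ zpowers a := by
    by_contra h
    push Not at h
    exact hAtop (eq_top_iff.mpr fun g _ => h g)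
  have hp2 : p = 2 := by
    obtain ⟨k, h1, h2⟩ := hlast g₀ hg₀
    obtain ⟨r, hr⟩ := hnc _ h1
    exact (inverts huniq ha hn h1 h2 hAC hr).1
  subst hp2
  have hn2 : 2 ≤ n := by
    obtain ⟨k, h1, h2⟩ := hlast g₀ hg₀
    obtain ⟨r, hr⟩ := hnc _ h1
    obtain ⟨-, hi, -, -⟩ := inverts huniq ha hn h1 h2 hAC hr
    by_contra h
    obtain rfl : n = 1 := by omega
    apply h1
    rw [← hAC, mem_centralizer_iff]
    intro y hy
    obtain ⟨i, rfl⟩ := mem_zpowers_iff.mp hy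
    have hinv : a⁻¹ = a := inv_eq_of_mul_eq_one_right (by
      rw [← sq, show (2 : ℕ) = orderOf a by rw [ha, pow_one], pow_orderOf_eq_one])
    rw [hinv] at hi
    exact ((show Commute (g₀ ^ 2 ^ k) a from mul_inv_eq_iff_eq_mul.mp hi).zpow_right i).eq.symm
  have hsq : ∀ g : G, g ^ 2 ∈ zpowers a := by
    intro g
    by_contra hg2
    have hg : g ∉ zpowers a := fun h => hg2 (pow_mem h 2)
    obtain ⟨k, h1, h2⟩ := hlast g hg
    rcases k with _ | k
    · rw [pow_zero, pow_one] at h2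
      exact hg2 h2
    have hw : g ^ 2 ^ k ∉ zpowers a := fun h => h1 (by
      rw [pow_succ, pow_mul]; exact pow_mem h 2)
    obtain ⟨r, hr⟩ := hnc _ hw
    obtain ⟨r', hr'⟩ := hnc _ h1
    obtain ⟨-, hi, -, -⟩ := inverts huniq ha hn h1 h2 hAC hr'
    rw [show g ^ 2 ^ (k + 1) = (g ^ 2 ^ k) ^ 2 by rw [← pow_mul, ← pow_succ],
      conj_pow_zpow hr, ← zpow_neg_one, zpow_eq_zpow_iff_modEq, Int.modEq_iff_dvd, ha] at hi
    have h4 : (4 : ℤ) ∣ -1 - r ^ 2 := dvd_trans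
      (by rw [Nat.cast_pow]; exact (by norm_num : (4 : ℤ) = ((2 : ℕ) : ℤ) ^ 2) ▸ pow_dvd_pow _ hn2) hi
    have h5 : ((-1 - r ^ 2 : ℤ) : ZMod 4) = 0 := (ZMod.intCast_zmod_eq_zero_iff_dvd _ _).mpr h4
    have h6 : ∀ z : ZMod 4, -1 - z ^ 2 ≠ 0 := by decide
    exact h6 r (by simpa using h5)
  have hinv : ∀ g : G, g ∉ zpowers a → g * a * g⁻¹ = a⁻¹ ∧ g ^ 2 ≠ 1 ∧ (g ^ 2) ^ 2 = 1 := by
    intro g hg
    obtain ⟨r, hr⟩ := hnc g hg
    exact (inverts huniq ha hn hg (hsq g) hAC hr).2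
  obtain ⟨hb1, hb2, hb3⟩ := hinv g₀ hg₀
  obtain ⟨m, rfl⟩ := Nat.exists_eq_succ_of_ne_zero hn
  refine ⟨rfl, m, ?_⟩
  haveI : NeZero (2 ^ m) := ⟨(Nat.two_pow_pos m).ne'⟩
  have hidx : (zpowers a).index = 2 := by
    rw [index_eq_two_iff]
    refine ⟨g₀, fun g => ?_⟩
    by_cases hg : g ∈ zpowers a
    · exact Or.inr ⟨hg, fun h => hg₀ (((zpowers a).mul_mem_cancel_left hg).mp h)⟩
    · refine Or.inl ⟨?_, hg⟩
      rw [← hAC, mem_centralizer_iff]
      intro y hy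
      obtain ⟨i, rfl⟩ := mem_zpowers_iff.mp hy
      have hc : Commute (g * g₀) a := by
        refine mul_inv_eq_iff_eq_mul.mp ?_
        rw [mul_inv_rev, show g * g₀ * a * (g₀⁻¹ * g⁻¹) = g * (g₀ * a * g₀⁻¹) * g⁻¹ by group, hb1,
          show g * a⁻¹ * g⁻¹ = (g * a * g⁻¹)⁻¹ by group, (hinv g hg).1, inv_inv]
      exact (hc.zpow_right i).eq.symm
  refine CfsgLib.TwoGroups.nonempty_mulEquiv_quaternionGroup (a := a) (b := g₀)
    (by rw [ha, pow_succ']) ?_ hg₀ hb1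
    (by rw [← card_mul_index (zpowers a), hidx, Nat.card_zpowers, ha, pow_succ]; ring)
  have hord : orderOf (a ^ 2 ^ m) = 2 := by
    rw [orderOf_pow' _ (Nat.two_pow_pos m).ne', ha, Nat.gcd_eq_right (pow_dvd_pow 2 (Nat.le_succ m)),
      pow_succ, Nat.mul_div_cancel_left _ (Nat.two_pow_pos m)]
  have heq := huniq (zpowers (g₀ ^ 2)) (zpowers (a ^ 2 ^ m))
    (by rw [Nat.card_zpowers, orderOf_eq_prime hb3 hb2]) (by rw [Nat.card_zpowers, hord])
  obtain ⟨j, hj⟩ := mem_zpowers_iff.mp (heq ▸ mem_zpowers (g₀ ^ 2) : g₀ ^ 2 ∈ zpowers (a ^ 2 ^ m))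
  rw [← sq, ← hj]
  rcases Int.even_or_odd' j with ⟨i, rfl | rfl⟩
  · exfalso
    apply hb2
    rw [← hj, zpow_mul, zpow_two, ← sq]
    have : (a ^ 2 ^ m) ^ 2 = 1 := orderOf_dvd_iff_pow_eq_one.mp hord.dvd
    rw [this, one_zpow]
  · rw [zpow_add, zpow_mul, zpow_two, ← sq]
    have : (a ^ 2 ^ m) ^ 2 = 1 := orderOf_dvd_iff_pow_eq_one.mp hord.dvd
    rw [this, one_zpow, one_mul, zpow_one]

end CfsgLib.Core.UniqueOrderP
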