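import Cfsg.Agent.Lib.Core.FPFFour
import Cfsg.Agent.Lib.Core.Coprime
import Mathlib.GroupTheory.SemidirectProduct

/-!
# Preliminaries for coprime fixed point free actions of the symmetric group of degree three

* `exists_fixed_in_coset`: coprime operators fix a point in a fixed coset
* `inv_of_fpf_involution`, `exists_fixed_mul`: involutory automorphisms of groups of odd order
* `commute_conj_of_fpf_three`: with a fixed point free automorphism of order three every element
  commutes with its conjugates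
* `fixes_of_norm_zero`: an operator of order three with zero norm centralises the operator groups of
  order prime to `6` that it normalises
-/

set_option autoImplicit false
set_option linter.all false

universe u

namespace CfsgLib.Core.FPFSymThree

open Subgroup Cfsg

section Group

variable {X : Type*} [Group X]

theorem eq_one_of_pow_coprime [Finite X] {k : ℕ} (hk : (Nat.card X).Coprime k) {x : X}
    (h : x ^ k = 1) : x = 1 :=
  orderOf_eq_one_iff.mp (Nat.eq_one_of_dvd_coprimes hk (orderOf_dvd_natCard x)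
    (orderOf_dvd_of_pow_eq_one h))

theorem eq_of_fixed_diff [Finite X] {k : ℕ} (hk : (Nat.card X).Coprime k) (φ : MulAut X) {x z : X}
    (h : φ x = x * z) (hz : φ z = z) (hφ : φ ^ k = 1) : φ x = x := by
  have hn : ∀ n : ℕ, (φ ^ n) x = x * z ^ n := by
    intro n
    induction n with
    | zero => simp
    | succ n ih => rw [pow_succ', MulAut.mul_apply, ih, map_mul, h, map_pow, hz, mul_assoc, ← pow_succ']
  have h1 := hn k
  rw [hφ, MulAut.one_apply] at h1
  rw [h, eq_one_of_pow_coprime hk (mul_eq_left.mp h1.symm), mul_one]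

theorem inv_of_fpf_involution [Finite X] (φ : MulAut X) (hφ : ∀ x, φ (φ x) = x)
    (hfp : ∀ x, φ x = x → x = 1) (x : X) : φ x = x⁻¹ := by
  have hsur : Function.Surjective fun t : X => t * (φ t)⁻¹ := by
    refine Finite.surjective_of_injective fun a b hab => ?_
    have h : φ (b⁻¹ * a) = b⁻¹ * a := by
      rw [map_mul, map_inv]
      have h1 := congrArg (fun z => b⁻¹ * z * φ a) hab
      simpa [mul_assoc] using h1.symm
    exact (inv_mul_eq_one.mp (hfp _ h)).symm
  obtain ⟨t, rfl⟩ := hsur x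
  show φ (t * (φ t)⁻¹) = _
  rw [map_mul, map_inv, hφ, mul_inv_rev, inv_inv]

theorem commute_of_forall_inv (φ : MulAut X) (h : ∀ x, φ x = x⁻¹) (a b : X) : a * b = b * a := by
  have h1 := h (a⁻¹ * b⁻¹)
  rw [map_mul, h, h, inv_inv, inv_inv, mul_inv_rev, inv_inv, inv_inv] at h1
  exact h1

/-- For an involutory automorphism of a group of odd order, an element is a fixed element times a
power of its displacement. -/
theorem exists_fixed_mul [Finite X] (hodd : (Nat.card X).Coprime 2) (φ : MulAut X)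
    (hφ : ∀ x, φ (φ x) = x) (x : X) : ∃ k : ℕ, φ (x * (x⁻¹ * φ x) ^ k) = x * (x⁻¹ * φ x) ^ k := by
  obtain ⟨k, hk⟩ : ∃ k, Nat.card X = 2 * k + 1 := by
    have h2 : ¬ 2 ∣ Nat.card X := fun h =>
      absurd (Nat.eq_one_of_dvd_coprimes hodd h (dvd_refl 2)) (by omega)
    exact ⟨Nat.card X / 2, by omega⟩
  refine ⟨k + 1, ?_⟩
  generalize hy : x⁻¹ * φ x = y
  have hx : φ x = x * y := by rw [← hy, mul_inv_cancel_left]
  have hyinv : φ y = y⁻¹ := by rw [← hy, map_mul, map_inv, hφ, mul_inv_rev, inv_inv]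
  have hpow : y ^ (k + 1) * y ^ (k + 1) = y := by
    rw [← pow_add, show k + 1 + (k + 1) = Nat.card X + 1 by omega, pow_succ, pow_card_eq_one',
      one_mul]
  rw [map_mul, map_pow, hyinv, hx, inv_pow, mul_assoc, mul_right_inj, mul_inv_eq_iff_eq_mul]
  exact hpow.symm

theorem exists_sq [Finite X] (hodd : (Nat.card X).Coprime 2) (x : X) :
    ∃ k : ℕ, (x * x) ^ k = x := by
  obtain ⟨k, hk⟩ : ∃ k, Nat.card X = 2 * k + 1 := by
    have h2 : ¬ 2 ∣ Nat.card X := fun h =>
      absurd (Nat.eq_one_of_dvd_coprimes hodd h (dvd_refl 2)) (by omega)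
    exact ⟨Nat.card X / 2, by omega⟩
  refine ⟨k + 1, ?_⟩
  rw [← pow_two, ← pow_mul, show 2 * (k + 1) = Nat.card X + 1 by omega, pow_succ, pow_card_eq_one',
    one_mul]

theorem exists_fixed_in_coset {A : Type*} [Group A] [Finite A] [Finite X] (θ : A →* MulAut X)
    (N : Subgroup X) (hinv : ∀ g, ∀ n ∈ N, θ g n ∈ N) (hcop : (Nat.card A).Coprime (Nat.card N))
    (hs : Group.IsSolvable N) (x : X) (hx : ∀ g, x⁻¹ * θ g x ∈ N) :
    ∃ n ∈ N, ∀ g, θ g (x * n) = x * n := by
  let ι : X →* X ⋊[θ] A := SemidirectProduct.inl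
  let A' : Subgroup (X ⋊[θ] A) := (SemidirectProduct.inr : A →* X ⋊[θ] A).range
  haveI : Finite (X ⋊[θ] A) := Finite.of_equiv _ SemidirectProduct.equivProd.symm
  have hAN : A' ≤ normalizer ((N.map ι : Subgroup (X ⋊[θ] A)) : Set (X ⋊[θ] A)) := by
    rw [le_normalizer_iff]
    rintro _ ⟨g, rfl⟩ _ ⟨n, hn, rfl⟩
    exact ⟨θ g n, hinv g n hn, by rw [SemidirectProduct.inl_aut, map_inv]⟩
  have hc : (Nat.card A').Coprime (Nat.card (N.map ι)) := by
    rwa [card_map_of_injective SemidirectProduct.inl_injective,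
      Nat.card_congr (MonoidHom.ofInjective SemidirectProduct.inr_injective).toEquiv.symm]
  obtain ⟨_, ⟨n, hn, rfl⟩, hcen⟩ := exists_centralizing_in_coset hAN hc
    (Or.inr (isSolvable_map ι hs)) (k := ι x) (by
      rintro _ ⟨g, rfl⟩
      refine ⟨x⁻¹ * θ g x, hx g, ?_⟩
      rw [map_mul, map_inv, SemidirectProduct.inl_aut, map_inv])
  refine ⟨n, hn, fun g => SemidirectProduct.inl_injective (φ := θ) ?_⟩
  have h1 := mem_centralizer_iff.mp hcen _ (⟨g, rfl⟩ : SemidirectProduct.inr g ∈ A')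
  rw [SemidirectProduct.inl_aut, map_inv, map_mul]
  exact mul_inv_eq_iff_eq_mul.mpr h1

theorem commute_self_of_fpf_three [Finite X] (φ : MulAut X) (h3 : ∀ x, φ (φ (φ x)) = x)
    (hfp : ∀ x, φ x = x → x = 1) (x : X) : Commute x (φ x) := by
  have hsur : ∀ ψ : MulAut X, (∀ y, ψ y = y → y = 1) →
      Function.Surjective fun t : X => t⁻¹ * ψ t := by
    intro ψ hψ
    refine Finite.surjective_of_injective fun a b hab => ?_
    have h : ψ (a * b⁻¹) = a * b⁻¹ := by
      rw [map_mul, map_inv]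
      have h1 := congrArg (fun z => a * z * (ψ b)⁻¹) hab
      simpa [mul_assoc] using h1
    exact mul_inv_eq_one.mp (hψ _ h)
  have h1 : ∀ y, y * φ y * φ (φ y) = 1 := by
    intro y
    obtain ⟨t, rfl⟩ := hsur φ hfp y
    simp only [map_mul, map_inv, h3]
    group
  have h2 : ∀ y, y * φ (φ y) * φ y = 1 := by
    intro y
    obtain ⟨t, rfl⟩ := hsur (φ * φ) (fun z (hz : φ (φ z) = z) => hfp z (by
      have := congrArg φ hz; rw [h3] at this; exact this.symm)) y
    simp only [MulAut.mul_apply, map_mul, map_inv, h3]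
    group
  have h4 : ∀ y, φ y * φ (φ y) = φ (φ y) * φ y := fun y => by
    have := (h1 y).trans (h2 y).symm
    rwa [mul_assoc, mul_assoc, mul_right_inj] at this
  have := h4 (φ (φ x))
  rwa [h3] at this

theorem commute_conj_of_fpf_three [Finite X] (φ : MulAut X) (h3 : ∀ x, φ (φ (φ x)) = x)
    (hfp : ∀ x, φ x = x → x = 1) (x w : X) : Commute x (w * x * w⁻¹) := by
  have hsur : Function.Surjective fun t : X => t⁻¹ * φ t := by
    refine Finite.surjective_of_injective fun a b hab => ?_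
    have h : φ (a * b⁻¹) = a * b⁻¹ := by
      rw [map_mul, map_inv]
      have h1 := congrArg (fun z => a * z * (φ b)⁻¹) hab
      simpa [mul_assoc] using h1
    exact mul_inv_eq_one.mp (hfp _ h)
  have h1 : ∀ x w, Commute x (w * φ x * w⁻¹) := by
    intro x w
    obtain ⟨y, rfl⟩ := hsur w
    have := (commute_self_of_fpf_three φ h3 hfp (y * x * y⁻¹)).map (MulAut.conj y⁻¹)
    simpa [mul_assoc] using this
  have h2 : ∀ x w, Commute x (w * φ (φ x) * w⁻¹) := by
    intro x w
    have := (h1 (φ (φ x)) w⁻¹).map (MulAut.conj w)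
    rw [h3] at this
    simpa [mul_assoc] using this.symm
  have hx : x = (φ (φ x))⁻¹ * (φ x)⁻¹ := by
    have hsum : x * φ x * φ (φ x) = 1 := by
      obtain ⟨t, rfl⟩ := hsur x
      simp only [map_mul, map_inv, h3]
      group
    rw [← mul_inv_rev, eq_inv_iff_mul_eq_one, ← mul_assoc, hsum]
  have hw : w * x * w⁻¹ = (w * φ (φ x) * w⁻¹)⁻¹ * (w * φ x * w⁻¹)⁻¹ := by
    conv_lhs => rw [hx]
    group
  rw [hw]
  exact ((h2 x w).inv_right).mul_right ((h1 x w).inv_right)

theorem le_normalizer_commutator_self' (H : Subgroup X) :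
    H ≤ normalizer ((⁅H, H⁆ : Subgroup X) : Set X) := by
  rw [le_normalizer_iff]
  intro h hh d hd
  have : (⁅H, H⁆).map (MulAut.conj h).toMonoidHom ≤ ⁅H, H⁆ := by
    rw [map_commutator]
    have h' : H.map (MulAut.conj h).toMonoidHom ≤ H := by
      rintro _ ⟨y, hy, rfl⟩
      exact mul_mem (mul_mem hh hy) (inv_mem hh)
    exact commutator_mono h' h'
  simpa using this (mem_map_of_mem _ hd)

end Group

section Operators

variable {S M : Type*} [Group S] [Finite S] [AddCommGroup M]

theorem sub_apply_eq_zero (hco : (Nat.card M).Coprime (Nat.card S)) (r : S →* AddMonoid.End M)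
    {b : S} {y : M} (h : r b (r b y - y) - (r b y - y) = 0) : r b y - y = 0 :=
  FPFFour.eq_zero_of_unipotent (r b) (n := Nat.card S)
    (by rw [← map_pow, pow_card_eq_one', map_one]) hco h

theorem fixes_of_norm_zero (hs : Group.IsSolvable S) (hco : (Nat.card M).Coprime (Nat.card S))
    (h6 : (Nat.card S).Coprime 6) (r : S →* AddMonoid.End M)
    (hinj : ∀ x, (∀ m, r x m = m) → x = 1) (s : M → M) (hsur : Function.Surjective s)
    (θ : MulAut S) (hθ : ∀ x, θ (θ (θ x)) = x) (hc : ∀ x m, s (r x m) = r (θ x) (s m))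
    (hN : ∀ m, m + s m + s (s m) = 0) (x : S) :
    θ x = x := by
  have hmul : ∀ a b m, r (a * b) m = r a (r b m) := fun a b m => by rw [map_mul]; rfl
  have hone : ∀ m, r 1 m = m := fun m => by rw [map_one]; rfl
  have h23 : (Nat.card S).Coprime 3 := h6.coprime_dvd_right (by norm_num)
  have h2 : (Nat.card S).Coprime 2 := h6.coprime_dvd_right (by norm_num)
  have hpow : θ ^ 3 = 1 := MulEquiv.ext fun z => by simp [pow_succ, hθ]
  -- the relation
  have hR : ∀ w m, (r (w * (θ w)⁻¹) m - m) + (r (w * (θ (θ w))⁻¹) (s m) - s m) = 0 := by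
    intro w m
    obtain ⟨y, rfl⟩ := hsur m
    have h1 := congrArg (r w) (hN (r w⁻¹ y))
    simp only [map_add, map_zero, hc, map_inv, ← hmul, mul_inv_cancel, hone] at h1
    calc _ = (y + r (w * (θ w)⁻¹) (s y) + r (w * (θ (θ w))⁻¹) (s (s y)))
          - (y + s y + s (s y)) := by abel
      _ = 0 := by rw [h1, hN, sub_zero]
  -- abelian invariant subgroups are fixed
  have habel : ∀ B : Subgroup S, (∀ a ∈ B, ∀ b ∈ B, a * b = b * a) → (∀ a ∈ B, θ a ∈ B) →
      ∀ a ∈ B, θ a = a := by
    intro B hcm hB a ha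
    obtain ⟨v, hv⟩ : ∃ v, v = a * (θ (θ a))⁻¹ := ⟨_, rfl⟩
    obtain ⟨w, hw⟩ : ∃ w, w = (θ (θ a))⁻¹ := ⟨_, rfl⟩
    have hwv : w * (θ w)⁻¹ = v := by
      rw [hw, map_inv, hθ, inv_inv, hv]
      exact hcm _ (inv_mem (hB _ (hB _ ha))) _ ha
    have hwm : w ∈ B := hw ▸ inv_mem (hB _ (hB _ ha))
    have hvm : v ∈ B := hv ▸ mul_mem ha (inv_mem (hB _ (hB _ ha)))
    have hum : a * (θ a)⁻¹ ∈ B := mul_mem ha (inv_mem (hB _ ha))
    have hconj : ∀ g ∈ B, ∀ z, r w (r g z) = r g (r w z) := by
      intro g hg z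
      rw [← hmul, ← hmul, hcm w hwm g hg]
    have h1 : ∀ m, r v (r v m - m) - (r v m - m) = 0 := by
      intro m
      obtain ⟨y, rfl⟩ := hsur m
      have e2 := congrArg (r w) (hR a (r w⁻¹ y))
      rw [← hv] at e2
      simp only [map_add, map_sub, map_zero, hc, hconj _ hum, hconj _ hvm] at e2
      simp only [← hmul, map_inv, hwv, mul_inv_cancel, hone] at e2
      have e1 := hR a y
      rw [← hv] at e1
      simp only [map_sub, ← hmul]
      calc r (v * v) (s y) - r v (s y) - (r v (s y) - s y)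
          = (r (a * (θ a)⁻¹) y - y + (r (v * v) (s y) - r v (s y)))
            - (r (a * (θ a)⁻¹) y - y + (r v (s y) - s y)) := by abel
        _ = 0 := by rw [e1, e2, sub_zero]
    have hv1 : v = 1 := hinj v fun m => sub_eq_zero.mp (sub_apply_eq_zero hco r (h1 m))
    rw [hv] at hv1
    have h4 := congrArg θ (mul_inv_eq_one.mp hv1)
    rw [hθ] at h4
    exact h4
  -- a pair with commutator of class two gives a trivial commutator
  have hsix : ∀ c : S, (∀ d ∈ ⁅closure ({c, θ c, θ (θ c)} : Set S), closure {c, θ c, θ (θ c)}⁆,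
      ∀ y ∈ closure ({c, θ c, θ (θ c)} : Set S), y * d = d * y) →
      (c * (θ c)⁻¹) * (c * (θ (θ c))⁻¹) = (c * (θ (θ c))⁻¹) * (c * (θ c)⁻¹) := by
    intro c hcen
    obtain ⟨H, hH⟩ : ∃ H, H = closure ({c, θ c, θ (θ c)} : Set S) := ⟨_, rfl⟩
    have hc0 : c ∈ H := hH ▸ subset_closure (by simp)
    have hc1 : θ c ∈ H := hH ▸ subset_closure (by simp)
    have hc2 : θ (θ c) ∈ H := hH ▸ subset_closure (by simp)
    rw [← hH] at hcen
    obtain ⟨u, hu⟩ : ∃ u, u = c * (θ c)⁻¹ := ⟨_, rfl⟩
    obtain ⟨v, hv⟩ : ∃ v, v = c * (θ (θ c))⁻¹ := ⟨_, rfl⟩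
    have hum : u ∈ H := hu ▸ mul_mem hc0 (inv_mem hc1)
    have hvm : v ∈ H := hv ▸ mul_mem hc0 (inv_mem hc2)
    rw [← hu, ← hv]
    obtain ⟨z, hz⟩ : ∃ z, z = u * v * u⁻¹ * v⁻¹ := ⟨_, rfl⟩
    obtain ⟨k, hk⟩ : ∃ k, k = c * u * c⁻¹ * u⁻¹ := ⟨_, rfl⟩
    obtain ⟨l, hl⟩ : ∃ l, l = c * v * c⁻¹ * v⁻¹ := ⟨_, rfl⟩
    have hzc : ∀ y ∈ H, y * z = z * y := hcen z (by
      rw [hz]; exact commutator_mem_commutator hum hvm)
    have hkc : ∀ y ∈ H, y * k = k * y := hcen k (by
      rw [hk]; exact commutator_mem_commutator hc0 hum)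
    have hlc : ∀ y ∈ H, y * l = l * y := hcen l (by
      rw [hl]; exact commutator_mem_commutator hc0 hvm)
    obtain ⟨u', hu'⟩ : ∃ u', u' = k * u * u := ⟨_, rfl⟩
    obtain ⟨v', hv'⟩ : ∃ v', v' = l * v * v := ⟨_, rfl⟩
    have hru : (c * c) * (θ (c * c))⁻¹ = u' := by
      have e : (θ c)⁻¹ = c⁻¹ * u := by rw [hu, inv_mul_cancel_left]
      rw [map_mul, mul_inv_rev, hu', hk]
      calc c * c * ((θ c)⁻¹ * (θ c)⁻¹) = c * u * (θ c)⁻¹ := by rw [hu]; group
        _ = c * u * c⁻¹ * u := by rw [e, mul_assoc _ c⁻¹ u]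
        _ = c * u * c⁻¹ * u⁻¹ * u * u := by group
    have hrv : (c * c) * (θ (θ (c * c)))⁻¹ = v' := by
      have e : (θ (θ c))⁻¹ = c⁻¹ * v := by rw [hv, inv_mul_cancel_left]
      rw [map_mul, map_mul, mul_inv_rev, hv', hl]
      calc c * c * ((θ (θ c))⁻¹ * (θ (θ c))⁻¹) = c * v * (θ (θ c))⁻¹ := by rw [hv]; group
        _ = c * v * c⁻¹ * v := by rw [e, mul_assoc _ c⁻¹ v]
        _ = c * v * c⁻¹ * v⁻¹ * v * v := by group
    have hvv : v * v' = v' * v := by
      rw [hv', ← mul_assoc, ← mul_assoc, hlc v hvm]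
    -- the six term identity
    have hE : ∀ m, r (v' * u) m - r v' m - r u m - r (v * u') m + r v m + r u' m = 0 := by
      intro m
      have e1 := hR c m
      rw [← hu, ← hv] at e1
      have e2 := hR (c * c) m
      rw [hru, hrv] at e2
      calc _ = (r v' (r u m - m + (r v (s m) - s m)) - (r u m - m + (r v (s m) - s m)))
            - (r v (r u' m - m + (r v' (s m) - s m)) - (r u' m - m + (r v' (s m) - s m))) := by
              simp only [map_add, map_sub, ← hmul, hvv]
              abel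
        _ = 0 := by rw [e1, e2, map_zero, map_zero]; simp
    -- conjugation
    have hcj : ∀ h g m, r h (r g (r h⁻¹ m)) = r (h * g * h⁻¹) m := fun h g m => by
      rw [hmul, hmul]
    have hzu : u * z = z * u := hzc u hum
    have hzv : v * z = z * v := hzc v hvm
    have hlm : l ∈ H := hl ▸ mul_mem (mul_mem (mul_mem hc0 hvm) (inv_mem hc0)) (inv_mem hvm)
    have hv'm : v' ∈ H := hv' ▸ mul_mem (mul_mem hlm hvm) hvm
    have huv : u * v = z * v * u := by rw [hz]; group
    have cuu : u * u * u⁻¹ = u := by group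
    have cuz : ∀ g, u * (z * g) * u⁻¹ = z * (u * g * u⁻¹) := fun g => by
      rw [← mul_assoc, hzu]; group
    have cvz : ∀ g, v * (z * g) * v⁻¹ = z * (v * g * v⁻¹) := fun g => by
      rw [← mul_assoc, hzv]; group
    have cuv : u * v * u⁻¹ = z * v := by rw [huv]; group
    have cuk : u * k * u⁻¹ = k := by rw [hkc u hum]; group
    have cul : u * l * u⁻¹ = l := by rw [hlc u hum]; group
    have cvl : v * l * v⁻¹ = l := by rw [hlc v hvm]; group
    have a2 : u * v' * u⁻¹ = z * (z * v') := by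
      calc u * v' * u⁻¹ = (u * l * u⁻¹) * (u * v * u⁻¹) * (u * v * u⁻¹) := by rw [hv']; group
        _ = l * (z * v) * (z * v) := by rw [cul, cuv]
        _ = (l * z) * (v * z) * v := by group
        _ = z * (z * v') := by
          rw [hzv, hzc l hlm, mul_assoc (z * l), mul_assoc z l, ← mul_assoc l (z * v),
            ← mul_assoc l z, hzc l hlm, hv']
          group
    obtain ⟨P, hP⟩ : ∃ P, P = v' * u := ⟨_, rfl⟩
    obtain ⟨R, hR'⟩ : ∃ R, R = v * u' := ⟨_, rfl⟩
    have a1 : u * P * u⁻¹ = z * (z * P) := by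
      calc u * P * u⁻¹ = (u * v' * u⁻¹) * u := by rw [hP]; group
        _ = _ := by rw [a2, hP]; group
    have a3 : u * u' * u⁻¹ = u' := by
      calc u * u' * u⁻¹ = (u * k * u⁻¹) * u * u := by rw [hu']; group
        _ = _ := by rw [cuk, hu']
    have a4 : u * R * u⁻¹ = z * R := by
      calc u * R * u⁻¹ = (u * v * u⁻¹) * (u * u' * u⁻¹) := by rw [hR']; group
        _ = _ := by rw [cuv, a3, hR', mul_assoc]
    have a5 : v * v' * v⁻¹ = v' := by
      calc v * v' * v⁻¹ = (v * l * v⁻¹) * v * v := by rw [hv']; group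
        _ = _ := by rw [cvl, hv']
    have a6 : v * P * v⁻¹ = z⁻¹ * P := by
      calc v * P * v⁻¹ = (v * v' * v⁻¹) * (v * u) * v⁻¹ := by rw [hP]; group
        _ = v' * (z⁻¹ * (u * v)) * v⁻¹ := by
          rw [a5, show v * u = z⁻¹ * (u * v) by rw [huv]; group]
        _ = (v' * z⁻¹) * u := by group
        _ = (z⁻¹ * v') * u := by
          rw [show v' * z⁻¹ = z⁻¹ * v' from (Commute.inv_right (hzc v' hv'm)).eq]
        _ = _ := by rw [hP, mul_assoc]
    rw [← hP, ← hR'] at hE
    have hcjz : ∀ g m, r z (r g m) = r (z * g) m := fun g m => (hmul z g m).symm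
    have hE1 : ∀ m, (r (z * (z * P)) m - r P m) - (r (z * (z * v')) m - r v' m)
        - (r (z * R) m - r R m) + (r (z * v) m - r v m) = 0 := by
      intro m
      have e := congrArg (r u) (hE (r u⁻¹ m))
      simp only [map_add, map_sub, map_zero, hcj, a1, a2, a3, a4, cuv, cuu] at e
      calc _ = (r (z * (z * P)) m - r (z * (z * v')) m - r u m - r (z * R) m + r (z * v) m
            + r u' m) - (r P m - r v' m - r u m - r R m + r v m + r u' m) := by abel
        _ = 0 := by rw [e, hE m, sub_zero]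
    have hE2 : ∀ m, (r (z * (z * (z * (z * P)))) m - r (z * (z * P)) m
          - r (z * (z * (z * P))) m + r (z * P) m)
        - (r (z * (z * (z * (z * v')))) m - r (z * (z * v')) m
          - r (z * (z * (z * v'))) m + r (z * v') m) = 0 := by
      intro m
      have e := congrArg (r u) (hE1 (r u⁻¹ m))
      simp only [map_add, map_sub, map_zero, hcj, cuz, a1, a2, a4, cuv] at e
      have e' := congrArg (r z) (hE1 m)
      simp only [map_add, map_sub, map_zero, hcjz] at e'
      calc _ = ((r (z * (z * (z * (z * P)))) m - r (z * (z * P)) m)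
              - (r (z * (z * (z * (z * v')))) m - r (z * (z * v')) m)
              - (r (z * (z * R)) m - r (z * R) m) + (r (z * (z * v)) m - r (z * v) m))
            - ((r (z * (z * (z * P))) m - r (z * P) m)
              - (r (z * (z * (z * v'))) m - r (z * v') m)
              - (r (z * (z * R)) m - r (z * R) m) + (r (z * (z * v)) m - r (z * v) m)) := by abel
        _ = 0 := by rw [e, e', sub_zero]
    have hz1 : ∀ y, r z (r (z * z) y - y) - (r (z * z) y - y) = 0 := by
      intro y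
      refine sub_apply_eq_zero hco r ?_
      obtain ⟨m, rfl⟩ : ∃ m, r P m = y := ⟨r P⁻¹ y, by rw [← hmul, mul_inv_cancel, hone]⟩
      have e := congrArg (r v) (hE2 (r v⁻¹ m))
      simp only [map_add, map_sub, map_zero, hcj, cvz, a5, a6, mul_inv_cancel_left] at e
      simp only [map_add, map_sub, ← hmul, mul_assoc]
      rw [← sub_zero (0 : M)]
      conv_rhs => arg 1; rw [← hE2 m]
      conv_rhs => arg 2; rw [← e]
      abel
    have hz2 : ∀ y, r (z * z) y - y = 0 := by
      intro y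
      refine sub_apply_eq_zero hco r ?_
      have e1 := hz1 y
      have e2 : r z (r (z * z) y - y) = r (z * z) y - y := sub_eq_zero.mp e1
      have e3 : ∀ t, r (z * z) t = r z (r z t) := fun t => hmul z z t
      rw [e3 (r (z * z) y - y), e2, e2, sub_self]
    have hzz : z * z = 1 := hinj _ fun y => sub_eq_zero.mp (hz2 y)
    have hz0 : z = 1 := eq_one_of_pow_coprime h2 (by rw [pow_two]; exact hzz)
    rwa [hz0, one_mul] at huv
  -- induction over the invariant subgroups
  suffices h : ∀ n, ∀ H : Subgroup S, Nat.card H = n → (∀ a ∈ H, θ a ∈ H) → ∀ a ∈ H, θ a = a from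
    h _ ⊤ rfl (fun a _ => mem_top _) x (mem_top x)
  intro n
  induction n using Nat.strong_induction_on with
  | _ n ih =>
  intro H hn hH a ha
  subst hn
  rcases eq_or_ne H ⊥ with rfl | hHb
  · rw [mem_bot.mp ha, map_one]
  have hlt : ∀ K : Subgroup S, K ≤ H → (∀ b ∈ K, θ b ∈ K) → K ≠ H → ∀ b ∈ K, θ b = b := by
    intro K hK hKi hne
    refine ih _ ?_ K rfl hKi
    by_contra hle
    exact hne (Subgroup.eq_of_le_of_card_ge hK (not_lt.mp hle))
  obtain ⟨K, hK⟩ : ∃ K, K = closure ((fun b => b⁻¹ * θ b) '' (H : Set S)) := ⟨_, rfl⟩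
  have hKH : K ≤ H := by
    rw [hK, closure_le]
    rintro _ ⟨b, hb, rfl⟩
    exact mul_mem (inv_mem hb) (hH b hb)
  by_cases hne : K ≠ H
  · have hKi : ∀ b ∈ K, θ b ∈ K := by
      intro b hb
      rw [hK] at hb ⊢
      have : K.map θ.toMonoidHom ≤ K := by
        rw [hK, MonoidHom.map_closure, closure_le]
        rintro _ ⟨_, ⟨b, hb, rfl⟩, rfl⟩
        exact subset_closure ⟨θ b, hH b hb, by simp⟩
      exact hK ▸ this (mem_map_of_mem _ (hK.symm ▸ hb))
    exact eq_of_fixed_diff h23 θ (mul_inv_cancel_left a (θ a)).symm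
      (hlt K hKH hKi hne _ (hK.symm ▸ subset_closure ⟨a, ha, rfl⟩)) hpow
  push Not at hne
  haveI := hs
  have hD : ⁅H, H⁆ < H := commutator_self_lt inferInstance hHb
  have hDi : ∀ b ∈ ⁅H, H⁆, θ b ∈ ⁅H, H⁆ := by
    intro b hb
    have : (⁅H, H⁆).map θ.toMonoidHom ≤ ⁅H, H⁆ := by
      rw [map_commutator]
      have h' : H.map θ.toMonoidHom ≤ H := by
        rintro _ ⟨y, hy, rfl⟩; exact hH y hy
      exact commutator_mono h' h'
    exact this (mem_map_of_mem _ hb)
  have hDf := hlt _ hD.le hDi hD.ne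
  have hcen : ∀ d ∈ ⁅H, H⁆, ∀ y ∈ H, y * d = d * y := by
    intro d hd y hy
    have hg : H ≤ centralizer ((⁅H, H⁆ : Subgroup S) : Set S) := by
      refine hne.symm.le.trans ?_
      rw [hK, closure_le]
      rintro _ ⟨b, hb, rfl⟩
      rw [SetLike.mem_coe, mem_centralizer_iff]
      intro d hd
      have hconjd : b * d * b⁻¹ ∈ ⁅H, H⁆ :=
        conj_mem_of_le_normalizer (le_normalizer_commutator_self' H) hb hd
      have e := hDf _ hconjd
      rw [map_mul, map_mul, map_inv, hDf d hd] at e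
      calc d * (b⁻¹ * θ b) = b⁻¹ * (b * d * b⁻¹) * θ b := by group
        _ = b⁻¹ * (θ b * d * (θ b)⁻¹) * θ b := by rw [e]
        _ = b⁻¹ * θ b * d := by group
    exact (mem_centralizer_iff.mp (hg hy) d hd).symm
  have hsub : closure ({a, θ a, θ (θ a)} : Set S) ≤ H := by
    rw [closure_le]
    rintro y (rfl | rfl | rfl)
    · exact ha
    · exact hH _ ha
    · exact hH _ (hH _ ha)
  have huv := hsix a fun d hd y hy => hcen d (commutator_mono hsub hsub hd) y (hsub hy)
  obtain ⟨u, hu⟩ : ∃ u, u = a * (θ a)⁻¹ := ⟨_, rfl⟩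
  obtain ⟨v, hv⟩ : ∃ v, v = a * (θ (θ a))⁻¹ := ⟨_, rfl⟩
  rw [← hu, ← hv] at huv
  have hθu : θ u = u⁻¹ * v := by rw [hu, hv, map_mul, map_inv]; group
  have hθv : θ v = u⁻¹ := by rw [hu, hv, map_mul, map_inv, hθ]; group
  have hfix : θ u = u := by
    refine habel (closure {u, v}) ?_ ?_ u (subset_closure (by simp))
    · intro b hb b' hb'
      have hcl : closure ({u, v} : Set S) ≤ centralizer ((closure ({u, v} : Set S) : Subgroup S) : Set S) := by
        rw [centralizer_closure, closure_le]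
        rintro y (rfl | rfl) <;>
          rw [SetLike.mem_coe, mem_centralizer_iff] <;> rintro z (rfl | rfl)
        · rfl
        · exact huv.symm
        · exact huv
        · rfl
      exact mem_centralizer_iff.mp (hcl hb') b hb
    · intro b hb
      have : (closure ({u, v} : Set S)).map θ.toMonoidHom ≤ closure {u, v} := by
        rw [MonoidHom.map_closure, closure_le]
        rintro _ ⟨y, hy | hy, rfl⟩ <;> rw [hy]
        · show θ u ∈ _
          rw [hθu]
          exact mul_mem (inv_mem (subset_closure (by simp))) (subset_closure (by simp))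
        · show θ v ∈ _
          rw [hθv]
          exact inv_mem (subset_closure (by simp))
      exact this (mem_map_of_mem _ hb)
  -- `θ a = u⁻¹ * a` with `u` fixed
  have hθa : θ a = u⁻¹ * a := by rw [hu]; group
  have hn' : ∀ k : ℕ, (θ ^ k) a = (u⁻¹) ^ k * a := by
    intro k
    induction k with
    | zero => simp
    | succ k ihk =>
      rw [pow_succ', MulAut.mul_apply, ihk, map_mul, map_pow, map_inv, hfix, hθa, pow_succ,
        mul_assoc]
  have h3 := hn' 3
  rw [hpow, MulAut.one_apply] at h3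
  have hu1 : u⁻¹ = 1 := eq_one_of_pow_coprime h23 (mul_eq_right.mp h3.symm)
  rw [hθa, hu1, one_mul]

end Operators

end CfsgLib.Core.FPFSymThree
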