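import Cfsg.Agent.Lib.Core.Nilpotent
import Cfsg.Agent.Lib.Components.Subnormal
import Cfsg.Agent.Lib.Components.Radicals

/-!
# Wielandt's zipper lemma and subnormality criteria

* `zipper` : the zipper lemma
* `isSubnormal_of_forall_conj` (Wielandt), `isSubnormal_of_nilpotent_join` (Baer)
-/

set_option autoImplicit false
set_option linter.all false

namespace CfsgLib.Core

open scoped Pointwise

open Subgroup

variable {G : Type*} [Group G]

theorem isSubnormal_subgroupOf_conj {A H : Subgroup G} (g : G)
    (h : (A.subgroupOf H).IsSubnormal) :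
    ((MulAut.conj g • A).subgroupOf (MulAut.conj g • H)).IsSubnormal := by
  have := Components.isSubnormal_map_equiv (Subgroup.equivSMul (MulAut.conj g) H) h
  convert this using 1
  ext ⟨y, hy⟩
  rw [mem_subgroupOf, mem_conj_smul_iff, mem_map]
  constructor
  · intro hyA
    exact ⟨⟨g⁻¹ * y * g, mem_conj_smul_iff.mp hy⟩, hyA, Subtype.ext (by
      show g * (g⁻¹ * y * g) * g⁻¹ = y
      group)⟩
  · rintro ⟨x, hx, hxy⟩
    have : g * (x : G) * g⁻¹ = y := congrArg Subtype.val hxy
    subst this
    simpa [mul_assoc] using mem_subgroupOf.mp hx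

theorem isSubnormal_subgroupOf_self_of_le_normalizer {A H : Subgroup G} (hAH : A ≤ H)
    (h : H ≤ normalizer (A : Set G)) : (A.subgroupOf H).IsSubnormal :=
  (normal_subgroupOf_of_le_normalizer h).isSubnormal

/-- Wielandt's zipper lemma. -/
theorem zipper [Finite G] {A : Subgroup G}
    (h : ∀ H : Subgroup G, A ≤ H → H ≠ ⊤ → (A.subgroupOf H).IsSubnormal)
    (hA : ¬ A.IsSubnormal) :
    ∃ M : Subgroup G, IsCoatom M ∧ ∀ X : Subgroup G, IsCoatom X → A ≤ X → X = M := by
  induction A using (wellFounded_gt (α := Subgroup G)).induction with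
  | _ A ih =>
    have hN : normalizer (A : Set G) ≠ ⊤ := fun hc => hA (normalizer_eq_top_iff.mp hc).isSubnormal
    obtain h0 | ⟨M, hM, hNM⟩ := eq_top_or_exists_le_coatom (normalizer (A : Set G))
    · exact absurd h0 hN
    refine ⟨M, hM, fun X hX hAX => ?_⟩
    by_contra hne
    have hXN : ¬ X ≤ normalizer (A : Set G) := fun hc => by
      rcases lt_or_eq_of_le (hc.trans hNM) with hlt | heq
      · exact hM.1 (hX.2 M hlt)
      · exact hne heq
    -- climb the subnormal series of `A` in `X`
    obtain ⟨n, f, hmono, hnorm, hf0, hfn⟩ := (h X hAX hX.1).exists_chain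
    have hex : ∃ i, ¬ (f i).map X.subtype ≤ normalizer (A : Set G) :=
      ⟨n, fun hc => hXN (by rwa [hfn, ← MonoidHom.range_eq_map, range_subtype] at hc)⟩
    classical
    have hfA : (f 0).map X.subtype = A := by rw [hf0, map_subgroupOf_eq_of_le hAX]
    generalize hidef : Nat.find hex = i
    have hi := Nat.find_spec hex
    rw [hidef] at hi
    obtain ⟨j, rfl⟩ : ∃ j, i = j + 1 := by
      refine Nat.exists_eq_succ_of_ne_zero fun h0 => hi ?_
      rw [h0, hfA]
      exact le_normalizer
    have hj : (f j).map X.subtype ≤ normalizer (A : Set G) :=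
      not_not.mp (Nat.find_min hex (hidef ▸ Nat.lt_succ_self j))
    obtain ⟨x, hx, hxA⟩ := SetLike.not_le_iff_exists.mp hi
    obtain ⟨x, hxf, rfl⟩ := hx
    have hAj : A ≤ (f j).map X.subtype := hfA ▸ map_mono (hmono (Nat.zero_le j))
    have hcj : MulAut.conj (x : G) • A ≤ (f j).map X.subtype := by
      intro y hy
      rw [mem_conj_smul_iff] at hy
      obtain ⟨w, hw, hwy⟩ := hAj hy
      refine ⟨x * w * x⁻¹, ?_, ?_⟩
      · have := (hnorm j).conj_mem ⟨w, hmono (Nat.le_succ j) hw⟩ (mem_subgroupOf.mpr hw) ⟨x, hxf⟩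
        exact mem_subgroupOf.mp this
      · simp only [Subgroup.subtype_apply, Subgroup.coe_mul, Subgroup.coe_inv] at hwy ⊢
        rw [hwy]
        group
    have hne' : MulAut.conj (x : G) • A ≠ A := fun hc => hxA (mem_normalizer_iff_conj_smul_eq.mpr hc)
    generalize hC : A ⊔ MulAut.conj (x : G) • A = C
    have hAC : A ≤ C := hC ▸ le_sup_left
    have hCj : C ≤ (f j).map X.subtype := hC ▸ sup_le hAj hcj
    have hCN : C ≤ normalizer (A : Set G) := hCj.trans hj
    have hlt : A < C := by
      refine lt_of_le_of_ne hAC fun heq => hne' ?_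
      exact Subgroup.eq_of_le_of_card_ge (le_sup_right.trans (hC.le.trans heq.ge)) (card_conj_smul _ A).ge
    have hCsn : ∀ H : Subgroup G, C ≤ H → H ≠ ⊤ → (C.subgroupOf H).IsSubnormal := by
      intro H hCH hH
      have h1 : A ≤ H := hAC.trans hCH
      have h2 : MulAut.conj (x : G) • A ≤ H := (le_sup_right.trans hC.le).trans hCH
      rw [← hC, subgroupOf_sup h1 h2]
      refine Components.isSubnormal_sup (h H h1 hH) ?_
      have hH' : MulAut.conj (x : G)⁻¹ • H ≠ ⊤ := by
        intro hc
        refine hH ((card_eq_iff_eq_top H).mp ?_)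
        rw [← card_conj_smul (x : G)⁻¹ H, hc, Subgroup.card_top]
      have h3 : A ≤ MulAut.conj (x : G)⁻¹ • H := by
        rw [map_inv, ← pointwise_smul_subset_iff]; exact h2
      have := isSubnormal_subgroupOf_conj (x : G) (h _ h3 hH')
      rwa [conj_smul_conj_smul, mul_inv_cancel, conj_one_smul] at this
    have hCG : ¬ C.IsSubnormal := fun hc =>
      hA (IsSubnormal.trans hAC (isSubnormal_subgroupOf_self_of_le_normalizer hAC hCN) hc)
    obtain ⟨M', hM', huniq⟩ := ih C hlt hCsn hCG
    exact hne ((huniq X hX (hCj.trans (map_subtype_le _))).trans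
      (huniq M hM (hCN.trans hNM)).symm)

/-- Wielandt's criterion. -/
theorem isSubnormal_of_forall_conj [Finite G] {A : Subgroup G}
    (h : ∀ g : G, (A.subgroupOf (A ⊔ MulAut.conj g • A)).IsSubnormal) : A.IsSubnormal := by
  induction hn : Nat.card G using Nat.strong_induction_on generalizing G with
  | _ n ih =>
    subst hn
    by_contra hA
    have hsub : ∀ H : Subgroup G, A ≤ H → H ≠ ⊤ → (A.subgroupOf H).IsSubnormal := by
      intro H hAH hH
      refine ih _ (card_subgroup_lt H hH) (G := H) (fun g => ?_) rfl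
      have hcj : MulAut.conj (g : G) • A ≤ H := conj_smul_le_of_le hAH g
      have e : A.subgroupOf H ⊔ MulAut.conj g • A.subgroupOf H =
          (A ⊔ MulAut.conj (g : G) • A).subgroupOf H := by
        rw [conj_smul_subgroupOf hAH g, subgroupOf_sup hAH hcj]
      rw [e]
      generalize hK : A ⊔ MulAut.conj (g : G) • A = K
      have hKH : K ≤ H := hK ▸ sup_le hAH hcj
      have h1 := Components.isSubnormal_map_equiv (subgroupOfEquivOfLe hKH).symm (hK ▸ h (g : G))
      convert h1 using 1
      ext ⟨⟨y, hy⟩, hyK⟩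
      simp only [mem_subgroupOf, mem_map]
      constructor
      · intro hyA
        exact ⟨⟨y, mem_subgroupOf.mp hyK⟩, hyA, rfl⟩
      · rintro ⟨z, hz, hzy⟩
        have h3 := congrArg Subtype.val (congrArg Subtype.val hzy)
        simp only at h3
        subst h3
        exact hz
    obtain ⟨M, hM, huniq⟩ := zipper hsub hA
    have key : ∀ g : G, MulAut.conj g • A ≤ M := by
      intro g
      by_cases ht : A ⊔ MulAut.conj g • A = ⊤
      · refine absurd (IsSubnormal.trans le_sup_left (h g) ?_) hA
        rw [ht]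
        exact IsSubnormal.top
      · obtain h0 | ⟨X, hX, hle⟩ := eq_top_or_exists_le_coatom (A ⊔ MulAut.conj g • A)
        · exact absurd h0 ht
        · exact huniq X hX (le_sup_left.trans hle) ▸ le_sup_right.trans hle
    let S : Subgroup G := ⨆ g : G, MulAut.conj g • A
    have hSM : S ≤ M := iSup_le key
    have hAS : A ≤ S := by
      conv_lhs => rw [← conj_one_smul A]
      exact le_iSup (fun g : G => MulAut.conj g • A) 1
    haveI : S.Normal := by
      refine Normal.of_conjugate_fixed fun k => Subgroup.eq_of_le_of_card_ge ?_ (card_conj_smul k S).ge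
      rw [conj_smul_eq_map, map_le_iff_le_comap]
      refine iSup_le fun g => ?_
      rw [← map_le_iff_le_comap]
      show MulAut.conj k • MulAut.conj g • A ≤ S
      rw [conj_smul_conj_smul]
      exact le_iSup (fun g : G => MulAut.conj g • A) (k * g)
    exact hA (IsSubnormal.trans hAS
      (hsub S hAS fun hc => hM.1 (top_unique (hc ▸ hSM))) (‹S.Normal›).isSubnormal)

/-- Baer: a subgroup generating a nilpotent subgroup with each conjugate is subnormal. -/
theorem isSubnormal_of_nilpotent_join [Finite G] {A : Subgroup G}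
    (h : ∀ g : G, Group.IsNilpotent (A ⊔ MulAut.conj g • A : Subgroup G)) :
    A.IsSubnormal ∧ A ≤ Cfsg.fittingSubgroup G := by
  have hsn : A.IsSubnormal := isSubnormal_of_forall_conj fun g => by
    haveI := h g
    exact isSubnormal_of_isNilpotent _
  refine ⟨hsn, Components.subnormal_nilpotent_le_fitting hsn ?_⟩
  have := h 1
  rwa [conj_one_smul, sup_idem] at this

end CfsgLib.Core
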