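import Cfsg.Agent.Lib.Core.FPF
import Cfsg.Agent.Lib.Core.UniqueOrderP
import Mathlib.GroupTheory.SpecificGroups.ZGroup

/-!
# Structure of fixed point free complements
-/

set_option autoImplicit false
set_option linter.all false

namespace CfsgLib.Core.FPF

open scoped Pointwise IsMulCommutative

open Subgroup

variable {G : Type*} [Group G] [Finite G] {A K : Subgroup G}
  (hAK : A ≤ normalizer (K : Set G))
  (hfpf : ∀ a ∈ A, a ≠ 1 → K ⊓ centralizer {a} = ⊥) (hK : K ≠ ⊥)

include hAK hfpf hK

theorem sylow_cyclic_or_quaternion {p : ℕ} [hp : Fact p.Prime] (P : Sylow p A) :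
    IsCyclic P ∨ (p = 2 ∧ ∃ n : ℕ, Nonempty (P ≃* QuaternionGroup (2 ^ n))) := by
  refine UniqueOrderP.isCyclic_or_quaternion_of_unique P.isPGroup' fun X Y hX hY => ?_
  have hinj : Function.Injective (A.subtype.comp (P : Subgroup A).subtype) :=
    A.subtype_injective.comp (Subgroup.subtype_injective _)
  apply map_injective hinj
  refine subgroup_order_prime_unique hAK hfpf hK (map_subtype_le (P : Subgroup A)) hp.out
    (P.isPGroup'.map A.subtype) ?_ ?_ ?_ ?_
  · rw [← map_map]; exact Subgroup.map_mono (map_subtype_le X)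
  · rw [← map_map]; exact Subgroup.map_mono (map_subtype_le Y)
  · rw [← Nat.card_congr (X.equivMapOfInjective _ hinj).toEquiv, hX]
  · rw [← Nat.card_congr (Y.equivMapOfInjective _ hinj).toEquiv, hY]

theorem isZGroup_of_odd (hodd : ¬ 2 ∣ Nat.card A) : IsZGroup A := by
  refine ⟨fun p hp P => ?_⟩
  haveI := Fact.mk hp
  rcases sylow_cyclic_or_quaternion hAK hfpf hK P with h | ⟨rfl, n, ⟨e⟩⟩
  · exact h
  · exfalso
    haveI : NeZero (2 ^ n) := ⟨(Nat.two_pow_pos n).ne'⟩
    apply hodd
    have h4 : Nat.card P = 4 * 2 ^ n := by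
      rw [Nat.card_congr e.toEquiv, Nat.card_eq_fintype_card, QuaternionGroup.card]
    exact (Dvd.intro (2 * 2 ^ n) (by rw [h4]; ring)).trans (card_subgroup_dvd_card (P : Subgroup A))

theorem center_ne_bot (hA : A ≠ ⊥) : center A ≠ ⊥ := by
  haveI : Nontrivial A := A.nontrivial_iff_ne_bot.mpr hA
  suffices ∃ z : A, z ≠ 1 ∧ z ∈ center A by
    obtain ⟨z, hz1, hz⟩ := this
    exact fun h => hz1 (mem_bot.mp (h ▸ hz))
  by_cases heven : 2 ∣ Nat.card A
  · obtain ⟨⟨s, hs, hs2, huniq, -⟩, -⟩ := exists_unique_involution hAK hfpf hK heven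
    refine ⟨⟨s, hs⟩, fun h => ?_, mem_center_iff.mpr fun g => ?_⟩
    · rw [show s = 1 from congrArg Subtype.val h, orderOf_one] at hs2
      exact absurd hs2 (by norm_num)
    · apply Subtype.ext
      have hc : (g : G) * s * (g : G)⁻¹ = s := by
        refine huniq _ (A.mul_mem (A.mul_mem g.2 hs) (A.inv_mem g.2)) ?_
        rw [← hs2]
        exact (MulAut.conj (g : G)).orderOf_eq s
      exact mul_inv_eq_iff_eq_mul.mp hc
  haveI := isZGroup_of_odd hAK hfpf hK heven
  by_cases hD : commutator A = ⊥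
  · obtain ⟨z, hz⟩ := exists_ne (1 : A)
    refine ⟨z, hz, ?_⟩
    haveI := (commutator_eq_bot_iff (G := A)).mp hD
    exact mem_center_iff.mpr fun g => mul_comm' g z
  obtain ⟨B, hB⟩ := Subgroup.exists_right_complement'_of_coprime
    (IsZGroup.coprime_commutator_index (G := A))
  haveI : IsCyclic (commutator A) := IsZGroup.isCyclic_commutator A
  letI : CommGroup (commutator A) := IsCyclic.commGroup
  haveI : IsMulCommutative (commutator A) := ⟨⟨mul_comm⟩⟩
  have hBD : ∀ b ∈ B, b ∈ commutator A → b = 1 := fun b hb hbD =>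
    mem_bot.mp (hB.disjoint.le_bot ⟨hbD, hb⟩)
  have hBcomm : ∀ b ∈ B, ∀ c ∈ B, b * c = c * b := by
    intro b hb c hc
    refine commutatorElement_eq_one_iff_mul_comm.mp (hBD _ ?_ ?_)
    · exact B.mul_mem (B.mul_mem (B.mul_mem hb hc) (B.inv_mem hb)) (B.inv_mem hc)
    · rw [_root_.commutator_def]
      exact commutator_mem_commutator (mem_top _) (mem_top _)
  have hBne : B ≠ ⊥ := by
    intro h
    have h2 := hB.card_mul_card
    rw [h, Subgroup.card_bot, mul_one] at h2
    exact (IsZGroup.commutator_lt (G := A)).ne (Subgroup.eq_top_of_card_eq _ h2)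
  obtain ⟨q, hq, hqB⟩ := Nat.exists_prime_and_dvd (n := Nat.card B)
    fun h => hBne (Subgroup.card_eq_one.mp h)
  haveI := Fact.mk hq
  obtain ⟨y, hy⟩ := exists_prime_orderOf_dvd_card' (G := B) q hqB
  generalize hy' : (y : A) = y'
  have hyo : orderOf y' = q := by rw [← hy', Subgroup.orderOf_coe, hy]
  have hyB : y' ∈ B := hy' ▸ y.2
  refine ⟨y', fun h => hq.ne_one (by rw [← hyo, h, orderOf_one]), ?_⟩
  have hcopD : (Nat.card (zpowers y')).Coprime (Nat.card (commutator A)) := by
    rw [Nat.card_zpowers, hyo]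
    refine Nat.Coprime.coprime_dvd_left ?_ (IsZGroup.coprime_commutator_index (G := A)).symm
    rw [hB.symm.index_eq_card]
    exact hqB
  have hcent : zpowers y' ≤ centralizer (commutator A : Set A) := by
    refine abelian_centralizes_of_prime_order Subgroup.le_normalizer_of_normal hcopD fun v hv hvp a ha => ?_
    have hn : ∀ g : A, g * v * g⁻¹ ∈ zpowers v := by
      intro g
      let σ : commutator A →* commutator A :=
        { toFun := fun w => ⟨g * w * g⁻¹, (inferInstance : (commutator A).Normal).conj_mem _ w.2 g⟩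
          map_one' := Subtype.ext (by simp)
          map_mul' := fun w z => Subtype.ext (by simp only [Subgroup.coe_mul]; group) }
      obtain ⟨m, hm⟩ := MonoidHom.map_cyclic σ
      have hgm : g * v * g⁻¹ = v ^ m := congrArg Subtype.val (hm ⟨v, hv⟩)
      exact hgm ▸ zpow_mem (mem_zpowers v) m
    haveI hnv : (zpowers v).Normal := ⟨fun n hn' g => by
      obtain ⟨i, rfl⟩ := mem_zpowers_iff.mp hn'
      rw [← conj_zpow]
      exact zpow_mem (hn g) i⟩
    have hyn : (y' : G) ∈ normalizer (zpowers (v : G) : Set G) := by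
      have h := le_normalizer_map (H := zpowers v) A.subtype
        (mem_map_of_mem _ ((normalizer_eq_top (H := zpowers v)).symm ▸ mem_top y'))
      rwa [MonoidHom.map_zpowers] at h
    have hc := commute_of_prime_orders hAK hfpf hK y'.2 v.2
      (by rw [Subgroup.orderOf_coe, hyo]; exact hq) (by rw [Subgroup.orderOf_coe]; exact hvp) hyn
    obtain ⟨i, rfl⟩ := mem_zpowers_iff.mp ha
    have hc' : Commute y' v := Subtype.ext hc
    exact (hc'.zpow_left i).eq
  rw [mem_center_iff]
  intro g
  obtain ⟨⟨d, b⟩, rfl⟩ := hB.surjective g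
  have h1 : Commute y' (d : A) := (mem_centralizer_iff.mp (hcent (mem_zpowers y')) d d.2).symm
  have h2 : Commute y' (b : A) := hBcomm _ hyB _ b.2
  exact (h1.mul_right h2).eq.symm

end CfsgLib.Core.FPF
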