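import Cfsg.Agent.Lib.Core.Nilpotent
import Cfsg.Agent.Lib.Components.Subnormal
import Mathlib.GroupTheory.FixedPointFree
import Mathlib.GroupTheory.IndexNormal

/-!
# Fixed point free action

`A` acts fixed point freely on `K`: `∀ a ∈ A, a ≠ 1 → K ⊓ C(a) = ⊥`, with `A ≤ N(K)`, `K ≠ ⊥`.

* `card_dvd_pred`, `coprime_card`, `exists_abelian`
* `pow_eq_one_of_partition`, `no_frobenius`, `commute_of_prime_orders`
* `isCyclic_of_card_prime_sq`, `isCyclic_of_isMulCommutative`, `isCyclic_of_card_mul`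
* `subgroup_order_prime_unique`, `exists_unique_involution`
-/

set_option autoImplicit false
set_option linter.all false

namespace CfsgLib.Core.FPF

open scoped Pointwise IsMulCommutative

open Subgroup

variable {G : Type*} [Group G]

theorem eq_one_of_fixed {A K : Subgroup G}
    (hfpf : ∀ a ∈ A, a ≠ 1 → K ⊓ centralizer {a} = ⊥) {a k : G} (ha : a ∈ A) (ha1 : a ≠ 1)
    (hk : k ∈ K) (hc : a * k = k * a) : k = 1 :=
  mem_bot.mp ((hfpf a ha ha1).le ⟨hk, mem_centralizer_singleton_iff.mpr hc.symm⟩)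

theorem fpf_mono {A B K L : Subgroup G} (hfpf : ∀ a ∈ A, a ≠ 1 → K ⊓ centralizer {a} = ⊥)
    (hB : B ≤ A) (hL : L ≤ K) : ∀ b ∈ B, b ≠ 1 → L ⊓ centralizer {b} = ⊥ := fun b hb hb1 =>
  le_bot_iff.mp ((inf_le_inf_right _ hL).trans (hfpf b (hB hb) hb1).le)

theorem card_dvd_pred [Finite G] {A K : Subgroup G} (hAK : A ≤ normalizer (K : Set G))
    (hfpf : ∀ a ∈ A, a ≠ 1 → K ⊓ centralizer {a} = ⊥) : Nat.card A ∣ Nat.card K - 1 := by
  classical
  letI : MulAction A {k : K // k ≠ 1} :=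
    { smul := fun a k => ⟨⟨(a : G) * ((k.1 : K) : G) * (a : G)⁻¹,
          conj_mem_of_le_normalizer hAK a.2 k.1.2⟩,
        fun hc => k.2 (Subtype.ext (conj_eq_one_iff.mp (congrArg Subtype.val hc)))⟩
      one_smul := fun k => Subtype.ext (Subtype.ext (by
        show ((1 : A) : G) * ((k.1 : K) : G) * ((1 : A) : G)⁻¹ = _
        simp))
      mul_smul := fun a b k => Subtype.ext (Subtype.ext (by
        show ((a * b : A) : G) * ((k.1 : K) : G) * ((a * b : A) : G)⁻¹ =
          (a : G) * ((b : G) * ((k.1 : K) : G) * (b : G)⁻¹) * (a : G)⁻¹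
        simp [mul_assoc])) }
  have hfree : ∀ k : {k : K // k ≠ 1}, MulAction.stabilizer A k = ⊥ := by
    intro k
    rw [eq_bot_iff]
    intro a ha
    have h : (a : G) * ((k.1 : K) : G) * (a : G)⁻¹ = ((k.1 : K) : G) :=
      congrArg (fun w : {k : K // k ≠ 1} => ((w.1 : K) : G)) (MulAction.mem_stabilizer_iff.mp ha)
    rw [mem_bot]
    by_contra ha1
    exact k.2 (Subtype.ext (eq_one_of_fixed hfpf a.2 (fun h => ha1 (Subtype.ext h)) k.1.2
      (mul_inv_eq_iff_eq_mul.mp h)))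
  have hc : Nat.card {k : K // k ≠ 1} = Nat.card K - 1 := by
    letI := Fintype.ofFinite K
    rw [Nat.card_eq_fintype_card, Nat.card_eq_fintype_card, Fintype.card_subtype_compl,
      Fintype.card_subtype_eq]
  rw [← hc, Nat.card_congr (MulAction.selfEquivOrbitsQuotientProd hfree), Nat.card_prod]
  exact dvd_mul_left _ _

theorem coprime_card [Finite G] {A K : Subgroup G} (hAK : A ≤ normalizer (K : Set G))
    (hfpf : ∀ a ∈ A, a ≠ 1 → K ⊓ centralizer {a} = ⊥) :
    (Nat.card A).Coprime (Nat.card K) := by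
  refine Nat.coprime_of_dvd fun r hr hrA hrK => hr.ne_one (Nat.dvd_one.mp ?_)
  have := Nat.dvd_sub hrK (hrA.trans (card_dvd_pred hAK hfpf))
  rwa [Nat.sub_sub_self (Nat.card_pos : 0 < Nat.card K)] at this

theorem exists_abelian [Finite G] {A K : Subgroup G} (hAK : A ≤ normalizer (K : Set G))
    (hfpf : ∀ a ∈ A, a ≠ 1 → K ⊓ centralizer {a} = ⊥) (hK : K ≠ ⊥) (hA : Group.IsSolvable A) :
    ∃ V : Subgroup G, V ≤ K ∧ V ≠ ⊥ ∧ IsMulCommutative V ∧ A ≤ normalizer (V : Set G) := by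
  obtain ⟨q, hq, hqd⟩ := Nat.exists_prime_and_dvd (n := Nat.card K)
    fun h => hK (Subgroup.card_eq_one.mp h)
  haveI := Fact.mk hq
  obtain ⟨R, hR⟩ := exists_invariant_sylow hAK (coprime_card hAK hfpf) (Or.inl hA) q
  generalize hR' : (R : Subgroup K).map K.subtype = R' at hR
  refine ⟨R' ⊓ centralizer (R' : Set G), inf_le_left.trans (hR' ▸ map_subtype_le _), ?_, ?_, ?_⟩
  · have hRb : R' ≠ ⊥ := by
      rw [← hR', Ne, map_eq_bot_iff_of_injective _ K.subtype_injective]
      exact R.ne_bot_of_dvd_card hqd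
    haveI : Nontrivial R' := R'.nontrivial_iff_ne_bot.mpr hRb
    have hRp : IsPGroup q R' := hR' ▸ R.isPGroup'.map _
    obtain ⟨⟨c, hc⟩, hc1⟩ := ne_bot_iff_exists_ne_one.mp hRp.bot_lt_center.ne'
    intro hb
    refine hc1 (Subtype.ext (Subtype.ext (mem_bot.mp (hb.le ⟨c.2, ?_⟩))))
    exact Subgroup.mem_centralizer_iff.mpr fun x hx =>
      congrArg Subtype.val (Subgroup.mem_center_iff.mp hc ⟨x, hx⟩)
  · rw [← le_centralizer_iff_isMulCommutative]
    exact inf_le_right.trans (centralizer_le inf_le_left)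
  · refine (le_inf hR ?_).trans inf_normalizer_le_normalizer_inf
    rw [le_normalizer_iff]
    intro a ha x hx
    rw [Subgroup.mem_centralizer_iff] at hx ⊢
    intro r hr
    have h := hx (a⁻¹ * r * a) (conj_mem_of_le_normalizer' hR ha hr)
    have h2 := congrArg (fun y => a * y * a⁻¹) h
    simpa [mul_assoc] using h2

theorem pow_eq_one_of_partition [Finite G] {A V : Subgroup G} [IsMulCommutative V]
    (hAV : A ≤ normalizer (V : Set G))
    (hfpf : ∀ a ∈ A, a ≠ 1 → V ⊓ centralizer {a} = ⊥)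
    (hA : A ≠ ⊥) (s : Finset (Subgroup G)) (hle : ∀ B ∈ s, B ≤ A) (hne : ∀ B ∈ s, B ≠ ⊥)
    (hcov : ∀ a ∈ A, a ≠ 1 → ∃! B, B ∈ s ∧ a ∈ B) {v : G} (hv : v ∈ V) :
    v ^ (s.card - 1) = 1 := by
  classical
  haveI := Fintype.ofFinite G
  let f : G → V := fun g =>
    if h : g ∈ A then ⟨g * v * g⁻¹, conj_mem_of_le_normalizer hAV h hv⟩ else 1
  let S : Subgroup G → Finset G := fun B => Finset.univ.filter fun g => g ∈ B ∧ g ≠ 1
  have hN : ∀ B : Subgroup G, B ≤ A → B ≠ ⊥ → (⟨v, hv⟩ : V) * ∏ g ∈ S B, f g = 1 := by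
    intro B hB hBb
    have h1 : ∏ g ∈ Finset.univ.filter (· ∈ B), f g = (⟨v, hv⟩ : V) * ∏ g ∈ S B, f g := by
      rw [← Finset.mul_prod_erase _ f (a := 1) (by simp [one_mem])]
      congr 1
      · simp [f, one_mem]
      · congr 1
        ext g
        simp [S, and_comm]
    rw [← h1]
    obtain ⟨⟨b, hb⟩, hb1⟩ := ne_bot_iff_exists_ne_one.mp hBb
    have hb1' : b ≠ 1 := fun h => hb1 (Subtype.ext h)
    let c : V →* V :=
      { toFun := fun w => ⟨b * w * b⁻¹, conj_mem_of_le_normalizer hAV (hB hb) w.2⟩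
        map_one' := Subtype.ext (by simp)
        map_mul' := fun x y => Subtype.ext (by simp only [Subgroup.coe_mul]; group) }
    have hc : c (∏ g ∈ Finset.univ.filter (· ∈ B), f g) =
        ∏ g ∈ Finset.univ.filter (· ∈ B), f g := by
      rw [map_prod]
      refine Finset.prod_equiv (Equiv.mulLeft b) (fun g => ?_) fun g hg => ?_
      · simp [B.mul_mem_cancel_left hb]
      · simp only [Finset.mem_filter, Finset.mem_univ, true_and] at hg
        have h2 : b * g ∈ A := hB (B.mul_mem hb hg)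
        simp only [f, Equiv.coe_mulLeft, dif_pos (hB hg), dif_pos h2, c, MonoidHom.coe_mk,
          OneHom.coe_mk, Subtype.mk.injEq]
        group
    exact Subtype.ext (eq_one_of_fixed hfpf (hB hb) hb1' (SetLike.coe_mem _)
      (mul_inv_eq_iff_eq_mul.mp (congrArg Subtype.val hc)))
  have hunion : s.biUnion S = S A := by
    ext g
    simp only [S, Finset.mem_biUnion, Finset.mem_filter, Finset.mem_univ, true_and]
    constructor
    · rintro ⟨B, hB, hg, hg1⟩
      exact ⟨hle B hB hg, hg1⟩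
    · rintro ⟨hg, hg1⟩
      obtain ⟨B, ⟨hB, hgB⟩, -⟩ := hcov g hg hg1
      exact ⟨B, hB, hgB, hg1⟩
  have hdisj : (s : Set (Subgroup G)).PairwiseDisjoint S := by
    intro B hB C hC hBC
    simp only [Function.onFun, S, Finset.disjoint_left, Finset.mem_filter, Finset.mem_univ,
      true_and]
    rintro g ⟨hgB, hg1⟩ ⟨hgC, -⟩
    obtain ⟨D, -, huniq⟩ := hcov g (hle B hB hgB) hg1
    exact hBC ((huniq B ⟨hB, hgB⟩).trans (huniq C ⟨hC, hgC⟩).symm)
  have htot : (⟨v, hv⟩ : V) ^ s.card * ∏ g ∈ S A, f g = 1 := by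
    rw [← hunion, Finset.prod_biUnion hdisj, ← Finset.prod_const, ← Finset.prod_mul_distrib]
    exact Finset.prod_eq_one fun B hB => hN B (hle B hB) (hne B hB)
  have hs : 1 ≤ s.card := by
    obtain ⟨⟨a, ha⟩, ha1⟩ := ne_bot_iff_exists_ne_one.mp hA
    obtain ⟨B, ⟨hB, -⟩, -⟩ := hcov a ha fun h => ha1 (Subtype.ext h)
    exact Finset.card_pos.mpr ⟨B, hB⟩
  have hpow : (⟨v, hv⟩ : V) ^ s.card = ⟨v, hv⟩ := mul_right_cancel (htot.trans (hN A le_rfl hA).symm)
  have h2 : (⟨v, hv⟩ : V) ^ (s.card - 1) = 1 := by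
    obtain ⟨m, hm⟩ := Nat.exists_eq_add_of_le' hs
    rw [hm, pow_succ, mul_eq_right] at hpow
    rw [hm, Nat.add_sub_cancel]
    exact hpow
  exact congrArg Subtype.val h2

variable [Finite G] {A K : Subgroup G} (hAK : A ≤ normalizer (K : Set G))
  (hfpf : ∀ a ∈ A, a ≠ 1 → K ⊓ centralizer {a} = ⊥) (hK : K ≠ ⊥)

include hAK hfpf hK

theorem false_of_partition {B : Subgroup G} (hB : B ≤ A) (hBs : Group.IsSolvable B) (hBb : B ≠ ⊥)
    (s : Finset (Subgroup G)) (hle : ∀ C ∈ s, C ≤ B) (hne : ∀ C ∈ s, C ≠ ⊥)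
    (hcov : ∀ a ∈ B, a ≠ 1 → ∃! C, C ∈ s ∧ a ∈ C)
    (hdvd : s.card - 1 ∣ Nat.card B) : False := by
  obtain ⟨V, hVK, hVb, hVc, hBV⟩ := exists_abelian (hB.trans hAK) (fpf_mono hfpf hB le_rfl) hK hBs
  haveI := hVc
  obtain ⟨⟨v, hv⟩, hv1⟩ := ne_bot_iff_exists_ne_one.mp hVb
  have h1 := pow_eq_one_of_partition hBV (fpf_mono hfpf hB hVK) hBb s hle hne hcov hv
  have hcop : (s.card - 1).Coprime (Nat.card V) :=
    ((coprime_card (hB.trans hAK) (fpf_mono hfpf hB le_rfl)).coprime_dvd_left hdvd).coprime_dvd_right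
      (card_dvd_of_le hVK)
  refine hv1 ((powCoprime hcop.symm).injective ?_)
  simp only [powCoprime_apply, one_pow]
  exact Subtype.ext h1

theorem isCyclic_of_card_prime_sq {E : Subgroup G} (hE : E ≤ A) {r : ℕ} (hr : r.Prime)
    (hc : Nat.card E = r ^ 2) : IsCyclic E := by
  classical
  by_contra hnc
  haveI := Fintype.ofFinite G
  haveI := Fact.mk hr
  have hord : ∀ a ∈ E, a ≠ 1 → orderOf a = r := by
    intro a ha ha1
    have hd : orderOf a ∣ r ^ 2 := hc ▸ E.orderOf_dvd_natCard ha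
    obtain ⟨i, hi, he⟩ := (Nat.dvd_prime_pow hr).mp hd
    interval_cases i
    · rw [pow_zero, orderOf_eq_one_iff] at he
      exact absurd he ha1
    · rwa [pow_one] at he
    · exact absurd (isCyclic_of_orderOf_eq_card ⟨a, ha⟩ (by rw [Subgroup.orderOf_mk, he, hc])) hnc
  let S : Finset G := Finset.univ.filter fun g => g ∈ E ∧ g ≠ 1
  let s : Finset (Subgroup G) := S.image zpowers
  have hmem : ∀ C ∈ s, ∃ b, b ∈ E ∧ b ≠ 1 ∧ zpowers b = C := by
    intro C hC
    obtain ⟨b, hb, rfl⟩ := Finset.mem_image.mp hC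
    simp only [S, Finset.mem_filter, Finset.mem_univ, true_and] at hb
    exact ⟨b, hb.1, hb.2, rfl⟩
  have hcov : ∀ a ∈ E, a ≠ 1 → ∃! C, C ∈ s ∧ a ∈ C := by
    intro a ha ha1
    refine ⟨zpowers a, ⟨Finset.mem_image_of_mem _ (by simp [S, ha, ha1]), mem_zpowers a⟩, ?_⟩
    rintro C ⟨hC, haC⟩
    obtain ⟨b, hb, hb1, rfl⟩ := hmem C hC
    refine (Subgroup.eq_of_le_of_card_ge (zpowers_le.mpr haC) ?_).symm
    rw [Nat.card_zpowers, Nat.card_zpowers, hord a ha ha1, hord b hb hb1]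
  have hsize : ∀ C ∈ s, (S.filter fun g => g ∈ C).card = r - 1 := by
    intro C hC
    obtain ⟨b, hb, hb1, rfl⟩ := hmem C hC
    have : (S.filter fun g => g ∈ zpowers b) = (Finset.univ.filter fun g => g ∈ zpowers b).erase 1 := by
      ext g
      simp only [S, Finset.mem_filter, Finset.mem_univ, true_and, Finset.mem_erase]
      exact ⟨fun h => ⟨h.1.2, h.2⟩, fun h => ⟨⟨zpowers_le.mpr hb h.2, h.1⟩, h.2⟩⟩
    rw [this, Finset.card_erase_of_mem (by simp [one_mem]), ← Fintype.card_subtype,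
      ← Nat.card_eq_fintype_card]
    show Nat.card (zpowers b) - 1 = r - 1
    rw [Nat.card_zpowers, hord b hb hb1]
  have hunion : s.biUnion (fun C => S.filter fun g => g ∈ C) = S := by
    ext g
    simp only [Finset.mem_biUnion, Finset.mem_filter]
    refine ⟨fun ⟨C, _, h, _⟩ => h, fun h => ?_⟩
    exact ⟨zpowers g, Finset.mem_image_of_mem _ h, h, mem_zpowers g⟩
  have hcount : S.card = s.card * (r - 1) := by
    conv_lhs => rw [← hunion]
    rw [Finset.card_biUnion, Finset.sum_congr rfl hsize, Finset.sum_const, smul_eq_mul]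
    intro B hB C hC hBC
    simp only [Function.onFun, Finset.disjoint_left, Finset.mem_filter]
    rintro g ⟨hgS, hgB⟩ ⟨-, hgC⟩
    simp only [S, Finset.mem_filter, Finset.mem_univ, true_and] at hgS
    obtain ⟨D, -, huniq⟩ := hcov g hgS.1 hgS.2
    exact hBC ((huniq B ⟨hB, hgB⟩).trans (huniq C ⟨hC, hgC⟩).symm)
  have hScard : S.card + 1 = r ^ 2 := by
    have : S = (Finset.univ.filter fun g => g ∈ E).erase 1 := by
      ext g
      simp [S, and_comm]
    rw [this, Finset.card_erase_add_one (by simp [one_mem]), ← Fintype.card_subtype,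
      ← Nat.card_eq_fintype_card]
    exact hc
  have hk : s.card = r + 1 := by
    have h2 := hr.two_le
    rw [hcount] at hScard
    obtain ⟨m, rfl⟩ : ∃ m, r = m + 1 := ⟨r - 1, by omega⟩
    rw [Nat.add_sub_cancel] at hScard
    apply Nat.eq_of_mul_eq_mul_right (show 0 < m by omega)
    nlinarith
  have hEp : IsPGroup r E := IsPGroup.of_card hc
  haveI := hEp.isNilpotent
  refine false_of_partition hAK hfpf hK hE inferInstance ?_ s ?_ ?_ hcov ?_
  · intro hb
    rw [hb, Subgroup.card_bot] at hc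
    exact absurd hc.symm (Nat.one_lt_pow two_ne_zero hr.one_lt).ne'
  · intro C hC
    obtain ⟨b, hb, -, rfl⟩ := hmem C hC
    exact zpowers_le.mpr hb
  · intro C hC
    obtain ⟨b, -, hb1, rfl⟩ := hmem C hC
    exact zpowers_ne_bot.mpr hb1
  · rw [hk, hc, Nat.add_sub_cancel]
    exact dvd_pow_self r two_ne_zero

/-- No subgroup `E⟨d⟩` with `C_E(d) = 1`, `d` of prime order. -/
theorem no_frobenius {E : Subgroup G} {d : G} (hE : E ≤ A) (hd : d ∈ A) (hp : (orderOf d).Prime)
    (hEb : E ≠ ⊥) (hEs : Group.IsSolvable E) (hdE : d ∈ normalizer (E : Set G))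
    (hC : E ⊓ centralizer {d} = ⊥) : False := by
  classical
  haveI := Fintype.ofFinite G
  haveI := Fact.mk hp
  have hdE' : zpowers d ≤ normalizer (E : Set G) := zpowers_le.mpr hdE
  have hd1 : d ≠ 1 := fun h => hp.ne_one (by rw [h, orderOf_one])
  have hgen : ∀ z ∈ zpowers d, z ≠ 1 → d ∈ zpowers z := by
    intro z hz hz1
    have : zpowers z = zpowers d := by
      refine Subgroup.eq_of_le_of_card_ge (zpowers_le.mpr hz) ?_
      rw [Nat.card_zpowers, Nat.card_zpowers]
      obtain ⟨i, rfl⟩ := (isOfFinOrder_of_finite d).mem_powers_iff_mem_zpowers.mpr hz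
      rcases (Nat.dvd_prime hp).mp (orderOf_pow_dvd (x := d) i) with h | h
      · exact absurd (orderOf_eq_one_iff.mp h) hz1
      · exact h.ge
    exact this ▸ mem_zpowers d
  have hfree : ∀ e ∈ E, ∀ z ∈ zpowers d, z ≠ 1 → z * e = e * z → e = 1 := by
    intro e he z hz hz1 hcomm
    refine mem_bot.mp (hC.le ⟨he, mem_centralizer_singleton_iff.mpr ?_⟩)
    obtain ⟨j, hj⟩ := mem_zpowers_iff.mp (hgen z hz hz1)
    have : Commute z e := hcomm
    rw [← hj]
    exact (this.zpow_left j).eq.symm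
  have hdisj : ∀ z ∈ zpowers d, z ∈ E → z = 1 := by
    intro z hz hzE
    by_contra hz1
    exact hz1 (hfree z hzE z hz hz1 rfl)
  generalize hB : zpowers d ⊔ E = B
  have hBA : B ≤ A := hB ▸ sup_le (zpowers_le.mpr hd) hE
  have hBs : Group.IsSolvable B := by
    rw [← hB, sup_comm]
    exact Components.isSolvable_sup hdE' hEs inferInstance
  let s : Finset (Subgroup G) :=
    insert E ((Finset.univ.filter (· ∈ E)).image fun e => MulAut.conj e • zpowers d)
  have hrec : ∀ x ∈ B, x ∈ E ∨ ∃ e ∈ E, ∃ z ∈ zpowers d, z ≠ 1 ∧ x = e * z * e⁻¹ := by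
    intro x hx
    rw [← hB] at hx
    obtain ⟨n, hn, z, hz, rfl⟩ := (mem_sup_iff_mul' hdE').mp hx
    by_cases hz1 : z = 1
    · left; rwa [hz1, mul_one]
    right
    let g : E → E := fun e => ⟨e * (z * (e : G)⁻¹ * z⁻¹),
      E.mul_mem e.2 (conj_mem_of_le_normalizer hdE' hz (E.inv_mem e.2))⟩
    have hinj : Function.Injective g := by
      intro a b hab
      have h1 : (a : G) * (z * (a : G)⁻¹ * z⁻¹) = b * (z * (b : G)⁻¹ * z⁻¹) := congrArg Subtype.val hab
      have h2 : z * ((b : G)⁻¹ * a) = ((b : G)⁻¹ * a) * z := by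
        have h3 := congrArg (fun y => (b : G)⁻¹ * y * (z * (a : G))) h1
        simpa [mul_assoc] using h3.symm
      have h4 := hfree _ (E.mul_mem (E.inv_mem b.2) a.2) z hz hz1 h2
      exact Subtype.ext (inv_mul_eq_one.mp h4).symm
    obtain ⟨e, he⟩ := (Finite.surjective_of_injective hinj) ⟨n, hn⟩
    refine ⟨e, e.2, z, hz, hz1, ?_⟩
    have h5 : (e : G) * (z * (e : G)⁻¹ * z⁻¹) = n := congrArg Subtype.val he
    rw [← h5]
    group
  have hconjE : ∀ e ∈ E, ∀ z ∈ zpowers d, e * z * e⁻¹ ∈ E → z = 1 := by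
    intro e he z hz h
    refine hdisj z hz ?_
    simpa [mul_assoc] using E.mul_mem (E.mul_mem (E.inv_mem he) h) he
  have hconjU : ∀ e ∈ E, ∀ e' ∈ E, ∀ z ∈ zpowers d, ∀ z' ∈ zpowers d, z ≠ 1 →
      e * z * e⁻¹ = e' * z' * e'⁻¹ → e = e' := by
    intro e he e' he' z hz z' hz' hz1 h
    generalize hg : e'⁻¹ * e = g
    have hgE : g ∈ E := hg ▸ E.mul_mem (E.inv_mem he') he
    have h1 : g * z * g⁻¹ = z' := by
      rw [← hg]
      have := congrArg (fun y => e'⁻¹ * y * e') h
      simpa [mul_assoc] using this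
    have h2 : z' * z⁻¹ ∈ E := by
      rw [← h1, mul_assoc g, mul_assoc]
      exact E.mul_mem hgE (by
        simpa [mul_assoc] using conj_mem_of_le_normalizer hdE' hz (E.inv_mem hgE))
    have h3 : z' = z := mul_inv_eq_one.mp (hdisj _ (mul_mem hz' (inv_mem hz)) h2)
    rw [h3, mul_inv_eq_iff_eq_mul] at h1
    have := hfree g hgE z hz hz1 h1.symm
    rw [← hg] at this
    exact (inv_mul_eq_one.mp this).symm
  have hmem_s : ∀ C ∈ s, C = E ∨ ∃ e ∈ E, C = MulAut.conj e • zpowers d := by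
    intro C hC
    rcases Finset.mem_insert.mp hC with h | h
    · exact Or.inl h
    · obtain ⟨e, he, rfl⟩ := Finset.mem_image.mp h
      exact Or.inr ⟨e, (Finset.mem_filter.mp he).2, rfl⟩
  have hin : ∀ {e w : G}, w ∈ MulAut.conj e • zpowers d →
      ∃ z ∈ zpowers d, w = e * z * e⁻¹ := by
    intro e w hw
    exact ⟨e⁻¹ * w * e, mem_conj_smul_iff.mp hw, by group⟩
  have hcov : ∀ a ∈ B, a ≠ 1 → ∃! C, C ∈ s ∧ a ∈ C := by
    intro a ha ha1
    by_cases haE : a ∈ E
    · refine ⟨E, ⟨Finset.mem_insert_self _ _, haE⟩, ?_⟩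
      rintro C ⟨hC, haC⟩
      rcases hmem_s C hC with h | ⟨e, he, rfl⟩
      · exact h
      · obtain ⟨z, hz, rfl⟩ := hin haC
        exact absurd (by rw [hconjE e he z hz haE]; group) ha1
    · obtain ⟨e, he, z, hz, hz1, rfl⟩ := (hrec a ha).resolve_left haE
      refine ⟨MulAut.conj e • zpowers d, ⟨Finset.mem_insert_of_mem
        (Finset.mem_image_of_mem _ (by simp [he])), conj_mem_conj_smul hz⟩, ?_⟩
      rintro C ⟨hC, haC⟩
      rcases hmem_s C hC with rfl | ⟨e', he', rfl⟩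
      · exact absurd haC haE
      · obtain ⟨z', hz', heq⟩ := hin haC
        rw [hconjU e he e' he' z hz z' hz' hz1 heq]
  have hscard : s.card = Nat.card E + 1 := by
    rw [Finset.card_insert_of_notMem, Finset.card_image_of_injOn, ← Fintype.card_subtype,
      ← Nat.card_eq_fintype_card]
    · intro e he e' he' heq
      simp only [Finset.coe_filter, Finset.mem_univ, true_and, Set.mem_setOf_eq] at he he'
      obtain ⟨z, hz, hzz⟩ := hin ((show MulAut.conj e • zpowers d = MulAut.conj e' • zpowers d from heq) ▸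
        conj_mem_conj_smul (g := e) (mem_zpowers d))
      exact hconjU e he e' he' d (mem_zpowers d) z hz hd1 hzz
    · intro hc
      obtain ⟨e, he, heq⟩ := Finset.mem_image.mp hc
      simp only [Finset.mem_filter, Finset.mem_univ, true_and] at he
      exact hd1 (hconjE e he d (mem_zpowers d) (heq ▸ conj_mem_conj_smul (mem_zpowers d)))
  have hEB : E ≤ B := hB ▸ le_sup_right
  refine false_of_partition hAK hfpf hK hBA hBs ?_ s ?_ ?_ hcov ?_
  · intro hb
    exact hEb (le_bot_iff.mp (hb ▸ hEB))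
  · intro C hC
    rcases hmem_s C hC with rfl | ⟨e, he, rfl⟩
    · exact hEB
    · intro w hw
      obtain ⟨z, hz, rfl⟩ := hin hw
      exact B.mul_mem (B.mul_mem (hEB he) (hB ▸ mem_sup_left hz)) (B.inv_mem (hEB he))
  · intro C hC
    rcases hmem_s C hC with rfl | ⟨e, he, rfl⟩
    · exact hEb
    · intro hb
      have h := hb.le (conj_mem_conj_smul (g := e) (mem_zpowers d))
      exact hd1 (conj_eq_one_iff.mp (mem_bot.mp h))
  · rw [hscard, Nat.add_sub_cancel]
    exact card_dvd_of_le hEB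

theorem commute_of_prime_orders {d x : G} (hd : d ∈ A) (hx : x ∈ A) (hp : (orderOf d).Prime)
    (hq : (orderOf x).Prime) (hn : d ∈ normalizer (zpowers x : Set G)) : Commute d x := by
  by_contra hc
  have hx1 : x ≠ 1 := fun h => hq.ne_one (by rw [h, orderOf_one])
  refine no_frobenius hAK hfpf hK (zpowers_le.mpr hx) hd hp (zpowers_ne_bot.mpr hx1)
    inferInstance hn ?_
  rw [eq_bot_iff]
  rintro y ⟨hy, hyd⟩
  rw [mem_bot]
  by_contra hy1
  apply hc
  have : zpowers y = zpowers x := by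
    refine Subgroup.eq_of_le_of_card_ge (zpowers_le.mpr hy) ?_
    rw [Nat.card_zpowers, Nat.card_zpowers]
    obtain ⟨i, rfl⟩ := (isOfFinOrder_of_finite x).mem_powers_iff_mem_zpowers.mpr hy
    rcases (Nat.dvd_prime hq).mp (orderOf_pow_dvd (x := x) i) with h | h
    · exact absurd (orderOf_eq_one_iff.mp h) hy1
    · exact h.ge
  obtain ⟨j, hj⟩ := mem_zpowers_iff.mp (this ▸ mem_zpowers x : x ∈ zpowers y)
  rw [← hj]
  have h2 : Commute d y := (mem_centralizer_singleton_iff.mp hyd).symm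
  exact h2.zpow_right j

theorem isCyclic_of_isMulCommutative {B : Subgroup G} (hB : B ≤ A) [IsMulCommutative B] :
    IsCyclic B := by
  by_contra hnc
  obtain ⟨p, hp, E, hEB, hexp, hcard⟩ := exists_elementary_of_not_isCyclic B hnc
  haveI := Fact.mk hp
  have hEp : IsPGroup p E := fun a => ⟨1, Subtype.ext (by simpa using hexp _ a.2)⟩
  obtain ⟨E₂, hE₂⟩ := Sylow.exists_subgroup_card_pow_prime_of_le_card hp hEp hcard
  have hle : E₂.map E.subtype ≤ A := ((map_subtype_le E₂).trans hEB).trans hB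
  have hc : Nat.card (E₂.map E.subtype) = p ^ 2 := by
    rw [← Nat.card_congr (E₂.equivMapOfInjective _ E.subtype_injective).toEquiv, hE₂]
  obtain ⟨⟨g, hg⟩, hgg⟩ := (isCyclic_of_card_prime_sq hAK hfpf hK hle hp hc).exists_generator
  have h1 : orderOf (⟨g, hg⟩ : E₂.map E.subtype) = p ^ 2 := by
    rw [orderOf_eq_card_of_forall_mem_zpowers hgg, hc]
  have hgE : g ∈ E := map_subtype_le E₂ hg
  have h2 : orderOf (⟨g, hg⟩ : E₂.map E.subtype) ∣ p := by
    rw [Subgroup.orderOf_mk]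
    exact orderOf_dvd_of_pow_eq_one (hexp g hgE)
  rw [h1] at h2
  have := Nat.le_of_dvd hp.pos h2
  nlinarith [hp.two_le]

theorem isCyclic_of_card_mul {B : Subgroup G} (hB : B ≤ A) {p q : ℕ} (hp : p.Prime) (hq : q.Prime)
    (hc : Nat.card B = p * q) : IsCyclic B := by
  wlog hpq : p ≤ q generalizing p q
  · exact this hq hp (hc.trans (mul_comm p q)) (le_of_not_ge hpq)
  rcases hpq.eq_or_lt with rfl | hlt
  · exact isCyclic_of_card_prime_sq hAK hfpf hK hB hp (by rw [hc, sq])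
  haveI := Fact.mk hp
  haveI := Fact.mk hq
  obtain ⟨x, hx⟩ := exists_prime_orderOf_dvd_card' (G := B) q (hc ▸ dvd_mul_left q p)
  obtain ⟨d, hd⟩ := exists_prime_orderOf_dvd_card' (G := B) p (hc ▸ dvd_mul_right p q)
  haveI : (zpowers x).Normal := by
    refine normal_of_index_eq_minFac_card ?_
    have h1 : (zpowers x).index = p := by
      apply Nat.eq_of_mul_eq_mul_left hq.pos
      rw [← hx, ← Nat.card_zpowers, card_mul_index, hc, Nat.card_zpowers, hx, mul_comm]
    rw [h1, hc]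
    have hne : p * q ≠ 1 := by nlinarith [hp.two_le, hq.two_le]
    refine le_antisymm ?_ (Nat.minFac_le_of_dvd hp.two_le (dvd_mul_right p q))
    rcases (Nat.minFac_prime hne).dvd_mul.mp (Nat.minFac_dvd (p * q)) with h | h
    · rw [(Nat.prime_dvd_prime_iff_eq (Nat.minFac_prime hne) hp).mp h]
    · rw [(Nat.prime_dvd_prime_iff_eq (Nat.minFac_prime hne) hq).mp h]
      exact hlt.le
  have hn : (d : G) ∈ normalizer (zpowers (x : G) : Set G) := by
    have h := le_normalizer_map (H := zpowers x) B.subtype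
      (mem_map_of_mem _ ((normalizer_eq_top (H := zpowers x)).symm ▸ mem_top d))
    rwa [MonoidHom.map_zpowers] at h
  have hcomm := commute_of_prime_orders hAK hfpf hK (hB d.2) (hB x.2)
    (by rw [Subgroup.orderOf_coe, hd]; exact hp) (by rw [Subgroup.orderOf_coe, hx]; exact hq) hn
  refine isCyclic_of_orderOf_eq_card (d * x) ?_
  have hcB : Commute d x := Subtype.ext hcomm
  rw [hcB.orderOf_mul_eq_mul_orderOf_of_coprime (by
    rw [hd, hx]; exact (Nat.coprime_primes hp hq).mpr hlt.ne), hd, hx, hc]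

/-- A `p`-subgroup of `A` has only one subgroup of order `p`. -/
theorem subgroup_order_prime_unique {P : Subgroup G} (hP : P ≤ A) {p : ℕ} (hp : p.Prime)
    (hPp : IsPGroup p P) {X Y : Subgroup G} (hX : X ≤ P) (hY : Y ≤ P) (hXc : Nat.card X = p)
    (hYc : Nat.card Y = p) : X = Y := by
  haveI := Fact.mk hp
  haveI : Nontrivial P := by
    refine P.nontrivial_iff_ne_bot.mpr fun hb => ?_
    have hXb : X = ⊥ := le_bot_iff.mp (hX.trans hb.le)
    rw [hXb, Subgroup.card_bot] at hXc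
    exact hp.ne_one hXc.symm
  have hz : p ∣ Nat.card (center P) := by
    rcases (hPp.to_subgroup (center P)).card_eq_or_dvd with h | h
    · exact absurd (Subgroup.card_eq_one.mp h) hPp.bot_lt_center.ne'
    · exact h
  obtain ⟨z, hzc⟩ := exists_prime_orderOf_dvd_card' (G := center P) p hz
  have hZc : Nat.card (zpowers (((z : P)) : G)) = p := by
    rw [Nat.card_zpowers, Subgroup.orderOf_coe, Subgroup.orderOf_coe, hzc]
  suffices ∀ W : Subgroup G, W ≤ P → Nat.card W = p → W = zpowers (((z : P)) : G) from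
    (this X hX hXc).trans (this Y hY hYc).symm
  intro W hW hWc
  by_contra hne
  generalize hZ : zpowers (((z : P)) : G) = Z at hZc hne
  have hZP : Z ≤ P := hZ ▸ zpowers_le.mpr (z : P).2
  have hcen : W ≤ centralizer (Z : Set G) := by
    rw [← hZ, le_centralizer_iff, zpowers_le, mem_centralizer_iff]
    intro w hw
    exact congrArg Subtype.val (mem_center_iff.mp z.2 ⟨w, hW hw⟩)
  have hd : W ⊓ Z = ⊥ := by
    by_contra hb
    have h1 : W ⊓ Z = W := by
      rcases (Nat.dvd_prime hp).mp (hWc ▸ card_dvd_of_le (inf_le_left : W ⊓ Z ≤ W)) with h | h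
      · exact absurd (Subgroup.card_eq_one.mp h) hb
      · exact Subgroup.eq_of_le_of_card_ge inf_le_left (by rw [h, hWc])
    exact hne (Subgroup.eq_of_le_of_card_ge (inf_eq_left.mp h1) (by rw [hZc, hWc]))
  have hcard : Nat.card (W ⊔ Z : Subgroup G) = p ^ 2 := by
    rw [card_sup_of_disjoint W Z (hcen.trans (centralizer_le_normalizer _)) hd, hWc, hZc, sq]
  obtain ⟨⟨g, hg⟩, hgg⟩ :=
    (isCyclic_of_card_prime_sq hAK hfpf hK ((sup_le hW hZP).trans hP) hp hcard).exists_generator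
  have h1 : orderOf g = p ^ 2 := by
    rw [← Subgroup.orderOf_mk g hg, orderOf_eq_card_of_forall_mem_zpowers hgg, hcard]
  obtain ⟨w, hw, y, hy, rfl⟩ := (mem_sup_iff_mul (hcen.trans (centralizer_le_normalizer _))).mp hg
  have hcomm : Commute w y := (mem_centralizer_iff.mp (hcen hw) y hy).symm
  have h2 : (w * y) ^ p = 1 := by
    rw [hcomm.mul_pow, orderOf_dvd_iff_pow_eq_one.mp (hWc ▸ W.orderOf_dvd_natCard hw),
      orderOf_dvd_iff_pow_eq_one.mp (hZc ▸ Z.orderOf_dvd_natCard hy), one_mul]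
  have := Nat.le_of_dvd hp.pos (h1 ▸ orderOf_dvd_of_pow_eq_one h2)
  nlinarith [hp.two_le]

theorem exists_unique_involution (heven : 2 ∣ Nat.card A) :
    (∃ s ∈ A, orderOf s = 2 ∧ (∀ t ∈ A, orderOf t = 2 → t = s) ∧ ∀ k ∈ K, s * k * s⁻¹ = k⁻¹) ∧
      IsMulCommutative K := by
  classical
  haveI := Fact.mk Nat.prime_two
  obtain ⟨s, hs⟩ := exists_prime_orderOf_dvd_card' (G := A) 2 heven
  have hinv : ∀ t ∈ A, orderOf t = 2 → (∀ k ∈ K, t * k * t⁻¹ = k⁻¹) ∧ IsMulCommutative K := by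
    intro t ht ht2
    have ht1 : t ≠ 1 := fun h => by simp [h] at ht2
    let φ : K →* K :=
      { toFun := fun k => ⟨t * k * t⁻¹, conj_mem_of_le_normalizer hAK ht k.2⟩
        map_one' := Subtype.ext (by simp)
        map_mul' := fun a b => Subtype.ext (by simp only [Subgroup.coe_mul]; group) }
    have hfp : MonoidHom.FixedPointFree φ := fun k hk => Subtype.ext
      (eq_one_of_fixed hfpf ht ht1 k.2 (mul_inv_eq_iff_eq_mul.mp (congrArg Subtype.val hk)))
    have hiv : Function.Involutive φ := by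
      intro k
      apply Subtype.ext
      show t * (t * k * t⁻¹) * t⁻¹ = k
      have h2 : t * t = 1 := by rw [← sq, ← ht2, pow_orderOf_eq_one]
      have : t * (t * (k : G) * t⁻¹) * t⁻¹ = (t * t) * k * (t * t)⁻¹ := by group
      rw [this, h2, one_mul, inv_one, mul_one]
    refine ⟨fun k hk => ?_, ⟨⟨fun a b => hfp.commute_all_of_involutive hiv a b⟩⟩⟩
    have := congrFun (hfp.coe_eq_inv_of_involutive hiv) ⟨k, hk⟩
    exact congrArg Subtype.val this
  have hs2 : orderOf (s : G) = 2 := by rw [Subgroup.orderOf_coe, hs]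
  obtain ⟨hsi, hab⟩ := hinv s s.2 hs2
  refine ⟨⟨s, s.2, hs2, fun t ht ht2 => ?_, hsi⟩, hab⟩
  obtain ⟨hti, -⟩ := hinv t ht ht2
  have hne : (s : G)⁻¹ * t = 1 := by
    by_contra h
    obtain ⟨⟨k, hk⟩, hk1⟩ := ne_bot_iff_exists_ne_one.mp hK
    refine hk1 (Subtype.ext (eq_one_of_fixed hfpf (A.mul_mem (A.inv_mem s.2) ht) h hk ?_))
    have h1 := hti k hk
    have h2 := hsi k hk
    rw [← h2] at h1
    have := congrArg (fun y => (s : G)⁻¹ * y * t) h1
    simpa [mul_assoc] using this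
  exact (inv_mul_eq_one.mp hne).symm

end CfsgLib.Core.FPF
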