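import Cfsg.Agent.Lib.Core.MinNormal
import Cfsg.Agent.Lib.Core.SchurZassenhaus
import Cfsg.Agent.Lib.PLocal.PSolvable
import Mathlib.GroupTheory.Frattini
import Mathlib.GroupTheory.SpecificGroups.Cyclic
import Mathlib.GroupTheory.GroupAction.ConjAct

/-!
# Maximal subgroups `p`-nilpotent or of prime index: the `p`-length is at most two

* `pFiveChain_of_maximal`: a finite `p`-solvable group whose maximal subgroups have a normal
  `p`-complement or prime index has a normal series `1 ≤ A ≤ B ≤ C ≤ D ≤ G` with factors of type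
  `p', p, p', p, p'`, and `D = G` when `p = 2`.
* `isPSolvable_of_isSolvable`
-/

set_option autoImplicit false
set_option linter.all false

namespace CfsgLib.Core

open scoped Pointwise
open Subgroup Cfsg CfsgLib.PLocal

universe u

/-- The series of length five, with last step trivial for `p = 2`. -/
def PFiveChain (p : ℕ) (G : Type*) [Group G] : Prop :=
  ∃ A B C D : Subgroup G, A.Normal ∧ B.Normal ∧ C.Normal ∧ D.Normal ∧ A ≤ B ∧ B ≤ C ∧ C ≤ D ∧
    ¬ p ∣ Nat.card A ∧ (∃ k : ℕ, A.relIndex B = p ^ k) ∧ ¬ p ∣ B.relIndex C ∧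
    (∃ k : ℕ, C.relIndex D = p ^ k) ∧ ¬ p ∣ D.index ∧ (p = 2 → D = ⊤)

/-- Every maximal subgroup has a normal `p`-complement or prime index. -/
def MaxPNilOrPrime (p : ℕ) (G : Type*) [Group G] : Prop :=
  ∀ M : Subgroup G, IsCoatom M → (∃ K : Subgroup ↥M, K.Normal ∧ ¬ p ∣ Nat.card K ∧
    ∃ k : ℕ, K.index = p ^ k) ∨ (M.index).Prime

variable {G : Type*} [Group G] {p : ℕ}

theorem maxPNilOrPrime_quotient [Fact p.Prime] (h : MaxPNilOrPrime p G) (N : Subgroup G)
    [N.Normal] : MaxPNilOrPrime p (G ⧸ N) := by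
  intro M hM
  have hs := QuotientGroup.mk'_surjective N
  rcases h (M.comap (QuotientGroup.mk' N)) (isCoatom_comap_of_surjective hs hM) with
    ⟨K, hK, hKc, k, hk⟩ | hp
  · left
    let f := (QuotientGroup.mk' N).subgroupComap M
    have hf : Function.Surjective f :=
      MonoidHom.subgroupComap_surjective_of_surjective (QuotientGroup.mk' N) M hs
    refine ⟨K.map f, hK.map f hf, fun hd => hKc (hd.trans (K.card_map_dvd f)), ?_⟩
    obtain ⟨j, -, hj⟩ := (Nat.dvd_prime_pow Fact.out).mp (hk ▸ index_map_dvd K hf)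
    exact ⟨j, hj⟩
  · right
    rwa [index_comap_of_surjective M hs] at hp

theorem relIndex_inf_inf_dvd {A₁ A₂ B₁ B₂ : Subgroup G} [A₁.Normal] [A₂.Normal] :
    (A₁ ⊓ A₂).relIndex (B₁ ⊓ B₂) ∣ A₁.relIndex B₁ * A₂.relIndex B₂ := by
  have h1 : A₁.relIndex (B₁ ⊓ B₂) ∣ A₁.relIndex B₁ := relIndex_dvd_of_normal_le _ inf_le_left
  have h2 : A₂.relIndex (A₁ ⊓ (B₁ ⊓ B₂)) ∣ A₂.relIndex B₂ :=
    relIndex_dvd_of_normal_le _ (inf_le_right.trans inf_le_right)
  rw [inf_comm A₁ A₂, ← relIndex_inf_mul_relIndex (H := A₂) (K := A₁), mul_comm (A₂.relIndex _)]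
  exact Nat.mul_dvd_mul h1 h2

theorem exists_pow_of_dvd_mul (hp : p.Prime) {a b c : ℕ} (h : a ∣ b * c)
    (hb : ∃ k, b = p ^ k) (hc : ∃ k, c = p ^ k) : ∃ k, a = p ^ k := by
  obtain ⟨i, rfl⟩ := hb
  obtain ⟨j, rfl⟩ := hc
  rw [← pow_add] at h
  obtain ⟨k, -, hk⟩ := (Nat.dvd_prime_pow hp).mp h
  exact ⟨k, hk⟩

theorem not_dvd_of_dvd_mul (hp : p.Prime) {a b c : ℕ} (h : a ∣ b * c) (hb : ¬ p ∣ b)
    (hc : ¬ p ∣ c) : ¬ p ∣ a := fun hd =>
  (hp.dvd_mul.mp (hd.trans h)).elim hb hc

/-- Pulling back a chain along `G → G ⧸ N`. -/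
theorem PFiveChain.comap {N : Subgroup G} [N.Normal] (h : PFiveChain p (G ⧸ N)) :
    ∃ A B C D : Subgroup G, A.Normal ∧ B.Normal ∧ C.Normal ∧ D.Normal ∧ N ≤ A ∧ A ≤ B ∧ B ≤ C ∧
      C ≤ D ∧ ¬ p ∣ N.relIndex A ∧ (∃ k : ℕ, A.relIndex B = p ^ k) ∧ ¬ p ∣ B.relIndex C ∧
      (∃ k : ℕ, C.relIndex D = p ^ k) ∧ ¬ p ∣ D.index ∧ (p = 2 → D = ⊤) := by
  obtain ⟨A, B, C, D, hA, hB, hC, hD, hAB, hBC, hCD, h1, h2, h3, h4, h5, h6⟩ := h
  have hs := QuotientGroup.mk'_surjective N
  have key : ∀ X Y : Subgroup (G ⧸ N), (X.comap (QuotientGroup.mk' N)).relIndex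
      (Y.comap (QuotientGroup.mk' N)) = X.relIndex Y := by
    intro X Y
    rw [relIndex_comap, map_comap_eq_self_of_surjective hs]
  refine ⟨_, _, _, _, hA.comap (QuotientGroup.mk' N), hB.comap (QuotientGroup.mk' N),
    hC.comap (QuotientGroup.mk' N), hD.comap (QuotientGroup.mk' N),
    QuotientGroup.le_comap_mk' N A, comap_mono hAB, comap_mono hBC, comap_mono hCD, ?_, ?_, ?_,
    ?_, ?_, fun hp2 => ?_⟩
  · rwa [← card_map_mk' N, map_comap_eq_self_of_surjective hs]
  · rwa [key]
  · rwa [key]
  · rwa [key]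
  · rwa [index_comap_of_surjective D hs]
  · rw [h6 hp2, comap_top]

theorem pFiveChain_of_two [Finite G] [Fact p.Prime] {N₁ N₂ : Subgroup G} [N₁.Normal] [N₂.Normal]
    (hd : N₁ ⊓ N₂ = ⊥) (h₁ : PFiveChain p (G ⧸ N₁)) (h₂ : PFiveChain p (G ⧸ N₂)) :
    PFiveChain p G := by
  have hp : p.Prime := Fact.out
  obtain ⟨A₁, B₁, C₁, D₁, hA₁, hB₁, hC₁, hD₁, hNA₁, hAB₁, hBC₁, hCD₁, a1, b1, c1, d1, e1, f1⟩ :=
    h₁.comap
  obtain ⟨A₂, B₂, C₂, D₂, hA₂, hB₂, hC₂, hD₂, hNA₂, hAB₂, hBC₂, hCD₂, a2, b2, c2, d2, e2, f2⟩ :=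
    h₂.comap
  haveI := hA₁; haveI := hA₂; haveI := hB₁; haveI := hB₂; haveI := hC₁; haveI := hC₂
  haveI := hD₁; haveI := hD₂
  refine ⟨A₁ ⊓ A₂, B₁ ⊓ B₂, C₁ ⊓ C₂, D₁ ⊓ D₂, inferInstance, inferInstance, inferInstance,
    inferInstance, inf_le_inf hAB₁ hAB₂, inf_le_inf hBC₁ hBC₂, inf_le_inf hCD₁ hCD₂, ?_,
    exists_pow_of_dvd_mul hp relIndex_inf_inf_dvd b1 b2,
    not_dvd_of_dvd_mul hp relIndex_inf_inf_dvd c1 c2,
    exists_pow_of_dvd_mul hp relIndex_inf_inf_dvd d1 d2, ?_,
    fun hp2 => by rw [f1 hp2, f2 hp2, inf_idem]⟩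
  · refine not_dvd_of_dvd_mul hp ?_ a1 a2
    have h := relIndex_inf_inf_dvd (A₁ := N₁) (A₂ := N₂) (B₁ := A₁) (B₂ := A₂)
    rwa [hd, relIndex_bot_left] at h
  · refine not_dvd_of_dvd_mul hp ?_ e1 e2
    have h := relIndex_inf_inf_dvd (A₁ := D₁) (A₂ := D₂) (B₁ := (⊤ : Subgroup G))
      (B₂ := (⊤ : Subgroup G))
    rwa [inf_idem, relIndex_top_right, relIndex_top_right, relIndex_top_right] at h

theorem pFiveChain_aux (p : ℕ) [Fact p.Prime] (n : ℕ) :
    ∀ (G : Type u) [Group G] [Finite G], Nat.card G = n → IsPSolvable p G → MaxPNilOrPrime p G →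
      PFiveChain p G := by
  induction n using Nat.strongRecOn with
  | ind n ih =>
    intro G _ _ hn hsol hmax
    subst hn
    have hp : p.Prime := Fact.out
    have hquot : ∀ (N : Subgroup G) [N.Normal], N ≠ ⊥ → PFiveChain p (G ⧸ N) := fun N _ hN =>
      ih _ (card_quotient_lt N hN) (G ⧸ N) rfl (isPSolvable_quotient hsol N)
        (maxPNilOrPrime_quotient hmax N)
    rcases subsingleton_or_nontrivial G with hsub | hnt
    · haveI := hsub
      refine ⟨⊥, ⊥, ⊥, ⊤, inferInstance, inferInstance, inferInstance, inferInstance, le_rfl,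
        le_rfl, le_top, ?_, ⟨0, by simp⟩, ?_, ⟨0, ?_⟩, ?_, fun _ => rfl⟩
      · simp [hp.ne_one]
      · simp [hp.ne_one]
      · rw [relIndex_top_right, index_bot, pow_zero]
        exact Nat.card_of_subsingleton (1 : G)
      · simp [hp.ne_one]
    by_cases hO : pPrimeCore p G = ⊥
    swap
    · obtain ⟨A, B, C, D, hA, hB, hC, hD, hNA, hAB, hBC, hCD, a, b, c, d, e, f⟩ :=
        (hquot _ hO).comap
      refine ⟨A, B, C, D, hA, hB, hC, hD, hAB, hBC, hCD, fun hd => ?_, b, c, d, e, f⟩
      rw [← relIndex_bot_left, ← relIndex_mul_relIndex ⊥ _ A bot_le hNA, relIndex_bot_left] at hd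
      rcases hp.dvd_mul.mp hd with h | h
      · exact hp.ne_one (Nat.eq_one_of_dvd_coprimes (coprime_card_pPrimeCore p G) h dvd_rfl)
      · exact a h
    have hP : pCore p G ≠ ⊥ := by
      intro hbot
      have h := centralizer_pCore_le hsol hO
      rw [hbot] at h
      have htop : (⊤ : Subgroup G) ≤ centralizer ((⊥ : Subgroup G) : Set G) := fun x _ =>
        mem_centralizer_iff.mpr fun y hy => by simp_all
      exact top_ne_bot (le_bot_iff.mp (htop.trans h))
    obtain ⟨N, hNn, hNb, hNP, hNmin⟩ := exists_minimal_normal_le' (pCore p G) hP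
    haveI := hNn
    by_cases htwo : ∃ N' : Subgroup G, N'.Normal ∧ N' ≠ ⊥ ∧ ¬ N ≤ N'
    · obtain ⟨N', hN'n, hN'b, hNN'⟩ := htwo
      haveI := hN'n
      refine pFiveChain_of_two (N₁ := N) (N₂ := N') ?_ (hquot N hNb) (hquot N' hN'b)
      rcases hNmin (N ⊓ N') inferInstance inf_le_left with h | h
      · exact h
      · exact absurd (h ▸ inf_le_right) hNN'
    push Not at htwo
    have hNp : IsPGroup p N := (isPGroup_pCore p G).to_le hNP
    have hNs : Group.IsSolvable N := by
      haveI := hNp.isNilpotent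
      infer_instance
    have hNc : IsMulCommutative N := commutative_of_minimal_normal N hNs hNb hNmin
    obtain ⟨a, ha⟩ := IsPGroup.iff_card.mp hNp
    by_cases hfr : N ≤ frattini G
    · obtain ⟨A, B, C, D, hA, hB, hC, hD, hNA, hAB, hBC, hCD, hh1, ⟨b, hb⟩, c, d, e, f⟩ :=
        (hquot N hNb).comap
      haveI := hA
      have hcop : (Nat.card N).Coprime (N.relIndex A) :=
        ha ▸ ((hp.coprime_iff_not_dvd.mpr hh1).pow_left a)
      have hAN : A = N := by
        obtain ⟨A₀', hA₀'⟩ := exists_right_complement'_of_coprime (N := N.subgroupOf A) (by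
          rwa [Nat.card_congr (subgroupOfEquivOfLe hNA).toEquiv])
        set A₀ := A₀'.map A.subtype with hA₀
        have hA₀A : A₀ ≤ A := map_subtype_le A₀'
        have hA₀c : Nat.card A₀ = N.relIndex A := by
          rw [hA₀, card_map_of_injective A.subtype_injective]
          exact (hA₀'.symm.index_eq_card).symm
        have hsup : A₀ ⊔ N = A := by
          refine le_antisymm (sup_le hA₀A hNA) ?_
          have h := congrArg (Subgroup.map A.subtype) hA₀'.sup_eq_top
          rw [Subgroup.map_sup, map_subgroupOf_eq_of_le hNA, ← MonoidHom.range_eq_map,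
            A.range_subtype] at h
          rw [sup_comm]
          exact h.ge
        have hfa : normalizer (A₀ : Set G) ⊔ frattini G = ⊤ := by
          rw [eq_top_iff]
          intro g _
          obtain ⟨m, hm, hmg⟩ := exists_conj_eq_of_coprime (N := N) (H := A₀)
            (K := MulAut.conj g • A₀) (le_normalizer_of_normal A₀ N)
            (by
              rw [hsup]
              exact (conj_smul_mono hA₀A).trans (Subgroup.Normal.conj_smul_eq_self g A).le)
            (card_conj_smul g A₀) (by rw [hA₀c]; exact hcop.symm) (Or.inl hNs)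
          have hx : g⁻¹ * m ∈ normalizer (A₀ : Set G) := by
            rw [mem_normalizer_iff_conj_smul_eq, ← conj_smul_conj_smul, hmg, conj_smul_conj_smul,
              inv_mul_cancel, conj_one_smul]
          have hg : g = m * (g⁻¹ * m)⁻¹ := by group
          rw [hg]
          exact mul_mem (mem_sup_right (hfr hm))
            (mem_sup_left (inv_mem hx))
        haveI : A₀.Normal := normalizer_eq_top_iff.mp (frattini_nongenerating hfa)
        have : A₀ ≤ pPrimeCore p G := le_pPrimeCore (by
          rw [hA₀c]; exact (hp.coprime_iff_not_dvd.mpr hh1).symm)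
        rw [hO, le_bot_iff] at this
        rw [← hsup, this, bot_sup_eq]
      subst hAN
      refine ⟨⊥, B, C, D, inferInstance, hB, hC, hD, bot_le, hBC, hCD, ?_, ⟨a + b, ?_⟩, c, d, e,
        f⟩
      · simp [hp.ne_one]
      · rw [← relIndex_mul_relIndex ⊥ A B bot_le hAB, relIndex_bot_left, ha, hb, pow_add]
    obtain ⟨M, hM, hNM⟩ : ∃ M : Subgroup G, IsCoatom M ∧ ¬ N ≤ M := by
      by_contra hne
      push Not at hne
      exact hfr (by
        rw [frattini, Order.radical]
        exact le_iInf₂ fun M hM => hne M hM)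
    have hNMtop : M ⊔ N = ⊤ := hM.2 _ (lt_of_le_of_ne le_sup_left fun h => hNM (h ▸ le_sup_right))
    have hnorm_of : ∀ X : Subgroup G, M ≤ normalizer (X : Set G) →
        N ≤ normalizer (X : Set G) → X.Normal := fun X h1 h2 =>
      normalizer_eq_top_iff.mp (eq_top_iff.mpr (hNMtop ▸ sup_le h1 h2))
    have hNcent : N ≤ centralizer (N : Set G) := le_centralizer_iff_isMulCommutative.mpr hNc
    have hNMbot : N ⊓ M = ⊥ := by
      have hn : (N ⊓ M).Normal := by
        refine hnorm_of _ ?_ ?_
        · exact (le_inf (le_normalizer_of_normal M N) le_normalizer).trans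
            inf_normalizer_le_normalizer_inf
        · refine le_trans ?_ (centralizer_le_normalizer _)
          exact hNcent.trans (centralizer_le (SetLike.coe_subset_coe.mpr inf_le_left))
      rcases hNmin _ hn inf_le_left with h | h
      · exact h
      · exact absurd (h ▸ inf_le_right) hNM
    have hcardG : Nat.card G = Nat.card M * Nat.card N := by
      rw [← card_top (G := G), ← hNMtop]
      exact card_sup_of_disjoint M N (le_normalizer_of_normal M N) (by rwa [inf_comm])
    have hMidx : M.index = Nat.card N := by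
      have h := M.card_mul_index
      rw [hcardG] at h
      exact Nat.eq_of_mul_eq_mul_left Nat.card_pos h
    rcases hmax M hM with ⟨K, hKn, hKc, k, hk⟩ | hpr
    · set K' := K.map M.subtype with hK'
      have hK'M : K' ≤ M := map_subtype_le K
      have hK'c : Nat.card K' = Nat.card K := card_map_of_injective M.subtype_injective
      have hd : K' ⊓ N = ⊥ := le_bot_iff.mp (hNMbot ▸ le_inf inf_le_right
        (inf_le_left.trans hK'M))
      have hC : (N ⊔ K').Normal := by
        refine hnorm_of _ ?_ (le_sup_left.trans le_normalizer)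
        have h1 : M ≤ normalizer (K' : Set G) := by
          rw [le_normalizer_iff]
          rintro m hm _ ⟨x, hx, rfl⟩
          exact ⟨⟨m, hm⟩ * x * ⟨m, hm⟩⁻¹, hKn.conj_mem x hx _, rfl⟩
        exact (le_inf (le_normalizer_of_normal M N) h1).trans (normalizer_inf_normalizer_le_normalizer_sup _ _)
      have hcard : Nat.card (N ⊔ K' : Subgroup G) = Nat.card K * Nat.card N := by
        rw [sup_comm, card_sup_of_disjoint K' N (le_normalizer_of_normal K' N) hd, hK'c]
      refine ⟨⊥, N, N ⊔ K', ⊤, inferInstance, hNn, hC, inferInstance, bot_le, le_sup_left, le_top,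
        ?_, ⟨a, by rw [relIndex_bot_left, ha]⟩, ?_, ⟨k, ?_⟩, ?_, fun _ => rfl⟩
      · simp [hp.ne_one]
      · intro hd'
        apply hKc
        have : Nat.card N * N.relIndex (N ⊔ K') = Nat.card N * Nat.card K := by
          rw [← relIndex_bot_left N, relIndex_mul_relIndex ⊥ N _ bot_le le_sup_left,
            relIndex_bot_left, relIndex_bot_left, hcard, mul_comm]
        rwa [← Nat.eq_of_mul_eq_mul_left Nat.card_pos this]
      · rw [relIndex_top_right]
        have h := (N ⊔ K').card_mul_index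
        rw [hcard, hcardG, ← K.card_mul_index, hk] at h
        have h0 : 0 < Nat.card K * Nat.card N := Nat.mul_pos Nat.card_pos Nat.card_pos
        apply Nat.eq_of_mul_eq_mul_left h0
        rw [h]; ring
      · simp [hp.ne_one]
    · rw [hMidx, ha] at hpr
      have ha1 : a = 1 := Nat.Prime.eq_one_of_pow hpr
      rw [ha1, pow_one] at ha
      set Z := centralizer (N : Set G) with hZ
      have hZN : Z ≤ N := by
        have hn : (Z ⊓ M).Normal := by
          refine hnorm_of _ ?_ ?_
          · exact (le_inf (le_normalizer_of_normal M Z) le_normalizer).trans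
              inf_normalizer_le_normalizer_inf
          · refine le_trans ?_ (centralizer_le_normalizer _)
            exact le_centralizer_iff.mp inf_le_left
        have hbot : Z ⊓ M = ⊥ := by
          by_contra hne
          exact hNb (le_bot_iff.mp (hNMbot ▸ le_inf le_rfl ((htwo _ hn hne).trans inf_le_right)))
        intro z hz
        have hz' : z ∈ M ⊔ N := hNMtop ▸ mem_top z
        obtain ⟨m, hm, x, hx, rfl⟩ := mem_sup_of_normal_right.mp hz'
        have : m ∈ Z ⊓ M := ⟨by simpa using Z.mul_mem hz (Z.inv_mem (hNcent hx)), hm⟩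
        rw [hbot, mem_bot] at this
        rw [this, one_mul]
        exact hx
      have hker : (MulAut.conjNormal (H := N)).ker = N := by
        refine le_antisymm ?_ ?_
        · refine le_trans ?_ hZN
          intro x hx
          rw [MonoidHom.mem_ker] at hx
          rw [hZ, mem_centralizer_iff]
          intro y hy
          have h := congrArg (Subgroup.subtype N) (MulEquiv.congr_fun hx ⟨y, hy⟩)
          simp only [coe_subtype, MulAut.conjNormal_apply, MulAut.one_apply] at h
          exact (mul_inv_eq_iff_eq_mul.mp h).symm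
        · intro x hx
          rw [MonoidHom.mem_ker]
          refine MulEquiv.ext fun y => Subtype.ext ?_
          rw [MulAut.conjNormal_apply, MulAut.one_apply, mul_inv_eq_iff_eq_mul]
          exact (mem_centralizer_iff.mp (hNcent hx) y y.2).symm
      haveI : IsCyclic N := isCyclic_of_prime_card ha
      have hdvd : N.index ∣ p - 1 := by
        conv_lhs => rw [← hker]
        rw [index_ker, ← Nat.totient_prime hp, ← ha, ← IsCyclic.card_mulAut N]
        exact card_subgroup_dvd_card _
      refine ⟨⊥, N, N, N, inferInstance, hNn, hNn, hNn, bot_le, le_rfl, le_rfl, ?_,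
        ⟨1, by rw [relIndex_bot_left, ha, pow_one]⟩, ?_, ⟨0, by simp⟩, fun hd => ?_, fun hp2 => ?_⟩
      · simp [hp.ne_one]
      · simp [hp.ne_one]
      · have := Nat.le_of_dvd (by have := hp.two_le; omega) (hd.trans hdvd)
        have := hp.two_le
        omega
      · subst hp2
        rw [← index_eq_one]
        exact Nat.dvd_one.mp hdvd

/-- `p`-length at most two for groups whose maximal subgroups are `p`-nilpotent or of prime index. -/
theorem pFiveChain_of_maximal [Finite G] [Fact p.Prime] (hsol : IsPSolvable p G)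
    (hmax : MaxPNilOrPrime p G) : PFiveChain p G :=
  pFiveChain_aux p _ G rfl hsol hmax

theorem isPSolvable_solvable_aux (p : ℕ) [Fact p.Prime] (n : ℕ) :
    ∀ (G : Type u) [Group G] [Finite G], Nat.card G = n → Group.IsSolvable G → IsPSolvable p G := by
  induction n using Nat.strongRecOn with
  | ind n ih =>
    intro G _ _ hn hsol
    subst hn
    rcases subsingleton_or_nontrivial G with hsub | hnt
    · haveI := hsub
      exact ⟨0, fun _ => ⊥, rfl, Subsingleton.elim _ _, monotone_const, fun _ => inferInstance,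
        fun i => i.elim0⟩
    haveI := hsol
    obtain ⟨q, hq, hQ⟩ := exists_pCore_ne_bot (G := G)
    haveI := Fact.mk hq
    set N := pCore q G with hN
    obtain ⟨m, H, h0, hm, hmono, hnorm, hfac⟩ :=
      ih _ (card_quotient_lt N hQ) (G ⧸ N) rfl inferInstance
    refine ⟨m + 1, Fin.cons ⊥ (fun i => (H i).comap (QuotientGroup.mk' N)), rfl, ?_, ?_, ?_, ?_⟩
    · rw [← Fin.succ_last, Fin.cons_succ, hm, comap_top]
    · rw [Fin.monotone_iff_le_succ]
      intro i
      refine Fin.cases ?_ ?_ i
      · simp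
      · intro j
        rw [← Fin.succ_castSucc, Fin.cons_succ, Fin.cons_succ]
        exact comap_mono (hmono (Fin.castSucc_le_succ j))
    · intro i
      refine Fin.cases ?_ ?_ i
      · simp only [Fin.cons_zero]; infer_instance
      · intro j
        rw [Fin.cons_succ]
        exact (hnorm j).comap _
    · intro i
      refine Fin.cases ?_ ?_ i
      · rw [Fin.castSucc_zero, Fin.cons_zero, Fin.cons_succ, h0, MonoidHom.comap_bot,
          QuotientGroup.ker_mk', relIndex_bot_left]
        obtain ⟨k, hk⟩ := IsPGroup.iff_card.mp (isPGroup_pCore q G)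
        rw [← hN] at hk
        rw [hk]
        by_cases hqp : q = p
        · exact Or.inl ⟨k, by rw [hqp]⟩
        · exact Or.inr (((Nat.coprime_primes hq Fact.out).mpr hqp).pow_left k)
      · intro j
        rw [← Fin.succ_castSucc, Fin.cons_succ, Fin.cons_succ, relIndex_comap,
          map_comap_eq_self_of_surjective (QuotientGroup.mk'_surjective N)]
        exact hfac j

/-- A finite solvable group is `p`-solvable for every prime `p`. -/
theorem isPSolvable_of_isSolvable [Finite G] [Fact p.Prime] (h : Group.IsSolvable G) :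
    IsPSolvable p G :=
  isPSolvable_solvable_aux p _ G rfl h

end CfsgLib.Core
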