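import Cfsg.Agent.Lib.Core.FPFAutomorphism
import Mathlib.Data.Nat.ChineseRemainder

/-!
# A group with a fixed point free automorphism of order dividing four is solvable

Gorenstein-Herstein, with a direct proof.  If `τ = φ²`, `A` is the fixed subgroup of `τ` and `I`
the set of elements inverted by `τ`, then `|G| = |A||I|`, `A` is abelian and every `x` in `I`
commutes with `φ x`.  Hence every `p`-element of `I` lies in the invariant Sylow `p`-subgroup, so
counting shows that elements of `I` of coprime orders commute.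
-/

set_option autoImplicit false
set_option linter.all false
set_option maxHeartbeats 400000

namespace CfsgLib.Core.FPFFourSolvable

open Subgroup

variable {G : Type*} [Group G] [Finite G] {φ : MulAut G}

theorem map_eq_of_le {H : Subgroup G} (h : H.map φ.toMonoidHom ≤ H) : H.map φ.toMonoidHom = H :=
  Subgroup.eq_of_le_of_card_ge h
    (le_of_eq (Nat.card_congr (H.equivMapOfInjective φ.toMonoidHom φ.injective).toEquiv))

/-- An invariant `p`-subgroup lies in every invariant Sylow subgroup. -/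
theorem le_of_invariant (hfp : ∀ x, φ x = x → x = 1) {p : ℕ} [Fact p.Prime] (P : Sylow p G)
    (hP : (P : Subgroup G).map φ.toMonoidHom = P) {B : Subgroup G} (hB : IsPGroup p B)
    (hBi : B.map φ.toMonoidHom = B) : B ≤ P := by
  obtain ⟨R, hBR, hR⟩ := Finite.exists_le_maximal
    (p := fun R : Subgroup G => IsPGroup p R ∧ R.map φ.toMonoidHom = R) ⟨hB, hBi⟩
  obtain ⟨hRp, hRi⟩ := hR.prop
  refine hBR.trans ?_
  set N : Subgroup G := normalizer (R : Set G) with hN
  have hNi : N.map φ.toMonoidHom = N := CfsgLib.Core.FPFAut.map_normalizer hRi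
  let ψ : MulAut N := (φ.subgroupMap N).trans (MulEquiv.subgroupCongr hNi)
  have hψ : ∀ x : N, ((ψ x : N) : G) = φ x := fun _ => rfl
  have hψfp : ∀ x, ψ x = x → x = 1 := fun x hx =>
    Subtype.ext (hfp x (by rw [← hψ, hx]))
  obtain ⟨S, hS⟩ := CfsgLib.Core.FPFAut.exists_invariant_sylow_fpf hψfp p
  have hRS : R ≤ (S : Subgroup N).map N.subtype := by
    intro x hx
    have hxN : x ∈ N := le_normalizer hx
    haveI : (R.comap N.subtype).Normal := Subgroup.normal_subgroupOf_of_le_normalizer le_rfl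
    exact ⟨⟨x, hxN⟩, (IsPGroup.le_sylow_of_normal (hRp.comap_of_injective N.subtype
      N.subtype_injective) S) hx, rfl⟩
  have hSi : ((S : Subgroup N).map N.subtype).map φ.toMonoidHom = (S : Subgroup N).map N.subtype := by
    conv_rhs => rw [← hS, Subgroup.map_map]
    rw [Subgroup.map_map]
    rfl
  have hRS' : R = (S : Subgroup N).map N.subtype :=
    hRS.antisymm (hR.2 ⟨S.isPGroup'.map _, hSi⟩ hRS)
  -- `R` is a Sylow subgroup
  have hcard : Nat.card R = p ^ (Nat.card G).factorization p := by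
    obtain ⟨n, hn⟩ := IsPGroup.iff_card.mp hRp
    rw [hn]
    congr 1
    refine le_antisymm ?_ ?_
    · exact (Fact.out : p.Prime).pow_dvd_iff_le_factorization Nat.card_pos.ne' |>.mp
        (hn ▸ R.card_subgroup_dvd_card)
    · by_contra hlt
      have hd : p ^ (n + 1) ∣ Nat.card G :=
        ((Fact.out : p.Prime).pow_dvd_iff_le_factorization Nat.card_pos.ne').mpr (by omega)
      have h := Sylow.prime_dvd_card_quotient_normalizer hd hn
      have hco : R.comap N.subtype = (S : Subgroup N) := by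
        rw [hRS', Subgroup.comap_map_eq_self_of_injective N.subtype_injective]
      rw [← hN, ← Subgroup.index_eq_card, hco] at h
      exact S.not_dvd_index h
  obtain ⟨g, hg⟩ := MulAction.exists_smul_eq G (Sylow.ofCard R hcard) P
  have hgP : ∀ x, x ∈ (P : Subgroup G) ↔ g⁻¹ * x * g ∈ R := by
    intro x
    rw [← hg, Sylow.coe_subgroup_smul, Subgroup.mem_pointwise_smul_iff_inv_smul_mem]
    rw [← map_inv, MulAut.smul_def, MulAut.conj_apply, inv_inv]
    rfl
  have hgn : g⁻¹ * φ g ∈ N := by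
    refine mem_normalizer_fintype fun r hr => ?_
    obtain ⟨s, hs, hsr⟩ := hRi.ge hr
    have h1 : g * s * g⁻¹ ∈ (P : Subgroup G) := by
      rw [hgP]; simpa [mul_assoc] using hs
    have h2 : φ (g * s * g⁻¹) ∈ (P : Subgroup G) := hP.le (mem_map_of_mem _ h1)
    rw [hgP] at h2
    simp only [map_mul, map_inv] at h2
    have hsr' : φ s = r := hsr
    rw [hsr'] at h2
    simpa [mul_assoc] using h2
  obtain ⟨n, hn⟩ := Finite.surjective_of_injective
    (f := fun n : N => (⟨(n : G)⁻¹ * φ n, N.mul_mem (N.inv_mem n.2) (ψ n).2⟩ : N))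
    (fun a b hab => by
      have h1 := congrArg (fun z : N => (a : G) * z * (φ (b : G))⁻¹) hab
      have h2 : φ ((a : G) * (b : G)⁻¹) = (a : G) * (b : G)⁻¹ := by
        rw [map_mul, map_inv]
        simpa [mul_assoc] using h1
      exact Subtype.ext (mul_inv_eq_one.mp (hfp _ h2))) ⟨g⁻¹ * φ g, hgn⟩
  have hn' : (n : G)⁻¹ * φ n = g⁻¹ * φ g := congrArg Subtype.val hn
  have hgN : g ∈ N := by
    have h3 : φ (g * (n : G)⁻¹) = g * (n : G)⁻¹ := by
      rw [map_mul, map_inv]
      have h4 := congrArg (fun z => g * z * (φ (n : G))⁻¹) hn'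
      simpa [mul_assoc] using h4.symm
    rw [mul_inv_eq_one.mp (hfp _ h3)]
    exact n.2
  intro x hx
  rw [hgP]
  exact (mem_normalizer_iff''.mp hgN x).mp hx

/-- A finite group with a fixed point free automorphism of order dividing `4` is solvable. -/
theorem isSolvable_of_fixedPointFree_four (φ : MulAut G) (h4 : φ ^ 4 = 1)
    (hfp : ∀ x, φ x = x → x = 1) : Group.IsSolvable G := by
  classical
  have hττ : ∀ x, φ (φ (φ (φ x))) = x := fun x => by
    have := DFunLike.congr_fun h4 x
    simpa [pow_succ] using this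
  -- odd order
  have hodd : ¬ 2 ∣ Nat.card G := by
    intro hdvd
    haveI : Fact (Nat.Prime 2) := ⟨Nat.prime_two⟩
    have hT : IsPGroup 2 (zpowers φ) := fun x => ⟨2, by
      obtain ⟨k, hk⟩ := x.2
      refine Subtype.ext ?_
      have hk' : φ ^ k = (x : MulAut G) := hk
      rw [SubgroupClass.coe_pow, ← hk', ← zpow_natCast, ← zpow_mul, mul_comm, zpow_mul,
        show ((2 ^ 2 : ℕ) : ℤ) = ((4 : ℕ) : ℤ) by norm_num, zpow_natCast, h4, one_zpow]
      rfl⟩
    have h1 : (1 : G) ∈ MulAction.fixedPoints (zpowers φ) G := fun t => map_one (t : MulAut G)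
    obtain ⟨b, hb, hb1⟩ :=
      hT.exists_fixed_point_of_prime_dvd_card_of_fixed_point G hdvd h1
    exact hb1 (hfp b (hb ⟨φ, mem_zpowers φ⟩)).symm
  let τ : G →* G := φ.toMonoidHom.comp φ.toMonoidHom
  have hτ : ∀ x, τ x = φ (φ x) := fun _ => rfl
  have hτ2 : ∀ x, τ (τ x) = x := fun x => hττ x
  let A : Subgroup G := MonoidHom.eqLocus τ (MonoidHom.id G)
  have hA : ∀ x, x ∈ A ↔ τ x = x := fun _ => Iff.rfl
  have hprod : ∀ x, x * φ x * τ x * φ (τ x) = 1 := by
    intro x
    obtain ⟨z, hz⟩ := Finite.surjective_of_injective (f := fun z : G => z⁻¹ * φ z) (fun a b hab => by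
      have h1 := congrArg (fun z => a * z * (φ b)⁻¹) hab
      have h2 : φ (a * b⁻¹) = a * b⁻¹ := by
        rw [map_mul, map_inv]
        simpa [mul_assoc] using h1
      exact mul_inv_eq_one.mp (hfp _ h2)) x
    subst hz
    simp only [hτ, map_mul, map_inv, hττ]
    group
  have hAinv : ∀ a ∈ A, φ a = a⁻¹ := by
    intro a ha
    obtain ⟨z, hz⟩ := Finite.surjective_of_injective
      (f := fun z : A => (⟨(z : G)⁻¹ * φ z, by
        have hz := (hA _).mp z.2
        rw [hA, map_mul, map_inv, hz]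
        simp only [hτ] at hz ⊢
        rw [hz]⟩ : A))
      (fun z w hzw => by
        have h1 := congrArg (fun u : A => (z : G) * u * (φ (w : G))⁻¹) hzw
        have h2 : φ ((z : G) * (w : G)⁻¹) = (z : G) * (w : G)⁻¹ := by
          rw [map_mul, map_inv]
          simpa [mul_assoc] using h1
        exact Subtype.ext (mul_inv_eq_one.mp (hfp _ h2))) ⟨a, ha⟩
    have hz' : (z : G)⁻¹ * φ z = a := congrArg Subtype.val hz
    have hzA : φ (φ (z : G)) = z := z.2
    rw [← hz', map_mul, map_inv, hzA, mul_inv_rev, inv_inv]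
  have hAcomm : ∀ a ∈ A, ∀ b ∈ A, a * b = b * a := by
    intro a ha b hb
    have h := hAinv _ (A.mul_mem ha hb)
    rw [map_mul, hAinv a ha, hAinv b hb] at h
    have h2 := congrArg (fun z => z⁻¹) h
    simpa using h2.symm
  have hIcomm : ∀ x, τ x = x⁻¹ → x * φ x = φ x * x := by
    intro x hx
    have h := hprod x
    rw [hx, map_inv] at h
    calc x * φ x = (x * φ x * x⁻¹ * (φ x)⁻¹) * (φ x * x) := by group
      _ = φ x * x := by rw [h, one_mul]
  -- half powers
  obtain ⟨k, hk⟩ : ∃ k, k + k = Nat.card G + 1 := by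
    obtain ⟨j, hj⟩ : Odd (Nat.card G) := Nat.odd_iff.mpr (by omega)
    exact ⟨j + 1, by omega⟩
  have hhalf : ∀ x, τ x = x⁻¹ → (x ^ k) * τ ((x ^ k)⁻¹) = x := by
    intro x hx
    rw [map_inv, map_pow, hx, inv_pow, inv_inv, ← pow_add, hk, pow_succ, pow_card_eq_one', one_mul]
  -- the counting formula
  have hcount : ∀ H : Subgroup G, (∀ x ∈ H, τ x ∈ H) →
      Nat.card H = Nat.card (A ⊓ H : Subgroup G) * Nat.card {x : G // τ x = x⁻¹ ∧ x ∈ H} := by
    intro H hH
    rw [← Nat.card_prod]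
    symm
    refine Nat.card_eq_of_bijective
      (fun q : (A ⊓ H : Subgroup G) × {x : G // τ x = x⁻¹ ∧ x ∈ H} =>
        (⟨(q.1 : G) * ((q.2 : G) ^ k)⁻¹,
          H.mul_mem q.1.2.2 (H.inv_mem (H.pow_mem q.2.2.2 k))⟩ : H)) ⟨?_, ?_⟩
    · intro q r hqr
      have h : (q.1 : G) * ((q.2 : G) ^ k)⁻¹ = (r.1 : G) * ((r.2 : G) ^ k)⁻¹ :=
        congrArg Subtype.val hqr
      have h2 := congrArg (fun y => y⁻¹ * τ y) h
      have hq : τ (q.1 : G) = q.1 := q.1.2.1
      have hr : τ (r.1 : G) = r.1 := r.1.2.1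
      simp only [map_mul, hq, hr, mul_inv_rev, inv_inv, mul_assoc, inv_mul_cancel_left] at h2
      rw [hhalf _ q.2.2.1, hhalf _ r.2.2.1] at h2
      have h3 : q.2 = r.2 := Subtype.ext h2
      rw [h3] at h
      exact Prod.ext (Subtype.ext (mul_right_cancel h)) h3
    · rintro ⟨x, hxH⟩
      have hi : τ (x⁻¹ * τ x) = (x⁻¹ * τ x)⁻¹ ∧ x⁻¹ * τ x ∈ H :=
        ⟨by rw [map_mul, map_inv, hτ2, mul_inv_rev, inv_inv],
          H.mul_mem (H.inv_mem hxH) (hH x hxH)⟩
      refine ⟨(⟨x * (x⁻¹ * τ x) ^ k, ?_, H.mul_mem hxH (H.pow_mem hi.2 k)⟩, ⟨_, hi⟩),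
        Subtype.ext ?_⟩
      · show τ (x * (x⁻¹ * τ x) ^ k) = x * (x⁻¹ * τ x) ^ k
        have h5 := hhalf _ hi.1
        rw [map_inv, mul_inv_eq_iff_eq_mul] at h5
        rw [map_mul]
        conv_rhs => rw [h5]
        group
      · simp
  -- invariant Sylow subgroups
  set S := (Nat.card G).primeFactors with hS
  have hprime : ∀ p : S, Fact (p : ℕ).Prime := fun p => ⟨Nat.prime_of_mem_primeFactors p.2⟩
  have hP0 : ∀ p : S, ∃ P : Subgroup G, IsPGroup (p : ℕ) P ∧
      Nat.card P = (p : ℕ) ^ (Nat.card G).factorization p ∧ (∀ x ∈ P, φ x ∈ P) ∧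
      (∀ x, (τ x = x⁻¹ ∨ τ x = x) → (∃ j, x ^ (p : ℕ) ^ j = 1) → x ∈ P) := by
    intro p
    haveI := hprime p
    obtain ⟨P, hP⟩ := CfsgLib.Core.FPFAut.exists_invariant_sylow_fpf hfp (p : ℕ)
    refine ⟨P, P.isPGroup', P.card_eq_multiplicity, fun x hx => hP.le (mem_map_of_mem _ hx),
      fun x hx hxp => ?_⟩
    obtain ⟨j, hj⟩ := hxp
    have hz : ∀ y : G, y ^ (p : ℕ) ^ j = 1 → IsPGroup (p : ℕ) (zpowers y) := by
      intro y hy
      obtain ⟨i, -, hi⟩ := (Nat.dvd_prime_pow (Fact.out : (p : ℕ).Prime)).mp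
        (orderOf_dvd_of_pow_eq_one hy)
      exact IsPGroup.of_card (n := i) (by rw [Nat.card_zpowers, hi])
    set B := zpowers x ⊔ zpowers (φ x) with hB
    have hc : x * φ x = φ x * x := by
      rcases hx with hx | hx
      · exact hIcomm x hx
      · rw [hAinv x hx, mul_inv_cancel, inv_mul_cancel]
    have hBp : IsPGroup (p : ℕ) B := by
      refine IsPGroup.to_sup_of_normal_left' (hz x hj) (hz (φ x) (by rw [← map_pow, hj, map_one])) ?_
      refine zpowers_le.mpr (Subgroup.mem_normalizer_fintype fun y hy => ?_)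
      obtain ⟨i, rfl⟩ := mem_zpowers_iff.mp hy
      have : Commute (φ x) (x ^ i) := (Commute.zpow_right (show Commute (φ x) x from hc.symm) i)
      rw [this.eq, mul_inv_cancel_right]
      exact zpow_mem (mem_zpowers x) i
    have hBi : B.map φ.toMonoidHom = B := by
      refine map_eq_of_le ?_
      rw [hB, Subgroup.map_sup, MonoidHom.map_zpowers, MonoidHom.map_zpowers, sup_le_iff,
        zpowers_le, zpowers_le]
      refine ⟨mem_sup_right (mem_zpowers _), mem_sup_left ?_⟩
      show τ x ∈ _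
      rcases hx with hx | hx
      · rw [hx]; exact inv_mem (mem_zpowers x)
      · rw [hx]; exact mem_zpowers x
    exact le_of_invariant hfp P hP hBp hBi (mem_sup_left (mem_zpowers x))
  choose P hPp hPc hPi hPmem using hP0
  have hcI : Nat.card G = Nat.card A * Nat.card {x : G // τ x = x⁻¹} := by
    have h := hcount ⊤ (fun x _ => mem_top _)
    rw [inf_top_eq, Subgroup.card_top] at h
    rw [h]
    congr 1
    exact Nat.card_congr (Equiv.subtypeEquivRight fun x => by simp)
  set cI := Nat.card {x : G // τ x = x⁻¹} with hcIdef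
  have hcI0 : cI ≠ 0 := fun h => Nat.card_pos.ne' (hcI.trans (by rw [h, mul_zero]))
  have hIp : ∀ p : S, Nat.card {x : G // τ x = x⁻¹ ∧ x ∈ P p} = (p : ℕ) ^ cI.factorization p := by
    intro p
    haveI := hprime p
    have h := hcount (P p) (fun x hx => hPi p _ (hPi p _ hx))
    have hAP : Nat.card (A ⊓ P p : Subgroup G) = (p : ℕ) ^ (Nat.card A).factorization p := by
      refine Nat.dvd_antisymm ?_ ?_
      · obtain ⟨n, hn⟩ := IsPGroup.iff_card.mp ((hPp p).to_le (inf_le_right : A ⊓ P p ≤ P p))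
        rw [hn]
        refine Nat.pow_dvd_pow _ (((Fact.out : (p : ℕ).Prime).pow_dvd_iff_le_factorization
          Nat.card_pos.ne').mp (hn ▸ Subgroup.card_dvd_of_le inf_le_left))
      · obtain ⟨Q⟩ : Nonempty (Sylow (p : ℕ) A) := inferInstance
        rw [← Q.card_eq_multiplicity,
          Nat.card_congr ((Q : Subgroup A).equivMapOfInjective A.subtype A.subtype_injective).toEquiv]
        refine Subgroup.card_dvd_of_le ?_
        rintro _ ⟨a, ha, rfl⟩
        obtain ⟨j, hj⟩ := Q.isPGroup' ⟨a, ha⟩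
        refine ⟨a.2, hPmem p _ (Or.inr ((hA _).mp a.2)) ⟨j, ?_⟩⟩
        have := congrArg (fun z : (Q : Subgroup A) => ((z : A) : G)) hj
        simpa using this
    rw [hPc p, hAP, hcI, Nat.factorization_mul Nat.card_pos.ne' hcI0, Finsupp.add_apply, pow_add] at h
    exact (Nat.eq_of_mul_eq_mul_left (pow_pos (Fact.out : (p : ℕ).Prime).pos _) h).symm
  -- idempotent exponents
  have he0 : ∀ p : S, ∃ e : ℕ, e ≡ 1 [MOD (p : ℕ) ^ (Nat.card G).factorization p] ∧
      e ≡ 0 [MOD Nat.card G / (p : ℕ) ^ (Nat.card G).factorization p] := by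
    intro p
    haveI := hprime p
    have hco : Nat.Coprime ((p : ℕ) ^ (Nat.card G).factorization p)
        (Nat.card G / (p : ℕ) ^ (Nat.card G).factorization p) :=
      (Nat.coprime_ordCompl (Fact.out) Nat.card_pos.ne').pow_left _
    exact ⟨Nat.chineseRemainder hco 1 0, (Nat.chineseRemainder hco 1 0).2⟩
  choose e he1 he2 using he0
  have hpart : ∀ (p : S) (x : G), τ x = x⁻¹ → τ (x ^ e p) = (x ^ e p)⁻¹ ∧ x ^ e p ∈ P p := by
    intro p x hx
    have h1 : τ (x ^ e p) = (x ^ e p)⁻¹ := by rw [map_pow, hx, inv_pow]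
    refine ⟨h1, hPmem p _ (Or.inl h1) ⟨(Nat.card G).factorization p, ?_⟩⟩
    rw [← pow_mul]
    refine orderOf_dvd_iff_pow_eq_one.mp ((orderOf_dvd_natCard x).trans ?_)
    obtain ⟨c, hc⟩ := Nat.modEq_zero_iff_dvd.mp (he2 p)
    rw [hc]
    refine ⟨c, ?_⟩
    calc _ = (p : ℕ) ^ (Nat.card G).factorization p *
        (Nat.card G / (p : ℕ) ^ (Nat.card G).factorization p) * c := by ring
      _ = _ := by rw [Nat.ordProj_mul_ordCompl_eq_self]
  have hsum : ∑ p : S, e p ≡ 1 [MOD Nat.card G] := by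
    refine ((Nat.modEq_iff_dvd).mpr ?_).symm
    rw [Int.natCast_dvd]
    set d := ((((∑ p : S, e p) : ℕ) : ℤ) - ((1 : ℕ) : ℤ)).natAbs with hd
    rw [Nat.dvd_iff_prime_pow_dvd_dvd]
    intro q j hq hqj
    rcases Nat.eq_zero_or_pos j with rfl | hj
    · simp
    have hqS : q ∈ S := Nat.mem_primeFactors.mpr
      ⟨hq, (dvd_pow_self q hj.ne').trans hqj, Nat.card_pos.ne'⟩
    have h1 : ∑ p : S, e p ≡ 1 [MOD q ^ (Nat.card G).factorization q] := by
      rw [← Finset.add_sum_erase _ _ (Finset.mem_univ (⟨q, hqS⟩ : S))]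
      have h2 : ∑ p ∈ Finset.univ.erase (⟨q, hqS⟩ : S), e p ≡ 0
          [MOD q ^ (Nat.card G).factorization q] := by
        refine Nat.modEq_zero_iff_dvd.mpr (Finset.dvd_sum fun p hp => ?_)
        refine dvd_trans ?_ (Nat.modEq_zero_iff_dvd.mp (he2 p))
        haveI := hprime p
        refine Nat.Coprime.dvd_of_dvd_mul_left (k := q ^ (Nat.card G).factorization q) ?_
          (by rw [Nat.ordProj_mul_ordCompl_eq_self]; exact Nat.ordProj_dvd _ _)
        refine Nat.Coprime.pow _ _ ((Nat.coprime_primes hq Fact.out).mpr fun hqp => ?_)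
        exact (Finset.mem_erase.mp hp).1 (Subtype.ext hqp.symm)
      simpa using (he1 ⟨q, hqS⟩).add h2
    have h3 := Nat.modEq_iff_dvd.mp h1.symm
    rw [Int.natCast_dvd] at h3
    exact (Nat.pow_dvd_pow q ((hq.pow_dvd_iff_le_factorization Nat.card_pos.ne').mp hqj)).trans h3
  have hrec : ∀ x : G, ((Finset.univ : Finset S).toList.map fun p => x ^ e p).prod = x := by
    intro x
    have : ∀ l : List S, (l.map fun p => x ^ e p).prod = x ^ (l.map e).sum := by
      intro l
      induction l with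
      | nil => simp
      | cons a l ih => simp [ih, pow_add]
    rw [this, Finset.sum_map_toList]
    conv_rhs => rw [← pow_one x]
    exact pow_eq_pow_iff_modEq.mpr (hsum.of_dvd (orderOf_dvd_natCard x))
  let F : {x : G // τ x = x⁻¹} → (p : S) → {x : G // τ x = x⁻¹ ∧ x ∈ P p} :=
    fun x p => ⟨(x : G) ^ e p, hpart p x x.2⟩
  have hFinj : Function.Injective F := by
    intro x y hxy
    refine Subtype.ext ?_
    rw [← hrec x, ← hrec y]
    congr 1
    exact List.map_congr_left fun p _ => congrArg Subtype.val (congrFun hxy p)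
  have hFsurj : Function.Surjective F := by
    refine (hFinj.bijective_of_nat_card_le ?_).2
    rw [Nat.card_pi]
    simp only [hIp]
    rw [Finset.prod_coe_sort S (fun q => q ^ cI.factorization q), ← hcIdef]
    conv_rhs => rw [← Nat.prod_factorization_pow_eq_self hcI0]
    refine le_of_eq (Eq.symm ?_)
    refine Finset.prod_subset ?_ (fun q _ hq => by
      simp [Finsupp.notMem_support_iff.mp hq])
    rw [Nat.support_factorization]
    exact Nat.primeFactors_mono (hcI ▸ dvd_mul_left cI _) Nat.card_pos.ne'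
  -- elements of coprime order in `I` commute
  have hcomm : ∀ p q : S, p ≠ q → ∀ x, τ x = x⁻¹ → x ∈ P p → ∀ y, τ y = y⁻¹ → y ∈ P q →
      x * y = y * x := by
    intro p q hpq x hx hxp y hy hyq
    obtain ⟨z, hz⟩ := hFsurj (Function.update (Function.update
      (fun r => ⟨1, by simp, one_mem _⟩) p ⟨x, hx, hxp⟩) q ⟨y, hy, hyq⟩)
    have h1 := congrArg Subtype.val (congrFun hz p)
    have h2 := congrArg Subtype.val (congrFun hz q)
    rw [Function.update_of_ne hpq, Function.update_self] at h1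
    rw [Function.update_self] at h2
    simp only [F] at h1 h2
    rw [← h1, ← h2]
    exact ((Commute.refl (z : G)).pow_pow _ _).eq
  -- every element is a product `a * i`
  have hAI : ∀ g : G, ∃ a ∈ A, ∃ i, τ i = i⁻¹ ∧ g = a * i := by
    intro g
    have hi : τ (g⁻¹ * τ g) = (g⁻¹ * τ g)⁻¹ := by
      rw [map_mul, map_inv, hτ2, mul_inv_rev, inv_inv]
    have h5 := hhalf _ hi
    rw [map_inv, mul_inv_eq_iff_eq_mul] at h5
    refine ⟨g * (g⁻¹ * τ g) ^ k, ?_, ((g⁻¹ * τ g) ^ k)⁻¹, ?_, by simp⟩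
    · rw [hA, map_mul]
      conv_rhs => rw [h5]
      group
    · rw [map_inv, map_pow, hi, inv_pow]
  have hJ : ∀ (p : S) x, τ x = x⁻¹ → x ∈ P p → x ∈ Cfsg.fittingSubgroup G := by
    intro p x hx hxp
    haveI := hprime p
    set J := Subgroup.closure {y : G | τ y = y⁻¹ ∧ y ∈ P p} with hJd
    have hJP : J ≤ P p := (closure_le _).mpr fun y hy => hy.2
    have hgen : ∀ g, (∀ y, τ y = y⁻¹ → y ∈ P p → g * y * g⁻¹ ∈ J) →
        g ∈ normalizer (J : Set G) := by
      intro g hg
      refine Subgroup.mem_normalizer_fintype fun n hn => ?_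
      have h : J ≤ J.comap (MulAut.conj g).toMonoidHom :=
        (closure_le _).mpr fun y hy => by
          show g * y * g⁻¹ ∈ J
          exact hg y hy.1 hy.2
      exact h hn
    haveI : J.Normal := by
      rw [← Subgroup.normalizer_eq_top_iff]
      refine eq_top_iff.mpr fun g _ => ?_
      obtain ⟨a, ha, i, hi, rfl⟩ := hAI g
      refine mul_mem (hgen a fun y hy hyp => subset_closure ?_) ?_
      · have h1 : τ (a * y * a⁻¹) = (a * y * a⁻¹)⁻¹ := by
          rw [map_mul, map_mul, map_inv, (hA a).mp ha, hy, mul_inv_rev, mul_inv_rev, inv_inv,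
            mul_assoc]
        refine ⟨h1, hPmem p _ (Or.inl h1) ?_⟩
        obtain ⟨j, hj⟩ := hPp p ⟨y, hyp⟩
        refine ⟨j, ?_⟩
        rw [conj_pow, show y ^ (p : ℕ) ^ j = 1 from congrArg Subtype.val hj, mul_one, mul_inv_cancel]
      · rw [← hrec i]
        refine Subgroup.list_prod_mem _ fun u hu => ?_
        obtain ⟨q, -, rfl⟩ := List.mem_map.mp hu
        by_cases hqp : q = p
        · subst hqp
          exact le_normalizer (subset_closure (hpart q i hi))
        · refine hgen _ fun y hy hyp => ?_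
          rw [hcomm q p hqp _ (hpart q i hi).1 (hpart q i hi).2 y hy hyp, mul_inv_cancel_right]
          exact subset_closure ⟨hy, hyp⟩
    exact CfsgLib.Core.pCore_le_fittingSubgroup (p : ℕ)
      (CfsgLib.Core.le_pCore ((hPp p).to_le hJP) (subset_closure ⟨hx, hxp⟩))
  have hIF : ∀ x, τ x = x⁻¹ → x ∈ Cfsg.fittingSubgroup G := by
    intro x hx
    rw [← hrec x]
    refine Subgroup.list_prod_mem _ fun u hu => ?_
    obtain ⟨q, -, rfl⟩ := List.mem_map.mp hu
    exact hJ q _ (hpart q x hx).1 (hpart q x hx).2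
  haveI : Group.IsNilpotent (Cfsg.fittingSubgroup G) := CfsgLib.Core.isNilpotent_fittingSubgroup G
  haveI : Group.IsSolvable (G ⧸ Cfsg.fittingSubgroup G) := Group.isSolvable_of_comm fun u v => by
    obtain ⟨g, rfl⟩ := QuotientGroup.mk_surjective u
    obtain ⟨h, rfl⟩ := QuotientGroup.mk_surjective v
    obtain ⟨a, ha, i, hi, rfl⟩ := hAI g
    obtain ⟨b, hb, j, hj, rfl⟩ := hAI h
    rw [QuotientGroup.mk_mul, QuotientGroup.mk_mul,
      (QuotientGroup.eq_one_iff i).mpr (hIF i hi), (QuotientGroup.eq_one_iff j).mpr (hIF j hj),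
      mul_one, mul_one, ← QuotientGroup.mk_mul, ← QuotientGroup.mk_mul, hAcomm a ha b hb]
  exact Group.isSolvable_of_ker_le_range (Cfsg.fittingSubgroup G).subtype
    (QuotientGroup.mk' (Cfsg.fittingSubgroup G))
    (by rw [QuotientGroup.ker_mk', Subgroup.range_subtype])

end CfsgLib.Core.FPFFourSolvable
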