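import Cfsg.Agent.Lib.Core.Basic
import Mathlib.GroupTheory.Index

/-!
# Gaschütz's theorem

* `gaschutz_exists`, `gaschutz_conj`
-/

set_option autoImplicit false
set_option linter.all false

namespace CfsgLib.Core.Gaschutz

open scoped Pointwise IsMulCommutative

open Subgroup

variable {G : Type*} [Group G] [Finite G] (K U A : Subgroup G) [K.Normal] [IsMulCommutative K]

/-- `A`-equivariant sections of `G → G / K`. -/
abbrev Sec :=
  {σ : G ⧸ K → G // (∀ q, QuotientGroup.mk' K (σ q) = q) ∧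
    ∀ q, ∀ a ∈ A, σ (q * QuotientGroup.mk' K a) = σ q * a}

variable {K U A}

/-- Left translation of a section. -/
def translate (g : G) (σ : Sec K A) : Sec K A :=
  ⟨fun q => g * σ.1 (QuotientGroup.mk' K g⁻¹ * q),
    fun q => by rw [map_mul, σ.2.1, ← mul_assoc, ← map_mul, mul_inv_cancel, map_one, one_mul],
    fun q a ha => by
      show g * σ.1 (QuotientGroup.mk' K g⁻¹ * (q * QuotientGroup.mk' K a)) =
        g * σ.1 (QuotientGroup.mk' K g⁻¹ * q) * a
      rw [← mul_assoc, σ.2.2 _ a ha, mul_assoc]⟩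

theorem translate_mul (g h : G) (σ : Sec K A) :
    translate (g * h) σ = translate g (translate h σ) := by
  apply Subtype.ext
  funext q
  simp only [translate, mul_inv_rev, map_mul, mul_assoc]

theorem translate_one (σ : Sec K A) : translate (1 : G) σ = σ := by
  apply Subtype.ext
  funext q
  simp [translate]

/-- The quotient of two sections at a point. -/
def rat (σ τ : Sec K A) (g : G) : K :=
  ⟨τ.1 (QuotientGroup.mk' K g) * (σ.1 (QuotientGroup.mk' K g))⁻¹, by
    refine (QuotientGroup.eq_one_iff _).mp ?_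
    show QuotientGroup.mk' K _ = 1
    rw [map_mul, map_inv, τ.2.1, σ.2.1, mul_inv_cancel]⟩

theorem rat_mul (hKA : K ⊔ A = U) (σ τ : Sec K A) (g : G) {u : G} (hu : u ∈ U) :
    rat σ τ (g * u) = rat σ τ g := by
  rw [← hKA, sup_comm] at hu
  rw [← SetLike.mem_coe, mul_normal, Set.mem_mul] at hu
  obtain ⟨a, ha, k, hk, rfl⟩ := hu
  apply Subtype.ext
  simp only [rat]
  have hq : QuotientGroup.mk' K (g * (a * k)) =
      QuotientGroup.mk' K g * QuotientGroup.mk' K a := by
    have : QuotientGroup.mk' K k = 1 := (QuotientGroup.eq_one_iff k).mpr hk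
    rw [map_mul, map_mul, this, mul_one]
  rw [hq, τ.2.2 _ a ha, σ.2.2 _ a ha]
  group

section

variable [Fintype (G ⧸ U)]

/-- The difference of two sections. -/
noncomputable def diff (σ τ : Sec K A) : K := ∏ u : G ⧸ U, rat σ τ u.out

theorem diff_mul (σ τ υ : Sec K A) :
    diff (U := U) σ τ * diff (U := U) τ υ = diff (U := U) σ υ := by
  rw [diff, diff, diff, ← Finset.prod_mul_distrib]
  refine Finset.prod_congr rfl fun u _ => ?_
  rw [mul_comm]
  apply Subtype.ext
  simp only [rat, Subgroup.coe_mul]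
  group

theorem diff_self (σ : Sec K A) : diff (U := U) σ σ = 1 :=
  Finset.prod_eq_one fun u _ => Subtype.ext (by simp [rat])

theorem diff_symm (σ τ : Sec K A) : diff (U := U) τ σ = (diff (U := U) σ τ)⁻¹ :=
  eq_inv_of_mul_eq_one_left (by rw [diff_mul, diff_self])

theorem diff_translate_self (k : K) (σ : Sec K A) :
    diff (U := U) σ (translate (k : G) σ) = k ^ U.index := by
  rw [index_eq_card, Nat.card_eq_fintype_card, ← Finset.card_univ, ← Finset.prod_const]
  refine Finset.prod_congr rfl fun u _ => Subtype.ext ?_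
  have hk : QuotientGroup.mk' K ((k : G)⁻¹) = 1 :=
    (QuotientGroup.eq_one_iff _).mpr (K.inv_mem k.2)
  simp only [rat, translate]
  rw [hk, one_mul, mul_inv_cancel_right]

theorem diff_translate (hKA : K ⊔ A = U) (g : G) (σ τ : Sec K A) :
    diff (U := U) (translate g σ) (translate g τ) =
      ⟨g * (diff (U := U) σ τ : K) * g⁻¹, Subgroup.Normal.conj_mem inferInstance _ (SetLike.coe_mem _) g⟩ := by
  let c : K →* K :=
    { toFun := fun k => ⟨g * k * g⁻¹, Subgroup.Normal.conj_mem inferInstance _ k.2 g⟩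
      map_one' := Subtype.ext (by simp)
      map_mul' := fun a b => Subtype.ext (by simp only [Subgroup.coe_mul]; group) }
  show _ = c (diff (U := U) σ τ)
  rw [diff, diff, map_prod]
  refine Fintype.prod_equiv (MulAction.toPerm (g⁻¹ : G)) _ _ fun u => ?_
  have hu : ∃ v ∈ U, (MulAction.toPerm (g⁻¹ : G) u).out = g⁻¹ * u.out * v := by
    have h : ((g⁻¹ * u.out : G) : G ⧸ U) = MulAction.toPerm (g⁻¹ : G) u := by
      conv_rhs => rw [← u.out_eq]
      rfl
    obtain ⟨v, hv⟩ := QuotientGroup.mk_out_eq_mul U (g⁻¹ * u.out)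
    exact ⟨v, v.2, by rw [← h, hv]⟩
  obtain ⟨v, hv, hout⟩ := hu
  rw [hout, rat_mul hKA σ τ _ hv]
  apply Subtype.ext
  simp only [rat, translate, c, MonoidHom.coe_mk, OneHom.coe_mk, map_mul, map_inv]
  group

/-- The stabilizer of the class of a section. -/
noncomputable def stab (hKA : K ⊔ A = U) (σ : Sec K A) : Subgroup G where
  carrier := {g | diff (U := U) σ (translate g σ) = 1}
  mul_mem' := fun {a b} ha hb => by
    simp only [Set.mem_setOf_eq] at ha hb ⊢
    rw [← diff_mul σ (translate a σ), ha, one_mul, translate_mul, diff_translate hKA]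
    exact Subtype.ext (by simp [hb])
  one_mem' := by
    show diff (U := U) σ (translate 1 σ) = 1
    rw [translate_one, diff_self]
  inv_mem' := fun {a} ha => by
    simp only [Set.mem_setOf_eq] at ha ⊢
    have h := diff_translate hKA a⁻¹ σ (translate a σ)
    rw [← translate_mul, inv_mul_cancel, translate_one] at h
    rw [diff_symm, h]
    apply Subtype.ext
    simp [ha]

theorem mem_stab {hKA : K ⊔ A = U} {σ : Sec K A} {g : G} :
    g ∈ stab hKA σ ↔ diff (U := U) σ (translate g σ) = 1 := Iff.rfl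

theorem isComplement_stab (hKA : K ⊔ A = U) (hcop : (Nat.card K).Coprime U.index) (σ : Sec K A) :
    IsComplement' K (stab hKA σ) := by
  refine isComplement'_of_disjoint_and_mul_eq_univ ?_ (Set.eq_univ_of_forall fun g => ?_)
  · rw [disjoint_iff, eq_bot_iff]
    rintro x ⟨hx, hxs⟩
    have h := (mem_stab.mp hxs)
    rw [show x = ((⟨x, hx⟩ : K) : G) from rfl, diff_translate_self] at h
    have h2 : (⟨x, hx⟩ : K) = 1 := by
      apply (powCoprime hcop).injective
      simpa [powCoprime_apply] using h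
    exact mem_bot.mpr (congrArg Subtype.val h2)
  · obtain ⟨k, hk⟩ := (powCoprime hcop).surjective (diff (U := U) σ (translate g σ))⁻¹
    rw [powCoprime_apply] at hk
    refine ⟨((k⁻¹ : K) : G), SetLike.coe_mem _, (k : G) * g, ?_, by simp⟩
    rw [SetLike.mem_coe, mem_stab, ← diff_mul σ (translate g σ), translate_mul, diff_translate_self,
      hk, mul_inv_cancel]

theorem stab_conj (hKA : K ⊔ A = U) (hcop : (Nat.card K).Coprime U.index) (σ τ : Sec K A) :
    ∃ k ∈ K, ∀ g ∈ stab hKA σ, k * g * k⁻¹ ∈ stab hKA τ := by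
  obtain ⟨k, hk⟩ := (powCoprime hcop).surjective (diff (U := U) σ τ)
  rw [powCoprime_apply] at hk
  refine ⟨k, k.2, fun g hg => ?_⟩
  have h1 : diff (U := U) (translate (k : G) σ) τ = 1 := by
    rw [← diff_mul _ σ, diff_symm σ, diff_translate_self, hk, inv_mul_cancel]
  rw [mem_stab] at hg ⊢
  rw [← diff_mul τ (translate (k : G) σ), diff_symm (translate (k : G) σ), h1, inv_one, one_mul,
    ← diff_mul (translate (k : G) σ) (translate ((k : G) * g * (k : G)⁻¹) (translate (k : G) σ)),
    ← translate_mul, inv_mul_cancel_right, translate_mul, diff_translate hKA _ σ (translate g σ),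
    translate_mul ((k : G) * g) ((k : G)⁻¹)]
  have h2 : diff (U := U) (translate ((k : G) * g) σ)
      (translate ((k : G) * g) (translate ((k : G)⁻¹) τ)) = 1 := by
    rw [diff_translate hKA]
    have h3 : diff (U := U) σ (translate ((k : G)⁻¹) τ) = 1 := by
      have h := diff_translate hKA ((k : G)⁻¹) (translate (k : G) σ) τ
      rw [← translate_mul, inv_mul_cancel, translate_one] at h
      rw [h]
      exact Subtype.ext (by simp [h1])
    exact Subtype.ext (by simp [h3])
  rw [translate_mul (k : G) g σ] at h2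
  rw [h2, mul_one]
  exact Subtype.ext (by simp [hg])

end

theorem exists_sec (hKU : K ≤ U) (hAK : A ⊓ K = ⊥) (hKA : K ⊔ A = U) : Nonempty (Sec K A) := by
  classical
  have key : ∀ q : G ⧸ K, ∃ a : A, (QuotientGroup.mk' K
      ((((q.out : G) : G ⧸ U)).out * a) = q) := by
    intro q
    obtain ⟨v, hv⟩ := QuotientGroup.mk_out_eq_mul U q.out
    have hv' : (v : G)⁻¹ ∈ A ⊔ K := by rw [sup_comm, hKA]; exact U.inv_mem v.2
    rw [← SetLike.mem_coe, mul_normal, Set.mem_mul] at hv'
    obtain ⟨a, ha, k, hk, hak⟩ := hv'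
    refine ⟨⟨a, ha⟩, ?_⟩
    rw [hv]
    have h1 : q.out * (v : G) * a = q.out * (k⁻¹ : G) := by
      have : (v : G) = (a * k)⁻¹ := by rw [hak, inv_inv]
      rw [this]; group
    show QuotientGroup.mk' K (q.out * (v : G) * a) = q
    rw [h1, map_mul, map_inv, show QuotientGroup.mk' K k = 1 from (QuotientGroup.eq_one_iff k).mpr hk,
      inv_one, mul_one]
    exact q.out_eq
  choose a ha using key
  refine ⟨⟨fun q => (((q.out : G) : G ⧸ U)).out * a q, ha, fun q b hb => ?_⟩⟩
  have hsame : (((q * QuotientGroup.mk' K b).out : G) : G ⧸ U) = ((q.out : G) : G ⧸ U) := by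
    rw [QuotientGroup.eq]
    have h : ((q * QuotientGroup.mk' K b).out : G ⧸ K) = ((q.out * b : G) : G ⧸ K) := by
      rw [QuotientGroup.out_eq', QuotientGroup.mk_mul, QuotientGroup.out_eq']
      rfl
    rw [QuotientGroup.eq] at h
    have h2 := U.mul_mem (hKU h) (U.inv_mem (hKA ▸ mem_sup_right hb : b ∈ U))
    simpa [mul_assoc] using h2
  have h1 := ha (q * QuotientGroup.mk' K b)
  rw [hsame] at h1
  show (((q * QuotientGroup.mk' K b).out : G) : G ⧸ U).out * a (q * QuotientGroup.mk' K b) =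
    ((q.out : G) : G ⧸ U).out * a q * b
  rw [hsame, mul_assoc]
  congr 1
  have h2 : QuotientGroup.mk' K ((((q.out : G) : G ⧸ U)).out * ((a q : G) * b)) =
      q * QuotientGroup.mk' K b := by
    rw [← mul_assoc, map_mul, ha q]
  have h3 : (a (q * QuotientGroup.mk' K b) : G)⁻¹ * ((a q : G) * b) ∈ A ⊓ K := by
    refine ⟨A.mul_mem (A.inv_mem (SetLike.coe_mem _)) (A.mul_mem (SetLike.coe_mem _) hb), ?_⟩
    have h4 := h1.trans h2.symm
    rw [map_mul, map_mul, mul_right_inj] at h4
    refine (QuotientGroup.eq_one_iff _).mp ?_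
    show QuotientGroup.mk' K _ = 1
    rw [map_mul, map_inv, ← h4, inv_mul_cancel]
  rw [hAK, mem_bot, inv_mul_eq_one] at h3
  exact h3

/-- Gaschütz: existence of a complement. -/
theorem gaschutz_exists (hKU : K ≤ U) (hcop : (Nat.card K).Coprime U.index)
    (hAK : A ⊓ K = ⊥) (hKA : K ⊔ A = U) : ∃ H : Subgroup G, IsComplement' K H := by
  haveI := Fintype.ofFinite (G ⧸ U)
  obtain ⟨σ⟩ := exists_sec hKU hAK hKA
  exact ⟨_, isComplement_stab hKA hcop σ⟩

/-- Gaschütz: conjugacy of complements agreeing on `U`. -/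
theorem gaschutz_conj (hKU : K ≤ U) (hcop : (Nat.card K).Coprime U.index)
    {H₀ H₁ : Subgroup G} (h₀ : IsComplement' K H₀) (h₁ : IsComplement' K H₁)
    (hU : H₀ ⊓ U = H₁ ⊓ U) : ∃ g : G, MulAut.conj g • H₀ = H₁ := by
  classical
  haveI := Fintype.ofFinite (G ⧸ U)
  have hKA : K ⊔ (H₀ ⊓ U) = U := by
    refine le_antisymm (sup_le hKU inf_le_right) fun u hu => ?_
    obtain ⟨⟨k, h⟩, hkh, -⟩ := h₀.existsUnique u
    simp only at hkh
    have hh : (h : G) ∈ U := by
      have : (h : G) = (k : G)⁻¹ * u := by rw [← hkh, inv_mul_cancel_left]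
      rw [this]
      exact U.mul_mem (U.inv_mem (hKU k.2)) hu
    rw [← hkh]
    exact mul_mem (mem_sup_left k.2) (mem_sup_right ⟨h.2, hh⟩)
  have mksec : ∀ H : Subgroup G, IsComplement' K H → H ⊓ U = H₀ ⊓ U →
      ∃ σ : Sec K (H₀ ⊓ U), H ≤ stab hKA σ := by
    intro H hH hHU
    have hex : ∀ q : G ⧸ K, ∃ h : H, QuotientGroup.mk' K h = q := by
      intro q
      obtain ⟨g, rfl⟩ := QuotientGroup.mk'_surjective K q
      obtain ⟨⟨k, h⟩, hkh, -⟩ := hH.existsUnique g
      simp only at hkh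
      refine ⟨h, ?_⟩
      rw [← hkh, map_mul, show QuotientGroup.mk' K (k : G) = 1 from
        (QuotientGroup.eq_one_iff _).mpr k.2, one_mul]
    choose s hs using hex
    have huniq : ∀ (q : G ⧸ K) (h : G), h ∈ H → QuotientGroup.mk' K h = q → (s q : G) = h := by
      intro q h hh hq
      have hm : (s q : G)⁻¹ * h ∈ K ⊓ H := by
        refine ⟨(QuotientGroup.eq_one_iff _).mp ?_, H.mul_mem (H.inv_mem (s q).2) hh⟩
        show QuotientGroup.mk' K _ = 1
        rw [map_mul, map_inv, hs, hq, inv_mul_cancel]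
      exact inv_mul_eq_one.mp (mem_bot.mp (hH.disjoint.le_bot hm))
    let σ : Sec K (H₀ ⊓ U) := ⟨fun q => s q, hs, fun q a ha =>
      huniq _ _ (H.mul_mem (s q).2 (hHU.symm ▸ ha : a ∈ H ⊓ U).1) (by rw [map_mul, hs])⟩
    refine ⟨σ, fun g hg => ?_⟩
    have htr : translate g σ = σ := by
      apply Subtype.ext
      funext q
      refine (huniq q _ (H.mul_mem hg (s _).2) ?_).symm
      rw [map_mul, hs, ← mul_assoc, ← map_mul, mul_inv_cancel, map_one, one_mul]
    rw [mem_stab, htr, diff_self]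
  obtain ⟨σ₀, hσ₀⟩ := mksec H₀ h₀ rfl
  obtain ⟨σ₁, hσ₁⟩ := mksec H₁ h₁ hU.symm
  have card_eq : ∀ {X : Subgroup G}, IsComplement' K X → Nat.card X = K.index :=
    fun hX => hX.symm.index_eq_card.symm
  have e₁ : H₁ = stab hKA σ₁ := Subgroup.eq_of_le_of_card_ge hσ₁
    (by rw [card_eq h₁, card_eq (isComplement_stab hKA hcop σ₁)])
  obtain ⟨k, -, hk⟩ := stab_conj hKA hcop σ₀ σ₁
  refine ⟨k, Subgroup.eq_of_le_of_card_ge (fun x hx => ?_) ?_⟩
  · rw [mem_conj_smul_iff] at hx
    rw [e₁]
    simpa [mul_assoc] using hk _ (hσ₀ hx)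
  · rw [card_conj_smul, card_eq h₀, card_eq h₁]

end CfsgLib.Core.Gaschutz
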