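import Mathlib.Algebra.DirectSum.Basic
import Mathlib.Algebra.Lie.Basic
import Mathlib.GroupTheory.Nilpotent
import Cfsg.Agent.Lib.ClassSizes.Basic

/-!
# The Lie ring associated with a central series

For a series `H` with `⁅H a, H b⁆ ≤ H (a + b)` and `H 0 = H 1 = ⊤` the direct sum of its factors is a
Lie ring under the commutator.
-/

set_option autoImplicit false
set_option linter.all false

namespace CfsgLib.Core.Assoc

open Subgroup
open scoped commutatorElement DirectSum

variable (G : Type*) [Group G]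

/-- A series with the commutator property. -/
structure Series where ofData ::
  H : ℕ → Subgroup G
  anti : Antitone H
  comm : ∀ a b, ⁅H a, H b⁆ ≤ H (a + b)
  zero : H 0 = ⊤
  one : H 1 = ⊤

variable {G} (S : Series G)

namespace Series

theorem comm_mem {a b n : ℕ} (hn : n ≤ a + b) {x y : G} (hx : x ∈ S.H a) (hy : y ∈ S.H b) :
    ⁅x, y⁆ ∈ S.H n :=
  S.anti hn (S.comm a b (commutator_mem_commutator hx hy))

theorem normal (w : ℕ) : (S.H w).Normal :=
  ⟨fun x hx g => by
    have h : ⁅g, x⁆ ∈ S.H w := S.comm_mem (a := 1) (by omega) (by rw [S.one]; exact mem_top g) hx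
    simpa [commutatorElement_def] using mul_mem h hx⟩

theorem comm_mem_succ (w : ℕ) {x y : G} (hx : x ∈ S.H w) (hy : y ∈ S.H w) :
    ⁅x, y⁆ ∈ S.H (w + 1) := by
  rcases Nat.eq_zero_or_pos w with rfl | hw
  · rw [show 0 + 1 = 1 from rfl, S.one]; exact mem_top _
  · exact S.comm_mem (by omega) hx hy

/-- The next term, inside a term. -/
def next (w : ℕ) : Subgroup (S.H w) := (S.H (w + 1)).subgroupOf (S.H w)

instance next_normal (w : ℕ) : (S.next w).Normal := (S.normal (w + 1)).subgroupOf _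

instance quotientCommGroup (w : ℕ) : CommGroup (S.H w ⧸ S.next w) :=
  { (inferInstance : Group (S.H w ⧸ S.next w)) with
    mul_comm := fun x y => by
      obtain ⟨x, rfl⟩ := QuotientGroup.mk_surjective x
      obtain ⟨y, rfl⟩ := QuotientGroup.mk_surjective y
      show ((x * y : S.H w) : S.H w ⧸ S.next w) = ((y * x : S.H w) : S.H w ⧸ S.next w)
      rw [QuotientGroup.eq, Series.next, mem_subgroupOf]
      have e : (((x * y)⁻¹ * (y * x) : S.H w) : G) = ⁅(y : G)⁻¹, (x : G)⁻¹⁆ := by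
        simp [commutatorElement_def, mul_assoc]
      rw [e]
      exact S.comm_mem_succ w (inv_mem y.2) (inv_mem x.2) }

/-- A factor of the series, written additively. -/
abbrev Gr (w : ℕ) : Type _ := Additive (S.H w ⧸ S.next w)

/-- The associated graded group. -/
abbrev Ring' : Type _ := ⨁ w, S.Gr w

/-- The class of an element of a term. -/
def cls (w : ℕ) : Additive (S.H w) →+ S.Gr w := MonoidHom.toAdditive (QuotientGroup.mk' (S.next w))

/-- The image of an element of a term in the associated graded group. -/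
def mk (w : ℕ) (x : G) (hx : x ∈ S.H w) : S.Ring' :=
  DirectSum.of (fun w => S.Gr w) w (S.cls w (Additive.ofMul ⟨x, hx⟩))

theorem mk_congr {a b : ℕ} (h : a = b) {x y : G} (hxy : x = y) (hx : x ∈ S.H a) (hy : y ∈ S.H b) :
    S.mk a x hx = S.mk b y hy := by
  subst h; subst hxy; rfl

theorem mk_mul (w : ℕ) {x y : G} (hx : x ∈ S.H w) (hy : y ∈ S.H w) :
    S.mk w (x * y) (mul_mem hx hy) = S.mk w x hx + S.mk w y hy := by
  simp only [mk, ← map_add]
  rfl

theorem mk_eq_zero {w : ℕ} {x : G} {hx : x ∈ S.H w} : S.mk w x hx = 0 ↔ x ∈ S.H (w + 1) := by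
  rw [mk, map_eq_zero_iff _ (DirectSum.of_injective w)]
  show ((⟨x, hx⟩ : S.H w) : S.H w ⧸ S.next w) = 1 ↔ _
  rw [QuotientGroup.eq_one_iff]
  exact mem_subgroupOf

theorem mk_eq_zero' {w : ℕ} {x : G} {hx : x ∈ S.H w} (h : w = 0) : S.mk w x hx = 0 :=
  S.mk_eq_zero.mpr (by subst h; rw [show 0 + 1 = 1 from rfl, S.one]; exact mem_top _)

theorem mk_eq_of_mem {w : ℕ} {x y : G} {hx : x ∈ S.H w} {hy : y ∈ S.H w}
    (h : x * y⁻¹ ∈ S.H (w + 1)) : S.mk w x hx = S.mk w y hy := by
  have e := S.mk_mul w (S.anti (Nat.le_succ w) h) hy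
  rw [S.mk_eq_zero.mpr h, zero_add] at e
  rw [← e]
  exact S.mk_congr rfl (by group) _ _

theorem mk_inv (w : ℕ) {x : G} (hx : x ∈ S.H w) : S.mk w x⁻¹ (inv_mem hx) = -S.mk w x hx := by
  rw [eq_neg_iff_add_eq_zero, ← S.mk_mul w (inv_mem hx) hx, S.mk_eq_zero, inv_mul_cancel]
  exact one_mem _

theorem induction {P : S.Ring' → Prop} (x : S.Ring') (h0 : P 0)
    (hmk : ∀ w (x : G) (hx : x ∈ S.H w), P (S.mk w x hx)) (hadd : ∀ x y, P x → P y → P (x + y)) :
    P x := by
  induction x using DirectSum.induction_on with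
  | zero => exact h0
  | of w a =>
    obtain ⟨⟨g, hg⟩, rfl⟩ := QuotientGroup.mk_surjective (Additive.toMul a)
    exact hmk w g hg
  | add x y hx hy => exact hadd x y hx hy

/-- Lift a function on the terms to the factor. -/
def liftGr {M : Type*} [AddCommGroup M] (w : ℕ) (f : (x : G) → x ∈ S.H w → M)
    (hadd : ∀ x y hx hy, f (x * y) (mul_mem hx hy) = f x hx + f y hy)
    (hzero : ∀ x hx, x ∈ S.H (w + 1) → f x hx = 0) : S.Gr w →+ M :=
  MonoidHom.toAdditiveLeft (QuotientGroup.lift (S.next w)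
    { toFun := fun x : S.H w => Multiplicative.ofAdd (f x x.2)
      map_one' := by
        show Multiplicative.ofAdd (f ((1 : S.H w) : G) _) = 1
        rw [hzero _ _ (by rw [OneMemClass.coe_one]; exact one_mem _)]; rfl
      map_mul' := fun x y => by
        show Multiplicative.ofAdd (f ((x * y : S.H w) : G) _) = _
        exact congrArg Multiplicative.ofAdd (hadd x y x.2 y.2) }
    (fun x hx => by
      rw [MonoidHom.mem_ker]
      show Multiplicative.ofAdd (f (x : G) x.2) = 1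
      rw [hzero _ _ (mem_subgroupOf.mp hx)]; rfl))

theorem liftGr_cls {M : Type*} [AddCommGroup M] (w : ℕ) (f : (x : G) → x ∈ S.H w → M) (hadd) (hzero)
    (x : G) (hx : x ∈ S.H w) :
    S.liftGr w f hadd hzero (S.cls w (Additive.ofMul ⟨x, hx⟩)) = f x hx := rfl

/-- The inner map of the bracket. -/
def brkAux (a : ℕ) (x : G) (hx : x ∈ S.H a) : S.Ring' →+ S.Ring' :=
  DirectSum.toAddMonoid fun b => S.liftGr b
    (fun y hy => S.mk (a + b) ⁅x, y⁆ (S.comm_mem le_rfl hx hy))
    (fun y z hy hz => by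
      rw [← S.mk_mul (a + b) (S.comm_mem le_rfl hx hy) (S.comm_mem le_rfl hx hz)]
      refine S.mk_eq_of_mem ?_
      have e : ⁅x, y * z⁆ * (⁅x, y⁆ * ⁅x, z⁆)⁻¹ = ⁅x, y⁆ * ⁅y, ⁅x, z⁆⁆ * ⁅x, y⁆⁻¹ := by
        simp [commutatorElement_def, mul_assoc]
      rw [e]
      refine (S.normal _).conj_mem _ ?_ _
      rcases Nat.eq_zero_or_pos b with rfl | hb
      · exact S.comm_mem (a := 1) (b := a + 0) (by omega) (by rw [S.one]; exact mem_top y)
          (S.comm_mem le_rfl hx hz)
      · exact S.comm_mem (by omega) hy (S.comm_mem le_rfl hx hz))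
    (fun y hy h => S.mk_eq_zero.mpr (S.comm_mem (b := b + 1) (by omega) hx h))

theorem brkAux_mk {a b : ℕ} {x y : G} (hx : x ∈ S.H a) (hy : y ∈ S.H b) :
    S.brkAux a x hx (S.mk b y hy) = S.mk (a + b) ⁅x, y⁆ (S.comm_mem le_rfl hx hy) := by
  rw [brkAux, mk, DirectSum.toAddMonoid_of]
  exact S.liftGr_cls b _ _ _ y hy

/-- The bracket of the associated graded group. -/
def brk : S.Ring' →+ S.Ring' →+ S.Ring' :=
  DirectSum.toAddMonoid fun a => S.liftGr a (fun x hx => S.brkAux a x hx)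
    (fun x y hx hy => by
      refine AddMonoidHom.ext fun z => ?_
      induction z using S.induction with
      | h0 => simp
      | hadd z z' h h' => rw [map_add, map_add, h, h']
      | hmk b z hz =>
        rw [AddMonoidHom.add_apply, S.brkAux_mk, S.brkAux_mk, S.brkAux_mk,
          add_comm (S.mk (a + b) ⁅x, z⁆ _), ← S.mk_mul (a + b) (S.comm_mem le_rfl hy hz) (S.comm_mem le_rfl hx hz)]
        refine S.mk_eq_of_mem ?_
        have e : ⁅x * y, z⁆ * (⁅y, z⁆ * ⁅x, z⁆)⁻¹ = ⁅x, ⁅y, z⁆⁆ := by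
          simp [commutatorElement_def, mul_assoc]
        rw [e]
        exact S.comm_mem (a := 1) (by omega) (by rw [S.one]; exact mem_top x)
          (S.comm_mem le_rfl hy hz))
    (fun x hx h => by
      refine AddMonoidHom.ext fun z => ?_
      induction z using S.induction with
      | h0 => simp
      | hadd z z' h h' => rw [map_add, map_add, h, h']
      | hmk b z hz =>
        rw [S.brkAux_mk, AddMonoidHom.zero_apply]
        exact S.mk_eq_zero.mpr (S.comm_mem (a := a + 1) (by omega) h hz))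

theorem brk_mk {a b : ℕ} {x y : G} (hx : x ∈ S.H a) (hy : y ∈ S.H b) :
    S.brk (S.mk a x hx) (S.mk b y hy) = S.mk (a + b) ⁅x, y⁆ (S.comm_mem le_rfl hx hy) := by
  rw [brk, mk, DirectSum.toAddMonoid_of]
  erw [S.liftGr_cls a _ _ _ x hx]
  exact S.brkAux_mk hx hy

theorem brk_skew (x y : S.Ring') : S.brk x y + S.brk y x = 0 := by
  induction x using S.induction with
  | h0 => simp
  | hadd x x' h h' =>
    rw [map_add, AddMonoidHom.add_apply, map_add, add_add_add_comm, h, h', add_zero]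
  | hmk a x hx =>
    induction y using S.induction with
    | h0 => simp
    | hadd y y' h h' => rw [map_add, map_add, AddMonoidHom.add_apply, add_add_add_comm, h, h', add_zero]
    | hmk b y hy =>
      rw [S.brk_mk, S.brk_mk, ← eq_neg_iff_add_eq_zero, ← S.mk_inv]
      exact S.mk_congr (add_comm a b) (commutatorElement_inv y x).symm _ _

theorem brk_self (x : S.Ring') : S.brk x x = 0 := by
  induction x using S.induction with
  | h0 => simp
  | hadd x y hx hy =>
    simp only [map_add, AddMonoidHom.add_apply, hx, hy, zero_add, add_zero]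
    rw [add_comm, S.brk_skew]
  | hmk a x hx =>
    rw [S.brk_mk, S.mk_eq_zero, commutatorElement_self]
    exact one_mem _

theorem brk_leibniz_mk {a b c : ℕ} {x y z : G} (hx : x ∈ S.H a) (hy : y ∈ S.H b) (hz : z ∈ S.H c) :
    S.brk (S.mk a x hx) (S.brk (S.mk b y hy) (S.mk c z hz)) =
      S.brk (S.brk (S.mk a x hx) (S.mk b y hy)) (S.mk c z hz) +
        S.brk (S.mk b y hy) (S.brk (S.mk a x hx) (S.mk c z hz)) := by
  rcases Nat.eq_zero_or_pos a with ha | ha
  · simp [S.mk_eq_zero' (hx := hx) ha]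
  rcases Nat.eq_zero_or_pos b with hb | hb
  · simp [S.mk_eq_zero' (hx := hy) hb]
  rcases Nat.eq_zero_or_pos c with hc | hc
  · simp [S.mk_eq_zero' (hx := hz) hc]
  simp only [S.brk_mk]
  have hu : ⁅x, y⁆ ∈ S.H (a + b) := S.comm_mem le_rfl hx hy
  have hv : ⁅x, z⁆ ∈ S.H (a + c) := S.comm_mem le_rfl hx hz
  have hw : ⁅y, z⁆ ∈ S.H (b + c) := S.comm_mem le_rfl hy hz
  have hA : ⁅x, ⁅y, z⁆⁆ ∈ S.H (a + b + c) := S.comm_mem (by omega) hx hw
  have hB : ⁅⁅x, y⁆, z⁆ ∈ S.H (a + b + c) := S.comm_mem (by omega) hu hz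
  have hC : ⁅y, ⁅x, z⁆⁆ ∈ S.H (a + b + c) := S.comm_mem (by omega) hy hv
  rw [S.mk_congr (b := a + b + c) (by omega) rfl _ hA,
    S.mk_congr (a := a + b + c) (b := a + b + c) rfl (rfl : ⁅⁅x, y⁆, z⁆ = _) _ hB,
    S.mk_congr (a := b + (a + c)) (b := a + b + c) (by omega) rfl _ hC, add_comm (S.mk (a + b + c) ⁅⁅x, y⁆, z⁆ hB),
    ← S.mk_mul (a + b + c) hC hB]
  refine S.mk_eq_of_mem ?_
  haveI := S.normal (a + b + c + 1)
  rw [← QuotientGroup.eq_one_iff, QuotientGroup.mk_mul, QuotientGroup.mk_inv, mul_inv_eq_one,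
    QuotientGroup.mk_mul]
  generalize hK : S.H (a + b + c + 1) = K at *
  have hπ : ∀ g h : G, ⁅g, h⁆ ∈ K → (g : G ⧸ K) * h = h * g := fun g h hgh => by
    rw [← commutatorElement_eq_one_iff_mul_comm]
    exact ((map_commutatorElement (QuotientGroup.mk' K) g h).symm.trans
      ((QuotientGroup.eq_one_iff _).mpr hgh))
  have hcen : ∀ g h : G, h ∈ S.H (a + b + c) → (g : G ⧸ K) * h = h * g := fun g h hh => hπ g h
    (hK ▸ S.comm_mem (a := 1) (by omega) (by rw [S.one]; exact mem_top g) hh)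
  have c1 : ((⁅x, z⁆ : G) : G ⧸ K) * ⁅y, z⁆ = ⁅y, z⁆ * ⁅x, z⁆ := hπ _ _ (hK ▸ S.comm_mem (by omega) hv hw)
  have c2 : ((⁅x, y⁆ : G) : G ⧸ K) * ⁅y, z⁆ = ⁅y, z⁆ * ⁅x, y⁆ := hπ _ _ (hK ▸ S.comm_mem (by omega) hu hw)
  have c3 : ((⁅x, y⁆ : G) : G ⧸ K) * ⁅x, z⁆ = ⁅x, z⁆ * ⁅x, y⁆ := hπ _ _ (hK ▸ S.comm_mem (by omega) hu hv)
  have c4 := hcen ⁅x, y⁆ _ hC
  have c5 := hcen ⁅x, z⁆ _ hB
  have c6 := hcen ⁅y, z⁆ _ hB
  -- conjugate `⁅y, z⁆` by `x`
  have key : x * ⁅y, z⁆ * x⁻¹ = ⁅x, y⁆ * (⁅y, ⁅x, z⁆⁆ * (⁅x, z⁆ * ⁅y, z⁆ * ⁅x, z⁆⁻¹)) * ⁅x, y⁆⁻¹ *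
      (⁅⁅x, y⁆, ⁅x, z⁆⁆ * (⁅x, z⁆ * ⁅⁅x, y⁆, z⁆ * ⁅x, z⁆⁻¹)) := by
    simp [commutatorElement_def, mul_assoc]
  have c3' : ((⁅⁅x, y⁆, ⁅x, z⁆⁆ : G) : G ⧸ K) = 1 :=
    (QuotientGroup.eq_one_iff _).mpr (hK ▸ S.comm_mem (by omega) hu hv)
  have e := congrArg (QuotientGroup.mk : G → G ⧸ K) key
  simp only [QuotientGroup.mk_mul, QuotientGroup.mk_inv, c3', one_mul] at e
  rw [c1, mul_inv_cancel_right, c5, mul_inv_cancel_right, ← mul_assoc (↑⁅x, y⁆ : G ⧸ K), c4,
    mul_assoc (↑⁅y, ⁅x, z⁆⁆ : G ⧸ K) (↑⁅x, y⁆ : G ⧸ K), c2, ← mul_assoc, mul_inv_cancel_right] at e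
  have hdef : ((⁅x, ⁅y, z⁆⁆ : G) : G ⧸ K) = (x : G ⧸ K) * ⁅y, z⁆ * (x : G ⧸ K)⁻¹ * (⁅y, z⁆ : G)⁻¹ := rfl
  rw [hdef]
  simp only [QuotientGroup.mk_inv]
  rw [e, mul_assoc (↑⁅y, ⁅x, z⁆⁆ : G ⧸ K), c6, mul_assoc, mul_assoc, mul_inv_cancel, mul_one]

theorem brk_leibniz (x y z : S.Ring') :
    S.brk x (S.brk y z) = S.brk (S.brk x y) z + S.brk y (S.brk x z) := by
  induction x using S.induction with
  | h0 => simp
  | hadd x x' h h' =>
    simp only [map_add, AddMonoidHom.add_apply, h, h']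
    abel
  | hmk a x hx =>
    induction y using S.induction with
    | h0 => simp
    | hadd y y' h h' =>
      simp only [map_add, AddMonoidHom.add_apply, h, h']
      abel
    | hmk b y hy =>
      induction z using S.induction with
      | h0 => simp
      | hadd z z' h h' =>
        simp only [map_add, AddMonoidHom.add_apply, h, h']
        abel
      | hmk c z hz => exact S.brk_leibniz_mk hx hy hz

instance lieRing : LieRing S.Ring' where
  bracket x y := S.brk x y
  add_lie x y z := by show S.brk (x + y) z = _; rw [map_add]; rfl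
  lie_add x y z := map_add (S.brk x) y z
  lie_self := S.brk_self
  leibniz_lie := S.brk_leibniz

theorem lie_mk {a b : ℕ} {x y : G} (hx : x ∈ S.H a) (hy : y ∈ S.H b) :
    ⁅S.mk a x hx, S.mk b y hy⁆ = S.mk (a + b) ⁅x, y⁆ (S.comm_mem le_rfl hx hy) :=
  S.brk_mk hx hy

/-- The map induced by an automorphism preserving the series. -/
def mapAut (φ : MulAut G) (hφ : ∀ w x, x ∈ S.H w → φ x ∈ S.H w) : S.Ring' →+ S.Ring' :=
  DirectSum.toAddMonoid fun w => S.liftGr w (fun x hx => S.mk w (φ x) (hφ w x hx))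
    (fun x y hx hy => by
      rw [← S.mk_mul]
      exact S.mk_congr rfl (map_mul φ x y) _ _)
    (fun x hx h => S.mk_eq_zero.mpr (hφ _ x h))

theorem mapAut_mk (φ : MulAut G) (hφ) {w : ℕ} {x : G} (hx : x ∈ S.H w) :
    S.mapAut φ hφ (S.mk w x hx) = S.mk w (φ x) (hφ w x hx) := by
  rw [mapAut, mk, DirectSum.toAddMonoid_of]
  exact S.liftGr_cls w _ _ _ x hx

theorem mapAut_lie (φ : MulAut G) (hφ) (x y : S.Ring') :
    S.mapAut φ hφ ⁅x, y⁆ = ⁅S.mapAut φ hφ x, S.mapAut φ hφ y⁆ := by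
  induction x using S.induction with
  | h0 => simp
  | hadd x x' h h' => simp only [add_lie, map_add, h, h']
  | hmk a x hx =>
    induction y using S.induction with
    | h0 => simp
    | hadd y y' h h' => simp only [lie_add, map_add, h, h']
    | hmk b y hy =>
      rw [S.lie_mk, S.mapAut_mk, S.mapAut_mk, S.mapAut_mk, S.lie_mk]
      exact S.mk_congr rfl (map_commutatorElement φ x y) _ _

theorem mapAut_iterate (φ : MulAut G) (hφ) (n : ℕ) {w : ℕ} {x : G} (hx : x ∈ S.H w)
    (hn : (φ ^ n) x ∈ S.H w) : (S.mapAut φ hφ)^[n] (S.mk w x hx) = S.mk w ((φ ^ n) x) hn := by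
  induction n with
  | zero => exact S.mk_congr rfl (by simp) _ _
  | succ n ih =>
    have hn' : (φ ^ n) x ∈ S.H w := by
      clear hn ih
      induction n with
      | zero => simpa using hx
      | succ n ih => rw [pow_succ', MulAut.mul_apply]; exact hφ _ _ ih
    rw [Function.iterate_succ_apply', ih hn', S.mapAut_mk]
    exact S.mk_congr rfl (by rw [pow_succ', MulAut.mul_apply]) _ _

theorem nsmul_card [Finite G] (x : S.Ring') : Nat.card G • x = 0 := by
  induction x using S.induction with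
  | h0 => simp
  | hadd x y h h' => rw [smul_add, h, h', add_zero]
  | hmk w x hx =>
    have h : ∀ n : ℕ, n • S.mk w x hx = S.mk w (x ^ n) (pow_mem hx n) := by
      intro n
      induction n with
      | zero => rw [zero_smul, eq_comm, S.mk_eq_zero, pow_zero]; exact one_mem _
      | succ n ih =>
        rw [succ_nsmul, ih, ← S.mk_mul]
        exact S.mk_congr rfl (pow_succ x n).symm _ _
    rw [h, S.mk_eq_zero, pow_card_eq_one']
    exact one_mem _

end Series

theorem lowerCentralSeries_commutator_le (i j : ℕ) :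
    ⁅(⊤ : Subgroup G).lowerCentralSeries i, (⊤ : Subgroup G).lowerCentralSeries j⁆ ≤
      (⊤ : Subgroup G).lowerCentralSeries (i + j + 1) := by
  induction j generalizing i with
  | zero =>
    rw [Subgroup.lowerCentralSeries_zero, Nat.add_zero, Subgroup.lowerCentralSeries_succ]
  | succ j ih =>
    have : ((⊤ : Subgroup G).lowerCentralSeries (i + (j + 1) + 1)).Normal := inferInstance
    rw [Subgroup.lowerCentralSeries_succ _ j, Subgroup.commutator_comm]
    refine CfsgLib.ClassSizes.three_subgroup_le _ ?_ ?_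
    · rw [Subgroup.commutator_comm (⊤ : Subgroup G), ← Subgroup.lowerCentralSeries_succ]
      exact (ih (i + 1)).trans (le_of_eq (by congr 1; omega))
    · refine (Subgroup.commutator_mono (ih i) le_rfl).trans (le_of_eq ?_)
      rw [← Subgroup.lowerCentralSeries_succ]
      congr 1

/-- The lower central series, counted from one. -/
def lcs (G : Type*) [Group G] : Series G where
  H := fun w => (⊤ : Subgroup G).lowerCentralSeries (w - 1)
  anti := fun a b h => Subgroup.lowerCentralSeries_antitone _ (by omega)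
  comm := fun a b => (lowerCentralSeries_commutator_le _ _).trans
    (Subgroup.lowerCentralSeries_antitone _ (by omega))
  zero := rfl
  one := rfl

end CfsgLib.Core.Assoc
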