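import Mathlib.GroupTheory.FiniteAbelian.Duality
import Mathlib.RingTheory.RootsOfUnity.AlgebraicallyClosed
import Mathlib.LinearAlgebra.Eigenspace.Basic
import Mathlib.LinearAlgebra.TensorProduct.Tower
import Mathlib.RingTheory.TensorProduct.Finite
import Mathlib.LinearAlgebra.Dimension.Constructions
import Mathlib.Algebra.Module.ZMod
import Mathlib.Algebra.Field.ZMod
import Mathlib.FieldTheory.IsAlgClosed.AlgebraicClosure
import Mathlib.Tactic

/-!
# Modules of Frobenius groups

An abelian group without fixed points of `R` is free over an operator of prime order `q` acting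
fixed point freely on the abelian group `R`: `|V| = |C_V(θ)| ^ q`.
-/

set_option autoImplicit false
set_option linter.all false
set_option maxHeartbeats 800000

namespace CfsgLib.Core.FrobFree

open scoped TensorProduct

theorem finrank_eq_mul {k : Type*} [Field k] [IsAlgClosed k] {V : Type*} [AddCommGroup V] [Module k V]
    [FiniteDimensional k V] {R : Type*} [CommGroup R] [Finite R] (hR : (Nat.card R : k) ≠ 0)
    (ρ : R →* Module.End k V) {q : ℕ} [hq : Fact q.Prime] (θ : MulAut R) (hθq : θ ^ q = 1)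
    (hfp : ∀ x, θ x = x → x = 1) (T : Module.End k V) (hTq : T ^ q = 1)
    (hT : ∀ x, T * ρ x = ρ (θ x) * T) (hfix : ∀ v, (∀ x, ρ x v = v) → v = 0) :
    Module.finrank k V = q * Module.finrank k (T.eigenspace 1) := by
  classical
  haveI := Fintype.ofFinite R
  haveI : NeZero (Monoid.exponent R : k) := ⟨fun h => hR (by
    obtain ⟨c, hc⟩ := Group.exponent_dvd_nat_card (G := R)
    rw [hc, Nat.cast_mul, h, zero_mul])⟩
  haveI : HasEnoughRootsOfUnity k (Monoid.exponent R) := inferInstance
  haveI : Finite (R →* kˣ) :=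
    Finite.of_equiv R (CommGroup.monoidHom_mulEquiv_of_hasEnoughRootsOfUnity R k).some.symm.toEquiv
  haveI := Fintype.ofFinite (R →* kˣ)
  let ev : (R →* kˣ) → R → k := fun ψ x => ((ψ x : kˣ) : k)
  have horth1 : ∀ x : R, x ≠ 1 → ∑ ψ : R →* kˣ, ev ψ x = 0 := by
    intro x hx
    obtain ⟨φ, hφ⟩ := CommGroup.exists_apply_ne_one_of_hasEnoughRootsOfUnity R k hx
    have h : ∑ ψ : R →* kˣ, ev ψ x = ev φ x * ∑ ψ : R →* kˣ, ev ψ x := by
      rw [Finset.mul_sum]
      refine (Fintype.sum_equiv (Equiv.mulLeft φ) _ _ fun ψ => ?_).symm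
      show ev φ x * ev ψ x = ev (φ * ψ) x
      simp [ev, MonoidHom.mul_apply]
    by_contra hne
    refine hφ (Units.ext ?_)
    exact mul_right_cancel₀ hne ((one_mul _).trans h).symm
  have horth2 : ∀ ψ : R →* kˣ, ψ ≠ 1 → ∑ x, ev ψ x = 0 := by
    intro ψ hψ
    obtain ⟨y, hy⟩ : ∃ y, ψ y ≠ 1 := by
      by_contra h
      push Not at h
      exact hψ (MonoidHom.ext h)
    have h : ∑ x, ev ψ x = ev ψ y * ∑ x, ev ψ x := by
      rw [Finset.mul_sum]
      refine (Fintype.sum_equiv (Equiv.mulLeft y) _ _ fun x => ?_).symm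
      show ev ψ y * ev ψ x = ev ψ (y * x)
      simp [ev]
    by_contra hne
    exact hy (Units.ext (mul_right_cancel₀ hne ((one_mul _).trans h).symm))
  let e : (R →* kˣ) → Module.End k V := fun ψ => (Nat.card R : k)⁻¹ • ∑ x, ev ψ x⁻¹ • ρ x
  have hρe : ∀ y ψ, ρ y * e ψ = ev ψ y • e ψ := by
    intro y ψ
    simp only [e, mul_smul_comm, Finset.mul_sum, ← map_mul, smul_comm (ev ψ y), Finset.smul_sum]
    refine Fintype.sum_equiv (Equiv.mulLeft y) _ _ fun x => ?_
    show _ = (Nat.card R : k)⁻¹ • ev ψ (y * x)⁻¹ • ev ψ y • ρ (y * x)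
    congr 1
    rw [smul_smul]
    congr 1
    simp only [ev, ← Units.val_mul, ← map_mul]
    congr 2
    rw [mul_inv_rev, inv_mul_cancel_right]
  have hee : ∀ φ ψ, e φ * e ψ = if φ = ψ then e ψ else 0 := by
    intro φ ψ
    have h : e φ * e ψ = ((Nat.card R : k)⁻¹ * ∑ x, ev (φ⁻¹ * ψ) x) • e ψ := by
      show ((Nat.card R : k)⁻¹ • ∑ x, ev φ x⁻¹ • ρ x) * e ψ = _
      rw [smul_mul_assoc, Finset.sum_mul, mul_smul, Finset.sum_smul]
      congr 1
      refine Finset.sum_congr rfl fun x _ => ?_
      rw [smul_mul_assoc, hρe, smul_smul]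
      congr 1
      simp [ev]
    rw [h]
    split_ifs with he
    · subst he
      simp [ev]
      rw [← Nat.card_eq_fintype_card, inv_mul_cancel₀ hR, one_smul]
    · rw [horth2 _ (fun h' => he (inv_mul_eq_one.mp h')), mul_zero, zero_smul]
  have hsum : ∑ ψ, e ψ = 1 := by
    simp only [e, ← Finset.smul_sum]
    rw [Finset.sum_comm, Finset.sum_eq_single (1 : R)]
    · rw [← Finset.sum_smul, map_one, smul_smul]
      simp only [ev, inv_one, map_one, Units.val_one, Finset.sum_const, Finset.card_univ,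
        nsmul_eq_mul, mul_one]
      rw [← Nat.card_eq_fintype_card, CommGroup.card_monoidHom_of_hasEnoughRootsOfUnity,
        inv_mul_cancel₀ hR, one_smul]
    · intro x _ hx
      rw [← Finset.sum_smul, horth1 _ (inv_ne_one.mpr hx), zero_smul]
    · intro h; exact absurd (Finset.mem_univ _) h
  have he1 : e 1 = 0 := LinearMap.ext fun v => hfix _ fun x => by
    rw [← Module.End.mul_apply, hρe]
    simp [ev]
  -- the action on characters
  let τ : Equiv.Perm (R →* kˣ) :=
    { toFun := fun ψ => ψ.comp θ.symm.toMonoidHom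
      invFun := fun ψ => ψ.comp θ.toMonoidHom
      left_inv := fun ψ => MonoidHom.ext fun x => congrArg ψ (θ.symm_apply_apply x)
      right_inv := fun ψ => MonoidHom.ext fun x => congrArg ψ (θ.apply_symm_apply x) }
  have hτpow : ∀ (n : ℕ) (ψ : R →* kˣ) (x : R), ((τ ^ n) ψ) x = ψ ((θ ^ n).symm x) := by
    intro n
    induction n with
    | zero => intro ψ x; rfl
    | succ n ih =>
      intro ψ x
      rw [pow_succ', Equiv.Perm.mul_apply]
      show ((τ ^ n) ψ) (θ.symm x) = _
      rw [ih, pow_succ']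
      rfl
  have hτq : τ ^ q = 1 := Equiv.ext fun ψ => MonoidHom.ext fun x => by rw [hτpow, hθq]; rfl
  have hfree : ∀ j : ZMod q, j ≠ 0 → ∀ ψ, ψ ≠ 1 → (τ ^ j.val) ψ ≠ ψ := by
    intro j hj ψ hψ h
    refine hψ (MonoidHom.ext fun y => ?_)
    have hsur : Function.Surjective fun x : R => x⁻¹ * (θ ^ j.val).symm x := by
      refine Finite.surjective_of_injective fun a b hab => ?_
      have h1 : (θ ^ j.val).symm (a * b⁻¹) = a * b⁻¹ := by
        rw [map_mul, map_inv]
        have h2 : (θ ^ j.val).symm a = a * b⁻¹ * (θ ^ j.val).symm b := by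
          have := congrArg (fun z => a * z) hab
          simpa [mul_assoc] using this
        rw [h2, mul_assoc, mul_inv_cancel, mul_one]
      have h3 : (θ ^ j.val) (a * b⁻¹) = a * b⁻¹ := by
        conv_lhs => rw [← h1, MulEquiv.apply_symm_apply]
      have h4 : ∀ m : ℕ, ((θ ^ j.val) ^ m) (a * b⁻¹) = a * b⁻¹ := by
        intro m
        induction m with
        | zero => rfl
        | succ m ih => rw [pow_succ', MulAut.mul_apply, ih, h3]
      have h5 := h4 (j⁻¹).val
      rw [← pow_mul, pow_eq_pow_mod _ hθq, ← ZMod.val_mul, mul_inv_cancel₀ hj, ZMod.val_one,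
        pow_one] at h5
      exact mul_inv_eq_one.mp (hfp _ h5)
    obtain ⟨x, rfl⟩ := hsur y
    have h6 : ψ ((θ ^ j.val).symm x) = ψ x := by rw [← hτpow, h]
    simp [h6]
  let idx := Fintype.equivFin (R →* kˣ)
  let O : Finset (R →* kˣ) := Finset.univ.filter
    fun ψ => ψ ≠ 1 ∧ ∀ j : ZMod q, idx ψ ≤ idx ((τ ^ j.val) ψ)
  have hadd : ∀ (i j : ZMod q) ψ, (τ ^ i.val) ((τ ^ j.val) ψ) = (τ ^ (i + j).val) ψ := fun i j ψ => by
    rw [← Equiv.Perm.mul_apply, ← pow_add, ZMod.val_add, ← pow_eq_pow_mod _ hτq]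
  have hτone : ∀ n : ℕ, (τ ^ n) 1 = 1 := fun n => MonoidHom.ext fun x => by rw [hτpow]; rfl
  have hunique : ∀ ψ ∈ O, ∀ j : ZMod q, (τ ^ j.val) ψ ∈ O → j = 0 := by
    intro ψ hψ j hj
    simp only [O, Finset.mem_filter, Finset.mem_univ, true_and] at hψ hj
    by_contra hne
    have h2 := hj.2 (-j)
    rw [hadd, neg_add_cancel, ZMod.val_zero, pow_zero, Equiv.Perm.one_apply] at h2
    exact hfree j hne ψ hψ.1 (idx.injective (le_antisymm h2 (hψ.2 j)))
  have hcover : ∀ ψ, ψ ≠ 1 → ∃ j : ZMod q, (τ ^ j.val) ψ ∈ O := by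
    intro ψ hψ
    obtain ⟨j, -, hj⟩ := Finset.exists_min_image Finset.univ
      (fun j : ZMod q => idx ((τ ^ j.val) ψ)) Finset.univ_nonempty
    refine ⟨j, Finset.mem_filter.mpr ⟨Finset.mem_univ _, fun h => hψ ?_, fun i => ?_⟩⟩
    · have h2 := hadd (-j) j ψ
      rw [h, hτone, neg_add_cancel, ZMod.val_zero, pow_zero, Equiv.Perm.one_apply] at h2
      exact h2.symm
    · rw [hadd]; exact hj _ (Finset.mem_univ _)
  -- the conjugates of the idempotent of the representatives
  let S : ZMod q → Finset (R →* kˣ) := fun j => O.image fun ψ => (τ ^ j.val) ψ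
  have hS0 : S 0 = O := by simp [S]
  let E : ZMod q → Module.End k V := fun j => ∑ ψ ∈ S j, e ψ
  have hdisj : ∀ i j, i ≠ j → Disjoint (S i) (S j) := by
    intro i j hij
    rw [Finset.disjoint_left]
    intro ψ hi hj
    obtain ⟨a, ha, rfl⟩ := Finset.mem_image.mp hi
    obtain ⟨b, hb, hba⟩ := Finset.mem_image.mp hj
    have h2 : (τ ^ (-i + j).val) b = a := by
      rw [← hadd, hba, hadd, neg_add_cancel, ZMod.val_zero, pow_zero, Equiv.Perm.one_apply]
    exact hij (neg_add_eq_zero.mp (hunique b hb _ (h2 ▸ ha)))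
  have hEE : ∀ i j, E i * E j = if i = j then E j else 0 := by
    intro i j
    simp only [E, Finset.sum_mul, Finset.mul_sum, hee]
    split_ifs with hij
    · subst hij
      refine Finset.sum_congr rfl fun ψ hψ => ?_
      rw [Finset.sum_ite_eq', if_pos hψ]
    · refine Finset.sum_eq_zero fun ψ hψ => Finset.sum_eq_zero fun φ hφ => ?_
      rw [if_neg]
      rintro rfl
      exact (Finset.disjoint_left.mp (hdisj i j hij)) hφ hψ
  have hEsum : ∑ j, E j = 1 := by
    simp only [E]
    rw [← Finset.sum_biUnion (fun i _ j _ h => hdisj i j h), ← hsum]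
    refine Finset.sum_subset (Finset.subset_univ _) fun ψ _ hψ => ?_
    rcases eq_or_ne ψ 1 with rfl | hne
    · exact he1
    · exfalso
      obtain ⟨j, hj⟩ := hcover ψ hne
      refine hψ (Finset.mem_biUnion.mpr ⟨-j, Finset.mem_univ _,
        Finset.mem_image.mpr ⟨_, hj, ?_⟩⟩)
      rw [hadd, neg_add_cancel, ZMod.val_zero, pow_zero, Equiv.Perm.one_apply]
  have hTe : ∀ ψ, T * e ψ = e (τ ψ) * T := by
    intro ψ
    simp only [e, mul_smul_comm, smul_mul_assoc, Finset.mul_sum, Finset.sum_mul, hT]
    congr 1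
    refine Fintype.sum_equiv θ.toEquiv _ _ fun x => ?_
    show ev ψ x⁻¹ • (ρ (θ x) * T) = ev (τ ψ) (θ x)⁻¹ • (ρ (θ x) * T)
    congr 1
    show ((ψ x⁻¹ : kˣ) : k) = ((ψ (θ.symm (θ x)⁻¹) : kˣ) : k)
    rw [← map_inv θ, MulEquiv.symm_apply_apply]
  have hTE : ∀ (i j : ZMod q), T ^ i.val * E j = E (i + j) * T ^ i.val := by
    have h1 : ∀ j : ZMod q, T * E j = E (1 + j) * T := by
      intro j
      simp only [E, Finset.mul_sum, Finset.sum_mul, hTe, S]
      rw [Finset.sum_image (fun a _ b _ h => (τ ^ j.val).injective h),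
        Finset.sum_image (fun a _ b _ h => (τ ^ (1 + j).val).injective h)]
      refine Finset.sum_congr rfl fun ψ _ => ?_
      rw [← hadd, ZMod.val_one, pow_one]
    have h2 : ∀ (n : ℕ) (j : ZMod q), T ^ n * E j = E ((n : ZMod q) + j) * T ^ n := by
      intro n
      induction n with
      | zero => intro j; simp
      | succ n ih =>
        intro j
        rw [pow_succ', mul_assoc, ih, ← mul_assoc, h1, mul_assoc, Nat.cast_succ]
        congr 2; ring
    intro i j
    have := h2 i.val j
    rwa [ZMod.natCast_zmod_val] at this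
  let P : ZMod q → Module.End k V := fun i => T ^ i.val
  have hPadd : ∀ i j, P i * P j = P (i + j) := fun i j => by
    rw [← pow_add, show P (i + j) = T ^ (i + j).val from rfl, ZMod.val_add, ← pow_eq_pow_mod _ hTq]
  have hPfix : ∀ (i : ZMod q) (c : T.eigenspace 1), P i (c : V) = c := by
    intro i c
    have h : ∀ n : ℕ, (T ^ n) (c : V) = c := by
      intro n
      induction n with
      | zero => rfl
      | succ n ih =>
        rw [pow_succ', Module.End.mul_apply, ih, Module.End.mem_eigenspace_iff.mp c.2, one_smul]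
    exact h i.val
  let Φ : (ZMod q → T.eigenspace 1) →ₗ[k] V :=
    { toFun := fun c => ∑ j, E j (c j)
      map_add' := fun c d => by simp [Finset.sum_add_distrib]
      map_smul' := fun t c => by simp [Finset.smul_sum] }
  have hEapply : ∀ i j v, E i (E j v) = if i = j then E j v else 0 := fun i j v => by
    rw [← Module.End.mul_apply, hEE]; split_ifs <;> rfl
  have hEfix : ∀ (i j : ZMod q) (c : T.eigenspace 1), P i (E j (c : V)) = E (i + j) (c : V) := by
    intro i j c
    rw [← Module.End.mul_apply, hTE, Module.End.mul_apply, hPfix]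
  have hbij : Function.Bijective Φ := by
    constructor
    · rw [← LinearMap.ker_eq_bot, LinearMap.ker_eq_bot']
      intro c hc
      funext l
      refine Subtype.ext ?_
      have h1 : E l (c l : V) = 0 := by
        have := congrArg (E l) (show ∑ j, E j (c j : V) = 0 from hc)
        rw [map_sum, map_zero, Finset.sum_eq_single l (fun j _ hj => by
          rw [hEapply, if_neg (Ne.symm hj)]) (fun h => absurd (Finset.mem_univ _) h),
          hEapply, if_pos rfl] at this
        exact this
      have h2 : ∀ j, E j (c l : V) = 0 := fun j => by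
        rw [← sub_add_cancel j l, ← hEfix, h1, map_zero]
      have h3 := LinearMap.congr_fun hEsum (c l : V)
      simp only [LinearMap.sum_apply, h2, Finset.sum_const_zero] at h3
      exact h3.symm
    · intro v
      have hmem : ∀ w, (∑ i, P i w) ∈ T.eigenspace 1 := fun w => by
        rw [Module.End.mem_eigenspace_iff, one_smul, map_sum]
        refine Fintype.sum_equiv (Equiv.addRight 1) _ _ fun i => ?_
        show T (P i w) = P (i + 1) w
        rw [← Module.End.mul_apply, ← pow_succ', show P (i + 1) = T ^ (i + 1).val from rfl,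
          ZMod.val_add, ZMod.val_one, ← pow_eq_pow_mod _ hTq]
      refine ⟨fun j => ⟨∑ i, P i (E j v), hmem _⟩, ?_⟩
      show ∑ j, E j (∑ i, P i (E j v)) = v
      conv_rhs => rw [← Module.End.one_apply (R := k) v, ← hEsum, LinearMap.sum_apply]
      refine Finset.sum_congr rfl fun j _ => ?_
      rw [map_sum, Finset.sum_eq_single (0 : ZMod q) ?_ (fun h => absurd (Finset.mem_univ _) h)]
      · show E j ((T ^ (0 : ZMod q).val) (E j v)) = _
        rw [ZMod.val_zero, pow_zero, Module.End.one_apply, hEapply, if_pos rfl]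
      · intro i _ hi
        rw [← Module.End.mul_apply (P i), show P i * E j = E (i + j) * P i from hTE i j,
          Module.End.mul_apply, hEapply, if_neg fun h => hi (by simpa using h.symm)]
  rw [← (LinearEquiv.ofBijective Φ hbij).finrank_eq, Module.finrank_pi_fintype, Finset.sum_const,
    Finset.card_univ, ZMod.card, smul_eq_mul]

theorem finrank_eq_mul' (k₀ k : Type*) [Field k₀] [Field k] [IsAlgClosed k] [Algebra k₀ k]
    {M : Type*} [AddCommGroup M] [Module k₀ M] [FiniteDimensional k₀ M] {R : Type*} [CommGroup R]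
    [Finite R] (hR : (Nat.card R : k₀) ≠ 0) (ρ : R →* Module.End k₀ M) {q : ℕ} [hq : Fact q.Prime]
    (hq0 : (q : k₀) ≠ 0) (θ : MulAut R) (hθq : θ ^ q = 1) (hfp : ∀ x, θ x = x → x = 1)
    (T : Module.End k₀ M) (hTq : T ^ q = 1) (hT : ∀ x, T * ρ x = ρ (θ x) * T)
    (hfix : ∀ m, (∀ x, ρ x m = m) → m = 0) :
    Module.finrank k₀ M = q * Module.finrank k₀ (T.eigenspace 1) := by
  classical
  haveI := Fintype.ofFinite R
  let bc : Module.End k₀ M →* Module.End k (k ⊗[k₀] M) :=
    (Module.End.baseChangeHom k₀ k M).toMonoidHom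
  have hRk : (Nat.card R : k) ≠ 0 := by
    rw [← map_natCast (algebraMap k₀ k)]
    exact (map_ne_zero_iff _ (algebraMap k₀ k).injective).mpr hR
  have hfixk : ∀ z : k ⊗[k₀] M, (∀ x, bc (ρ x) z = z) → z = 0 := by
    intro z hz
    have hS : (∑ x : R, ρ x : Module.End k₀ M) = 0 := LinearMap.ext fun m => by
      refine hfix _ fun y => ?_
      rw [← Module.End.mul_apply, Finset.mul_sum]
      congr 1
      exact Fintype.sum_equiv (Equiv.mulLeft y) _ _ fun x => (map_mul ρ y x).symm
    have h1 : ∑ x : R, bc (ρ x) z = 0 := by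
      rw [← LinearMap.sum_apply]
      show (∑ x : R, LinearMap.baseChangeHom k₀ k M M (ρ x)) z = 0
      rw [← map_sum, hS, map_zero]; rfl
    rw [Finset.sum_congr rfl fun x _ => hz x, Finset.sum_const, Finset.card_univ,
      ← Nat.card_eq_fintype_card, ← Nat.cast_smul_eq_nsmul k] at h1
    exact (smul_eq_zero.mp h1).resolve_left hRk
  have hmain := finrank_eq_mul hRk (bc.comp ρ) θ hθq hfp (bc T)
    (by rw [← map_pow, hTq, map_one])
    (fun x => by rw [MonoidHom.comp_apply, ← map_mul, hT, map_mul]; rfl) hfixk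
  rw [Module.finrank_baseChange] at hmain
  let C : Submodule k₀ M := T.eigenspace 1
  let p : M →ₗ[k₀] C := LinearMap.codRestrict C ((q : k₀)⁻¹ • ∑ i ∈ Finset.range q, T ^ i)
    (fun m => by
      rw [Module.End.mem_eigenspace_iff, one_smul, LinearMap.smul_apply, map_smul, LinearMap.sum_apply,
        map_sum]
      congr 1
      simp only [← Module.End.mul_apply, ← pow_succ']
      have h1 := Finset.sum_range_succ' (fun i => (T ^ i) m) q
      rw [Finset.sum_range_succ, hTq, pow_zero] at h1
      exact (add_right_cancel h1).symm)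
  have hpι : p ∘ₗ C.subtype = LinearMap.id := LinearMap.ext fun c => Subtype.ext (by
    show ((q : k₀)⁻¹ • ∑ i ∈ Finset.range q, T ^ i) (c : M) = c
    have h : ∀ i : ℕ, (T ^ i) (c : M) = c := by
      intro i
      induction i with
      | zero => rfl
      | succ i ih =>
        rw [pow_succ', Module.End.mul_apply, ih, Module.End.mem_eigenspace_iff.mp c.2, one_smul]
    rw [LinearMap.smul_apply, LinearMap.sum_apply, Finset.sum_congr rfl fun i _ => h i,
      Finset.sum_const, Finset.card_range, ← Nat.cast_smul_eq_nsmul k₀,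
      inv_smul_smul₀ hq0])
  let eqv : (bc T).eigenspace 1 ≃ₗ[k] k ⊗[k₀] C :=
    LinearEquiv.ofLinear ((p.baseChange k) ∘ₗ ((bc T).eigenspace 1).subtype)
      ((C.subtype.baseChange k).codRestrict _ fun z => by
        rw [Module.End.mem_eigenspace_iff, one_smul]
        show (T.baseChange k) (C.subtype.baseChange k z) = _
        rw [← LinearMap.comp_apply, ← LinearMap.baseChange_comp]
        congr 2
        exact LinearMap.ext fun c => (Module.End.mem_eigenspace_iff.mp c.2).trans (one_smul _ _))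
      (by
        refine LinearMap.ext fun z => ?_
        show p.baseChange k (C.subtype.baseChange k z) = z
        rw [← LinearMap.comp_apply, ← LinearMap.baseChange_comp, hpι, LinearMap.baseChange_id]
        rfl)
      (by
        refine LinearMap.ext fun z => Subtype.ext ?_
        show C.subtype.baseChange k (p.baseChange k (z : k ⊗[k₀] M)) = z
        rw [← LinearMap.comp_apply, ← LinearMap.baseChange_comp]
        have hz : ∀ i : ℕ, (bc T ^ i) (z : k ⊗[k₀] M) = z := by
          intro i
          induction i with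
          | zero => rfl
          | succ i ih =>
            rw [pow_succ', Module.End.mul_apply, ih, Module.End.mem_eigenspace_iff.mp z.2, one_smul]
        have e1 : C.subtype ∘ₗ p = (q : k₀)⁻¹ • ∑ i ∈ Finset.range q, T ^ i :=
          LinearMap.ext fun _ => rfl
        rw [e1, LinearMap.baseChange_smul,
          show (∑ i ∈ Finset.range q, T ^ i).baseChange k = ∑ i ∈ Finset.range q, bc T ^ i by
            rw [show (∑ i ∈ Finset.range q, T ^ i).baseChange k =
              LinearMap.baseChangeHom k₀ k M M (∑ i ∈ Finset.range q, T ^ i) from rfl, map_sum]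
            exact Finset.sum_congr rfl fun i _ => map_pow bc T i,
          LinearMap.smul_apply, LinearMap.sum_apply, Finset.sum_congr rfl fun i _ => hz i,
          Finset.sum_const, Finset.card_range, ← Nat.cast_smul_eq_nsmul k₀,
          inv_smul_smul₀ hq0])
  rw [eqv.finrank_eq, Module.finrank_baseChange] at hmain
  exact hmain

theorem card_eq_pow' {s : ℕ} [hs : Fact s.Prime] {M : Type*} [AddCommGroup M] [Finite M]
    [Module (ZMod s) M] {R : Type*} [CommGroup R] [Finite R] (hsR : ¬ s ∣ Nat.card R)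
    (ρ : R →* AddMonoid.End M) {q : ℕ} [hq : Fact q.Prime] (hqs : q ≠ s) (θ : MulAut R)
    (hθq : θ ^ q = 1) (hfp : ∀ x, θ x = x → x = 1) (T : AddMonoid.End M) (hTq : T ^ q = 1)
    (hT : ∀ x m, T (ρ x m) = ρ (θ x) (T m)) (hfix : ∀ m, (∀ x, ρ x m = m) → m = 0) :
    Nat.card M = Nat.card {m : M // T m = m} ^ q := by
  haveI : FiniteDimensional (ZMod s) M := Module.Finite.of_finite
  let F : AddMonoid.End M → Module.End (ZMod s) M := fun f =>
    { toFun := fun m => f m
      map_add' := fun x y => map_add f x y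
      map_smul' := fun c x => ZMod.map_smul f c x }
  have hF : ∀ (f : AddMonoid.End M) m, F f m = f m := fun f m => rfl
  let lin : AddMonoid.End M →* Module.End (ZMod s) M :=
    { toFun := F
      map_one' := LinearMap.ext fun m => show (1 : AddMonoid.End M) m = m from rfl
      map_mul' := fun f g => LinearMap.ext fun m => by
        rw [Module.End.mul_apply, hF, hF, hF, AddMonoid.End.coe_mul, Function.comp_apply] }
  have hR : (Nat.card R : ZMod s) ≠ 0 := fun h => hsR ((ZMod.natCast_eq_zero_iff _ _).mp h)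
  have hq0 : (q : ZMod s) ≠ 0 := fun h => hqs ((Nat.prime_dvd_prime_iff_eq hs.out hq.out).mp
    ((ZMod.natCast_eq_zero_iff _ _).mp h)).symm
  have hmain := finrank_eq_mul' (ZMod s) (AlgebraicClosure (ZMod s)) hR (lin.comp ρ) hq0 θ hθq hfp
    (lin T) (by rw [← map_pow, hTq, map_one]) (fun x => LinearMap.ext fun m => hT x m)
    (fun m h => hfix m h)
  have hC : Nat.card {m : M // T m = m} = Nat.card ((lin T).eigenspace 1) := Nat.card_congr
    (Equiv.subtypeEquivRight fun m => by
      rw [Module.End.mem_eigenspace_iff, one_smul]; rfl)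
  rw [hC, Module.natCard_eq_pow_finrank (K := ZMod s) (V := M),
    Module.natCard_eq_pow_finrank (K := ZMod s) (V := (lin T).eigenspace 1),
    Nat.card_zmod, ← pow_mul, hmain, mul_comm]

theorem card_eq_pow {s : ℕ} [hs : Fact s.Prime] {M : Type*} [AddCommGroup M] [Finite M]
    (hM : ∀ m : M, s • m = 0) {R : Type*} [CommGroup R] [Finite R] (hsR : ¬ s ∣ Nat.card R)
    (ρ : R →* AddMonoid.End M) {q : ℕ} [hq : Fact q.Prime] (hqs : q ≠ s) (θ : MulAut R)
    (hθq : θ ^ q = 1) (hfp : ∀ x, θ x = x → x = 1) (T : AddMonoid.End M) (hTq : T ^ q = 1)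
    (hT : ∀ x m, T (ρ x m) = ρ (θ x) (T m)) (hfix : ∀ m, (∀ x, ρ x m = m) → m = 0) :
    Nat.card M = Nat.card {m : M // T m = m} ^ q :=
  @card_eq_pow' s hs M _ _ (AddCommGroup.zmodModule hM) R _ _ hsR ρ q hq hqs θ hθq hfp T hTq hT hfix

end CfsgLib.Core.FrobFree
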