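import Cfsg.Agent.Lib.Core.FPFSymThreeBasic

/-!
# Coprime fixed point free operator groups: kernels on a module

For a finite group `A` acting compatibly on a group `X` and on a module `M` of `X`:

* `Ops.kill`: the elimination from `∑ σ g m = 0`
* `Ops.exists_maximal_fixed`: maximal subgroups with a nonzero fixed point
* `Setup.exists_uniform`: every such kernel in an abelian normal subgroup contains the conjugates of
  all commutators with one nontrivial operator
-/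

set_option autoImplicit false
set_option linter.all false

universe u

namespace CfsgLib.Core.OpSetup

open Subgroup Cfsg

/-- Compatible operators on a group and on one of its modules, with vanishing norm. -/
structure Ops (A X M : Type*) [Group A] [Group X] [AddCommGroup M] [Fintype A] where
  r : X →* AddMonoid.End M
  σ : A →* AddMonoid.End M
  θ : A →* MulAut X
  comp : ∀ g x m, σ g (r x m) = r (θ g x) (σ g m)
  norm : ∀ m, ∑ g, σ g m = 0

/-- A faithful module of a fixed point freely operated group, without fixed points of invariant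
normal subgroups. -/
structure Setup (A X M : Type*) [Group A] [Group X] [AddCommGroup M] [Fintype A] extends
    Ops A X M where
  fixX : ∀ x, (∀ g, θ g x = x) → x = 1
  inj : ∀ x, (∀ m, r x m = m) → x = 1
  noFix : ∀ N : Subgroup X, N.Normal → (∀ g, ∀ n ∈ N, θ g n ∈ N) → N ≠ ⊥ →
    ∀ m, (∀ n ∈ N, r n m = m) → m = 0

namespace Ops

variable {A X M : Type*} [Group A] [Group X] [AddCommGroup M] [Fintype A] (D : Ops A X M)

theorem r_mul (a b : X) (m : M) : D.r (a * b) m = D.r a (D.r b m) := by rw [map_mul]; rfl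

theorem r_one (m : M) : D.r 1 m = m := by rw [map_one]; rfl

theorem σ_mul (g h : A) (m : M) : D.σ (g * h) m = D.σ g (D.σ h m) := by rw [map_mul]; rfl

theorem σ_one (m : M) : D.σ 1 m = m := by rw [map_one]; rfl

theorem θ_mul (g h : A) (x : X) : D.θ (g * h) x = D.θ g (D.θ h x) := by rw [map_mul]; rfl

theorem θ_one (x : X) : D.θ 1 x = x := by rw [map_one]; rfl

theorem θ_pow_of_fixed {g : A} {x : X} (h : D.θ g x = x) (k : ℕ) : D.θ (g ^ k) x = x := by
  induction k with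
  | zero => rw [pow_zero, D.θ_one]
  | succ k ih => rw [pow_succ, D.θ_mul, h, ih]

theorem σ_pow_of_fixed {g : A} {m : M} (h : D.σ g m = m) (k : ℕ) : D.σ (g ^ k) m = m := by
  induction k with
  | zero => rw [pow_zero, D.σ_one]
  | succ k ih => rw [pow_succ, D.σ_mul, h, ih]

theorem rel (w : X) (m : M) : ∑ g, D.r (w * (D.θ g w)⁻¹) (D.σ g m) = 0 := by
  have h := congrArg (D.r w) (D.norm (D.r w⁻¹ m))
  rw [map_sum, map_zero] at h
  rw [← h]
  refine Finset.sum_congr rfl fun g _ => ?_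
  rw [D.comp, map_inv, ← D.r_mul]

/-- The fixed points of a subgroup on the module. -/
def Fixes (K : Subgroup X) (m : M) : Prop := ∀ k ∈ K, D.r k m = m

theorem fixes_closure {S : Set X} {m : M} (h : ∀ s ∈ S, D.r s m = m) : D.Fixes (closure S) m := by
  intro k hk
  induction hk using closure_induction with
  | mem x hx => exact h x hx
  | one => exact D.r_one m
  | mul a b _ _ ha hb => rw [D.r_mul, hb, ha]
  | inv a _ ha =>
    conv_lhs => rw [← ha]
    rw [← D.r_mul, inv_mul_cancel, D.r_one]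

/-- A subgroup of `Z` maximal with a nonzero fixed point in `Q`. -/
def IsKernel (Z : Subgroup X) (Q : M → Prop) (K : Subgroup X) : Prop :=
  K ≤ Z ∧ (∃ m, m ≠ 0 ∧ Q m ∧ D.Fixes K m) ∧
    ∀ b ∈ Z, b ∉ K → ∀ m, Q m → D.Fixes K m → D.r b m = m → m = 0

theorem exists_isKernel [Finite X] (Z : Subgroup X) (Q : M → Prop) {m₀ : M} (hm₀ : m₀ ≠ 0)
    (hQ : Q m₀) : ∃ K, D.IsKernel Z Q K := by
  obtain ⟨K, ⟨hKZ, hKm⟩, hmax⟩ := Set.Finite.exists_maximal
    (Set.toFinite {K : Subgroup X | K ≤ Z ∧ ∃ m, m ≠ 0 ∧ Q m ∧ D.Fixes K m})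
    ⟨⊥, bot_le, m₀, hm₀, hQ, fun k hk => by rw [mem_bot.mp hk]; exact D.r_one _⟩
  refine ⟨K, hKZ, hKm, fun b hb hbK m hQm hm hbm => ?_⟩
  by_contra hm0
  have hle : closure (insert b (K : Set X)) ≤ Z := (closure_le _).mpr (Set.insert_subset hb hKZ)
  refine hbK (hmax ⟨hle, m, hm0, hQm, D.fixes_closure ?_⟩ ?_ (subset_closure (Set.mem_insert b _)))
  · rintro s (rfl | hs)
    · exact hbm
    · exact hm s hs
  · exact fun k hk => subset_closure (Set.mem_insert_of_mem b hk)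

/-- Eliminate the terms of the operators in `S` from the vanishing norm. -/
theorem kill {Z K : Subgroup X} {Q : M → Prop} (hZc : ∀ a ∈ Z, ∀ b ∈ Z, a * b = b * a)
    (hZi : ∀ g, ∀ z ∈ Z, D.θ g z ∈ Z) (hQr : ∀ z ∈ Z, ∀ m, Q m → Q (D.r z m))
    (hQs : ∀ a b, Q a → Q b → Q (a - b)) (hK : D.IsKernel Z Q K) (S : Finset A)
    (hS : ∀ h ∈ S, ∃ w ∈ Z, w * (D.θ h w)⁻¹ ∉ K) :
    ∃ E : A → M → M, (∀ g, ∀ z ∈ Z, ∀ n, D.r z (E g n) = E g (D.r z n)) ∧ (∀ g, E g 0 = 0) ∧
      (∀ g ∈ S, ∀ n, E g n = 0) ∧ (∀ n, ∑ g, E g (D.σ g n) = 0) ∧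
      (∀ g, (∀ z ∈ Z, D.θ g z = z) → E g = E 1) ∧
      (∀ n, Q n → D.Fixes K n → Q (E 1 n) ∧ D.Fixes K (E 1 n)) ∧
      (∀ n, Q n → D.Fixes K n → E 1 n = 0 → n = 0) ∧
      (∀ g n, Q n → D.Fixes K n → (∀ z ∈ Z, z * (D.θ g z)⁻¹ ∈ K) → E g n = E 1 n) := by
  classical
  obtain ⟨hKZ, -, hinj⟩ := hK
  induction S using Finset.induction with
  | empty =>
    exact ⟨fun _ n => n, fun _ _ _ _ => rfl, fun _ => rfl, by simp, D.norm, fun _ _ => rfl,
      fun _ h h' => ⟨h, h'⟩, fun _ _ _ h => h, fun _ _ _ _ _ => rfl⟩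
  | @insert h S hhS ihS =>
    obtain ⟨E, hEz, hE0, hES, hEsum, hEeq, hEfix, hEinj, hEloc⟩ :=
      ihS fun k hk => hS k (Finset.mem_insert_of_mem hk)
    obtain ⟨v, hvZ, hvK⟩ := hS h (Finset.mem_insert_self h S)
    have hcg : ∀ g, v * (D.θ g v)⁻¹ ∈ Z := fun g => mul_mem hvZ (inv_mem (hZi g v hvZ))
    refine ⟨fun g n => D.r (v * (D.θ g v)⁻¹) (E g n) - D.r (v * (D.θ h v)⁻¹) (E g n),
      ?_, ?_, ?_, ?_, ?_, ?_, ?_, ?_⟩
    · intro g z hz n
      show D.r z (D.r _ (E g n) - D.r _ (E g n)) = D.r _ (E g (D.r z n)) - D.r _ (E g (D.r z n))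
      rw [map_sub, ← hEz g z hz, ← D.r_mul, ← D.r_mul, ← D.r_mul, ← D.r_mul,
        hZc z hz _ (hcg g), hZc z hz _ (hcg h)]
    · intro g; simp [hE0]
    · intro g hg n
      rcases Finset.mem_insert.mp hg with rfl | hg
      · exact sub_self _
      · simp [hES g hg]
    · intro n
      rw [Finset.sum_sub_distrib, ← map_sum, hEsum, map_zero, sub_zero]
      have e := congrArg (D.r v) (hEsum (D.r v⁻¹ n))
      rw [map_sum, map_zero] at e
      rw [← e]
      refine Finset.sum_congr rfl fun g _ => ?_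
      rw [D.comp, map_inv, ← hEz g _ (inv_mem (hZi g v hvZ)), ← D.r_mul]
    · intro g hg
      funext n
      show D.r (v * (D.θ g v)⁻¹) (E g n) - _ = D.r (v * (D.θ 1 v)⁻¹) (E 1 n) - _
      rw [hg v hvZ, D.θ_one, hEeq g hg]
    · intro n hQn hn
      obtain ⟨hQE, hfx⟩ := hEfix n hQn hn
      refine ⟨hQs _ _ (hQr _ (hcg 1) _ hQE) (hQr _ (hcg h) _ hQE), fun k hk => ?_⟩
      have hcom : ∀ y ∈ Z, D.r k (D.r y (E 1 n)) = D.r y (E 1 n) := fun y hy => by
        rw [← D.r_mul, hZc k (hKZ hk) y hy, D.r_mul, hfx k hk]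
      rw [map_sub, hcom _ (hcg 1), hcom _ (hcg h)]
    · intro n hQn hn h0
      obtain ⟨hQE, hfx⟩ := hEfix n hQn hn
      refine hEinj n hQn hn (hinj _ (hcg h) hvK _ hQE hfx ?_)
      simp only at h0
      rw [D.θ_one, mul_inv_cancel, D.r_one, sub_eq_zero] at h0
      exact h0.symm
    · intro g n hQn hn hg
      show D.r (v * (D.θ g v)⁻¹) (E g n) - _ = D.r (v * (D.θ 1 v)⁻¹) (E 1 n) - _
      rw [hEloc g n hQn hn hg, (hEfix n hQn hn).2 _ (hg v hvZ), D.θ_one, mul_inv_cancel, D.r_one]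

/-- A commutative group with fixed point free operators and vanishing norm on a module of coprime
order acts trivially. -/
theorem trivial_of_fpf [Finite X] (hXc : ∀ a b : X, a * b = b * a)
    (hco : (Nat.card M).Coprime (Nat.card X))
    (hfpf : ∀ g, g ≠ 1 → ∀ x, D.θ g x = x → x = 1) (z : X) (m : M) : D.r z m = m := by
  classical
  haveI := Fintype.ofFinite X
  by_contra hne
  let Q : M → Prop := fun n => ∑ x : X, D.r x n = 0
  have hperm : ∀ n y, ∑ x : X, D.r x (D.r y n) = ∑ x : X, D.r x n := fun n y =>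
    Fintype.sum_equiv (Equiv.mulRight y) _ _ fun x => (D.r_mul x y n).symm
  have hm₀ : D.r z m - m ≠ 0 := sub_ne_zero.mpr hne
  have hQm₀ : Q (D.r z m - m) := by
    show _ = _
    simp only [map_sub, Finset.sum_sub_distrib]
    rw [hperm, sub_self]
  obtain ⟨K, hK⟩ := D.exists_isKernel ⊤ Q hm₀ hQm₀
  obtain ⟨-, ⟨n, hn0, hQn, hn⟩, -⟩ := id hK
  have hw : ∀ h ∈ Finset.univ.erase (1 : A), ∃ w ∈ (⊤ : Subgroup X), w * (D.θ h w)⁻¹ ∉ K := by
    intro h hh
    by_contra hall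
    push Not at hall
    -- the commutators with `h` are everything
    have hsur : Function.Surjective fun t : X => t * (D.θ h t)⁻¹ := by
      refine Finite.surjective_of_injective fun a b hab => ?_
      have e : D.θ h (b⁻¹ * a) = b⁻¹ * a := by
        rw [map_mul, map_inv]
        have h1 := congrArg (fun z => b⁻¹ * z * D.θ h a) hab
        simpa [mul_assoc] using h1.symm
      exact (inv_mul_eq_one.mp (hfpf h (Finset.ne_of_mem_erase hh) _ e)).symm
    apply hn0
    have hfix : ∀ x : X, D.r x n = n := fun x => by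
      obtain ⟨t, rfl⟩ := hsur x
      exact hn _ (hall t (mem_top t))
    have hQn' : ∑ x : X, D.r x n = 0 := hQn
    rw [Finset.sum_congr rfl fun x _ => hfix x, Finset.sum_const, Finset.card_univ,
      ← Nat.card_eq_fintype_card] at hQn'
    exact AddMonoid.addOrderOf_eq_one_iff.mp (Nat.eq_one_of_dvd_coprimes hco
      (addOrderOf_dvd_of_nsmul_eq_zero card_nsmul_eq_zero') (addOrderOf_dvd_of_nsmul_eq_zero hQn'))
  obtain ⟨E, -, -, hES, hEsum, -, -, hEinj, -⟩ := D.kill (fun a _ b _ => hXc a b)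
    (fun g z _ => mem_top _) (fun y _ p hp => (hperm p y).trans hp)
    (fun a b ha hb => by
      show ∑ x : X, D.r x (a - b) = 0
      simp only [map_sub, Finset.sum_sub_distrib]
      rw [show ∑ x : X, D.r x a = 0 from ha, show ∑ x : X, D.r x b = 0 from hb, sub_zero])
    hK _ hw
  refine hn0 (hEinj n hQn hn ?_)
  have e := hEsum n
  rw [Finset.sum_eq_single (1 : A) (fun g _ hg => hES g (by simp [hg]) _) (by simp), D.σ_one] at e
  exact e

end Ops

namespace Setup

variable {A X M : Type*} [Group A] [Group X] [AddCommGroup M] [Fintype A] (D : Setup A X M)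

include D in
/-- Every kernel in an abelian normal subgroup contains all conjugates of the commutators with a
fixed nontrivial operator, if the proper subgroups of `A` have prime order. The kernel is taken
among the vectors with an invariant property `Q`. -/
theorem exists_uniform' [Finite X] [Group.IsSolvable X]
    (hcop : (Nat.card A).Coprime (Nat.card X))
    (hA : ∀ S : Subgroup A, S ≠ ⊥ → S ≠ ⊤ → (Nat.card S).Prime)
    {Z : Subgroup X} [Z.Normal] (hZi : ∀ g, ∀ z ∈ Z, D.θ g z ∈ Z)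
    (hZc : ∀ a ∈ Z, ∀ b ∈ Z, a * b = b * a) (hZb : Z ≠ ⊥) {Q : M → Prop}
    (hQr : ∀ x m, Q m → Q (D.r x m)) (hQs : ∀ a b, Q a → Q b → Q (a - b))
    {K : Subgroup X} (hK : D.IsKernel Z Q K) :
    ∃ g, g ≠ 1 ∧ ∀ x, ∀ z ∈ Z, x * (z * (D.θ g z)⁻¹) * x⁻¹ ∈ K := by
  classical
  -- each conjugate kernel contains the commutators of a nontrivial operator
  have hker : ∀ L, D.IsKernel Z Q L → ∃ g, g ≠ 1 ∧ ∀ z ∈ Z, z * (D.θ g z)⁻¹ ∈ L := by
    intro L hL
    by_contra hne
    push Not at hne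
    obtain ⟨-, ⟨m, hm0, hQm, hm⟩, -⟩ := id hL
    obtain ⟨E, -, -, hES, hEsum, -, -, hEinj, -⟩ := D.kill hZc hZi (fun z _ m hm => hQr z m hm)
      hQs hL (Finset.univ.erase 1)
      (fun h hh => by
        obtain ⟨z, hz, hzL⟩ := hne h (Finset.ne_of_mem_erase hh)
        exact ⟨z, hz, hzL⟩)
    refine hm0 (hEinj m hQm hm ?_)
    have e := hEsum m
    rw [Finset.sum_eq_single (1 : A) (fun g _ hg => hES g (by simp [hg]) _) (by simp),
      D.σ_one] at e
    exact e
  have hKconj : ∀ x, D.IsKernel Z Q (K.map (MulAut.conj x).toMonoidHom) := by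
    intro x
    obtain ⟨hKZ, ⟨m, hm, hQm, hfx⟩, hinj⟩ := hK
    have hback : ∀ a n, D.r x⁻¹ (D.r a (D.r x n)) = D.r (x⁻¹ * a * x) n := fun a n => by
      rw [D.r_mul, D.r_mul]
    refine ⟨?_, ⟨D.r x m, fun h => hm ?_, hQr x m hQm, ?_⟩, ?_⟩
    · rintro _ ⟨k, hk, rfl⟩
      exact Subgroup.Normal.conj_mem inferInstance k (hKZ hk) x
    · have e := congrArg (D.r x⁻¹) h
      rwa [map_zero, ← D.r_mul, inv_mul_cancel, D.r_one] at e
    · rintro _ ⟨k, hk, rfl⟩
      show D.r (x * k * x⁻¹) (D.r x m) = D.r x m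
      rw [← D.r_mul, inv_mul_cancel_right, D.r_mul, hfx k hk]
    · intro b hb hbK n hQn hn hbn
      obtain ⟨n', rfl⟩ : ∃ n', D.r x n' = n := ⟨D.r x⁻¹ n, by rw [← D.r_mul, mul_inv_cancel, D.r_one]⟩
      have hb' : x⁻¹ * b * x ∈ Z := by
        simpa using Subgroup.Normal.conj_mem inferInstance b hb x⁻¹
      rw [hinj _ hb' (fun h => hbK ⟨_, h, by simp [mul_assoc]⟩) n' (by
        have e := hQr x⁻¹ _ hQn
        rwa [← D.r_mul, inv_mul_cancel, D.r_one] at e) ?_ ?_, map_zero]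
      · intro k hk
        have e := congrArg (D.r x⁻¹) (hn _ (mem_map_of_mem _ hk))
        rw [show (MulAut.conj x).toMonoidHom k = x * k * x⁻¹ from rfl] at e
        rw [← D.r_mul (x * k * x⁻¹), inv_mul_cancel_right, ← D.r_mul, ← D.r_mul, ← mul_assoc,
          inv_mul_cancel, one_mul, D.r_one] at e
        exact e
      · have e := congrArg (D.r x⁻¹) hbn
        rwa [hback, ← D.r_mul, inv_mul_cancel, D.r_one] at e
  let S : X → Subgroup A := fun x =>
    { carrier := {g | ∀ z ∈ Z, x * (z * (D.θ g z)⁻¹) * x⁻¹ ∈ K}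
      one_mem' := fun z hz => by simp
      mul_mem' := fun {g h} hg hh z hz => by
        have e := mul_mem (hh z hz) (hg _ (hZi h z hz))
        rw [D.θ_mul]
        convert e using 1
        group
      inv_mem' := fun {g} hg z hz => by
        have e := inv_mem (hg _ (hZi g⁻¹ z hz))
        rw [← D.θ_mul, mul_inv_cancel, D.θ_one] at e
        convert e using 1
        group }
  have hSne : ∀ x, ∃ g, g ≠ 1 ∧ g ∈ S x := by
    intro x
    obtain ⟨g, hg, h⟩ := hker _ (hKconj x⁻¹)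
    refine ⟨g, hg, fun z hz => ?_⟩
    obtain ⟨k, hk, hke⟩ := h z hz
    have : x⁻¹ * k * x⁻¹⁻¹ = z * (D.θ g z)⁻¹ := hke
    rw [← this]
    simpa [mul_assoc] using hk
  -- the action on maps from `Z` to the cosets of `K`
  let Γ := X ⋊[D.θ] A
  haveI : Finite Γ := Finite.of_equiv _ SemidirectProduct.equivProd.symm
  let ψ : Γ →* MulAut X := SemidirectProduct.lift (MulAut.conj (G := X)) D.θ fun g => by
    ext x y
    simp [← D.θ_mul, D.θ_one]
  have hψl : ∀ x y, ψ (SemidirectProduct.inl x) y = x * y * x⁻¹ := fun x y => by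
    simp only [ψ]
    erw [SemidirectProduct.lift_inl]
    rfl
  have hψr : ∀ g y, ψ (SemidirectProduct.inr g) y = D.θ g y := fun g y => by
    simp only [ψ]
    erw [SemidirectProduct.lift_inr]
  have hψl' : ∀ x y, ψ (SemidirectProduct.inl x)⁻¹ y = x⁻¹ * y * x := fun x y => by
    rw [← map_inv SemidirectProduct.inl, hψl, inv_inv]
  have hψr' : ∀ g y, ψ (SemidirectProduct.inr g)⁻¹ y = D.θ g⁻¹ y := fun g y => by
    rw [← map_inv SemidirectProduct.inr, hψr]
  have hψZ : ∀ γ, ∀ z ∈ Z, ψ γ z ∈ Z := by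
    intro γ z hz
    rw [← SemidirectProduct.inl_left_mul_inr_right γ, map_mul, MulAut.mul_apply, hψr, hψl]
    exact Subgroup.Normal.conj_mem inferInstance _ (hZi _ z hz) _
  let f₀ : Z → X ⧸ K := fun z => QuotientGroup.mk (z : X)
  let act : Γ → (Z → X ⧸ K) → (Z → X ⧸ K) := fun γ f z => f ⟨ψ γ⁻¹ z, hψZ _ _ z.2⟩
  letI : MulAction Γ (Z → X ⧸ K) :=
    { smul := act
      one_smul := fun f => funext fun z => congrArg f (Subtype.ext (by simp))
      mul_smul := fun γ δ f => funext fun z => congrArg f (Subtype.ext (by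
        show ψ (γ * δ)⁻¹ z = ψ δ⁻¹ (ψ γ⁻¹ z)
        rw [mul_inv_rev, map_mul, MulAut.mul_apply])) }
  have hsm : ∀ (γ : Γ) (f : Z → X ⧸ K) (z : Z), (γ • f) z = f ⟨ψ γ⁻¹ z, hψZ _ _ z.2⟩ :=
    fun _ _ _ => rfl
  let N : Subgroup Γ := (SemidirectProduct.inl : X →* Γ).range
  let A' : Subgroup Γ := (SemidirectProduct.inr : A →* Γ).range
  haveI : N.Normal := by
    rw [show N = _ from SemidirectProduct.range_inl_eq_ker_rightHom]
    infer_instance
  have hiff : ∀ (g : A) (x : X), (SemidirectProduct.inr g : Γ) • (SemidirectProduct.inl x : Γ) • f₀ =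
      (SemidirectProduct.inl x : Γ) • f₀ ↔ ∀ z ∈ Z, x⁻¹ * (z * (D.θ g⁻¹ z)⁻¹) * x ∈ K := by
    intro g x
    rw [funext_iff]
    simp only [hsm, f₀, hψr', hψl']
    have key : ∀ z ∈ Z, (x⁻¹ * D.θ g⁻¹ z * x)⁻¹ * (x⁻¹ * z * x) =
        x⁻¹ * (z * (D.θ g⁻¹ z)⁻¹) * x := by
      intro z hz
      rw [← hZc (D.θ g⁻¹ z)⁻¹ (inv_mem (hZi _ z hz)) z hz]
      group
    refine ⟨fun h z hz => key z hz ▸ (QuotientGroup.eq).mp (h ⟨z, hz⟩),
      fun h z => (QuotientGroup.eq).mpr ?_⟩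
    rw [key z z.2]
    exact h z z.2
  let B : Subgroup A :=
    { carrier := {g | ∃ k : Γ, k ∈ N ∧ (SemidirectProduct.inr g : Γ) • f₀ = k • f₀}
      one_mem' := ⟨1, one_mem _, by rw [map_one]⟩
      mul_mem' := by
        rintro g h ⟨k, hk, hgk⟩ ⟨l, hl, hhl⟩
        refine ⟨SemidirectProduct.inr g * l * (SemidirectProduct.inr g)⁻¹ * k,
          mul_mem (‹N.Normal›.conj_mem l hl _) hk, ?_⟩
        rw [map_mul, mul_smul, hhl, mul_smul _ k f₀, ← hgk, ← mul_smul, ← mul_smul,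
          inv_mul_cancel_right]
      inv_mem' := by
        rintro g ⟨k, hk, hgk⟩
        refine ⟨(SemidirectProduct.inr g)⁻¹ * k⁻¹ * (SemidirectProduct.inr g)⁻¹⁻¹,
          ‹N.Normal›.conj_mem _ (inv_mem hk) _, ?_⟩
        rw [map_inv, inv_inv, mul_smul, hgk, mul_smul, inv_smul_smul] }
  have hSB : ∀ x g, g ∈ S x → g ∈ B := by
    intro x g hg
    refine inv_mem_iff.mp ?_
    have h := (hiff g⁻¹ x⁻¹).mpr fun z hz => by rw [inv_inv, inv_inv]; exact hg z hz
    refine ⟨SemidirectProduct.inr g⁻¹ * (SemidirectProduct.inl x⁻¹)⁻¹ *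
      (SemidirectProduct.inr g⁻¹)⁻¹ * SemidirectProduct.inl x⁻¹,
      mul_mem (‹N.Normal›.conj_mem _ (inv_mem ⟨x⁻¹, rfl⟩) _) ⟨x⁻¹, rfl⟩, ?_⟩
    conv_rhs => rw [mul_smul, ← h, ← mul_smul, ← mul_smul]
    congr 1
    group
  obtain ⟨g₀, hg₀, hg₀S⟩ := hSne 1
  have hBne : B ≠ ⊥ := fun h => hg₀ (mem_bot.mp (h.le (hSB 1 g₀ hg₀S)))
  by_cases hBt : B = ⊤
  · exfalso
    obtain ⟨_, ⟨k, rfl⟩, hfk⟩ := exists_fixed_point (A := A') (K := N) (x := f₀)
      (le_normalizer_of_normal A' N)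
      (by
        rw [show Nat.card N = Nat.card X from
          (Nat.card_congr (MonoidHom.ofInjective SemidirectProduct.inl_injective).toEquiv).symm,
          show Nat.card A' = Nat.card A from
          (Nat.card_congr (MonoidHom.ofInjective SemidirectProduct.inr_injective).toEquiv).symm]
        exact hcop)
      (Or.inr (Group.isSolvable_of_surjective (SemidirectProduct.inl : X →* Γ).rangeRestrict_surjective))
      (by rintro _ ⟨g, rfl⟩; exact (hBt.ge (mem_top g) : g ∈ B))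
    have hfixk : ∀ g, ∀ z ∈ Z, z * (D.θ g z)⁻¹ ∈ K.map (MulAut.conj k).toMonoidHom := by
      intro g z hz
      have e := (hiff g⁻¹ k).mp (hfk _ ⟨g⁻¹, rfl⟩) z hz
      rw [inv_inv] at e
      exact ⟨_, e, by simp [mul_assoc]⟩
    obtain ⟨hkZ, ⟨m, hm0, -, hm⟩, -⟩ := hKconj k
    refine hm0 (D.noFix Z inferInstance hZi hZb m fun z hz => hm z ?_)
    generalize hK' : K.map (MulAut.conj k).toMonoidHom = K' at hfixk hkZ ⊢
    obtain ⟨n, hn, hfx⟩ := FPFSymThree.exists_fixed_in_coset D.θ K' (fun g n hn => by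
        have e := mul_mem (inv_mem (hfixk g n (hkZ hn))) hn
        simpa using e)
      (hcop.coprime_dvd_right K'.card_subgroup_dvd_card) inferInstance z (fun g => by
        have e := inv_mem (hfixk g z hz)
        rw [mul_inv_rev, inv_inv, hZc (D.θ g z) (hZi g z hz) z⁻¹ (inv_mem hz)] at e
        exact e)
    rw [eq_inv_of_mul_eq_one_left (D.fixX _ hfx)]
    exact inv_mem hn
  haveI := Fact.mk (hA B hBne hBt)
  refine ⟨g₀, hg₀, fun x => ?_⟩
  obtain ⟨g, hg, hgx⟩ := hSne x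
  have hgen : zpowers (⟨g, hSB x g hgx⟩ : B) = ⊤ :=
    zpowers_eq_top_of_prime_card (p := Nat.card B) rfl fun h => hg (congrArg Subtype.val h)
  obtain ⟨k, hk⟩ := mem_zpowers_iff.mp (hgen.ge (mem_top (⟨g₀, hSB 1 g₀ hg₀S⟩ : B)))
  have e : g ^ k = g₀ := congrArg Subtype.val hk
  exact fun z hz => (e ▸ (S x).zpow_mem hgx k : g₀ ∈ S x) z hz

include D in
/-- The case of all kernels. -/
theorem exists_uniform [Finite X] [Group.IsSolvable X]
    (hcop : (Nat.card A).Coprime (Nat.card X))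
    (hA : ∀ S : Subgroup A, S ≠ ⊥ → S ≠ ⊤ → (Nat.card S).Prime)
    {Z : Subgroup X} [Z.Normal] (hZi : ∀ g, ∀ z ∈ Z, D.θ g z ∈ Z)
    (hZc : ∀ a ∈ Z, ∀ b ∈ Z, a * b = b * a) (hZb : Z ≠ ⊥)
    {K : Subgroup X} (hK : D.IsKernel Z (fun _ => True) K) :
    ∃ g, g ≠ 1 ∧ ∀ x, ∀ z ∈ Z, x * (z * (D.θ g z)⁻¹) * x⁻¹ ∈ K :=
  D.exists_uniform' hcop hA hZi hZc hZb (fun _ _ _ => trivial) (fun _ _ _ _ => trivial) hK

end Setup

end CfsgLib.Core.OpSetup
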