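import Cfsg.Agent.Lib.Core.SymplecticModule

/-!
# Fixed points of an operator of prime order normalising a symplectic group

`exists_fixed_or_card_le`: an operator of prime order `q` normalising the irreducible group of class
two has a nonzero fixed point on every module containing the irreducible one, or
`|U : Z| ≤ (q - 1) ^ 2 * f` where `f` is the number of fixed cosets.
-/

set_option autoImplicit false
set_option linter.all false
set_option maxHeartbeats 800000

namespace CfsgLib.Core.Sympl

open scoped commutatorElement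

variable {k : Type*} [Field k] {U : Type*} [Group U] [Finite U] {W : Type*} [AddCommGroup W]
  [Module k W] [FiniteDimensional k W]

section Eigen

variable {q : ℕ} [hq : Fact q.Prime] {ζ : k} (hζ : IsPrimitiveRoot ζ q) (a : Module.End k W)
  (ha : a ^ q = 1)

/-- The powers of the root. -/
def e (ζ : k) {q : ℕ} (i : ZMod q) : k := ζ ^ i.val

include hζ in
theorem e_add (i j : ZMod q) : e ζ (i + j) = e ζ i * e ζ j := by
  rw [e, e, e, ← pow_add, ZMod.val_add, ← pow_eq_pow_mod _ hζ.pow_eq_one]

theorem e_zero : e ζ (0 : ZMod q) = 1 := by rw [e, ZMod.val_zero, pow_zero]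

include hζ in
theorem sum_e_mul {i : ZMod q} (hi : i ≠ 0) : ∑ j : ZMod q, e ζ (j * i) = 0 := by
  refine (Equiv.sum_comp (Equiv.mulRight₀ i hi) (fun j => e ζ j)).trans ?_
  refine Eq.trans ?_ (hζ.geom_sum_eq_zero hq.out.one_lt)
  refine Finset.sum_nbij' (fun j => j.val) (fun n => (n : ZMod q)) ?_ ?_ ?_ ?_ ?_
  · intro j _; exact Finset.mem_range.mpr (ZMod.val_lt j)
  · intro n _; exact Finset.mem_univ _
  · intro j _; exact ZMod.natCast_zmod_val j
  · intro n hn; exact ZMod.val_natCast_of_lt (Finset.mem_range.mp hn)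
  · intro j _; rfl

include hζ in
/-- The sum of the squares of the multiplicities is at most the dimension of the commutant. -/
theorem card_mult_le (hqk : (q : k) ≠ 0) :
    let C : Submodule k (Module.End k W) :=
      LinearMap.ker (LinearMap.mulLeft k a - LinearMap.mulRight k a)
    a ^ q = 1 → (∃ i : ZMod q, a.eigenspace (e ζ i) = ⊥) →
      Module.finrank k W * Module.finrank k W ≤ (q - 1) * Module.finrank k C := by
  intro C ha hmiss
  classical
  let P : ZMod q → Module.End k W := fun i => (q : k)⁻¹ • ∑ j, e ζ (-(i * j)) • a ^ j.val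
  have hP : ∀ i w, P i w = (q : k)⁻¹ • ∑ j, e ζ (-(i * j)) • (a ^ j.val) w := fun i w => by
    simp only [P, LinearMap.smul_apply, LinearMap.sum_apply]
  have hshift : ∀ j : ZMod q, a * a ^ j.val = a ^ (j + 1).val := fun j => by
    rw [← pow_succ', ZMod.val_add, ZMod.val_one, ← pow_eq_pow_mod _ ha]
  have haP : ∀ i, a * P i = e ζ i • P i := fun i => by
    simp only [P, mul_smul_comm, Finset.mul_sum, hshift, smul_comm (e ζ i) (q : k)⁻¹, Finset.smul_sum]
    refine Fintype.sum_equiv (Equiv.addRight 1) _ _ fun j => ?_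
    show _ = (q : k)⁻¹ • e ζ i • e ζ (-(i * (j + 1))) • a ^ (j + 1).val
    rw [smul_smul (e ζ i), ← e_add hζ]
    congr 3; ring
  have hPa : ∀ i, P i * a = a * P i := fun i => by
    simp only [P, mul_smul_comm, smul_mul_assoc, Finset.mul_sum, Finset.sum_mul, ← pow_succ,
      ← pow_succ']
  have hsum : ∀ w, ∑ i, P i w = w := by
    intro w
    simp only [hP]
    rw [← Finset.smul_sum, Finset.sum_comm]
    have h : ∀ j : ZMod q, ∑ i, e ζ (-(i * j)) • (a ^ j.val) w = if j = 0 then (q : k) • w else 0 := by
      intro j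
      rw [← Finset.sum_smul]
      split_ifs with hj
      · subst hj
        simp [e_zero]
      · rw [Finset.sum_congr rfl fun i _ => congrArg (e ζ) (neg_mul_eq_mul_neg i j),
          sum_e_mul hζ (neg_ne_zero.mpr hj), zero_smul]
    rw [Finset.sum_congr rfl fun j _ => h j, Finset.sum_ite_eq' Finset.univ (0 : ZMod q),
      if_pos (Finset.mem_univ _), inv_smul_smul₀ hqk]
  have hpw : ∀ {i : ZMod q} {w}, a w = e ζ i • w → ∀ j : ZMod q, (a ^ j.val) w = e ζ (j * i) • w := by
    intro i w hw j
    have h : ∀ n : ℕ, (a ^ n) w = e ζ ((n : ZMod q) * i) • w := by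
      intro n
      induction n with
      | zero => simp [e_zero]
      | succ n ih =>
        rw [pow_succ', Module.End.mul_apply, ih, map_smul, hw, smul_smul, ← e_add hζ, Nat.cast_succ,
          add_one_mul]
    conv_rhs => rw [← ZMod.natCast_zmod_val j]
    exact h j.val
  have hdelta : ∀ {l i : ZMod q} {w}, a w = e ζ l • w → P i w = if i = l then w else 0 := by
    intro l i w hw
    rw [hP]
    have h : ∀ j, e ζ (-(i * j)) • (a ^ j.val) w = e ζ (j * (l - i)) • w := fun j => by
      rw [hpw hw, smul_smul, ← e_add hζ]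
      congr 2; ring
    rw [Finset.sum_congr rfl fun j _ => h j, ← Finset.sum_smul]
    split_ifs with hil
    · subst hil
      simp [e_zero, hqk]
    · rw [sum_e_mul hζ (sub_ne_zero.mpr (Ne.symm hil)), zero_smul, smul_zero]
  have hmem : ∀ i w, P i w ∈ a.eigenspace (e ζ i) := fun i w => by
    rw [Module.End.mem_eigenspace_iff, ← Module.End.mul_apply, haP]
    rfl
  let π : (i : ZMod q) → W →ₗ[k] a.eigenspace (e ζ i) := fun i => (P i).codRestrict _ (hmem i)
  -- the dimension is the sum of the multiplicities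
  let dec : W ≃ₗ[k] ((i : ZMod q) → a.eigenspace (e ζ i)) := LinearEquiv.ofBijective (LinearMap.pi π)
    ⟨fun v w h => by
      rw [← hsum v, ← hsum w]
      exact Finset.sum_congr rfl fun i _ => congrArg Subtype.val (congrFun h i),
    fun f => ⟨∑ i, (f i : W), funext fun l => Subtype.ext (by
      show P l (∑ i, (f i : W)) = _
      rw [map_sum, Finset.sum_congr rfl fun i _ => hdelta (Module.End.mem_eigenspace_iff.mp (f i).2)]
      simp)⟩⟩
  have hn : Module.finrank k W = ∑ i : ZMod q, Module.finrank k (a.eigenspace (e ζ i)) := by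
    rw [dec.finrank_eq, Module.finrank_pi_fintype]
  -- the commutant contains the endomorphisms of the eigenspaces
  let Φ : ((i : ZMod q) → Module.End k (a.eigenspace (e ζ i))) →ₗ[k] Module.End k W :=
    { toFun := fun f => ∑ i, (a.eigenspace (e ζ i)).subtype ∘ₗ (f i) ∘ₗ π i
      map_add' := fun f g => by
        simp [LinearMap.add_comp, LinearMap.comp_add, Finset.sum_add_distrib]
      map_smul' := fun t f => by
        simp [LinearMap.smul_comp, LinearMap.comp_smul, Finset.smul_sum] }
  have hΦ : ∀ f w, Φ f w = ∑ i, (f i (π i w) : W) := fun f w => by simp [Φ]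
  have hΦC : ∀ f, Φ f ∈ C := fun f => by
    rw [LinearMap.mem_ker, LinearMap.sub_apply, sub_eq_zero]
    refine LinearMap.ext fun w => ?_
    show a (Φ f w) = Φ f (a w)
    rw [hΦ, hΦ, map_sum]
    refine Finset.sum_congr rfl fun i _ => ?_
    have e1 : π i (a w) = e ζ i • π i w := Subtype.ext (by
      show P i (a w) = e ζ i • P i w
      rw [← Module.End.mul_apply, hPa, haP]; rfl)
    rw [e1, map_smul]
    exact (Module.End.mem_eigenspace_iff.mp (f i (π i w)).2)
  have hΦinj : Function.Injective (Φ.codRestrict C hΦC) := by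
    intro f g h
    funext l
    refine LinearMap.ext fun v => ?_
    have e1 := LinearMap.congr_fun (congrArg Subtype.val h) (v : W)
    change Φ f (v : W) = Φ g (v : W) at e1
    have hv : ∀ i, π i (v : W) = if hi : i = l then hi ▸ v else 0 := by
      intro i
      refine Subtype.ext ?_
      show P i (v : W) = _
      rw [hdelta (Module.End.mem_eigenspace_iff.mp v.2)]
      split_ifs with hi
      · subst hi; rfl
      · rfl
    rw [hΦ, hΦ, Finset.sum_eq_single l, Finset.sum_eq_single l] at e1
    · rw [hv l, dif_pos rfl] at e1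
      exact Subtype.ext e1
    all_goals first
      | (intro h; exact absurd (Finset.mem_univ _) h)
      | (intro i _ hi; rw [hv i, dif_neg hi, map_zero]; rfl)
  have hle := LinearMap.finrank_le_finrank_of_injective hΦinj
  rw [Module.finrank_pi_fintype] at hle
  simp only [Module.finrank_linearMap] at hle
  obtain ⟨i0, hi0⟩ := hmiss
  have h0 : Module.finrank k (a.eigenspace (e ζ i0)) = 0 := by rw [hi0, finrank_bot]
  rw [hn]
  calc (∑ i : ZMod q, Module.finrank k (a.eigenspace (e ζ i))) * _
      = (∑ i ∈ Finset.univ.erase i0, Module.finrank k (a.eigenspace (e ζ i))) ^ 2 := by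
        rw [sq, Finset.sum_erase (f := fun i => Module.finrank k (a.eigenspace (e ζ i))) _ h0]
    _ ≤ (Finset.univ.erase i0).card * ∑ i ∈ Finset.univ.erase i0,
          Module.finrank k (a.eigenspace (e ζ i)) ^ 2 := sq_sum_le_card_mul_sum_sq
    _ ≤ _ := by
        rw [Finset.card_erase_of_mem (Finset.mem_univ _), Finset.card_univ, ZMod.card]
        refine Nat.mul_le_mul_left _ (le_trans ?_ hle)
        simp only [← sq]
        exact Finset.sum_le_sum_of_subset (Finset.erase_subset _ _)

end Eigen

variable [IsAlgClosed k] (D : Data k U W) [Fintype (U ⧸ D.Z)] {q : ℕ} [hq : Fact q.Prime]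

/-- The cosets fixed by an automorphism. -/
noncomputable def numFixed (θ : MulAut U) : ℕ :=
  Nat.card {x : U ⧸ D.Z // ((θ x.out : U) : U ⧸ D.Z) = x}

theorem exists_fixed_or_card_le (θ : MulAut U) (hθq : θ ^ q = 1) (hθ : ∀ z ∈ D.Z, θ z = z)
    (hqk : (q : k) ≠ 0) {V : Type*} [AddCommGroup V] [Module k V] [FiniteDimensional k V]
    (rV : U →* Module.End k V) (T : Module.End k V) (hTq : T ^ q = 1)
    (hT : ∀ u, T * rV u = rV (θ u) * T)
    (ι : W →ₗ[k] V) (hι : ι ≠ 0) (hcomm : ∀ u w, ι (D.r u w) = rV u (ι w)) :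
    (∃ v, v ≠ 0 ∧ T v = v) ∨ Nat.card (U ⧸ D.Z) ≤ (q - 1) ^ 2 * numFixed D θ := by
  classical
  haveI := D.normal
  haveI := D.nontriv
  haveI : NeZero (q : k) := ⟨hqk⟩
  obtain ⟨ζ, hζ⟩ := HasEnoughRootsOfUnity.exists_primitiveRoot k q
  -- the operator inducing the automorphism, of order `q`
  obtain ⟨a₀, ha₀, hrel⟩ := D.exists_intertwiner θ hθ
  have hpowrel : ∀ (n : ℕ) u, a₀ ^ n * D.r u = D.r ((θ ^ n) u) * a₀ ^ n := by
    intro n
    induction n with
    | zero => intro u; simp
    | succ n ih =>
      intro u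
      rw [pow_succ, mul_assoc, hrel, ← mul_assoc, ih, mul_assoc, ← pow_succ, pow_succ θ,
        MulAut.mul_apply]
  obtain ⟨μ, hμ⟩ := D.scalar_of_commute (a₀ ^ q) fun u => by rw [hpowrel, hθq]; rfl
  have hμ0 : μ ≠ 0 := by
    rintro rfl
    obtain ⟨w, hw⟩ := exists_ne (0 : W)
    have h1 : (a₀ ^ q) w = 0 := by rw [hμ]; simp
    refine hw ((Module.End.coe_pow a₀ q ▸ ha₀.1.iterate q : Function.Injective ⇑(a₀ ^ q)) ?_)
    rw [h1, map_zero]
  obtain ⟨ν, hν⟩ := IsAlgClosed.exists_pow_nat_eq μ⁻¹ hq.out.pos
  have hν0 : ν ≠ 0 := fun h => by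
    rw [h, zero_pow hq.out.ne_zero] at hν
    exact inv_ne_zero hμ0 hν.symm
  obtain ⟨a, rfl⟩ : ∃ a, a = ν • a₀ := ⟨_, rfl⟩
  have haq : (ν • a₀) ^ q = 1 := by rw [smul_pow, hν, hμ, smul_smul, inv_mul_cancel₀ hμ0, one_smul]
  have hrel' : ∀ u, (ν • a₀) * D.r u = D.r (θ u) * (ν • a₀) := fun u => by
    rw [smul_mul_assoc, hrel, mul_smul_comm]
  generalize ν • a₀ = a at haq hrel'
  by_cases hmiss : ∃ i : ZMod q, a.eigenspace (e ζ i) = ⊥
  · refine Or.inr ?_
    let C : Submodule k (Module.End k W) :=
      LinearMap.ker (LinearMap.mulLeft k a - LinearMap.mulRight k a)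
    have h1 := card_mult_le hζ a hqk haq hmiss
    rw [D.finrank_sq] at h1
    let tb : U ⧸ D.Z → U ⧸ D.Z := fun x => ((θ x.out : U) : U ⧸ D.Z)
    have htb : ∀ u : U, tb (u : U ⧸ D.Z) = ((θ u : U) : U ⧸ D.Z) := fun u => by
      rw [QuotientGroup.eq, ← map_inv, ← map_mul]
      have h : (u : U ⧸ D.Z).out⁻¹ * u ∈ D.Z := QuotientGroup.eq.mp (QuotientGroup.out_eq' _)
      rwa [hθ _ h]
    have htbpow : ∀ (n : ℕ) (u : U), tb^[n] (u : U ⧸ D.Z) = (((θ ^ n) u : U) : U ⧸ D.Z) := by
      intro n u
      induction n with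
      | zero => rfl
      | succ n ih => rw [Function.iterate_succ_apply', ih, htb, pow_succ', MulAut.mul_apply]
    have htbq : ∀ x, tb^[q] x = x := fun x => by
      induction x using QuotientGroup.induction_on with
      | _ u => rw [htbpow, hθq]; rfl
    let σ : Equiv.Perm (U ⧸ D.Z) :=
      { toFun := tb
        invFun := tb^[q - 1]
        left_inv := fun x => by
          show tb^[q - 1] (tb x) = x
          rw [← Function.iterate_succ_apply, Nat.succ_eq_add_one, Nat.sub_add_cancel hq.out.one_le,
            htbq]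
        right_inv := fun x => by
          show tb (tb^[q - 1] x) = x
          rw [← Function.iterate_succ_apply' tb, Nat.succ_eq_add_one,
            Nat.sub_add_cancel hq.out.one_le, htbq] }
    by_cases hσ : σ = 1
    · -- every coset is fixed
      have hall : numFixed D θ = Nat.card (U ⧸ D.Z) :=
        Nat.card_congr (Equiv.subtypeUnivEquiv fun x => Equiv.congr_fun hσ x)
      rw [hall]
      exact Nat.le_mul_of_pos_left _ (pow_pos (by have := hq.out.two_le; omega) 2)
    have hσq : σ ^ q = 1 := Equiv.ext fun x => by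
      rw [Equiv.Perm.coe_pow]; exact htbq x
    have hord : orderOf σ = q := orderOf_eq_prime hσq hσ
    let G := Subgroup.zpowers σ
    letI : Fintype G := Fintype.ofFinite G
    have hG : Fintype.card G = q := by
      rw [← Nat.card_eq_fintype_card, Nat.card_zpowers, hord]
    letI : Fintype (Quotient (MulAction.orbitRel G (U ⧸ D.Z))) := Fintype.ofFinite _
    letI : ∀ g : G, Fintype (MulAction.fixedBy (U ⧸ D.Z) g) := fun g => Fintype.ofFinite _
    have hburn := MulAction.sum_card_fixedBy_eq_card_orbits_mul_card_group G (U ⧸ D.Z)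
    have hfix : ∀ g : G, g ≠ 1 → Fintype.card (MulAction.fixedBy (U ⧸ D.Z) g) = numFixed D θ := by
      intro g hg
      rw [← Nat.card_eq_fintype_card]
      refine Nat.card_congr (Equiv.subtypeEquivRight fun x => ?_)
      show (g : Equiv.Perm (U ⧸ D.Z)) x = x ↔ σ x = x
      obtain ⟨n, hn⟩ := Subgroup.mem_zpowers_iff.mp g.2
      refine ⟨fun h => ?_, fun h => ?_⟩
      · have hgen : (Subgroup.zpowers (g : Equiv.Perm (U ⧸ D.Z))) = G := by
          refine Subgroup.eq_of_le_of_card_ge (Subgroup.zpowers_le.mpr g.2) ?_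
          rw [Nat.card_zpowers, Nat.card_zpowers, hord, orderOf_eq_prime (p := q) ?_ fun e =>
            hg (Subtype.ext e)]
          rw [← hn, ← zpow_natCast, zpow_comm, zpow_natCast, hσq, one_zpow]
        obtain ⟨m, hm⟩ := Subgroup.mem_zpowers_iff.mp (hgen.ge (Subgroup.mem_zpowers σ))
        rw [← hm]
        exact Equiv.Perm.zpow_apply_eq_self_of_apply_eq_self h m
      · rw [← hn]
        exact Equiv.Perm.zpow_apply_eq_self_of_apply_eq_self h n
    rw [← Finset.add_sum_erase _ _ (Finset.mem_univ (1 : G)),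
      Finset.sum_congr rfl fun g hg => hfix g (Finset.ne_of_mem_erase hg), Finset.sum_const,
      Finset.card_erase_of_mem (Finset.mem_univ _), Finset.card_univ, hG, smul_eq_mul,
      show Fintype.card (MulAction.fixedBy (U ⧸ D.Z) (1 : G)) = Nat.card (U ⧸ D.Z) by
        rw [← Nat.card_eq_fintype_card]
        exact Nat.card_congr (Equiv.subtypeUnivEquiv fun x => one_smul G x)] at hburn
    -- a commuting endomorphism is determined by its coefficients at the orbit representatives
    let bas : ((U ⧸ D.Z) → k) →ₗ[k] Module.End k W :=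
      { toFun := fun c => ∑ x, c x • D.e x
        map_add' := fun c c' => by simp [add_smul, Finset.sum_add_distrib]
        map_smul' := fun t c => by simp [Finset.smul_sum, smul_smul] }
    have hbas : Function.Bijective bas :=
      ⟨LinearMap.ker_eq_bot.mp (LinearMap.ker_eq_bot'.mpr fun c hc => funext (D.indep c hc)),
        fun X => by obtain ⟨c, hc⟩ := D.span X; exact ⟨c, hc.symm⟩⟩
    let B := LinearEquiv.ofBijective bas hbas
    let R : C →ₗ[k] (Quotient (MulAction.orbitRel G (U ⧸ D.Z)) → k) :=
      (LinearMap.funLeft k k Quotient.out) ∘ₗ B.symm.toLinearMap ∘ₗ C.subtype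
    have hR : Function.Injective R := by
      rw [← LinearMap.ker_eq_bot, LinearMap.ker_eq_bot']
      rintro ⟨X, hX⟩ h0
      obtain ⟨c, rfl⟩ : ∃ c, B c = X := ⟨B.symm X, B.apply_symm_apply X⟩
      replace hX : a * B c = B c * a :=
        sub_eq_zero.mp (show a * B c - B c * a = 0 from LinearMap.mem_ker.mp hX)
      have hc0 : ∀ o : Quotient (MulAction.orbitRel G (U ⧸ D.Z)), c o.out = 0 := fun o => by
        have := congrFun h0 o
        simpa [R] using this
      -- the coefficients are permuted up to scalars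
      let lam : U ⧸ D.Z → k := fun x => D.c ((σ x).out⁻¹ * θ x.out)
      have hlam : ∀ x, D.r (θ x.out) = lam x • D.e (σ x) := by
        intro x
        have hz : (σ x).out⁻¹ * θ x.out ∈ D.Z := QuotientGroup.eq.mp (QuotientGroup.out_eq' _)
        calc D.r (θ x.out) = D.r ((σ x).out * ((σ x).out⁻¹ * θ x.out)) := by rw [mul_inv_cancel_left]
          _ = _ := by rw [D.r_mul, D.scal _ hz, mul_smul_comm, mul_one]; rfl
      have heq : ∀ x, c x * lam x = c (σ x) := by
        have h1 : a * B c = (∑ x, (c x * lam x) • D.e (σ x)) * a := by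
          show a * (∑ x, c x • D.e x) = _
          rw [Finset.mul_sum, Finset.sum_mul]
          refine Finset.sum_congr rfl fun x _ => ?_
          rw [mul_smul_comm, show a * D.e x = D.r (θ x.out) * a from hrel' x.out, hlam,
            smul_mul_assoc, smul_mul_assoc, smul_smul]
        have h2 : (∑ x, (c x * lam x) • D.e (σ x)) = B c := by
          have e2 := congrArg (fun X => X * a ^ (q - 1)) (h1.symm.trans hX)
          simp only [mul_assoc] at e2
          rwa [← pow_succ', Nat.sub_add_cancel hq.out.one_le, haq, mul_one, mul_one] at e2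
        intro x
        have h3 : bas (fun y => c (σ.symm y) * lam (σ.symm y) - c y) = 0 := by
          show ∑ y, (c (σ.symm y) * lam (σ.symm y) - c y) • D.e y = 0
          simp only [sub_smul, Finset.sum_sub_distrib]
          rw [sub_eq_zero]
          refine Eq.trans ?_ h2
          refine (Fintype.sum_equiv σ _ _ fun y => ?_).symm
          rw [Equiv.symm_apply_apply]
        have := congrFun (hbas.1 (h3.trans (map_zero bas).symm)) (σ x)
        simpa [sub_eq_zero] using this
      have hzero : ∀ (n : ℕ) x, c x = 0 → c ((σ ^ n) x) = 0 := by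
        intro n x hx
        induction n with
        | zero => simpa using hx
        | succ n ih => rw [pow_succ', Equiv.Perm.mul_apply, ← heq, ih, zero_mul]
      have hc : c = 0 := funext fun x => by
        let o : Quotient (MulAction.orbitRel G (U ⧸ D.Z)) := Quotient.mk'' x
        obtain ⟨g, hg⟩ : ∃ g : G, g • o.out = x :=
          MulAction.orbitRel_apply.mp (Quotient.eq''.mp (Quotient.out_eq' o).symm)
        obtain ⟨n, hn⟩ := (mem_powers_iff_mem_zpowers).mpr g.2
        rw [← hg]
        show c ((g : Equiv.Perm (U ⧸ D.Z)) o.out) = 0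
        rw [← (show σ ^ n = (g : Equiv.Perm (U ⧸ D.Z)) from hn)]
        exact hzero n _ (hc0 o)
      exact Subtype.ext (by show B c = 0; rw [hc, map_zero])
    have hle := LinearMap.finrank_le_finrank_of_injective hR
    rw [Module.finrank_fintype_fun_eq_card] at hle
    have h2 : Nat.card (U ⧸ D.Z) * q ≤
        (q - 1) * (Nat.card (U ⧸ D.Z) + (q - 1) * numFixed D θ) := by
      rw [hburn, ← mul_assoc]
      exact Nat.mul_le_mul_right _ (h1.trans (Nat.mul_le_mul_left _ hle))
    obtain ⟨r, rfl⟩ : ∃ r, q = r + 1 := ⟨q - 1, (Nat.sub_add_cancel hq.out.one_le).symm⟩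
    simp only [Nat.add_sub_cancel] at h2 ⊢
    nlinarith [h2]
  · push Not at hmiss
    refine Or.inl ?_
    -- intertwining maps into the module
    let H : Submodule k (W →ₗ[k] V) :=
      { carrier := {h | ∀ u w, h (D.r u w) = rV u (h w)}
        add_mem' := fun {g h} hg hh u w => by simp [hg u w, hh u w]
        zero_mem' := fun u w => by simp
        smul_mem' := fun t h hh u w => by simp [hh u w] }
    have hainv : a * a ^ (q - 1) = 1 := by
      rw [← pow_succ', Nat.sub_add_cancel hq.out.one_le, haq]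
    have hainv' : a ^ (q - 1) * a = 1 := by
      rw [← pow_succ, Nat.sub_add_cancel hq.out.one_le, haq]
    have hconj : ∀ u, a ^ (q - 1) * D.r u = D.r (θ.symm u) * a ^ (q - 1) := by
      intro u
      have h := hrel' (θ.symm u)
      rw [MulEquiv.apply_symm_apply] at h
      calc a ^ (q - 1) * D.r u = a ^ (q - 1) * (D.r u * (a * a ^ (q - 1))) := by rw [hainv, mul_one]
        _ = a ^ (q - 1) * (a * D.r (θ.symm u)) * a ^ (q - 1) := by
          rw [h]; simp only [mul_assoc]
        _ = _ := by rw [← mul_assoc (a ^ (q - 1)) a, hainv', one_mul]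
    let Ψ : Module.End k H :=
      { toFun := fun h => ⟨T ∘ₗ (h : W →ₗ[k] V) ∘ₗ (a ^ (q - 1)), fun u w => by
          show T ((h : W →ₗ[k] V) ((a ^ (q - 1) * D.r u) w)) = rV u (T _)
          rw [hconj, Module.End.mul_apply, h.2, ← Module.End.mul_apply, hT,
            MulEquiv.apply_symm_apply]
          rfl⟩
        map_add' := fun g h => Subtype.ext (by simp [LinearMap.comp_add, LinearMap.add_comp])
        map_smul' := fun t h => Subtype.ext (by simp [LinearMap.comp_smul, LinearMap.smul_comp]) }
    haveI : Nontrivial H := ⟨⟨ι, fun u w => hcomm u w⟩, 0, fun e => hι (congrArg Subtype.val e)⟩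
    haveI : FiniteDimensional k H := inferInstance
    obtain ⟨lam, hlam⟩ := Module.End.exists_eigenvalue Ψ
    obtain ⟨h, hh, hh0⟩ := hlam.exists_hasEigenvector
    rw [Module.End.mem_eigenspace_iff] at hh
    have hiter : ∀ n : ℕ, (T ^ n) ∘ₗ (h : W →ₗ[k] V) ∘ₗ ((a ^ (q - 1)) ^ n) =
        lam ^ n • (h : W →ₗ[k] V) := by
      intro n
      induction n with
      | zero => rw [pow_zero, pow_zero, pow_zero, one_smul]; rfl
      | succ n ih =>
        refine LinearMap.ext fun w => ?_
        have e1 := LinearMap.congr_fun ih ((a ^ (q - 1)) w)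
        have e2 := LinearMap.congr_fun (congrArg Subtype.val hh) w
        change T ((h : W →ₗ[k] V) ((a ^ (q - 1)) w)) = lam • (h : W →ₗ[k] V) w at e2
        change (T ^ n) ((h : W →ₗ[k] V) (((a ^ (q - 1)) ^ n) ((a ^ (q - 1)) w))) =
          lam ^ n • (h : W →ₗ[k] V) ((a ^ (q - 1)) w) at e1
        rw [← Module.End.mul_apply, ← pow_succ] at e1
        show (T ^ (n + 1)) ((h : W →ₗ[k] V) (((a ^ (q - 1)) ^ (n + 1)) w)) = _
        rw [pow_succ' T, Module.End.mul_apply, e1, map_smul, e2, LinearMap.smul_apply, smul_smul,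
          pow_succ]
    have hlq : lam ^ q = 1 := by
      have e1 := hiter q
      rw [hTq, ← pow_mul, mul_comm, pow_mul, haq, one_pow] at e1
      by_contra hne
      refine hh0 (Subtype.ext ?_)
      have e2 : (lam ^ q - 1) • (h : W →ₗ[k] V) = 0 := by
        rw [sub_smul, ← e1, one_smul]; exact sub_self _
      exact (smul_eq_zero.mp e2).resolve_left (sub_ne_zero.mpr hne)
    obtain ⟨i, -, hi⟩ := hζ.eq_pow_of_pow_eq_one hlq
    have hei : e ζ (i : ZMod q) = lam := by
      rw [e, ZMod.val_natCast, ← pow_eq_pow_mod _ hζ.pow_eq_one, hi]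
    obtain ⟨w, hw, hw0⟩ := Submodule.exists_mem_ne_zero_of_ne_bot (hmiss (-(i : ZMod q)))
    rw [Module.End.mem_eigenspace_iff] at hw
    refine ⟨(h : W →ₗ[k] V) w, ?_, ?_⟩
    · intro h0
      have hker : LinearMap.ker (h : W →ₗ[k] V) = ⊥ :=
        (D.irr _ fun u x hx => by
          rw [LinearMap.mem_ker] at hx ⊢
          rw [h.2 u x, hx, map_zero]).resolve_right
          fun ht => hh0 (Subtype.ext (LinearMap.ker_eq_top.mp ht))
      exact hw0 (LinearMap.ker_eq_bot'.mp hker w h0)
    · have e2 := LinearMap.congr_fun (congrArg Subtype.val hh) (a w)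
      change T ((h : W →ₗ[k] V) ((a ^ (q - 1)) (a w))) = lam • (h : W →ₗ[k] V) (a w) at e2
      rw [← Module.End.mul_apply (a ^ (q - 1)), hainv', Module.End.one_apply] at e2
      rw [e2, hw, map_smul, smul_smul, ← hei, ← e_add hζ, add_neg_cancel, e_zero, one_smul]

end CfsgLib.Core.Sympl
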