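import Cfsg.Agent.Lib.Core.CriticalSubgroup
import Cfsg.Agent.Lib.Core.SymplecticFixed
import Cfsg.Agent.Lib.Core.FrobeniusFree
import Cfsg.Agent.Lib.Core.OpSetup

/-!
# The critical case of the Hall–Higman theorem

An operator `θ` of prime order `q` without fixed points on a module `M`:

* `fixed_of_fpf_module`: `θ` centralises a nilpotent group of coprime order acting faithfully,
  unless the order of the group is even and `q` is a Fermat prime
* `centralizes_of_fpf_module`: an abelian group of coprime order on which `θ` is fixed point free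
  centralises such a group, without exception
-/

set_option autoImplicit false
set_option linter.all false
set_option maxHeartbeats 800000

namespace CfsgLib.Core.HH

open Subgroup
open scoped commutatorElement TensorProduct

section Abelian

variable {Y : Type*} [Group Y] [Finite Y] {M : Type*} [AddCommGroup M] [Finite M]
  (r : Y →* AddMonoid.End M) {q : ℕ} [hq : Fact q.Prime] (θ : MulAut Y) (σ : AddMonoid.End M)

theorem fixed_of_pow {X : Type*} [Group X] {φ : MulAut X} (h : φ ^ q = 1) {j : ZMod q} (hj : j ≠ 0)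
    {x : X} (hx : (φ ^ j.val) x = x) : φ x = x := by
  have h4 : ∀ m : ℕ, ((φ ^ j.val) ^ m) x = x := by
    intro m
    induction m with
    | zero => rfl
    | succ m ih => rw [pow_succ', MulAut.mul_apply, ih, hx]
  have h5 := h4 (j⁻¹).val
  rwa [← pow_mul, pow_eq_pow_mod _ h, ← ZMod.val_mul, mul_inv_cancel₀ hj, ZMod.val_one,
    pow_one] at h5

theorem fixed_of_abelian (hθq : θ ^ q = 1) (hσq : σ ^ q = 1)
    (hcomp : ∀ y m, σ (r y m) = r (θ y) (σ m)) (hfpf : ∀ m, σ m = m → m = 0)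
    (A : Subgroup Y) (hAθ : ∀ a ∈ A, θ a ∈ A) (hAc : ∀ a ∈ A, ∀ b ∈ A, a * b = b * a)
    (hcoA : (Nat.card A).Coprime q) (hcoM : (Nat.card M).Coprime (Nat.card A))
    (hfaith : ∀ a ∈ A, (∀ m, r a m = m) → a = 1) : ∀ a ∈ A, θ a = a := by
  classical
  intro a ha
  -- the displacements
  let E : Subgroup Y :=
    { carrier := {e | ∃ t ∈ A, t⁻¹ * θ t = e}
      one_mem' := ⟨1, one_mem A, by simp⟩
      mul_mem' := by
        rintro _ _ ⟨t, ht, rfl⟩ ⟨u, hu, rfl⟩
        refine ⟨u * t, mul_mem hu ht, ?_⟩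
        calc (u * t)⁻¹ * θ (u * t) = t⁻¹ * (u⁻¹ * θ u * θ t) := by rw [map_mul]; group
          _ = t⁻¹ * (θ t * (u⁻¹ * θ u)) := by
            rw [hAc (u⁻¹ * θ u) (mul_mem (inv_mem hu) (hAθ u hu)) (θ t) (hAθ t ht)]
          _ = _ := by rw [mul_assoc]
      inv_mem' := by
        rintro _ ⟨t, ht, rfl⟩
        refine ⟨t⁻¹, inv_mem ht, ?_⟩
        rw [map_inv, inv_inv, mul_inv_rev, inv_inv,
          hAc t ht (θ t)⁻¹ (inv_mem (hAθ t ht))] }
  have hEA : E ≤ A := by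
    rintro _ ⟨t, ht, rfl⟩
    exact mul_mem (inv_mem ht) (hAθ t ht)
  have hEθ : ∀ e ∈ E, θ e ∈ E := by
    rintro _ ⟨t, ht, rfl⟩
    exact ⟨θ t, hAθ t ht, by rw [map_mul, map_inv]⟩
  have hAq : res A θ hAθ ^ q = 1 := by
    refine MulEquiv.ext fun x => Subtype.ext ?_
    have h : ∀ n : ℕ, (((res A θ hAθ) ^ n) x : Y) = (θ ^ n) x := by
      intro n
      induction n with
      | zero => rfl
      | succ n ih => rw [pow_succ', MulAut.mul_apply, coe_res, ih, pow_succ', MulAut.mul_apply]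
    rw [h, hθq]; rfl
  have hEfix : ∀ e ∈ E, θ e = e → e = 1 := by
    rintro _ ⟨t, ht, rfl⟩ he
    have h1 := congrArg Subtype.val (FPFSymThree.eq_of_fixed_diff hcoA (res A θ hAθ)
      (x := ⟨t, ht⟩) (z := ⟨t⁻¹ * θ t, mul_mem (inv_mem ht) (hAθ t ht)⟩)
      (Subtype.ext (mul_inv_cancel_left t (θ t)).symm) (Subtype.ext he) hAq)
    change θ t = t at h1
    rw [h1, inv_mul_cancel]
  have hθE : res E θ hEθ ^ q = 1 := by
    refine MulEquiv.ext fun x => Subtype.ext ?_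
    have h : ∀ n : ℕ, (((res E θ hEθ) ^ n) x : Y) = (θ ^ n) x := by
      intro n
      induction n with
      | zero => rfl
      | succ n ih => rw [pow_succ', MulAut.mul_apply, coe_res, ih, pow_succ', MulAut.mul_apply]
    rw [h, hθq]; rfl
  let O : OpSetup.Ops (Multiplicative (ZMod q)) E M :=
    { r := r.comp E.subtype
      σ := { toFun := fun j => σ ^ (Multiplicative.toAdd j).val
             map_one' := by rw [toAdd_one, ZMod.val_zero, pow_zero]
             map_mul' := fun i j => by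
               rw [toAdd_mul, ← pow_add, ZMod.val_add, ← pow_eq_pow_mod _ hσq] }
      θ := { toFun := fun j => res E θ hEθ ^ (Multiplicative.toAdd j).val
             map_one' := by rw [toAdd_one, ZMod.val_zero, pow_zero]
             map_mul' := fun i j => by
               rw [toAdd_mul, ← pow_add, ZMod.val_add, ← pow_eq_pow_mod _ hθE] }
      comp := fun j e m => by
        show (σ ^ (Multiplicative.toAdd j).val) (r (e : Y) m) =
          r ((res E θ hEθ ^ (Multiplicative.toAdd j).val) e : Y) ((σ ^ (Multiplicative.toAdd j).val) m)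
        generalize (Multiplicative.toAdd j).val = n
        induction n with
        | zero => rfl
        | succ n ih =>
          rw [pow_succ', pow_succ']
          show σ ((σ ^ n) (r (e : Y) m)) = _
          rw [ih, hcomp]
          rfl
      norm := fun m => hfpf _ (by
        rw [map_sum]
        refine Fintype.sum_equiv (Equiv.mulLeft (Multiplicative.ofAdd (1 : ZMod q))) _ _ fun j => ?_
        show σ ((σ ^ (Multiplicative.toAdd j).val) m) =
          (σ ^ ((1 : ZMod q) + Multiplicative.toAdd j).val) m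
        rw [ZMod.val_add, ZMod.val_one, ← pow_eq_pow_mod _ hσq, add_comm, pow_succ']
        rfl) }
  have hE1 : ∀ e ∈ E, e = 1 := fun e he => hfaith e (hEA he) fun m =>
    O.trivial_of_fpf (fun x y => Subtype.ext (hAc _ (hEA x.2) _ (hEA y.2)))
      (hcoM.coprime_dvd_right (card_dvd_of_le hEA))
      (fun j hj x hx => Subtype.ext (hEfix _ x.2 (congrArg Subtype.val
        (fixed_of_pow hθE (j := Multiplicative.toAdd j) (fun h => hj h) hx)))) ⟨e, he⟩ m
  have h2 := hE1 _ ⟨a, ha, rfl⟩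
  exact (inv_mul_eq_one.mp h2).symm

end Abelian

section Core

variable {ℓ : ℕ} [hℓ : Fact ℓ.Prime] {M : Type*} [AddCommGroup M] [Module (ZMod ℓ) M] [Finite M]
  [Nontrivial M] {U : Type*} [Group U] [Finite U]

/-- Extension of the scalars of an additive endomorphism. -/
noncomputable def ext' (ℓ : ℕ) [Fact ℓ.Prime] {M : Type*} [AddCommGroup M] [Module (ZMod ℓ) M]
    (f : AddMonoid.End M) : Module.End (AlgebraicClosure (ZMod ℓ)) (AlgebraicClosure (ZMod ℓ) ⊗[ZMod ℓ] M) :=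
  LinearMap.baseChange _ (AddMonoidHom.toZModLinearMap ℓ (f : M →+ M))

theorem ext'_one : ext' ℓ (1 : AddMonoid.End M) = 1 := by
  refine TensorProduct.AlgebraTensorModule.ext fun a m => ?_
  rfl

theorem ext'_mul (f g : AddMonoid.End M) : ext' ℓ (f * g) = ext' ℓ f * ext' ℓ g := by
  refine TensorProduct.AlgebraTensorModule.ext fun a m => ?_
  rfl

theorem ext'_eq_zero {f : AddMonoid.End M} (hf : ∀ m, f m = m → m = 0)
    {z : AlgebraicClosure (ZMod ℓ) ⊗[ZMod ℓ] M} (hz : ext' ℓ f z = z) : z = 0 := by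
  let g : M →ₗ[ZMod ℓ] M := AddMonoidHom.toZModLinearMap ℓ (f : M →+ M) - LinearMap.id
  have hg : ∀ m, g m = f m - m := fun m => rfl
  have hinj : Function.Injective g := by
    intro a b h
    refine sub_eq_zero.mp (hf _ ?_)
    have h' : g (a - b) = 0 := by rw [map_sub, h, sub_self]
    rw [hg, sub_eq_zero] at h'
    exact h'
  let e := LinearEquiv.ofBijective g (Finite.injective_iff_bijective.mp hinj)
  have h1 : g.baseChange (AlgebraicClosure (ZMod ℓ)) z = 0 := by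
    rw [LinearMap.baseChange_sub, LinearMap.baseChange_id, LinearMap.sub_apply, LinearMap.id_apply,
      sub_eq_zero]
    exact hz
  have h2 := congrArg (e.symm.toLinearMap.baseChange (AlgebraicClosure (ZMod ℓ))) h1
  rw [map_zero, ← LinearMap.comp_apply, ← LinearMap.baseChange_comp,
    show e.symm.toLinearMap ∘ₗ g = LinearMap.id from LinearMap.ext fun m => e.symm_apply_apply m,
    LinearMap.baseChange_id] at h2
  exact h2

theorem index_le_aux (r : U →* AddMonoid.End M) {q : ℕ} [hq : Fact q.Prime] (hqℓ : q ≠ ℓ)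
    (θ : MulAut U) (hθq : θ ^ q = 1) (σ : AddMonoid.End M) (hσq : σ ^ q = 1)
    (hcomp : ∀ u m, σ (r u m) = r (θ u) (σ m)) (hfpf : ∀ m, σ m = m → m = 0)
    (Z : Subgroup U) [Z.Normal] (hθ : ∀ z ∈ Z, θ z = z) (hcomm : ∀ u v : U, ⁅u, v⁆ ∈ Z)
    (hcen : ∀ z ∈ Z, ∀ u, u * z = z * u)
    (hnd : ∀ u, u ∉ Z → ∃ v, ∀ m, r ⁅u, v⁆ m = m → m = 0)
    (hcard : ¬ ℓ ∣ Nat.card (U ⧸ Z))
    {W : Type*} [AddCommGroup W] [Module (AlgebraicClosure (ZMod ℓ)) W]
    [FiniteDimensional (AlgebraicClosure (ZMod ℓ)) W] [Nontrivial W]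
    (rW : U →* Module.End (AlgebraicClosure (ZMod ℓ)) W)
    (hirr : ∀ W' : Submodule (AlgebraicClosure (ZMod ℓ)) W,
      (∀ u, ∀ w ∈ W', rW u w ∈ W') → W' = ⊥ ∨ W' = ⊤)
    (ι : W →ₗ[AlgebraicClosure (ZMod ℓ)] AlgebraicClosure (ZMod ℓ) ⊗[ZMod ℓ] M)
    (hι : Function.Injective ι) (hιr : ∀ u w, ι (rW u w) = ext' ℓ (r u) (ι w)) :
    ∃ n : ℕ, n * n = Nat.card (U ⧸ Z) ∧ Nat.card (U ⧸ Z) ≤
      (q - 1) ^ 2 * Nat.card {x : U ⧸ Z // ((θ x.out : U) : U ⧸ Z) = x} := by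
  classical
  let k := AlgebraicClosure (ZMod ℓ)
  let rV : U →* Module.End k (k ⊗[ZMod ℓ] M) :=
    { toFun := fun u => ext' ℓ (r u)
      map_one' := by rw [map_one, ext'_one]
      map_mul' := fun u v => by rw [map_mul, ext'_mul] }
  haveI : FiniteDimensional (ZMod ℓ) M := Module.Finite.of_finite
  have hscal : ∀ z, ∃ a : k, z ∈ Z → rW z = a • 1 := by
    intro z
    by_cases hz : z ∈ Z
    · obtain ⟨a, ha⟩ := Module.End.exists_eigenvalue (rW z)
      refine ⟨a, fun _ => LinearMap.ext fun w => ?_⟩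
      rcases hirr ((rW z).eigenspace a) (fun u w hw => by
        rw [Module.End.mem_eigenspace_iff] at hw ⊢
        rw [← Module.End.mul_apply, ← map_mul, ← hcen z hz u, map_mul, Module.End.mul_apply, hw,
          map_smul]) with h0 | h1
      · exact absurd h0 ha
      · exact Module.End.mem_eigenspace_iff.mp (h1.ge Submodule.mem_top)
    · exact ⟨0, fun h => absurd h hz⟩
  choose c hc using hscal
  let D : Sympl.Data k U W :=
    { r := rW
      Z := Z
      normal := inferInstance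
      c := c
      scal := fun z hz => hc z hz
      comm := hcomm
      nd := fun u hu => by
        obtain ⟨v, hv⟩ := hnd u hu
        refine ⟨v, fun h => ?_⟩
        obtain ⟨w, hw⟩ := exists_ne (0 : W)
        have e := LinearMap.congr_fun (hc _ (hcomm u v)) w
        rw [h, one_smul, Module.End.one_apply] at e
        exact hw (hι (by
          rw [map_zero]
          exact ext'_eq_zero hv ((hιr _ w).symm.trans (congrArg ι e))))
      irr := hirr
      nontriv := inferInstance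
      card_ne := fun h => hcard ((CharP.cast_eq_zero_iff k ℓ _).mp h) }
  letI : Fintype (U ⧸ D.Z) := Fintype.ofFinite _
  have hqk : (q : k) ≠ 0 := fun h => hqℓ
    ((Nat.prime_dvd_prime_iff_eq hℓ.out hq.out).mp ((CharP.cast_eq_zero_iff k ℓ _).mp h)).symm
  have hTq : ext' ℓ σ ^ q = (1 : Module.End k (k ⊗[ZMod ℓ] M)) := by
    have h : ∀ n : ℕ, ext' ℓ (σ ^ n) = ext' ℓ σ ^ n := by
      intro n
      induction n with
      | zero => rw [pow_zero, pow_zero, ext'_one]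
      | succ n ih => rw [pow_succ, pow_succ, ext'_mul, ih]
    rw [← h, hσq, ext'_one]
  refine ⟨Module.finrank k W, D.finrank_sq, ?_⟩
  refine (Sympl.exists_fixed_or_card_le D θ hθq hθ hqk rV (ext' ℓ σ) hTq (fun u => ?_) ι
    (fun e => ?_) hιr).resolve_left ?_
  · show ext' ℓ σ * ext' ℓ (r u) = ext' ℓ (r (θ u)) * ext' ℓ σ
    rw [← ext'_mul, ← ext'_mul]
    congr 1
    exact AddMonoidHom.ext fun m => hcomp u m
  · obtain ⟨w, hw⟩ := exists_ne (0 : W)
    exact hw (hι (by rw [map_zero]; exact LinearMap.congr_fun e w))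
  · rintro ⟨v, hv0, hv⟩
    exact hv0 (ext'_eq_zero hfpf hv)

set_option backward.isDefEq.respectTransparency false in
theorem index_le (r : U →* AddMonoid.End M) {q : ℕ} [hq : Fact q.Prime] (hqℓ : q ≠ ℓ)
    (θ : MulAut U) (hθq : θ ^ q = 1) (σ : AddMonoid.End M) (hσq : σ ^ q = 1)
    (hcomp : ∀ u m, σ (r u m) = r (θ u) (σ m)) (hfpf : ∀ m, σ m = m → m = 0)
    (Z : Subgroup U) [Z.Normal] (hθ : ∀ z ∈ Z, θ z = z) (hcomm : ∀ u v : U, ⁅u, v⁆ ∈ Z)
    (hcen : ∀ z ∈ Z, ∀ u, u * z = z * u)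
    (hnd : ∀ u, u ∉ Z → ∃ v, ∀ m, r ⁅u, v⁆ m = m → m = 0)
    (hcard : ¬ ℓ ∣ Nat.card (U ⧸ Z)) :
    ∃ n : ℕ, n * n = Nat.card (U ⧸ Z) ∧ Nat.card (U ⧸ Z) ≤
      (q - 1) ^ 2 * Nat.card {x : U ⧸ Z // ((θ x.out : U) : U ⧸ Z) = x} := by
  classical
  let k := AlgebraicClosure (ZMod ℓ)
  let rV : U →* Module.End k (k ⊗[ZMod ℓ] M) :=
    { toFun := fun u => ext' ℓ (r u)
      map_one' := by rw [map_one, ext'_one]
      map_mul' := fun u v => by rw [map_mul, ext'_mul] }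
  haveI : FiniteDimensional (ZMod ℓ) M := Module.Finite.of_finite
  haveI : Nontrivial (k ⊗[ZMod ℓ] M) :=
    Module.nontrivial_of_finrank_pos (R := k) (by
      rw [Module.finrank_baseChange]; exact Module.finrank_pos)
  obtain ⟨W, ⟨hWb, hWinv⟩, hWmin⟩ := (wellFounded_lt (α := Submodule k (k ⊗[ZMod ℓ] M))).has_min
    {W | W ≠ ⊥ ∧ ∀ u, ∀ w ∈ W, rV u w ∈ W} ⟨⊤, top_ne_bot, fun _ _ _ => Submodule.mem_top⟩
  haveI : Nontrivial W := Submodule.nontrivial_iff_ne_bot.mpr hWb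
  let rW : U →* Module.End k W :=
    { toFun := fun u => (rV u).restrict (hWinv u)
      map_one' := LinearMap.ext fun w => Subtype.ext (by simp)
      map_mul' := fun u v => LinearMap.ext fun w => Subtype.ext (by simp) }
  have hrW : ∀ u (w : W), ((rW u w : W) : k ⊗[ZMod ℓ] M) = rV u w := fun u w => rfl
  have hirr : ∀ W' : Submodule k W, (∀ u, ∀ w ∈ W', rW u w ∈ W') → W' = ⊥ ∨ W' = ⊤ := by
    intro W' h
    by_cases hb : W' = ⊥
    · exact Or.inl hb
    right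
    by_contra ht
    refine hWmin (W'.map W.subtype) ⟨fun e => hb ?_, ?_⟩ ?_
    · rw [← Submodule.comap_map_eq_of_injective W.injective_subtype W', e, Submodule.comap_bot,
        Submodule.ker_subtype]
    · rintro u _ ⟨w, hw, rfl⟩
      exact ⟨rW u w, h u w hw, rfl⟩
    · refine lt_of_le_of_ne (Submodule.map_subtype_le _ _) fun e => ht ?_
      rw [← Submodule.comap_map_eq_of_injective W.injective_subtype W', e, Submodule.comap_subtype_self]
  exact index_le_aux r hqℓ θ hθq σ hσq hcomp hfpf Z hθ hcomm hcen hnd hcard (W := ↥W) rW hirr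
    W.subtype W.injective_subtype (fun u w => (hrW u w : _))

theorem index_le' {M : Type*} [AddCommGroup M] [Finite M] [Nontrivial M] (hM : ∀ m : M, ℓ • m = 0)
    (r : U →* AddMonoid.End M) {q : ℕ} [hq : Fact q.Prime] (hqℓ : q ≠ ℓ)
    (θ : MulAut U) (hθq : θ ^ q = 1) (σ : AddMonoid.End M) (hσq : σ ^ q = 1)
    (hcomp : ∀ u m, σ (r u m) = r (θ u) (σ m)) (hfpf : ∀ m, σ m = m → m = 0)
    (Z : Subgroup U) [Z.Normal] (hθ : ∀ z ∈ Z, θ z = z) (hcomm : ∀ u v : U, ⁅u, v⁆ ∈ Z)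
    (hcen : ∀ z ∈ Z, ∀ u, u * z = z * u)
    (hnd : ∀ u, u ∉ Z → ∃ v, ∀ m, r ⁅u, v⁆ m = m → m = 0)
    (hcard : ¬ ℓ ∣ Nat.card (U ⧸ Z)) :
    ∃ n : ℕ, n * n = Nat.card (U ⧸ Z) ∧ Nat.card (U ⧸ Z) ≤
      (q - 1) ^ 2 * Nat.card {x : U ⧸ Z // ((θ x.out : U) : U ⧸ Z) = x} :=
  @index_le ℓ hℓ M _ (AddCommGroup.zmodModule hM) _ _ U _ _ r q hq hqℓ θ hθq σ hσq hcomp hfpf Z _ hθ
    hcomm hcen hnd hcard

end Core

end CfsgLib.Core.HH

namespace CfsgLib.Core.HH

open Subgroup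
open scoped commutatorElement

variable {Y : Type*} [Group Y] [Finite Y] {M : Type*} [AddCommGroup M] [Finite M]
  (r : Y →* AddMonoid.End M) {q : ℕ} [hq : Fact q.Prime] (θ : MulAut Y) (σ : AddMonoid.End M)

theorem res_pow (U : Subgroup Y) (h : ∀ u ∈ U, θ u ∈ U) (n : ℕ) (u : U) :
    (((res U θ h) ^ n) u : Y) = (θ ^ n) u := by
  induction n with
  | zero => rfl
  | succ n ih => rw [pow_succ', MulAut.mul_apply, coe_res, ih, pow_succ', MulAut.mul_apply]

theorem res_pow_prime (hθq : θ ^ q = 1) (U : Subgroup Y) (h : ∀ u ∈ U, θ u ∈ U) :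
    res U θ h ^ q = 1 :=
  MulEquiv.ext fun u => Subtype.ext (by rw [res_pow, hθq]; rfl)

theorem commutator_mem_of_critical {G : Type*} [Group G] (ψ : G →* MulAut Y) (U D : Subgroup Y)
    (hDd : ⁅U, U⁆ = D) (hUg : ∀ g, ∀ u ∈ U, ψ g u ∈ U) (hUθ : ∀ u ∈ U, θ u ∈ U)
    (hDg : ∀ g, ∀ z ∈ D, ψ g z = z) (hDθ : ∀ z ∈ D, θ z = z)
    (hcen : ∀ z ∈ D, ∀ u ∈ U, u * z = z * u)
    (hfixQ : ∀ w ∈ U, (∀ g, w⁻¹ * ψ g w ∈ D) → w ∈ D)
    (hgood : ∀ L ≤ U, L ≠ U → (∀ g, ∀ u ∈ L, ψ g u ∈ L) → (∀ u ∈ L, θ u ∈ L) →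
        ∀ g, ∀ u ∈ L, ψ g u = u)
    {L : Subgroup Y} (hLD : L ≤ D) (hne : L ≠ D) {u : Y} (hu : u ∈ U)
    (h : ∀ v ∈ U, ⁅u, v⁆ ∈ L) : u ∈ D := by
  have hc : ∀ {a b : Y}, a ∈ U → b ∈ U → ⁅a, b⁆ ∈ D := fun ha hb =>
    hDd ▸ commutator_mem_commutator ha hb
  let Rd : Subgroup Y :=
    { carrier := {u | u ∈ U ∧ ∀ v ∈ U, ⁅u, v⁆ ∈ L}
      one_mem' := ⟨one_mem U, fun v _ => by simp⟩
      mul_mem' := fun {a b} ha hb => ⟨mul_mem ha.1 hb.1, fun v hv => by
        have e : ⁅a * b, v⁆ = a * ⁅b, v⁆ * a⁻¹ * ⁅a, v⁆ := by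
          simp [commutatorElement_def, mul_assoc]
        rw [e, hcen _ (hc hb.1 hv) a ha.1, mul_inv_cancel_right]
        exact mul_mem (hb.2 v hv) (ha.2 v hv)⟩
      inv_mem' := fun {a} ha => ⟨inv_mem ha.1, fun v hv => by
        have e : ⁅a⁻¹, v⁆ = a⁻¹ * ⁅a, v⁆⁻¹ * a⁻¹⁻¹ := by simp [commutatorElement_def, mul_assoc]
        rw [e, hcen _ (inv_mem (hc ha.1 hv)) _ (inv_mem ha.1), mul_inv_cancel_right]
        exact inv_mem (ha.2 v hv)⟩ }
  have hinv : ∀ φ : MulAut Y, ∀ hφ : ∀ w ∈ U, φ w ∈ U, (∀ z ∈ D, φ z = z) → ∀ w ∈ Rd, φ w ∈ Rd := by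
    intro φ hφ hD w hw
    refine ⟨hφ w hw.1, fun v hv => ?_⟩
    have e : φ ((res U φ hφ).symm ⟨v, hv⟩ : Y) = v :=
      congrArg Subtype.val ((res U φ hφ).apply_symm_apply ⟨v, hv⟩)
    rw [← e, ← map_commutatorElement, hD _ (hc hw.1 (SetLike.coe_mem _))]
    exact hw.2 _ (SetLike.coe_mem _)
  have hRne : Rd ≠ U := fun e => hne (le_antisymm hLD (by
    rw [← hDd, commutator_le]
    intro a ha b hb
    exact (e.ge ha).2 b hb))
  have hfix := hgood Rd (fun w hw => hw.1) hRne (fun g => hinv _ (hUg g) (hDg g)) (hinv θ hUθ hDθ)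
  refine hfixQ u hu fun g => ?_
  rw [hfix g u ⟨hu, h⟩, inv_mul_cancel]
  exact one_mem _

theorem critical_bound (hθq : θ ^ q = 1) (hσq : σ ^ q = 1)
    (hcomp : ∀ y m, σ (r y m) = r (θ y) (σ m)) (hfpf : ∀ m, σ m = m → m = 0)
    (hqM : (Nat.card M).Coprime q) (U D : Subgroup Y) (hDU : D ≤ U) (hDb : D ≠ ⊥)
    (hUθ : ∀ u ∈ U, θ u ∈ U) (hDθ : ∀ z ∈ D, θ z = z)
    (hcomm : ∀ a ∈ U, ∀ b ∈ U, ⁅a, b⁆ ∈ D) (hcen : ∀ z ∈ D, ∀ u ∈ U, u * z = z * u)
    (hcoM : (Nat.card M).Coprime (Nat.card U)) (hfaith : ∀ u ∈ U, (∀ m, r u m = m) → u = 1)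
    (hrad : ∀ L ≤ D, L ≠ D → ∀ u ∈ U, (∀ v ∈ U, ⁅u, v⁆ ∈ L) → u ∈ D) :
    ∃ n : ℕ, n * n = Nat.card (U ⧸ D.subgroupOf U) ∧ Nat.card (U ⧸ D.subgroupOf U) ≤
      (q - 1) ^ 2 * Nat.card {x : U ⧸ D.subgroupOf U //
        ((res U θ hUθ x.out : U) : U ⧸ D.subgroupOf U) = x} := by
  classical
  letI := Fintype.ofFinite D
  haveI : (D.subgroupOf U).Normal := ⟨fun z hz u => by
    rw [mem_subgroupOf] at hz ⊢
    push_cast
    rw [hcen _ hz u u.2, mul_inv_cancel_right]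
    exact hz⟩
  have hr : ∀ (a b : Y) (m : M), r (a * b) m = r a (r b m) := fun a b m => by rw [map_mul]; rfl
  obtain ⟨z, hz, hz1⟩ := (Subgroup.bot_or_exists_ne_one D).resolve_left hDb
  · obtain ⟨m, hm⟩ : ∃ m, r z m ≠ m := by
      by_contra h
      push Not at h
      exact hz1 (hfaith z (hDU hz) h)
    -- a vector killed by the norm, of prime order
    obtain ⟨m₀, hm₀, hQ₀⟩ : ∃ m₀, m₀ ≠ 0 ∧ ∑ z : D, r (z : Y) m₀ = 0 := by
      refine ⟨r z m - m, sub_ne_zero.mpr hm, ?_⟩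
      simp only [map_sub, Finset.sum_sub_distrib]
      rw [sub_eq_zero]
      refine Fintype.sum_equiv (Equiv.mulRight (⟨z, hz⟩ : D)) _ _ fun w => ?_
      exact (hr w z m).symm
    have hne1 : addOrderOf m₀ ≠ 1 := fun e => hm₀ (AddMonoid.addOrderOf_eq_one_iff.mp e)
    obtain ⟨ℓ, hℓ, hℓd⟩ := Nat.exists_prime_and_dvd hne1
    haveI := Fact.mk hℓ
    obtain ⟨d, hd⟩ := hℓd
    have hm₁ : d • m₀ ≠ 0 := by
      intro e
      have hd0 : d ≠ 0 := by rintro rfl; rw [mul_zero] at hd; exact (addOrderOf_pos m₀).ne' hd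
      have h := Nat.le_of_dvd (Nat.pos_of_ne_zero hd0) (addOrderOf_dvd_of_nsmul_eq_zero e)
      rw [hd] at h
      nlinarith [hℓ.two_le, Nat.pos_of_ne_zero hd0]
    have hℓM : ℓ ∣ Nat.card M := dvd_trans ⟨d, hd⟩ (addOrderOf_dvd_natCard m₀)
    let Q : M → Prop := fun m => ℓ • m = 0 ∧ ∑ z : D, r (z : Y) m = 0
    have hQ₁ : Q (d • m₀) := ⟨by rw [← mul_smul, ← hd, addOrderOf_nsmul_eq_zero], by
      simp only [map_nsmul]
      rw [← Finset.smul_sum, hQ₀, smul_zero]⟩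
    obtain ⟨L, ⟨hLD, m₂, hm₂, hQ₂, hL₂⟩, hLmax⟩ := Set.Finite.exists_maximal
      (Set.toFinite {L : Subgroup Y | L ≤ D ∧ ∃ m, m ≠ 0 ∧ Q m ∧ ∀ a ∈ L, r a m = m})
      ⟨⊥, bot_le, d • m₀, hm₁, hQ₁, fun a ha => by rw [mem_bot.mp ha, map_one]; rfl⟩
    have hLne : L ≠ D := by
      intro e
      apply hm₂
      have h := hQ₂.2
      rw [Finset.sum_congr rfl fun (w : D) _ => hL₂ w (e.ge w.2), Finset.sum_const, Finset.card_univ,
        ← Nat.card_eq_fintype_card] at h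
      exact AddMonoid.addOrderOf_eq_one_iff.mp (Nat.eq_one_of_dvd_coprimes
        (hcoM.coprime_dvd_right (card_dvd_of_le hDU))
        (addOrderOf_dvd_of_nsmul_eq_zero card_nsmul_eq_zero') (addOrderOf_dvd_of_nsmul_eq_zero h))
    let M₂ : AddSubgroup M :=
      { carrier := {m | Q m ∧ ∀ a ∈ L, r a m = m}
        zero_mem' := ⟨⟨smul_zero _, by simp⟩, fun a _ => map_zero _⟩
        add_mem' := fun {a b} ha hb => ⟨⟨by rw [smul_add, ha.1.1, hb.1.1, add_zero], by
          simp only [map_add, Finset.sum_add_distrib, ha.1.2, hb.1.2, add_zero]⟩,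
          fun y hy => by rw [map_add, ha.2 y hy, hb.2 y hy]⟩
        neg_mem' := fun {a} ha => ⟨⟨by rw [smul_neg, ha.1.1, neg_zero], by
          simp only [map_neg, Finset.sum_neg_distrib, ha.1.2, neg_zero]⟩,
          fun y hy => by rw [map_neg, ha.2 y hy]⟩ }
    have hcommr : ∀ z ∈ D, ∀ u ∈ U, ∀ m, r z (r u m) = r u (r z m) := fun z hz u hu m => by
      rw [← hr, ← hr, hcen z hz u hu]
    have hrmem : ∀ u ∈ U, ∀ m ∈ M₂, r u m ∈ M₂ := fun u hu m hm => ⟨⟨by
        rw [← map_nsmul, hm.1.1, map_zero], by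
        rw [Finset.sum_congr rfl fun (w : D) _ => hcommr w w.2 u hu m, ← map_sum, hm.1.2, map_zero]⟩,
      fun a ha => by rw [hcommr a (hLD ha) u hu, hm.2 a ha]⟩
    have hσc : ∀ z ∈ D, ∀ m, r z (σ m) = σ (r z m) := fun z hz m => by rw [hcomp, hDθ z hz]
    have hσmem : ∀ m ∈ M₂, σ m ∈ M₂ := fun m hm => ⟨⟨by rw [← map_nsmul, hm.1.1, map_zero], by
        rw [Finset.sum_congr rfl fun (w : D) _ => hσc w w.2 m, ← map_sum, hm.1.2, map_zero]⟩,
      fun a ha => by rw [hσc a (hLD ha), hm.2 a ha]⟩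
    let cut : (f : AddMonoid.End M) → (∀ m ∈ M₂, f m ∈ M₂) → AddMonoid.End M₂ := fun f hf =>
      ((f : M →+ M).comp M₂.subtype).codRestrict M₂ fun m => hf m m.2
    have hcut : ∀ f hf (m : M₂), ((cut f hf m : M₂) : M) = f m := fun _ _ _ => rfl
    let r' : U →* AddMonoid.End M₂ :=
      { toFun := fun u => cut (r u) (hrmem u u.2)
        map_one' := AddMonoidHom.ext fun m => Subtype.ext (by
          show r (1 : Y) (m : M) = m
          rw [map_one]; rfl)
        map_mul' := fun a b => AddMonoidHom.ext fun m => Subtype.ext (hr a b m) }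
    have hσpow : ∀ (n : ℕ) (m : M₂), (((cut σ hσmem) ^ n) m : M) = (σ ^ n) (m : M) := by
      intro n
      induction n with
      | zero => intro m; rfl
      | succ n ih =>
        intro m
        rw [pow_succ', pow_succ']
        show σ (((cut σ hσmem) ^ n) m : M) = σ ((σ ^ n) m)
        rw [ih]
    haveI : Nontrivial M₂ := ⟨⟨⟨m₂, hQ₂, hL₂⟩, 0, fun e => hm₂ (congrArg Subtype.val e)⟩⟩
    refine index_le' (ℓ := ℓ) (M := M₂) (fun m => Subtype.ext m.2.1.1) r'
      (fun e => hq.out.ne_one (Nat.eq_one_of_dvd_coprimes hqM (by rw [e]; exact hℓM) dvd_rfl))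
      (res U θ hUθ) (res_pow_prime θ hθq U hUθ) (cut σ hσmem)
      (AddMonoidHom.ext fun m => Subtype.ext ((hσpow q m).trans (by rw [hσq]; rfl)))
      (fun u m => Subtype.ext (hcomp u m)) (fun m hm => Subtype.ext (hfpf m (congrArg Subtype.val hm)))
      (D.subgroupOf U) (fun w hw => Subtype.ext (hDθ w (mem_subgroupOf.mp hw)))
      (fun a b => mem_subgroupOf.mpr (hcomm a a.2 b b.2))
      (fun w hw u => Subtype.ext (hcen w (mem_subgroupOf.mp hw) u u.2)) (fun u hu => ?_) ?_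
    · obtain ⟨v, hv, hvL⟩ : ∃ v ∈ U, ⁅(u : Y), v⁆ ∉ L := by
        by_contra h
        push Not at h
        exact hu (mem_subgroupOf.mpr (hrad L hLD hLne u u.2 h))
      refine ⟨⟨v, hv⟩, fun m hm => Subtype.ext ?_⟩
      by_contra hm0
      have hfix : ∀ a ∈ Subgroup.closure (insert ⁅(u : Y), v⁆ (L : Set Y)), r a (m : M) = m := by
        intro a ha
        induction ha using Subgroup.closure_induction with
        | mem a ha =>
          rcases ha with rfl | ha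
          · exact congrArg Subtype.val hm
          · exact m.2.2 a ha
        | one => rw [map_one]; rfl
        | mul a b _ _ ha hb => rw [hr, hb, ha]
        | inv a _ ha =>
          conv_lhs => rw [← ha]
          rw [← hr, inv_mul_cancel, map_one]; rfl
      refine hvL (hLmax ⟨(closure_le _).mpr (Set.insert_subset (hcomm u u.2 v hv) hLD),
        m, hm0, m.2.1, hfix⟩ (fun a ha => subset_closure (Set.mem_insert_of_mem _ ha))
        (subset_closure (Set.mem_insert _ _)))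
    · intro hd'
      exact hℓ.ne_one (Nat.eq_one_of_dvd_coprimes hcoM hℓM
        (hd'.trans (Subgroup.card_quotient_dvd_card _)))

end CfsgLib.Core.HH

namespace CfsgLib.Core.HH

open Subgroup
open scoped commutatorElement

variable {Y : Type*} [Group Y] [Finite Y] {M : Type*} [AddCommGroup M] [Finite M]
  (r : Y →* AddMonoid.End M) {q : ℕ} [hq : Fact q.Prime] (θ : MulAut Y) (σ : AddMonoid.End M)

/-- The exceptional numerical case. -/
theorem eq_two_pow_add_one {s n m : ℕ} (hs : s.Prime) (hn : n * n = s ^ m) (h1 : 1 < n) (hlt : n ≤ q - 1)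
    (hmod : n * n ≡ 1 [MOD q]) : s = 2 ∧ ∃ j, q = 2 ^ j + 1 := by
  obtain ⟨j, -, hj⟩ := (Nat.dvd_prime_pow hs).mp (hn ▸ Dvd.intro n rfl : n ∣ s ^ m)
  obtain ⟨t, rfl⟩ : ∃ t, n = t + 1 := ⟨n - 1, by omega⟩
  have h2 : q ∣ t * (t + 2) := by
    have h := (Nat.modEq_iff_dvd' (Nat.one_le_iff_ne_zero.mpr (by positivity))).mp hmod.symm
    rwa [show (t + 1) * (t + 1) - 1 = t * (t + 2) by rw [Nat.sub_eq_of_eq_add]; ring] at h
  rcases hq.out.dvd_mul.mp h2 with h | h
  · have := Nat.le_of_dvd (by omega) h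
    omega
  · have := Nat.le_of_dvd (by omega) h
    have hq' : q = t + 2 := by omega
    have hodd : Odd q := hq.out.odd_of_ne_two (by omega)
    have heven : Even (s ^ j) := by
      rw [← hj]
      obtain ⟨a, ha⟩ := hodd
      exact ⟨a, by omega⟩
    have hs2 : s = 2 := by
      rcases hs.eq_two_or_odd' with h | h
      · exact h
      · exact absurd heven (Nat.not_even_iff_odd.mpr h.pow)
    subst hs2
    exact ⟨rfl, j, by omega⟩

theorem fixed_of_fpf_module (hθq : θ ^ q = 1) (hσq : σ ^ q = 1)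
    (hcomp : ∀ y m, σ (r y m) = r (θ y) (σ m)) (hfpf : ∀ m, σ m = m → m = 0)
    (hqM : (Nat.card M).Coprime q) {F : Subgroup Y} (hFn : Group.IsNilpotent F)
    (hFθ : ∀ y ∈ F, θ y ∈ F) (hFq : (Nat.card F).Coprime q)
    (hFM : (Nat.card M).Coprime (Nat.card F)) (hfaith : ∀ y ∈ F, (∀ m, r y m = m) → y = 1)
    (hexc : ¬ (2 ∣ Nat.card F ∧ ∃ j, q = 2 ^ j + 1)) : ∀ y ∈ F, θ y = y := by
  classical
  by_contra hbad
  push Not at hbad
  let ψ : Subgroup.zpowers θ →* MulAut Y := (Subgroup.zpowers θ).subtype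
  have hpow : ∀ (n : ℕ) (V : Subgroup Y), (∀ v ∈ V, θ v ∈ V) → ∀ v ∈ V, (θ ^ n) v ∈ V := by
    intro n V hV v hv
    induction n with
    | zero => exact hv
    | succ n ih => rw [pow_succ', MulAut.mul_apply]; exact hV _ ih
  have hgen : ∀ g : Subgroup.zpowers θ, ∃ n : ℕ, θ ^ n = (g : MulAut Y) := fun g =>
    (mem_powers_iff_mem_zpowers).mpr g.2
  have hGq : Nat.card (Subgroup.zpowers θ) ∣ q := by
    rw [Nat.card_zpowers]; exact orderOf_dvd_of_pow_eq_one hθq
  obtain ⟨U, s, hs, hsF, hUF, hsU, hUg, hUθ, hUbad, hD, hfixQ, -, hgood⟩ :=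
    exists_critical ψ θ (fun g => ⟨g, by
      obtain ⟨n, hn⟩ := hgen g
      show θ * (g : MulAut Y) = (g : MulAut Y) * θ
      rw [← hn, ← pow_succ', ← pow_succ]⟩) hFn
      (fun g y hy => by obtain ⟨n, hn⟩ := hgen g; show (g : MulAut Y) y ∈ F; rw [← hn]; exact hpow n F hFθ y hy)
      hFθ (hFq.coprime_dvd_right hGq)
      ⟨⟨θ, mem_zpowers θ⟩, hbad.choose, hbad.choose_spec.1, hbad.choose_spec.2⟩
  have hDθ : ∀ z ∈ ⁅U, U⁆, θ z = z := fun z hz => (hD z hz).1 ⟨θ, mem_zpowers θ⟩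
  have hUU : ⁅U, U⁆ ≤ U := commutator_le.mpr fun a ha b hb => by
    rw [commutatorElement_def]; exact mul_mem (mul_mem (mul_mem ha hb) (inv_mem ha)) (inv_mem hb)
  have hcoU : (Nat.card M).Coprime (Nat.card U) := hFM.coprime_dvd_right (card_dvd_of_le hUF)
  have hfix : ∀ w ∈ U, w⁻¹ * θ w ∈ ⁅U, U⁆ → w ∈ ⁅U, U⁆ := by
    intro w hw h
    refine hfixQ w hw fun g => ?_
    obtain ⟨n, hn⟩ := hgen g
    show w⁻¹ * (g : MulAut Y) w ∈ ⁅U, U⁆
    rw [← hn]
    clear hn
    induction n with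
    | zero => simp
    | succ n ih =>
      rw [pow_succ', MulAut.mul_apply]
      have e : w⁻¹ * θ ((θ ^ n) w) = w⁻¹ * θ w * θ (w⁻¹ * (θ ^ n) w) := by
        rw [map_mul, map_inv]; group
      rw [e, hDθ _ ih]
      exact mul_mem h ih
  by_cases hDb : ⁅U, U⁆ = ⊥
  · obtain ⟨g, u, hu, hgu⟩ := hUbad
    have hab : ∀ a ∈ U, ∀ b ∈ U, a * b = b * a := fun a ha b hb =>
      commutatorElement_eq_one_iff_mul_comm.mp (mem_bot.mp (hDb.le (commutator_mem_commutator ha hb)))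
    have hθu := fixed_of_abelian r θ σ hθq hσq hcomp hfpf U hUθ hab
      (hFq.coprime_dvd_left (card_dvd_of_le hUF)) hcoU (fun a ha => hfaith a (hUF ha))
    obtain ⟨n, hn⟩ := hgen g
    apply hgu
    show (g : MulAut Y) u = u
    rw [← hn]
    clear hn
    induction n with
    | zero => rfl
    | succ n ih => rw [pow_succ', MulAut.mul_apply, ih, hθu u hu]
  obtain ⟨n, hn, hle⟩ := critical_bound r θ σ hθq hσq hcomp hfpf hqM U ⁅U, U⁆ hUU hDb hUθ hDθ
    (fun a ha b hb => commutator_mem_commutator ha hb) (fun z hz => (hD z hz).2) hcoU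
    (fun a ha => hfaith a (hUF ha))
    (fun L hL hne u hu h => commutator_mem_of_critical θ ψ U _ rfl hUg hUθ (fun g z hz => (hD z hz).1 g)
      hDθ (fun z hz => (hD z hz).2) hfixQ hgood hL hne hu h)
  haveI : ((⁅U, U⁆).subgroupOf U).Normal := ⟨fun z hz u => by
    rw [mem_subgroupOf] at hz ⊢
    push_cast
    rw [(hD _ hz).2 u u.2, mul_inv_cancel_right]
    exact hz⟩
  generalize hZ : (⁅U, U⁆).subgroupOf U = Z at hn hle
  haveI : Z.Normal := hZ ▸ inferInstance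
  have hZθ : ∀ z ∈ Z, res U θ hUθ z ∈ Z := fun z hz => by
    rw [← hZ, mem_subgroupOf] at hz ⊢
    rw [coe_res, hDθ _ hz]; exact hz
  have hmap : Z.map (res U θ hUθ).toMonoidHom = Z := by
    refine eq_of_le_of_card_ge ?_
      (card_map_of_injective (f := (res U θ hUθ).toMonoidHom) (res U θ hUθ).injective).ge
    rintro _ ⟨z, hz, rfl⟩; exact hZθ z hz
  let Θ : MulAut (U ⧸ Z) := QuotientGroup.congr Z Z (res U θ hUθ) hmap
  have hΘ : ∀ u : U, Θ (u : U ⧸ Z) = ((res U θ hUθ u : U) : U ⧸ Z) := fun u => rfl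
  have hΘfix : ∀ x, Θ x = x → x = 1 := by
    intro x hx
    obtain ⟨u, rfl⟩ := QuotientGroup.mk_surjective x
    rw [hΘ, eq_comm, QuotientGroup.eq, ← hZ, mem_subgroupOf] at hx
    rw [QuotientGroup.eq_one_iff, ← hZ, mem_subgroupOf]
    exact hfix u u.2 hx
  have hΘq : Θ ^ q = 1 := by
    have h : ∀ (k : ℕ) (u : U), (Θ ^ k) (u : U ⧸ Z) = (((res U θ hUθ ^ k) u : U) : U ⧸ Z) := by
      intro k u
      induction k with
      | zero => rfl
      | succ k ih => rw [pow_succ', MulAut.mul_apply, ih, hΘ, pow_succ', MulAut.mul_apply]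
    refine MulEquiv.ext fun x => ?_
    obtain ⟨u, rfl⟩ := QuotientGroup.mk_surjective x
    rw [h, res_pow_prime θ hθq U hUθ]; rfl
  have hf : Nat.card {x : U ⧸ Z // ((res U θ hUθ x.out : U) : U ⧸ Z) = x} = 1 := by
    have hx : ∀ x : U ⧸ Z, ((res U θ hUθ x.out : U) : U ⧸ Z) = x → x = 1 := fun x h => hΘfix x (by
      conv_lhs => rw [← QuotientGroup.out_eq' x]
      rw [hΘ]; exact h)
    haveI : Subsingleton {x : U ⧸ Z // ((res U θ hUθ x.out : U) : U ⧸ Z) = x} :=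
      ⟨fun a b => Subtype.ext ((hx _ a.2).trans (hx _ b.2).symm)⟩
    haveI : Nonempty {x : U ⧸ Z // ((res U θ hUθ x.out : U) : U ⧸ Z) = x} := by
      refine ⟨⟨1, ?_⟩⟩
      rw [← hΘ, QuotientGroup.out_eq', map_one]
    exact Nat.card_unique
  rw [hf, mul_one, ← hn, sq] at hle
  haveI := Fact.mk hs
  obtain ⟨m, hm⟩ := (hsU.to_quotient Z).exists_card_eq
  have h1 : 1 < n := by
    by_contra hle1
    have hc : Nat.card (U ⧸ Z) = 1 := by
      have hpos : 0 < Nat.card (U ⧸ Z) := Nat.card_pos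
      rw [← hn] at hpos ⊢
      have : n = 1 := by nlinarith [hpos]
      rw [this]
    obtain ⟨g, u, hu, hgu⟩ := hUbad
    haveI : Subsingleton (U ⧸ Z) := (Nat.card_eq_one_iff_unique.mp hc).1
    have hmem : (⟨u, hu⟩ : U) ∈ Z := (QuotientGroup.eq_one_iff _).mp (Subsingleton.elim _ _)
    rw [← hZ, mem_subgroupOf] at hmem
    exact hgu ((hD u hmem).1 g)
  have hmod : n * n ≡ 1 [MOD q] := by
    have hP : IsPGroup q (Subgroup.zpowers Θ) := fun g => ⟨1, by
      obtain ⟨k, hk⟩ := g.2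
      refine Subtype.ext ?_
      show (g : MulAut (U ⧸ Z)) ^ q ^ 1 = 1
      rw [← hk, pow_one, ← zpow_natCast, ← zpow_mul, mul_comm, zpow_mul, zpow_natCast, hΘq, one_zpow]⟩
    have h := hP.card_modEq_card_fixedPoints (α := U ⧸ Z)
    have h1 : MulAction.fixedPoints (Subgroup.zpowers Θ) (U ⧸ Z) = {1} := by
      ext x
      refine ⟨fun hx => hΘfix x (hx ⟨Θ, mem_zpowers Θ⟩), fun hx => ?_⟩
      rw [Set.mem_singleton_iff.mp hx]
      exact fun a => map_one (a : MulAut (U ⧸ Z))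
    rw [h1, Nat.card_coe_set_eq, Set.ncard_singleton, ← hn] at h
    exact h
  obtain ⟨hs2, hj⟩ := eq_two_pow_add_one (q := q) hs (hn.trans hm) h1
    (Nat.mul_self_le_mul_self_iff.mp hle) hmod
  exact hexc ⟨hs2 ▸ hsF, hj⟩

theorem centralizes_of_fpf_module (hθq : θ ^ q = 1) (hσq : σ ^ q = 1)
    (hcomp : ∀ y m, σ (r y m) = r (θ y) (σ m)) (hfpf : ∀ m, σ m = m → m = 0)
    (hqM : (Nat.card M).Coprime q) {F R : Subgroup Y} (hFn : Group.IsNilpotent F)
    (hFθ : ∀ y ∈ F, θ y ∈ F) (hFq : (Nat.card F).Coprime q)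
    (hFM : (Nat.card M).Coprime (Nat.card F)) (hfaith : ∀ y ∈ F, (∀ m, r y m = m) → y = 1)
    (hRθ : ∀ x ∈ R, θ x ∈ R) (hRc : ∀ a ∈ R, ∀ b ∈ R, a * b = b * a)
    (hRfp : ∀ x ∈ R, θ x = x → x = 1) (hRF : ∀ x ∈ R, ∀ y ∈ F, x * y * x⁻¹ ∈ F)
    (hFR : (Nat.card F).Coprime (Nat.card R)) : ∀ x ∈ R, ∀ y ∈ F, x * y = y * x := by
  classical
  by_contra hbad
  push Not at hbad
  let ψ : R →* MulAut Y := MulAut.conj.comp R.subtype
  have hψ : ∀ (g : R) (y : Y), ψ g y = g * y * (g : Y)⁻¹ := fun g y => rfl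
  obtain ⟨U, s, hs, hsF, hUF, hsU, hUg, hUθ, hUbad, hD, hfixQ, hpow, hgood⟩ :=
    exists_critical ψ θ (fun g => ⟨⟨θ g, hRθ g g.2⟩, MulEquiv.ext fun y => by
      simp only [MulAut.mul_apply, hψ]
      rw [map_mul, map_mul, map_inv]⟩) hFn (fun g y hy => hRF g g.2 y hy) hFθ hFR (by
        obtain ⟨x, hx, y, hy, hxy⟩ := hbad
        refine ⟨⟨x, hx⟩, y, hy, fun e => hxy ?_⟩
        rw [hψ] at e
        exact mul_inv_eq_iff_eq_mul.mp e)
  haveI := Fact.mk hs
  have hUU : ⁅U, U⁆ ≤ U := commutator_le.mpr fun a ha b hb => by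
    rw [commutatorElement_def]; exact mul_mem (mul_mem (mul_mem ha hb) (inv_mem ha)) (inv_mem hb)
  have hcoU : (Nat.card M).Coprime (Nat.card U) := hFM.coprime_dvd_right (card_dvd_of_le hUF)
  have hDθmem : ∀ z ∈ ⁅U, U⁆, θ z ∈ ⁅U, U⁆ := fun z hz => by
    have h : U.map θ.toMonoidHom ≤ U := by rintro _ ⟨u, hu, rfl⟩; exact hUθ u hu
    have h2 : (⁅U, U⁆).map θ.toMonoidHom ≤ ⁅U, U⁆ := by
      rw [map_commutator]; exact commutator_mono h h
    exact h2 (mem_map_of_mem _ hz)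
  have hDθ : ∀ z ∈ ⁅U, U⁆, θ z = z := fixed_of_abelian r θ σ hθq hσq hcomp hfpf _ hDθmem
    (fun a ha b hb => (hD b hb).2 a (hUU ha))
    ((hFq.coprime_dvd_left (card_dvd_of_le (hUU.trans hUF))))
    (hFM.coprime_dvd_right (card_dvd_of_le (hUU.trans hUF))) (fun a ha => hfaith a (hUF (hUU ha)))
  by_cases hDb : ⁅U, U⁆ = ⊥
  · have hab : ∀ a ∈ U, ∀ b ∈ U, a * b = b * a := fun a ha b hb =>
      commutatorElement_eq_one_iff_mul_comm.mp (mem_bot.mp (hDb.le (commutator_mem_commutator ha hb)))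
    have hθu := fixed_of_abelian r θ σ hθq hσq hcomp hfpf U hUθ hab
      (hFq.coprime_dvd_left (card_dvd_of_le hUF)) hcoU (fun a ha => hfaith a (hUF ha))
    obtain ⟨g, u, hu, hgu⟩ := hUbad
    let c : R → R := fun t => ⟨(t : Y)⁻¹ * θ t, mul_mem (inv_mem t.2) (hRθ t t.2)⟩
    have hc : Function.Surjective c := by
      refine Finite.surjective_of_injective fun a b hab => ?_
      have h1 : (a : Y)⁻¹ * θ a = (b : Y)⁻¹ * θ b := congrArg Subtype.val hab
      have h2 : θ ((a : Y) * (b : Y)⁻¹) = (a : Y) * (b : Y)⁻¹ := by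
        rw [map_mul, map_inv]
        have h3 : θ a = (a : Y) * ((b : Y)⁻¹ * θ b) := by rw [← h1, mul_inv_cancel_left]
        rw [h3, mul_assoc (a : Y), mul_inv_cancel_right]
      exact Subtype.ext (mul_inv_eq_one.mp (hRfp _ (mul_mem a.2 (inv_mem b.2)) h2))
    obtain ⟨t, ht⟩ := hc g
    apply hgu
    have hg : (g : Y) = (t : Y)⁻¹ * θ t := (congrArg Subtype.val ht).symm
    have e := hθu _ (hUg t u hu)
    rw [hψ, map_mul, map_mul, map_inv, hθu u hu] at e
    rw [hψ, hg, mul_inv_rev, inv_inv]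
    calc (t : Y)⁻¹ * θ t * u * ((θ t)⁻¹ * (t : Y)) = (t : Y)⁻¹ * (θ t * u * (θ t)⁻¹) * t := by group
      _ = u := by rw [e]; group
  obtain ⟨n, hn, hle⟩ := critical_bound r θ σ hθq hσq hcomp hfpf hqM U ⁅U, U⁆ hUU hDb hUθ hDθ
    (fun a ha b hb => commutator_mem_commutator ha hb) (fun z hz => (hD z hz).2) hcoU
    (fun a ha => hfaith a (hUF ha))
    (fun L hL hne u hu h => commutator_mem_of_critical θ ψ U _ rfl hUg hUθ (fun g z hz => (hD z hz).1 g)
      hDθ (fun z hz => (hD z hz).2) hfixQ hgood hL hne hu h)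
  haveI : ((⁅U, U⁆).subgroupOf U).Normal := ⟨fun z hz u => by
    rw [mem_subgroupOf] at hz ⊢
    push_cast
    rw [(hD _ hz).2 u u.2, mul_inv_cancel_right]
    exact hz⟩
  generalize hZ : (⁅U, U⁆).subgroupOf U = Z at hn hle
  haveI : Z.Normal := hZ ▸ inferInstance
  letI : CommGroup (U ⧸ Z) :=
    { (inferInstance : Group (U ⧸ Z)) with
      mul_comm := fun x y => by
        obtain ⟨x, rfl⟩ := QuotientGroup.mk_surjective x
        obtain ⟨y, rfl⟩ := QuotientGroup.mk_surjective y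
        show ((x * y : U) : U ⧸ Z) = ((y * x : U) : U ⧸ Z)
        rw [QuotientGroup.eq, ← hZ, mem_subgroupOf]
        have e : (((x * y)⁻¹ * (y * x) : U) : Y) = ⁅(y : Y)⁻¹, (x : Y)⁻¹⁆ := by
          simp [commutatorElement_def, mul_assoc]
        rw [e]
        exact commutator_mem_commutator (inv_mem y.2) (inv_mem x.2) }
  have hψR : ∀ g : R, ∀ z ∈ Z, res U (ψ g) (hUg g) z ∈ Z := fun g z hz => by
    rw [← hZ, mem_subgroupOf] at hz ⊢
    rw [coe_res, (hD _ hz).1 g]; exact hz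
  have hZθ : ∀ z ∈ Z, res U θ hUθ z ∈ Z := fun z hz => by
    rw [← hZ, mem_subgroupOf] at hz ⊢
    rw [coe_res, hDθ _ hz]; exact hz
  let ind : (φ : MulAut U) → (∀ z ∈ Z, φ z ∈ Z) → AddMonoid.End (Additive (U ⧸ Z)) := fun φ h =>
    MonoidHom.toAdditive (QuotientGroup.map Z Z φ.toMonoidHom fun z hz => mem_comap.mpr (h z hz))
  have hind : ∀ φ h (u : U), ind φ h (Additive.ofMul (u : U ⧸ Z)) =
      Additive.ofMul ((φ u : U) : U ⧸ Z) := fun φ h u => rfl
  have hsur : ∀ m : Additive (U ⧸ Z), ∃ u : U, Additive.ofMul (u : U ⧸ Z) = m := fun m => by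
    obtain ⟨u, hu⟩ := QuotientGroup.mk_surjective (Additive.toMul m)
    exact ⟨u, by rw [hu]; rfl⟩
  letI : CommGroup R :=
    { (inferInstance : Group R) with mul_comm := fun a b => Subtype.ext (hRc a a.2 b b.2) }
  let ρ : R →* AddMonoid.End (Additive (U ⧸ Z)) :=
    { toFun := fun g => ind (res U (ψ g) (hUg g)) (hψR g)
      map_one' := AddMonoidHom.ext fun m => by
        obtain ⟨u, rfl⟩ := hsur m
        refine (hind (res U (ψ 1) (hUg 1)) (hψR 1) u).trans ?_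
        show Additive.ofMul ((res U (ψ 1) (hUg 1) u : U) : U ⧸ Z) = Additive.ofMul (u : U ⧸ Z)
        congr 2
        exact Subtype.ext (by rw [coe_res, map_one]; rfl)
      map_mul' := fun a b => AddMonoidHom.ext fun m => by
        obtain ⟨u, rfl⟩ := hsur m
        refine (hind (res U (ψ (a * b)) (hUg (a * b))) (hψR (a * b)) u).trans ?_
        show _ = ind (res U (ψ a) (hUg a)) (hψR a) (ind (res U (ψ b) (hUg b)) (hψR b) _)
        rw [hind _ (hψR b), hind _ (hψR a)]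
        congr 2
        exact Subtype.ext (by simp only [coe_res, map_mul, MulAut.mul_apply]) }
  let T : AddMonoid.End (Additive (U ⧸ Z)) := ind (res U θ hUθ) hZθ
  have hTq : T ^ q = 1 := by
    have h : ∀ (k : ℕ) (u : U), (T ^ k) (Additive.ofMul (u : U ⧸ Z)) =
        Additive.ofMul (((res U θ hUθ ^ k) u : U) : U ⧸ Z) := by
      intro k u
      induction k with
      | zero => rfl
      | succ k ih =>
        rw [pow_succ', pow_succ', MulAut.mul_apply]
        show T ((T ^ k) _) = _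
        rw [ih]; rfl
    refine AddMonoidHom.ext fun m => ?_
    obtain ⟨u, rfl⟩ := hsur m
    refine (h q u).trans ?_
    rw [res_pow_prime θ hθq U hUθ]; rfl
  have hsR : ¬ s ∣ Nat.card R := fun h => hs.ne_one (Nat.eq_one_of_dvd_coprimes hFR hsF h)
  have hqs : q ≠ s := fun e => hs.ne_one (Nat.eq_one_of_dvd_coprimes hFq hsF (e ▸ dvd_rfl))
  have hfree := FrobFree.card_eq_pow (s := s) (M := Additive (U ⧸ Z)) (fun m => by
      obtain ⟨u, rfl⟩ := hsur m
      rw [← ofMul_pow, ← QuotientGroup.mk_pow, (QuotientGroup.eq_one_iff _).mpr]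
      · rfl
      · rw [← hZ, mem_subgroupOf, SubgroupClass.coe_pow]
        exact hpow u u.2) hsR ρ hqs (res R θ hRθ) (res_pow_prime θ hθq R hRθ)
    (fun x hx => Subtype.ext (hRfp x x.2 (congrArg Subtype.val hx))) T hTq (fun g m => by
      obtain ⟨u, rfl⟩ := hsur m
      show T (ind (res U (ψ g) (hUg g)) (hψR g) _) =
        ind (res U (ψ (res R θ hRθ g)) (hUg _)) (hψR (res R θ hRθ g)) (T _)
      rw [hind _ (hψR g)]
      show Additive.ofMul ((res U θ hUθ (res U (ψ g) (hUg g) u) : U) : U ⧸ Z) = Additive.ofMul _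
      congr 2
      refine Subtype.ext ?_
      show θ ((g : Y) * u * (g : Y)⁻¹) = θ g * θ u * (θ g)⁻¹
      rw [map_mul, map_mul, map_inv]) (fun m hm => by
      obtain ⟨u, rfl⟩ := hsur m
      rw [(QuotientGroup.eq_one_iff _).mpr]
      · rfl
      rw [← hZ, mem_subgroupOf]
      refine hfixQ u u.2 fun g => ?_
      have h := (hm g).symm
      change Additive.ofMul (u : U ⧸ Z) = Additive.ofMul ((res U (ψ g) (hUg g) u : U) : U ⧸ Z) at h
      have h2 := QuotientGroup.eq.mp (Additive.ofMul.injective h)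
      rw [← hZ, mem_subgroupOf] at h2
      exact h2)
  have hN : Nat.card (Additive (U ⧸ Z)) = Nat.card (U ⧸ Z) := Nat.card_congr Additive.toMul
  have hC : Nat.card {m : Additive (U ⧸ Z) // T m = m} =
      Nat.card {x : U ⧸ Z // ((res U θ hUθ x.out : U) : U ⧸ Z) = x} :=
    Nat.card_congr (Equiv.subtypeEquiv Additive.toMul fun m => by
      obtain ⟨u, rfl⟩ := hsur m
      have e : (((res U θ hUθ (u : U ⧸ Z).out : U)) : U ⧸ Z) = ((res U θ hUθ u : U) : U ⧸ Z) := by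
        rw [QuotientGroup.eq, ← map_inv, ← map_mul]
        exact hZθ _ (QuotientGroup.eq.mp (QuotientGroup.out_eq' _))
      show T (Additive.ofMul (u : U ⧸ Z)) = _ ↔ ((res U θ hUθ (u : U ⧸ Z).out : U) : U ⧸ Z) = (u : U ⧸ Z)
      rw [e]
      exact Additive.ofMul.injective.eq_iff)
  rw [hN, hC] at hfree
  generalize Nat.card {x : U ⧸ Z // ((res U θ hUθ x.out : U) : U ⧸ Z) = x} = f at hle hfree
  obtain ⟨m, hm⟩ := (hsU.to_quotient Z).exists_card_eq
  have hN1 : Nat.card (U ⧸ Z) ≠ 1 := by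
    intro hc
    obtain ⟨g, u, hu, hgu⟩ := hUbad
    haveI : Subsingleton (U ⧸ Z) := (Nat.card_eq_one_iff_unique.mp hc).1
    have hmem : (⟨u, hu⟩ : U) ∈ Z := (QuotientGroup.eq_one_iff _).mp (Subsingleton.elim _ _)
    rw [← hZ, mem_subgroupOf] at hmem
    exact hgu ((hD u hmem).1 g)
  rw [hfree] at hN1 hle
  obtain ⟨d, -, hd⟩ := (Nat.dvd_prime_pow hs).mp
    ((hfree.symm.trans hm) ▸ dvd_pow_self f hq.out.ne_zero : f ∣ s ^ m)
  have hd0 : d ≠ 0 := by rintro rfl; exact hN1 (by rw [hd, pow_zero, one_pow])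
  have hf2 : 2 ≤ f := hd ▸ le_trans hs.two_le (Nat.le_self_pow hd0 s)
  have hq1 : q = q - 1 + 1 := (Nat.sub_add_cancel hq.out.one_le).symm
  have hsmall : f ^ (q - 1) ≤ (q - 1) ^ 2 := by
    have h : f ^ (q - 1) * f ≤ (q - 1) ^ 2 * f := by rw [← pow_succ, ← hq1]; exact hle
    exact Nat.le_of_mul_le_mul_right h (by omega)
  rcases hq.out.eq_two_or_odd with h2 | hodd
  · subst h2
    norm_num at hsmall
    omega
  · obtain ⟨i, -, hi⟩ := (Nat.dvd_prime_pow hs).mp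
      ((hn.trans hm) ▸ Dvd.intro n rfl : n ∣ s ^ m)
    have hexp : d * q = 2 * i := Nat.pow_right_injective hs.two_le (by
      show s ^ (d * q) = s ^ (2 * i)
      rw [pow_mul, ← hd, ← hfree, ← hn, hi, two_mul, pow_add])
    obtain ⟨d', rfl⟩ : ∃ d', d = 2 * d' := by
      have hev : Even (d * q) := ⟨i, by omega⟩
      rcases Nat.even_mul.mp hev with h | h
      · exact h.two_dvd
      · exact absurd (Nat.even_iff.mp h) (by omega)
    have hf4 : 4 ≤ f := by
      rw [hd, pow_mul]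
      exact le_trans (Nat.pow_le_pow_left hs.two_le 2) (Nat.le_self_pow (by omega) _)
    have h4 : (2 ^ (q - 1)) ^ 2 ≤ (q - 1) ^ 2 := by
      rw [← pow_mul, mul_comm (q - 1), pow_mul]
      exact (Nat.pow_le_pow_left hf4 _).trans hsmall
    exact absurd (Nat.lt_two_pow_self (n := q - 1))
      (not_lt.mpr ((Nat.pow_le_pow_iff_left two_ne_zero).mp h4))

end CfsgLib.Core.HH
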