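import Mathlib
import Cfsg.Agent.S3909
import Cfsg.Agent.S3912
import Cfsg.Agent.Lib.Orders.ConjugateSubgroups
import Cfsg.Agent.Lib.Core.Cores
import Cfsg.Agent.Lib.Core.UniqueOrderP
import Cfsg.Agent.Lib.PLocal.PSolvable
import Cfsg.Agent.Lib.PLocal.PConstrained
import Cfsg.Agent.Lib.Components.FStar
import Cfsg.Agent.Lib.PGroups.FixedPointRank

/-!
# Solvable groups whose abelian subgroups of equal order are conjugate

* `sylow_types`: the Sylow subgroups are cyclic, elementary abelian or quaternion of order eight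
* `fixed_all`: a noncyclic elementary group permuting transitively the lines of a module is trivial
* `sylow_cyclic_or_normal`: without a noncyclic elementary normal Sylow subgroup, every Sylow
  subgroup is cyclic or a normal quaternion group
* `commutator_centralizes`: a group normalising all subgroups of one intermediate order acts by an
  abelian group
-/

set_option autoImplicit false
set_option linter.all false

namespace CfsgLib.Core.ConjAbelian

open Subgroup Cfsg.Agent.S3912
open scoped commutatorElement IsMulCommutative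

universe u

variable {G : Type u} [Group G] [Finite G]

theorem mem_of_orderOf (hB : ConjAb G) {M : Subgroup G} [M.Normal] {a m : G} (hm : m ∈ M)
    (h : orderOf m = orderOf a) : a ∈ M :=
  (Cfsg.Agent.S3909.result hB M).1 a ⟨m, hm, h⟩

theorem le_of_exp {p : ℕ} [hp : Fact p.Prime] (hB : ConjAb G) {M : Subgroup G} [M.Normal]
    {P : Subgroup G} (hexp : ∀ x ∈ P, x ^ p = 1) {m : G} (hm : m ∈ M) (hmo : orderOf m = p) :
    P ≤ M := by
  intro x hx
  rcases eq_or_ne x 1 with rfl | hx1
  · exact one_mem _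
  · exact mem_of_orderOf hB hm (hmo.trans (orderOf_eq_prime (hexp x hx) hx1).symm)

theorem exists_orderOf_prime {p : ℕ} [hp : Fact p.Prime] {R : Subgroup G} (hR : IsPGroup p R)
    (hne : R ≠ ⊥) : ∃ m ∈ R, orderOf m = p := by
  obtain ⟨n, hn⟩ := IsPGroup.iff_card.1 hR
  rcases n with _ | n
  · exact absurd (Subgroup.eq_bot_of_card_eq R (by rw [hn, pow_zero])) hne
  · obtain ⟨x, hx⟩ := exists_prime_orderOf_dvd_card' (G := R) p (hn ▸ dvd_pow_self p n.succ_ne_zero)
    exact ⟨x, x.2, by rw [Subgroup.orderOf_coe, hx]⟩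

/-- In a solvable group a Sylow subgroup of prime exponent is abelian. -/
theorem commute_of_exp [Group.IsSolvable G] (hB : ConjAb G) {p : ℕ} [hp : Fact p.Prime] (P : Sylow p G)
    (hexp : ∀ x ∈ (P : Subgroup G), x ^ p = 1) :
    ∀ x ∈ (P : Subgroup G), ∀ y ∈ (P : Subgroup G), x * y = y * x := by
  classical
  set N := Cfsg.pPrimeCore p G with hN
  set π := QuotientGroup.mk' N with hπ
  have hs := QuotientGroup.mk'_surjective N
  have hBq : ConjAb (G ⧸ N) := conjAb_quotient _ G rfl inferInstance hB N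
  haveI : Group.IsSolvable (G ⧸ N) := Group.isSolvable_of_surjective hs
  set Pb : Subgroup (G ⧸ N) := ((P.mapSurjective hs : Sylow p (G ⧸ N)) : Subgroup (G ⧸ N)) with hPb
  have hPbp : IsPGroup p Pb := (P.mapSurjective hs).2
  have hexpb : ∀ x ∈ Pb, x ^ p = 1 := by
    rintro _ ⟨x, hx, rfl⟩
    rw [← map_pow, hexp x hx, map_one]
  set R := Cfsg.pCore p (G ⧸ N) with hR
  have hRle : R ≤ Pb := pCore_le_sylow (P.mapSurjective hs)
  have hab : ∀ x ∈ Pb, ∀ y ∈ Pb, x * y = y * x := by
    rcases eq_or_ne R ⊥ with hR0 | hR0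
    · have hC := centralizer_pCore_le_of_pPrimeCore_eq_bot (pPrimeCore_quotient_pPrimeCore p G)
      intro x hx y hy
      have h1 : ∀ z : G ⧸ N, z = 1 := fun z => by
        have : z ∈ R := hC (mem_centralizer_iff.2 fun r hr => by
          rw [show r = 1 from Subgroup.mem_bot.1 (hR0.le hr), one_mul, mul_one])
        exact Subgroup.mem_bot.1 (hR0.le this)
      rw [h1 x, h1 y]
    · obtain ⟨m, hm, hmo⟩ := exists_orderOf_prime (isPGroup_pCore p _) hR0
      have hPR : Pb ≤ R := le_of_exp hBq hexpb hm hmo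
      set Zc := (center ↥R).map R.subtype with hZc
      haveI : Zc.Normal := ConjAct.normal_of_characteristic_of_normal
      have hne : Zc ≠ ⊥ := by
        haveI : Nontrivial R := (Subgroup.nontrivial_iff_ne_bot R).2 hR0
        have h := (isPGroup_pCore p (G ⧸ N)).center_nontrivial
        rw [hZc, Ne, Subgroup.map_eq_bot_iff_of_injective _ R.subtype_injective]
        exact (Subgroup.nontrivial_iff_ne_bot _).1 h
      obtain ⟨m', hm', hmo'⟩ := exists_orderOf_prime (((isPGroup_pCore p (G ⧸ N)).to_subgroup _).map _) hne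
      have hPZ : Pb ≤ Zc := le_of_exp hBq hexpb hm' hmo'
      intro x hx y hy
      obtain ⟨x', hx', rfl⟩ := hPZ hx
      exact congrArg Subtype.val (Subgroup.mem_center_iff.1 hx' ⟨y, hPR hy⟩).symm
  intro x hx y hy
  have h1 : π ⁅x, y⁆ = 1 := by
    rw [map_commutatorElement, commutatorElement_eq_one_iff_mul_comm]
    exact hab _ (mem_map_of_mem π hx) _ (mem_map_of_mem π hy)
  have h2 : ⁅x, y⁆ ∈ N := (QuotientGroup.eq_one_iff _).1 h1
  have h3 : ⁅x, y⁆ ∈ (P : Subgroup G) := by
    rw [commutatorElement_def]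
    exact mul_mem (mul_mem (mul_mem hx hy) (inv_mem hx)) (inv_mem hy)
  rw [← commutatorElement_eq_one_iff_mul_comm]
  have hd : (P : Subgroup G) ⊓ N = ⊥ := by
    obtain ⟨n, hn⟩ := IsPGroup.iff_card.1 P.2
    exact Subgroup.inf_eq_bot_of_coprime (hn ▸ ((coprime_card_pPrimeCore p G).pow_right n).symm)
  exact Subgroup.mem_bot.1 (hd.le ⟨h3, h2⟩)

/-- Cyclic, elementary abelian, or quaternion of order eight. -/
theorem sylow_types [hs : Group.IsSolvable G] (hB : ConjAb G) {p : ℕ} [hp : Fact p.Prime] (P : Sylow p G) :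
    IsCyclic ↥(P : Subgroup G) ∨
    ((∀ x ∈ (P : Subgroup G), x ^ p = 1) ∧ ∀ x ∈ (P : Subgroup G), ∀ y ∈ (P : Subgroup G), x * y = y * x) ∨
    (p = 2 ∧ Nonempty (↥(P : Subgroup G) ≃* QuaternionGroup 2)) := by
  classical
  have hpow : ∀ (A B : Subgroup ↥(P : Subgroup G)), IsMulCommutative A →
      IsMulCommutative B → Nat.card A = p ^ 2 → Nat.card B = p ^ 2 → (∀ a ∈ A, a ^ p = 1) →
      ∀ b ∈ B, b ^ p = 1 := by
    intro A B hA hB' h1 h2 hexp b hb
    haveI := hA; haveI := hB'
    obtain ⟨g, hg⟩ := hB (A.map (P : Subgroup G).subtype) (B.map (P : Subgroup G).subtype)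
      (Subgroup.map_isMulCommutative _ _) (Subgroup.map_isMulCommutative _ _)
      (by rw [Subgroup.card_map_of_injective (Subgroup.subtype_injective _),
        Subgroup.card_map_of_injective (Subgroup.subtype_injective _), h1, h2])
    obtain ⟨_, ⟨a, ha, rfl⟩, hab⟩ : (b : G) ∈ (A.map (P : Subgroup G).subtype).map (MulAut.conj g).toMonoidHom :=
      hg ▸ Subgroup.mem_map_of_mem _ hb
    refine Subtype.ext ?_
    rw [Subgroup.coe_pow, ← hab, ← map_pow, ← map_pow, hexp a ha, map_one, map_one]
    rfl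
  rcases CfsgLib.Orders.ConjSub.pow_eq_one_or_unique P.isPGroup' hpow with hexp | huniq
  · have hexp' : ∀ x ∈ (P : Subgroup G), x ^ p = 1 := fun x hx => congrArg Subtype.val (hexp ⟨x, hx⟩)
    exact Or.inr (Or.inl ⟨hexp', commute_of_exp hB P hexp'⟩)
  · rcases CfsgLib.Core.UniqueOrderP.isCyclic_or_quaternion_of_unique P.isPGroup' huniq with h | ⟨h2, k, ⟨e⟩⟩
    · exact Or.inl h
    subst h2
    rcases sylow_two_small _ G rfl hs hB P huniq with h | h
    · exact Or.inl h
    haveI : NeZero (2 ^ k) := ⟨(pow_pos two_pos k).ne'⟩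
    rw [Nat.card_congr e.toEquiv, Nat.card_eq_fintype_card, QuaternionGroup.card] at h
    rcases k with _ | _ | k
    · refine Or.inl ?_
      haveI : IsCyclic (QuaternionGroup (2 ^ 0)) := by
        rw [pow_zero]; exact QuaternionGroup.quaternionGroup_one_isCyclic
      exact isCyclic_of_surjective e.symm.toMonoidHom e.symm.surjective
    · exact Or.inr (Or.inr ⟨rfl, ⟨e⟩⟩)
    · exfalso
      rw [pow_succ, pow_succ] at h
      have := Nat.one_le_two_pow (n := k)
      omega

theorem quaternion_facts :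
    (∀ x : QuaternionGroup 2, x ^ 4 = 1) ∧
    (∀ x : QuaternionGroup 2, x ^ 2 = 1 → x = 1 ∨ x = QuaternionGroup.a 2) ∧
    (∀ x : QuaternionGroup 2, (∀ y, y * x = x * y) ↔ (x = 1 ∨ x = QuaternionGroup.a 2)) := by
  decide

/-- A fixed displacement is trivial. -/
theorem disp_eq_one {t q : ℕ} (ht : t.Prime) (hq : q.Prime) (htq : t ≠ q) {x w d : G}
    (hxt : x ^ t = 1) (hd : d = x * w * x⁻¹ * w⁻¹) (hxd : x * d = d * x) (hdq : d ^ q = 1) : d = 1 := by
  have hxw : x * w = d * w * x := by rw [hd]; group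
  have h : ∀ k : ℕ, x ^ k * w = d ^ k * w * x ^ k := by
    intro k
    induction k with
    | zero => simp
    | succ k ih =>
      have e : x * d ^ k = d ^ k * x := Commute.pow_right hxd k
      calc x ^ (k + 1) * w = x * (x ^ k * w) := by rw [pow_succ', mul_assoc]
        _ = x * d ^ k * w * x ^ k := by rw [ih]; group
        _ = d ^ k * (x * w) * x ^ k := by rw [e]; group
        _ = d ^ k * d * w * (x * x ^ k) := by rw [hxw]; group
        _ = d ^ (k + 1) * w * x ^ (k + 1) := by rw [← pow_succ, ← pow_succ']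
  have h1 := h t
  rw [hxt, one_mul, mul_one, eq_comm, mul_eq_right] at h1
  have h2 := pow_gcd_eq_one.mpr (⟨h1, hdq⟩ : d ^ t = 1 ∧ d ^ q = 1)
  rwa [((Nat.coprime_primes ht hq).2 htq).gcd_eq_one, pow_one] at h2

/-- If every element of `V` is centralised by a nontrivial element of `T` then one element of `T`
centralises all. -/
theorem fixed_all {t q : ℕ} (ht : t.Prime) (hq : q.Prime) (htq : t ≠ q) {T V : Subgroup G}
    (hVn : V.Normal) (hTexp : ∀ x ∈ T, x ^ t = 1) (hTc : ∀ x ∈ T, ∀ y ∈ T, x * y = y * x)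
    (hVexp : ∀ x ∈ V, x ^ q = 1) (hVc : ∀ x ∈ V, ∀ y ∈ V, x * y = y * x)
    (hall : ∀ v ∈ V, ∃ x ∈ T, x ≠ 1 ∧ x * v = v * x) :
    ∃ x ∈ T, x ≠ 1 ∧ ∀ v ∈ V, x * v = v * x := by
  classical
  obtain ⟨v, hv, hmin⟩ := Set.exists_min_image (V : Set G)
    (fun v => Nat.card ↥(T ⊓ centralizer ({v} : Set G))) (Set.toFinite _) ⟨1, one_mem V⟩
  obtain ⟨x, hx, hx1, hxv⟩ := hall v hv
  refine ⟨x, hx, hx1, fun w hw => ?_⟩
  by_contra hne
  set u := x * w * x⁻¹ * w⁻¹ with hu
  have hcV : ∀ y : G, ∀ z ∈ V, y * z * y⁻¹ ∈ V := fun y z hz => hVn.conj_mem z hz y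
  have huV : u ∈ V := mul_mem (hcV x w hw) (inv_mem hw)
  have hu1 : u ≠ 1 := fun h => hne (by
    rw [hu, mul_inv_eq_one, mul_inv_eq_iff_eq_mul] at h; exact h)
  have hxu : x * u ≠ u * x := fun h => hu1 (disp_eq_one ht hq htq (hTexp x hx) hu h (hVexp u huV))
  have hle : T ⊓ centralizer ({v * u} : Set G) ≤ T ⊓ centralizer ({v} : Set G) := by
    rintro y ⟨hy, hyc⟩
    refine Subgroup.mem_inf.2 ⟨hy, mem_centralizer_singleton_iff.2 ?_⟩
    have hyc' := mem_centralizer_singleton_iff.1 hyc
    set d := y * v * y⁻¹ * v⁻¹ with hd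
    have hdV : d ∈ V := mul_mem (hcV y v hv) (inv_mem hv)
    have hd2 : d = u * (y * u * y⁻¹)⁻¹ := by
      rw [eq_mul_inv_iff_mul_eq, hd, hVc _ (mul_mem (hcV y v hv) (inv_mem hv)) _ (hcV y u huV)]
      calc y * u * y⁻¹ * (y * v * y⁻¹ * v⁻¹) = y * (u * v) * y⁻¹ * v⁻¹ := by group
        _ = y * (v * u) * y⁻¹ * v⁻¹ := by rw [hVc u huV v hv]
        _ = v * u * v⁻¹ := by rw [hyc', mul_inv_cancel_right]
        _ = u := by rw [hVc v hv u huV, mul_inv_cancel_right]
    have hxy := hTc x hx y hy
    have hd3 : d = x * (w * (y * w * y⁻¹)⁻¹) * x⁻¹ * (w * (y * w * y⁻¹)⁻¹)⁻¹ := by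
      have e2 : x * (y * w * y⁻¹) * x⁻¹ = y * (x * w * x⁻¹) * y⁻¹ := by
        calc x * (y * w * y⁻¹) * x⁻¹ = (x * y) * w * (x * y)⁻¹ := by group
          _ = (y * x) * w * (y * x)⁻¹ := by rw [hxy]
          _ = y * (x * w * x⁻¹) * y⁻¹ := by group
      have hA : x * w * x⁻¹ ∈ V := hcV x w hw
      have hB : y * w * y⁻¹ ∈ V := hcV y w hw
      have hC : y * (x * w * x⁻¹) * y⁻¹ ∈ V := hcV y _ hA
      calc d = u * (y * u * y⁻¹)⁻¹ := hd2
        _ = x * w * x⁻¹ * (w⁻¹ * (y * w * y⁻¹)) * (y * (x * w * x⁻¹) * y⁻¹)⁻¹ := by rw [hu]; group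
        _ = x * w * x⁻¹ * ((y * w * y⁻¹) * w⁻¹) * (y * (x * w * x⁻¹) * y⁻¹)⁻¹ := by
          rw [hVc _ (inv_mem hw) _ hB]
        _ = x * w * x⁻¹ * (((y * w * y⁻¹) * w⁻¹) * (y * (x * w * x⁻¹) * y⁻¹)⁻¹) := by rw [mul_assoc]
        _ = x * w * x⁻¹ * ((y * (x * w * x⁻¹) * y⁻¹)⁻¹ * ((y * w * y⁻¹) * w⁻¹)) := by
          rw [hVc _ (mul_mem hB (inv_mem hw)) _ (inv_mem hC)]
        _ = x * w * x⁻¹ * (x * (y * w * y⁻¹) * x⁻¹)⁻¹ * ((y * w * y⁻¹) * w⁻¹) := by
          rw [e2]; exact (mul_assoc _ _ _).symm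
        _ = _ := by group
    have hxd : x * d = d * x := by
      have hxv' : x * v⁻¹ = v⁻¹ * x := (Commute.inv_right (hxv : Commute x v) :)
      have hxy' : x * y⁻¹ = y⁻¹ * x := (Commute.inv_right (hxy : Commute x y) :)
      exact ((((Commute.mul_right (hxy : Commute x y) hxv).mul_right hxy').mul_right hxv') : Commute x d)
    have hd1 : d = 1 := disp_eq_one ht hq htq (hTexp x hx) hd3 hxd (hVexp d hdV)
    rw [hd, mul_inv_eq_one, mul_inv_eq_iff_eq_mul] at hd1
    exact hd1
  have hxin : x ∈ T ⊓ centralizer ({v} : Set G) := Subgroup.mem_inf.2 ⟨hx, mem_centralizer_singleton_iff.2 hxv⟩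
  have hxout : x ∉ T ⊓ centralizer ({v * u} : Set G) := fun h => hxu (by
    have h' := mem_centralizer_singleton_iff.1 h.2
    have h2 : x * (v * u) = v * (x * u) := by rw [← mul_assoc, hxv, mul_assoc]
    rw [h2, mul_assoc] at h'
    exact mul_left_cancel h')
  have hlt : Nat.card ↥(T ⊓ centralizer ({v * u} : Set G)) < Nat.card ↥(T ⊓ centralizer ({v} : Set G)) := by
    refine lt_of_le_of_ne (Subgroup.card_le_of_le hle) fun h => hxout ?_
    rw [Subgroup.eq_of_le_of_card_ge hle h.ge]; exact hxin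
  exact (not_le.2 hlt) (hmin (v * u) (mul_mem hv huV))

/-- A noncyclic elementary Sylow subgroup, normal modulo `E`, centralises every elementary abelian
normal subgroup of `E` whose lines are conjugate. -/
theorem centralizes (hB : ConjAb G) {t q : ℕ} [ht : Fact t.Prime] [hq : Fact q.Prime] (htq : t ≠ q)
    {T V E : Subgroup G} [V.Normal] [E.Normal] (hVE : V ≤ E) (hEc : ∀ x ∈ E, ∀ y ∈ E, x * y = y * x)
    (hcopE : (Nat.card E).Coprime t)
    (hTexp : ∀ x ∈ T, x ^ t = 1) (hTc : ∀ x ∈ T, ∀ y ∈ T, x * y = y * x) (hTnc : ¬ IsCyclic ↥T)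
    (hVexp : ∀ x ∈ V, x ^ q = 1) (hnorm : ∀ g : G, ∀ x ∈ T, g * x * g⁻¹ ∈ T ⊔ E) :
    T ≤ centralizer (V : Set G) := by
  classical
  rcases eq_or_ne V ⊥ with hV0 | hV0
  · intro x _
    rw [mem_centralizer_iff]
    intro v hv
    rw [show v = 1 from Subgroup.mem_bot.1 (hV0.le hv), one_mul, mul_one]
  have hVc : ∀ x ∈ V, ∀ y ∈ V, x * y = y * x := fun x hx y hy => hEc x (hVE hx) y (hVE hy)
  -- two independent elements
  obtain ⟨a, ha, ha1⟩ : ∃ a ∈ T, a ≠ 1 := by
    by_contra h
    push Not at h
    haveI : Subsingleton ↥T := ⟨fun u v => Subtype.ext ((h u u.2).trans (h v v.2).symm)⟩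
    exact hTnc isCyclic_of_subsingleton
  obtain ⟨b, hb, hba⟩ : ∃ b ∈ T, b ∉ zpowers a := by
    by_contra h
    push Not at h
    have e : T = zpowers a := le_antisymm h (zpowers_le.2 ha)
    exact hTnc (e ▸ inferInstance)
  have hao : orderOf a = t := orderOf_eq_prime (hTexp a ha) ha1
  have hbo : orderOf b = t := orderOf_eq_prime (hTexp b hb) fun h => hba (h ▸ one_mem _)
  letI : CommGroup V :=
    { (inferInstance : Group V) with mul_comm := fun x y => Subtype.ext (hVc x x.2 y y.2) }
  haveI : Nontrivial V := (Subgroup.nontrivial_iff_ne_bot V).2 hV0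
  let φ : G →* MulAut V := MulAut.conjNormal
  obtain ⟨x0, hx0, hx0o, m, hm1, hm⟩ := CfsgLib.PGroups.FixRank.exists_fixed φ
    (hcopE.coprime_dvd_left (Subgroup.card_dvd_of_le hVE)) hao hbo (hTc a ha b hb) hba
  have hx0T : x0 ∈ T := CfsgLib.PGroups.FixRank.closure_pair_le ha hb hx0
  have hx01 : x0 ≠ 1 := fun h => ht.out.ne_one (by rw [← hx0o, h, orderOf_one])
  have hmv : x0 * (m : G) = (m : G) * x0 := by
    have h := congrArg Subtype.val hm
    rw [MulAut.conjNormal_apply, mul_inv_eq_iff_eq_mul] at h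
    exact h
  have hall : ∀ v ∈ V, ∃ x ∈ T, x ≠ 1 ∧ x * v = v * x := by
    intro v hv
    rcases eq_or_ne v 1 with rfl | hv1
    · exact ⟨x0, hx0T, hx01, by rw [mul_one, one_mul]⟩
    have hmo : orderOf (m : G) = q := orderOf_eq_prime (hVexp _ m.2) fun h => hm1 (Subtype.ext h)
    obtain ⟨g, hg⟩ := hB (zpowers (m : G)) (zpowers v) inferInstance inferInstance
      (by rw [Nat.card_zpowers, Nat.card_zpowers, hmo, orderOf_eq_prime (hVexp v hv) hv1])
    obtain ⟨m', hm', hm'v⟩ := hg.le (mem_zpowers v)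
    obtain ⟨k, rfl⟩ := mem_zpowers_iff.1 hm'
    change g * (m : G) ^ k * g⁻¹ = v at hm'v
    obtain ⟨x', hx', e, he, hxe⟩ := Subgroup.mem_sup_of_normal_right.1 (hnorm g x0 hx0T)
    refine ⟨x', hx', fun h => hx01 ?_, ?_⟩
    · have h1 : g * x0 * g⁻¹ ∈ E := by rw [← hxe, h, one_mul]; exact he
      have h2 : x0 ∈ E := by
        have := (inferInstance : E.Normal).conj_mem' _ h1 g
        simpa [mul_assoc] using this
      have h3 := Nat.Coprime.eq_one_of_dvd (hcopE.symm) (hx0o ▸ Subgroup.orderOf_dvd_natCard E h2)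
      exact absurd h3 ht.out.ne_one
    · have hcomm : Commute (g * x0 * g⁻¹) v := by
        rw [← hm'v]
        exact (Commute.conj_iff g).2 (Commute.zpow_right (hmv : Commute x0 (m : G)) k)
      have hev : e * v = v * e := hEc e he v (hVE hv)
      have h1 : x' * e * v = v * (x' * e) := by rw [hxe]; exact hcomm
      rw [mul_assoc, hev, ← mul_assoc, ← mul_assoc] at h1
      exact mul_right_cancel h1
  obtain ⟨x, hx, hx1, hxV⟩ := fixed_all ht.out hq.out htq inferInstance hTexp hTc hVexp hVc hall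
  haveI : (centralizer (V : Set G)).Normal := Subgroup.normal_centralizer
  exact le_of_exp hB hTexp (m := x) (mem_centralizer_iff.2 fun v hv => (hxV v hv).symm)
    (orderOf_eq_prime (hTexp x hx) hx1)

/-- A `p`-element of the Fitting subgroup lies in `O_p`. -/
theorem mem_pCore_of_mem_fitting {p : ℕ} [hp : Fact p.Prime] {x : G}
    (hx : x ∈ Cfsg.fittingSubgroup G) (hxp : ∃ k, x ^ p ^ k = 1) : x ∈ Cfsg.pCore p G := by
  set F := Cfsg.fittingSubgroup G with hF
  haveI := isNilpotent_fittingSubgroup G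
  obtain ⟨P⟩ := (Sylow.nonempty : Nonempty (Sylow p F))
  haveI : (P : Subgroup F).Normal := inferInstance
  haveI : (P : Subgroup F).Characteristic := P.characteristic_of_normal inferInstance
  haveI : F.Normal := normal_fittingSubgroup G
  obtain ⟨k, hk⟩ := hxp
  have hxP : IsPGroup p (zpowers (⟨x, hx⟩ : F)) := by
    obtain ⟨j, -, hj⟩ := (Nat.dvd_prime_pow hp.out).mp (orderOf_dvd_of_pow_eq_one hk)
    exact IsPGroup.of_card (n := j) (by rw [Nat.card_zpowers, Subgroup.orderOf_mk, hj])
  obtain ⟨P', hP'⟩ := hxP.exists_le_sylow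
  haveI := (Sylow.unique_of_normal P inferInstance)
  rw [Subsingleton.elim P' P] at hP'
  exact le_pCore (P.isPGroup'.map F.subtype) (mem_map_of_mem _ (hP' (mem_zpowers _)))

/-- No noncyclic elementary Sylow subgroup, and a quaternion one is normal, provided none of the
former is normal. -/
theorem sylow_cyclic_or_normal [hsol : Group.IsSolvable G] (hB : ConjAb G)
    (hno : ∀ (t : ℕ) [Fact t.Prime] (T : Sylow t G), (T : Subgroup G).Normal →
      (∀ x ∈ (T : Subgroup G), x ^ t = 1) →
      (∀ x ∈ (T : Subgroup G), ∀ y ∈ (T : Subgroup G), x * y = y * x) → IsCyclic ↥(T : Subgroup G))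
    {s : ℕ} [hs : Fact s.Prime] (S : Sylow s G) :
    IsCyclic ↥(S : Subgroup G) ∨
      ((S : Subgroup G).Normal ∧ s = 2 ∧ Nonempty (↥(S : Subgroup G) ≃* QuaternionGroup 2)) := by
  classical
  have hFit := CfsgLib.Components.centralizer_fitting_le_of_isSolvable (G := G)
  have hO : ∀ (t : ℕ) [Fact t.Prime], IsCyclic ↥(Cfsg.pCore t G) ∨
      (t = 2 ∧ Nonempty (↥(Cfsg.pCore t G) ≃* QuaternionGroup 2)) := by
    intro t _
    obtain ⟨T⟩ := (Sylow.nonempty : Nonempty (Sylow t G))
    have hle := pCore_le_sylow (G := G) T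
    rcases sylow_types hB T with h | ⟨hexp, hc⟩ | ⟨h2, ⟨e⟩⟩
    · haveI := h
      exact Or.inl (isCyclic_of_injective (inclusion hle) (inclusion_injective hle))
    · rcases eq_or_ne (Cfsg.pCore t G) ⊥ with h0 | h0
      · rw [h0]; exact Or.inl isCyclic_of_subsingleton
      · obtain ⟨m, hm, hmo⟩ := exists_orderOf_prime (isPGroup_pCore t G) h0
        have hT : (T : Subgroup G) = Cfsg.pCore t G := le_antisymm (le_of_exp hB hexp hm hmo) hle
        have hTn : (T : Subgroup G).Normal := hT ▸ normal_pCore t G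
        exact Or.inl (hT ▸ hno t T hTn hexp hc)
    · subst h2
      by_cases h4 : ∃ m ∈ Cfsg.pCore 2 G, orderOf m = 4
      · obtain ⟨m, hm, hmo⟩ := h4
        have hT : (T : Subgroup G) = Cfsg.pCore 2 G := by
          refine le_antisymm (fun x hx => ?_) hle
          have hx4 : orderOf x ∣ 4 := by
            rw [← Subgroup.orderOf_mk x hx, ← e.orderOf_eq]
            exact orderOf_dvd_of_pow_eq_one (quaternion_facts.1 _)
          by_cases hx4' : orderOf x = 4
          · exact mem_of_orderOf hB hm (hmo.trans hx4'.symm)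
          · have hle2 : orderOf x ∣ 2 := by
              obtain ⟨i, hi, hio⟩ := (Nat.dvd_prime_pow Nat.prime_two).1 (show orderOf x ∣ 2 ^ 2 from hx4)
              interval_cases i
              · rw [hio]; exact one_dvd _
              · rw [hio]; exact dvd_rfl
              · exact absurd hio hx4'
            have hx2 : (⟨x, hx⟩ : (T : Subgroup G)) ^ 2 = 1 :=
              Subtype.ext (by rw [Subgroup.coe_pow]; exact orderOf_dvd_iff_pow_eq_one.1 hle2)
            have hm2 : (⟨m, hle hm⟩ : (T : Subgroup G)) ^ 2 ≠ 1 := fun h => by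
              have := orderOf_dvd_of_pow_eq_one h
              rw [Subgroup.orderOf_mk, hmo] at this
              norm_num at this
            have hm4 : ((⟨m, hle hm⟩ : (T : Subgroup G)) ^ 2) ^ 2 = 1 := by
              rw [← pow_mul, show 2 * 2 = orderOf (⟨m, hle hm⟩ : (T : Subgroup G)) from by rw [Subgroup.orderOf_mk, hmo],
                pow_orderOf_eq_one]
            rcases quaternion_facts.2.1 (e ⟨x, hx⟩) (by rw [← map_pow, hx2, map_one]) with h | h
            · rw [MulEquiv.map_eq_one_iff] at h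
              rw [show x = 1 from congrArg Subtype.val h]
              exact one_mem _
            · rcases quaternion_facts.2.1 (e ((⟨m, hle hm⟩ : (T : Subgroup G)) ^ 2))
                (by rw [← map_pow, hm4, map_one]) with h' | h'
              · exact absurd ((MulEquiv.map_eq_one_iff e).1 h') hm2
              · have := congrArg Subtype.val (e.injective (h.trans h'.symm))
                rw [Subgroup.coe_pow] at this
                rw [show x = m ^ 2 from this]
                exact pow_mem hm 2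
        exact Or.inr ⟨rfl, ⟨(MulEquiv.subgroupCongr hT).symm.trans e⟩⟩
      · -- every element squares to one
        refine Or.inl ?_
        push Not at h4
        have hsmall : ∀ x ∈ Cfsg.pCore 2 G, x = 1 ∨ x = ((e.symm (QuaternionGroup.a 2) : (T : Subgroup G)) : G) := by
          intro x hx
          have hx4 : orderOf x ∣ 2 ^ 2 := by
            rw [← Subgroup.orderOf_mk x (hle hx), ← e.orderOf_eq]
            exact orderOf_dvd_of_pow_eq_one (quaternion_facts.1 _)
          obtain ⟨i, hi, hio⟩ := (Nat.dvd_prime_pow Nat.prime_two).1 hx4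
          have hdvd : orderOf x ∣ 2 := by
            interval_cases i
            · rw [hio]; exact one_dvd _
            · rw [hio]; exact dvd_rfl
            · exact absurd hio (h4 x hx)
          rcases quaternion_facts.2.1 (e ⟨x, hle hx⟩) (by
            rw [← map_pow, show (⟨x, hle hx⟩ : (T : Subgroup G)) ^ 2 = 1 from
              Subtype.ext (by rw [Subgroup.coe_pow]; exact orderOf_dvd_iff_pow_eq_one.1 hdvd), map_one]) with h | h
          · rw [MulEquiv.map_eq_one_iff] at h
            exact Or.inl (congrArg Subtype.val h)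
          · rw [← h, MulEquiv.symm_apply_apply]
            exact Or.inr rfl
        by_cases hb : ∃ y : ↥(Cfsg.pCore 2 G), y ≠ 1
        · obtain ⟨y, hy⟩ := hb
          refine ⟨y, fun x => ?_⟩
          rcases hsmall x x.2 with h | h
          · exact ⟨0, Subtype.ext (by simpa using h.symm)⟩
          · rcases hsmall y y.2 with h' | h'
            · exact absurd (Subtype.ext h') hy
            · exact ⟨1, Subtype.ext (by simpa using h'.trans h.symm)⟩
        · push Not at hb
          haveI : Subsingleton ↥(Cfsg.pCore 2 G) := ⟨fun u v => (hb u).trans (hb v).symm⟩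
          exact isCyclic_of_subsingleton
  rcases sylow_types hB S with h | ⟨hexp, hc⟩ | ⟨h2, ⟨e⟩⟩
  · exact Or.inl h
  · -- elementary abelian
    refine Or.inl (by_contra fun hnc => ?_)
    obtain ⟨n, hn⟩ := IsPGroup.iff_card.1 S.2
    have hn2 : 2 ≤ n := by
      by_contra h
      rcases (show n = 0 ∨ n = 1 by omega) with rfl | rfl
      · haveI : Subsingleton ↥(S : Subgroup G) := (Nat.card_eq_one_iff_unique.1 (by rw [hn, pow_zero])).1
        exact hnc isCyclic_of_subsingleton
      · exact hnc (isCyclic_of_prime_card (p := s) (by rw [hn, pow_one]))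
    have hcent : ∀ (t : ℕ) [Fact t.Prime], (S : Subgroup G) ≤ centralizer (Cfsg.pCore t G : Set G) := by
      intro t htp
      by_cases hts : t = s
      · subst hts
        intro x hx
        rw [mem_centralizer_iff]
        intro y hy
        exact hc y (pCore_le_sylow S hy) x hx
      suffices h : ∃ x ∈ (S : Subgroup G), x ≠ 1 ∧ x ∈ centralizer (Cfsg.pCore t G : Set G) by
        obtain ⟨x, hx, hx1, hxc⟩ := h
        haveI : (centralizer (Cfsg.pCore t G : Set G)).Normal := Subgroup.normal_centralizer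
        exact le_of_exp hB hexp hxc (orderOf_eq_prime (hexp x hx) hx1)
      let f : ↥(S : Subgroup G) →* MulAut ↥(Cfsg.pCore t G) :=
        (MulAut.conjNormal : G →* MulAut ↥(Cfsg.pCore t G)).comp (S : Subgroup G).subtype
      suffices h : ¬ Function.Injective f by
        rw [← MonoidHom.ker_eq_bot_iff, Subgroup.eq_bot_iff_forall] at h
        push Not at h
        obtain ⟨x, hx, hx1⟩ := h
        refine ⟨x, x.2, fun h' => hx1 (Subtype.ext h'), mem_centralizer_iff.2 fun y hy => ?_⟩
        have h' := congrArg Subtype.val (MulEquiv.congr_fun (MonoidHom.mem_ker.1 hx) ⟨y, hy⟩)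
        change (x : G) * y * (x : G)⁻¹ = y at h'
        exact (mul_inv_eq_iff_eq_mul.1 h').symm
      intro hinj
      rcases hO t with hcyc | ⟨h2, ⟨e⟩⟩
      · obtain ⟨a, ha⟩ := IsPGroup.iff_card.1 (isPGroup_pCore t G)
        let g := (IsCyclic.mulAutMulEquiv ↥(Cfsg.pCore t G)).toMonoidHom.comp f
        have hg : Function.Injective g := fun a b h => hinj ((IsCyclic.mulAutMulEquiv ↥(Cfsg.pCore t G)).injective h)
        by_cases ht2 : t = 2
        · subst ht2
          have h1 : Nat.card ↥(S : Subgroup G) ∣ Nat.card (ZMod (Nat.card ↥(Cfsg.pCore 2 G)))ˣ :=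
            Subgroup.card_dvd_of_injective g hg
          rw [hn, ha, Nat.card_eq_fintype_card, ZMod.card_units_eq_totient] at h1
          rcases Nat.eq_zero_or_pos a with rfl | ha0
          · rw [pow_zero, Nat.totient_one, Nat.dvd_one] at h1
            exact absurd ((pow_eq_one_iff.1 h1).resolve_right (by omega)) hs.out.ne_one
          · rw [Nat.totient_prime_pow Nat.prime_two ha0, Nat.add_one_sub_one, mul_one] at h1
            exact hts ((Nat.prime_dvd_prime_iff_eq hs.out Nat.prime_two).1
              (hs.out.dvd_of_dvd_pow ((dvd_pow_self s (by omega)).trans h1))).symm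
        · haveI : IsCyclic (ZMod (Nat.card ↥(Cfsg.pCore t G)))ˣ := by
            rw [ha]; exact ZMod.isCyclic_units_of_prime_pow t htp.out ht2 a
          exact hnc (isCyclic_of_injective g hg)
      · -- three subgroups of order four
        subst h2
        set Zr := center ↥(Cfsg.pCore 2 G) with hZr
        have hZ2 : Nat.card ↥Zr = 2 := by
          rw [Nat.card_congr (Subgroup.centerCongr e).toEquiv]
          have h := quaternion_facts.2.2
          have hset : (center (QuaternionGroup 2) : Set (QuaternionGroup 2)) =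
              {1, QuaternionGroup.a 2} := by
            ext x
            rw [SetLike.mem_coe, Subgroup.mem_center_iff, h x]
            simp
          have h2 := congrArg Set.ncard hset
          rw [Set.ncard_pair (by decide), ← Nat.card_coe_set_eq] at h2
          exact h2
        have hR8 : Nat.card ↥(Cfsg.pCore 2 G) = 8 := by
          rw [Nat.card_congr e.toEquiv, Nat.card_eq_fintype_card, QuaternionGroup.card]
        have hidx : Nat.card (↥(Cfsg.pCore 2 G) ⧸ Zr) = 4 := by
          have h := Zr.card_eq_card_quotient_mul_card_subgroup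
          rw [hR8, hZ2] at h
          omega
        let act : MulAut ↥(Cfsg.pCore 2 G) →* Equiv.Perm (↥(Cfsg.pCore 2 G) ⧸ Zr) :=
          { toFun := fun φ => (QuotientGroup.congr Zr Zr φ (Subgroup.characteristic_iff_map_eq.1 inferInstance φ)).toEquiv
            map_one' := by
              ext x
              induction x using QuotientGroup.induction_on with
              | H x => rfl
            map_mul' := fun φ ψ => by
              ext x
              induction x using QuotientGroup.induction_on with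
              | H x => rfl }
        have hker : ¬ Function.Injective (act.comp f) := by
          intro h
          have h1 := Subgroup.card_dvd_of_injective _ h
          rw [hn, Nat.card_perm, hidx] at h1
          have h2 : s ^ 2 ∣ 24 := (pow_dvd_pow s hn2).trans h1
          have h3 := Nat.le_of_dvd (by norm_num) h2
          have hs3 : 3 ≤ s := by have := hs.out.two_le; omega
          have hs4 : s ≤ 4 := by nlinarith
          interval_cases s
          · norm_num at h2
          · norm_num at h2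
        rw [← MonoidHom.ker_eq_bot_iff, Subgroup.eq_bot_iff_forall] at hker
        push Not at hker
        obtain ⟨x, hx, hx1⟩ := hker
        refine hx1 (hinj ?_)
        rw [map_one]
        refine MulEquiv.ext fun y => ?_
        rw [MulAut.one_apply]
        have hcos : ((f x y : ↥(Cfsg.pCore 2 G)) : ↥(Cfsg.pCore 2 G) ⧸ Zr) = (y : ↥(Cfsg.pCore 2 G) ⧸ Zr) :=
          Equiv.congr_fun (MonoidHom.mem_ker.1 hx) (y : ↥(Cfsg.pCore 2 G) ⧸ Zr)
        have hzc : ∀ z ∈ Zr, f x z = z := by
          intro z hz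
          have hz' : f x z ∈ Zr := Subgroup.characteristic_iff_le_comap.1 inferInstance (f x) hz
          by_cases hz1 : z = 1
          · rw [hz1, map_one]
          · by_contra hne
            have h3 : ({1, ⟨z, hz⟩, ⟨f x z, hz'⟩} : Finset ↥Zr).card ≤ 2 := by
              haveI := Fintype.ofFinite ↥Zr
              refine le_trans ?_ hZ2.le
              rw [Nat.card_eq_fintype_card]
              exact Finset.card_le_univ _
            rw [Finset.card_insert_of_notMem, Finset.card_insert_of_notMem, Finset.card_singleton] at h3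
            · omega
            · simp only [Finset.mem_singleton, Subtype.mk.injEq]; exact Ne.symm hne
            · simp only [Finset.mem_insert, Finset.mem_singleton]
              exact not_or.2 ⟨fun h => hz1 (congrArg Subtype.val h).symm, fun h => hz1 (by
                have h' : (1 : ↥(Cfsg.pCore 2 G)) = f x z := congrArg Subtype.val h
                exact (MulEquiv.map_eq_one_iff (f x)).1 h'.symm)⟩
        have hd : y⁻¹ * f x y ∈ Zr := QuotientGroup.eq.1 hcos.symm
        have hit : ∀ k : ℕ, (f (x ^ k)) y = y * (y⁻¹ * f x y) ^ k := by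
          intro k
          induction k with
          | zero => rw [pow_zero, map_one, pow_zero, mul_one]; rfl
          | succ k ih =>
            rw [pow_succ', map_mul, MulAut.mul_apply, ih, map_mul, map_pow, hzc _ hd, pow_succ',
              ← mul_assoc, mul_inv_cancel_left]
        have h1 := hit s
        rw [show x ^ s = 1 from Subtype.ext (by rw [Subgroup.coe_pow, hexp x x.2]; rfl), map_one] at h1
        have h2 : (y⁻¹ * f x y) ^ s = 1 := mul_eq_left.1 h1.symm
        have h3 : (y⁻¹ * f x y) ^ 2 = 1 := by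
          have h4 := congrArg Subtype.val (pow_card_eq_one' (x := (⟨_, hd⟩ : ↥Zr)))
          rw [hZ2] at h4
          exact h4
        have h5 := pow_gcd_eq_one.mpr (⟨h2, h3⟩ : (y⁻¹ * f x y) ^ s = 1 ∧ (y⁻¹ * f x y) ^ 2 = 1)
        rw [((Nat.coprime_primes hs.out Nat.prime_two).2 (Ne.symm hts)).gcd_eq_one, pow_one,
          inv_mul_eq_one] at h5
        exact h5.symm
    have hSF : (S : Subgroup G) ≤ Cfsg.fittingSubgroup G := by
      intro x hx
      refine hFit (mem_centralizer_iff.2 fun y hy => ?_)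
      have hle : Cfsg.fittingSubgroup G ≤ centralizer ({x} : Set G) := by
        rw [fittingSubgroup_eq_iSup_pCore]
        refine iSup_le fun t => ?_
        haveI := Fact.mk t.2
        intro y hy
        exact mem_centralizer_singleton_iff.2 (mem_centralizer_iff.1 (hcent t hx) y hy)
      exact mem_centralizer_singleton_iff.1 (hle hy)
    have hSn : (S : Subgroup G).Normal := by
      have : (S : Subgroup G) = Cfsg.pCore s G := le_antisymm
        (fun x hx => mem_pCore_of_mem_fitting (hSF hx) ⟨1, by rw [pow_one]; exact hexp x hx⟩) (pCore_le_sylow S)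
      exact this ▸ normal_pCore s G
    exact hnc (hno s S hSn hexp hc)
  · -- quaternion
    subst h2
    refine Or.inr ⟨?_, rfl, ⟨e⟩⟩
    have hord : ∀ x : ↥(S : Subgroup G), x ^ 2 ≠ 1 → orderOf (x : G) = 4 := by
      intro x hx
      rw [Subgroup.orderOf_coe, ← e.orderOf_eq]
      have h4 := orderOf_dvd_of_pow_eq_one (quaternion_facts.1 (e x))
      obtain ⟨i, hi, hio⟩ := (Nat.dvd_prime_pow Nat.prime_two).1 (show orderOf (e x) ∣ 2 ^ 2 from h4)
      interval_cases i
      · exfalso; refine hx ?_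
        rw [pow_zero, orderOf_eq_one_iff, MulEquiv.map_eq_one_iff] at hio
        rw [hio, one_pow]
      · exfalso; refine hx (e.injective ?_)
        rw [map_pow, map_one]
        have := pow_orderOf_eq_one (e x)
        rwa [hio, pow_one] at this
      · exact hio
    have hsq : ∀ x : ↥(S : Subgroup G), x ^ 2 = 1 → ∀ y : ↥(S : Subgroup G), y * x = x * y := fun x hx y =>
      e.injective (by
        rw [map_mul, map_mul]
        exact (quaternion_facts.2.2 _).2 (quaternion_facts.2.1 _ (by rw [← map_pow, hx, map_one])) _)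
    obtain ⟨i, j, hij⟩ : ∃ i j : ↥(S : Subgroup G), i * j ≠ j * i := by
      refine ⟨e.symm (QuaternionGroup.a 1), e.symm (QuaternionGroup.xa 0), fun h => ?_⟩
      have := congrArg e h
      rw [map_mul, map_mul, MulEquiv.apply_symm_apply, MulEquiv.apply_symm_apply] at this
      exact absurd this (by decide)
    have hio : orderOf (i : G) = 4 := hord i fun h => hij (hsq i h j).symm
    have hjo : orderOf (j : G) = 4 := hord j fun h => hij (hsq j h i)
    obtain ⟨g, hg⟩ := hB (zpowers (i : G)) (zpowers (j : G)) inferInstance inferInstance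
      (by rw [Nat.card_zpowers, Nat.card_zpowers, hio, hjo])
    have hgi : g * (i : G) * g⁻¹ ∈ zpowers (j : G) := hg.ge ⟨_, mem_zpowers _, rfl⟩
    by_cases h4 : ∃ m ∈ Cfsg.pCore 2 G, orderOf m = 4
    · obtain ⟨m, hm, hmo⟩ := h4
      have hSO : (S : Subgroup G) = Cfsg.pCore 2 G := by
        refine le_antisymm (fun x hx => ?_) (pCore_le_sylow S)
        by_cases hx2 : (⟨x, hx⟩ : ↥(S : Subgroup G)) ^ 2 = 1
        · rcases quaternion_facts.2.1 (e ⟨x, hx⟩) (by rw [← map_pow, hx2, map_one]) with h | h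
          · rw [MulEquiv.map_eq_one_iff] at h
            rw [show x = 1 from congrArg Subtype.val h]
            exact one_mem _
          · have hi2 : i ^ 2 ≠ 1 := fun h => hij (hsq i h j).symm
            have h' : e (i ^ 2) = QuaternionGroup.a 2 := by
              refine (quaternion_facts.2.1 _ ?_).resolve_left fun h' => hi2 ((MulEquiv.map_eq_one_iff e).1 h')
              rw [← map_pow, ← pow_mul, show 2 * 2 = orderOf i from by rw [← Subgroup.orderOf_coe, hio],
                pow_orderOf_eq_one, map_one]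
            have := congrArg Subtype.val (e.injective (h.trans h'.symm))
            rw [Subgroup.coe_pow] at this
            rw [show x = (i : G) ^ 2 from this]
            exact pow_mem (mem_of_orderOf hB hm (hmo.trans hio.symm)) 2
        · exact mem_of_orderOf hB hm (hmo.trans (hord ⟨x, hx⟩ hx2).symm)
      exact hSO ▸ normal_pCore 2 G
    · exfalso
      push Not at h4
      have hcyc : ∀ (t : ℕ) [Fact t.Prime], IsCyclic ↥(Cfsg.pCore t G) := by
        intro t _
        rcases hO t with h | ⟨rfl, ⟨e'⟩⟩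
        · exact h
        · exfalso
          refine h4 ((e'.symm (QuaternionGroup.a 1) : ↥(Cfsg.pCore 2 G)) : G)
            (e'.symm (QuaternionGroup.a 1)).2 ?_
          rw [Subgroup.orderOf_coe, e'.symm.orderOf_eq, QuaternionGroup.orderOf_a]
          decide
      set c := g * (i : G) * g⁻¹ * (i : G)⁻¹ with hcdef
      have hcF : c ∈ Cfsg.fittingSubgroup G := by
        refine hFit (mem_centralizer_iff.2 fun y hy => ?_)
        have hle : Cfsg.fittingSubgroup G ≤ centralizer ({c} : Set G) := by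
          rw [fittingSubgroup_eq_iSup_pCore]
          refine iSup_le fun t => ?_
          haveI := Fact.mk t.2
          haveI := hcyc t
          intro y hy
          let M := MulAut ↥(Cfsg.pCore (t : ℕ) G)
          let φ : G →* M := MulAut.conjNormal
          have hcm : ∀ u v : M, u * v = v * u := fun u v =>
            (IsCyclic.mulAutMulEquiv _).injective (by rw [map_mul, map_mul, mul_comm])
          have h1 : φ c = 1 := by
            rw [hcdef, map_mul, map_mul, map_mul, map_inv, map_inv, hcm (φ g) (φ i), mul_inv_cancel_right,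
              mul_inv_cancel]
          have h2 := congrArg Subtype.val (MulEquiv.congr_fun h1 ⟨y, hy⟩)
          change c * y * c⁻¹ = y at h2
          exact mem_centralizer_singleton_iff.2 (mul_inv_eq_iff_eq_mul.1 h2).symm
        exact mem_centralizer_singleton_iff.1 (hle hy)
      obtain ⟨k, hk⟩ := mem_zpowers_iff.1 hgi
      have hcS : c ∈ (S : Subgroup G) := by
        rw [hcdef, ← hk]; exact mul_mem (zpow_mem j.2 k) (inv_mem i.2)
      by_cases hc2 : (⟨c, hcS⟩ : ↥(S : Subgroup G)) ^ 2 = 1
      · refine hij ?_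
        have hcomm : ∀ y, y * (⟨c, hcS⟩ : ↥(S : Subgroup G)) = ⟨c, hcS⟩ * y := hsq _ hc2
        have e1 : j ^ k = ⟨c, hcS⟩ * i := Subtype.ext (by
          rw [Subgroup.coe_zpow, hk, Subgroup.coe_mul]; show _ = c * (i : G); rw [hcdef]; group)
        have e2 : Commute i (j ^ k) := by
          rw [e1]
          exact (show Commute i ⟨c, hcS⟩ from hcomm i).mul_right (Commute.refl i)
        have hgen : j ∈ zpowers (j ^ k) := by
          have hjk : orderOf ((j : G) ^ k) = 4 := by
            rw [hk, show g * (i : G) * g⁻¹ = MulAut.conj g (i : G) from rfl, MulEquiv.orderOf_eq, hio]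
          have h1 : zpowers ((j : G) ^ k) = zpowers (j : G) := Subgroup.eq_of_le_of_card_ge
            (zpowers_le.2 (zpow_mem (mem_zpowers _) k)) (by rw [Nat.card_zpowers, Nat.card_zpowers, hjk, hjo])
          obtain ⟨l, hl⟩ := mem_zpowers_iff.1 (h1.ge (mem_zpowers (j : G)))
          exact mem_zpowers_iff.2 ⟨l, Subtype.ext (by rw [Subgroup.coe_zpow, Subgroup.coe_zpow]; exact hl)⟩
        obtain ⟨l, hl⟩ := mem_zpowers_iff.1 hgen
        have := e2.zpow_right l
        rw [hl] at this
        exact this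
      · have hco := hord ⟨c, hcS⟩ hc2
        exact h4 c (mem_pCore_of_mem_fitting hcF ⟨2, by
          rw [show (2 : ℕ) ^ 2 = 4 from rfl, ← hco]; exact pow_orderOf_eq_one c⟩) hco

/-- If `S` normalises every subgroup of `V` of one intermediate order, its commutators centralise
`V`. -/
theorem commutator_centralizes {q m d : ℕ} [hq : Fact q.Prime] {V : Subgroup G}
    (hVexp : ∀ x ∈ V, x ^ q = 1) (hVc : ∀ x ∈ V, ∀ y ∈ V, x * y = y * x) (hcard : Nat.card V = q ^ d)
    (hm : 1 ≤ m) (hmd : m < d) {x y : G} (hxV : ∀ v ∈ V, x * v * x⁻¹ ∈ V) (hyV : ∀ v ∈ V, y * v * y⁻¹ ∈ V)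
    (hx : ∀ W : Subgroup G, W ≤ V → Nat.card W = q ^ m → ∀ w ∈ W, x * w * x⁻¹ ∈ W)
    (hy : ∀ W : Subgroup G, W ≤ V → Nat.card W = q ^ m → ∀ w ∈ W, y * w * y⁻¹ ∈ W) :
    ∀ v ∈ V, ⁅x, y⁆ * v = v * ⁅x, y⁆ := by
  classical
  have hord : ∀ v ∈ V, v ≠ 1 → orderOf v = q := fun v hv hv1 => orderOf_eq_prime (hVexp v hv) hv1
  have hsup : ∀ (W : Subgroup G) (k : ℕ), W ≤ V → Nat.card W = q ^ k → ∀ w ∈ V, w ∉ W →
      Nat.card ↥(W ⊔ zpowers w) = q ^ (k + 1) := by
    intro W k hW hc w hw hwW
    have hn : W ≤ normalizer ((zpowers w : Subgroup G) : Set G) := by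
      rw [le_normalizer_iff]
      intro a ha z hz
      have : a * z * a⁻¹ = z := by
        rw [hVc a (hW ha) z (zpowers_le.2 hw hz), mul_inv_cancel_right]
      rwa [this]
    have h1 := card_sup_dvd W (zpowers w) hn
    rw [hc, Nat.card_zpowers, hord w hw (fun h => hwW (h ▸ one_mem W)), ← pow_succ] at h1
    obtain ⟨i, hi, hic⟩ := (Nat.dvd_prime_pow hq.out).1 h1
    rw [hic]
    congr 1
    have hlt : Nat.card W < Nat.card ↥(W ⊔ zpowers w) :=
      lt_of_le_of_ne (Subgroup.card_le_of_le le_sup_left) fun h => hwW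
        ((Subgroup.eq_of_le_of_card_ge le_sup_left h.ge).ge (mem_sup_right (mem_zpowers w)))
    rw [hc, hic] at hlt
    have := (Nat.pow_lt_pow_iff_right hq.out.one_lt).1 hlt
    omega
  have avoid : ∀ v ∈ V, v ≠ 1 → ∀ u ∈ V, u ∉ zpowers v →
      ∀ k, 1 ≤ k → k < d → ∃ W ≤ V, Nat.card W = q ^ k ∧ v ∈ W ∧ u ∉ W := by
    intro v hv hv1 u hu huv k hk
    induction k, hk using Nat.le_induction with
    | base => exact fun _ => ⟨zpowers v, zpowers_le.2 hv,
        by rw [Nat.card_zpowers, hord v hv hv1, pow_one], mem_zpowers v, huv⟩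
    | succ k hk ih =>
      intro hkd
      obtain ⟨W, hW, hWc, hvW, huW⟩ := ih (by omega)
      have hWu := hsup W k hW hWc u hu huW
      obtain ⟨w, hw, hwn⟩ : ∃ w ∈ V, w ∉ W ⊔ zpowers u := by
        by_contra h
        push Not at h
        have h1 := Subgroup.card_le_of_le (show V ≤ W ⊔ zpowers u from h)
        rw [hcard, hWu] at h1
        exact absurd ((Nat.pow_le_pow_iff_right hq.out.one_lt).1 h1) (by omega)
      have hwW : w ∉ W := fun h => hwn (mem_sup_left h)
      refine ⟨W ⊔ zpowers w, sup_le hW (zpowers_le.2 hw), hsup W k hW hWc w hw hwW, mem_sup_left hvW,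
        fun huw => hwn ?_⟩
      have he : W ⊔ zpowers u = W ⊔ zpowers w := Subgroup.eq_of_le_of_card_ge
        (sup_le le_sup_left (zpowers_le.2 huw)) (by rw [hWu, hsup W k hW hWc w hw hwW])
      rw [he]
      exact mem_sup_right (mem_zpowers w)
  have hline : ∀ z : G, (∀ v ∈ V, z * v * z⁻¹ ∈ V) →
      (∀ W : Subgroup G, W ≤ V → Nat.card W = q ^ m → ∀ w ∈ W, z * w * z⁻¹ ∈ W) →
      ∀ v ∈ V, ∃ k : ℤ, z * v * z⁻¹ = v ^ k := by
    intro z hz hzW v hv
    by_contra h
    push Not at h
    have hv1 : v ≠ 1 := fun e => h 0 (by rw [e]; simp)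
    have hout : z * v * z⁻¹ ∉ zpowers v := fun hm => by
      obtain ⟨k, hk⟩ := mem_zpowers_iff.1 hm
      exact h k hk.symm
    obtain ⟨W, hW, hWc, hvW, hnW⟩ := avoid v hv hv1 _ (hz v hv) hout m hm hmd
    exact hnW (hzW W hW hWc v hvW)
  intro v hv
  obtain ⟨v', hv', rfl⟩ : ∃ v' ∈ V, (y * x) * v' * (y * x)⁻¹ = v := by
    have hyx : ∀ n : ℕ, ∀ z ∈ V, (y * x) ^ n * z * ((y * x) ^ n)⁻¹ ∈ V := by
      intro n
      induction n with
      | zero => intro z hz; simpa using hz
      | succ n ih =>
        intro z hz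
        have e : (y * x) ^ (n + 1) * z * ((y * x) ^ (n + 1))⁻¹ =
            (y * x) ^ n * (y * (x * z * x⁻¹) * y⁻¹) * ((y * x) ^ n)⁻¹ := by
          rw [pow_succ]; group
        rw [e]
        exact ih _ (hyV _ (hxV z hz))
    refine ⟨(y * x) ^ (orderOf (y * x) - 1) * v * ((y * x) ^ (orderOf (y * x) - 1))⁻¹, hyx _ v hv, ?_⟩
    have e : (y * x) ^ (orderOf (y * x) - 1) = (y * x)⁻¹ := eq_inv_of_mul_eq_one_left (by
      rw [← pow_succ, Nat.sub_add_cancel (orderOf_pos _), pow_orderOf_eq_one])
    rw [e]; group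
  obtain ⟨a, ha⟩ := hline x hxV hx v' hv'
  obtain ⟨b, hb⟩ := hline y hyV hy v' hv'
  have f1 : x * y * v' * (x * y)⁻¹ = v' ^ (b * a : ℤ) :=
    calc x * y * v' * (x * y)⁻¹ = x * (y * v' * y⁻¹) * x⁻¹ := by group
      _ = (x * v' * x⁻¹) ^ b := by rw [hb, conj_zpow]
      _ = v' ^ (b * a : ℤ) := by rw [ha, ← zpow_mul, mul_comm]
  have f2 : y * x * v' * (y * x)⁻¹ = v' ^ (b * a : ℤ) :=
    calc y * x * v' * (y * x)⁻¹ = y * (x * v' * x⁻¹) * y⁻¹ := by group
      _ = (y * v' * y⁻¹) ^ a := by rw [ha, conj_zpow]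
      _ = v' ^ (b * a : ℤ) := by rw [hb, ← zpow_mul]
  have hc : (y * x)⁻¹ * (x * y) * v' = v' * ((y * x)⁻¹ * (x * y)) := by
    calc (y * x)⁻¹ * (x * y) * v' = (y * x)⁻¹ * (x * y * v' * (x * y)⁻¹) * (x * y) := by group
      _ = (y * x)⁻¹ * (y * x * v' * (y * x)⁻¹) * (x * y) := by rw [f1.trans f2.symm]
      _ = v' * ((y * x)⁻¹ * (x * y)) := by group
  rw [show ⁅x, y⁆ = (y * x) * ((y * x)⁻¹ * (x * y)) * (y * x)⁻¹ by rw [commutatorElement_def]; group]
  exact ((Commute.conj_iff (y * x)).2 (hc : Commute _ _) :)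

end CfsgLib.Core.ConjAbelian
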