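import Cfsg.Agent.Lib.Core.MinNormal
import Cfsg.Agent.Lib.Core.FPFSymThreeBasic
import Mathlib.Tactic

/-!
# Minimal subgroups moved by coprime operators

`exists_critical`: inside a nilpotent group moved by a group `G` of operators of coprime order, a
minimal invariant subgroup moved by `G` is an `s`-group of class at most two with elementary
abelian factor group, on which `G` has no fixed point.
-/

set_option autoImplicit false
set_option linter.all false

namespace CfsgLib.Core.HH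

open Subgroup
open scoped commutatorElement

variable {Y : Type*} [Group Y] [Finite Y]

/-- An automorphism restricted to an invariant subgroup. -/
noncomputable def res (U : Subgroup Y) (φ : MulAut Y) (h : ∀ u ∈ U, φ u ∈ U) : MulAut U :=
  MulEquiv.ofBijective
    ((φ.toMonoidHom.comp U.subtype).codRestrict U fun u => h u u.2 : U →* U)
    (Finite.injective_iff_bijective.mp fun a b hab =>
      Subtype.ext (φ.injective (congrArg Subtype.val hab)))

@[simp] theorem coe_res (U : Subgroup Y) (φ : MulAut Y) (h : ∀ u ∈ U, φ u ∈ U) (u : U) :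
    (res U φ h u : Y) = φ u := rfl

theorem exists_critical {G : Type*} [Group G] [Finite G] (ψ : G →* MulAut Y) (θ : MulAut Y)
    (hκ : ∀ g, ∃ g', θ * ψ g = ψ g' * θ) {F : Subgroup Y} (hFn : Group.IsNilpotent F)
    (hFg : ∀ g, ∀ y ∈ F, ψ g y ∈ F) (hFθ : ∀ y ∈ F, θ y ∈ F)
    (hco : (Nat.card F).Coprime (Nat.card G)) (hbad : ∃ g, ∃ y ∈ F, ψ g y ≠ y) :
    ∃ (U : Subgroup Y) (s : ℕ), s.Prime ∧ s ∣ Nat.card F ∧ U ≤ F ∧ IsPGroup s U ∧
      (∀ g, ∀ u ∈ U, ψ g u ∈ U) ∧ (∀ u ∈ U, θ u ∈ U) ∧ (∃ g, ∃ u ∈ U, ψ g u ≠ u) ∧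
      (∀ z ∈ ⁅U, U⁆, (∀ g, ψ g z = z) ∧ ∀ u ∈ U, u * z = z * u) ∧
      (∀ w ∈ U, (∀ g, w⁻¹ * ψ g w ∈ ⁅U, U⁆) → w ∈ ⁅U, U⁆) ∧
      (∀ u ∈ U, u ^ s ∈ ⁅U, U⁆) ∧
      (∀ L ≤ U, L ≠ U → (∀ g, ∀ u ∈ L, ψ g u ∈ L) → (∀ u ∈ L, θ u ∈ L) →
        ∀ g, ∀ u ∈ L, ψ g u = u) := by
  classical
  letI := Fintype.ofFinite G
  obtain ⟨U, ⟨hUF, hUg, hUθ, hUbad⟩, hmin⟩ := Set.Finite.exists_minimal
    (Set.toFinite {U : Subgroup Y | U ≤ F ∧ (∀ g, ∀ u ∈ U, ψ g u ∈ U) ∧ (∀ u ∈ U, θ u ∈ U) ∧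
      ∃ g, ∃ u ∈ U, ψ g u ≠ u}) ⟨F, le_rfl, hFg, hFθ, hbad⟩
  have hgood : ∀ L ≤ U, L ≠ U → (∀ g, ∀ u ∈ L, ψ g u ∈ L) → (∀ u ∈ L, θ u ∈ L) →
      ∀ g, ∀ u ∈ L, ψ g u = u := by
    intro L hLU hne hLg hLθ g u hu
    by_contra hfu
    exact hne (le_antisymm hLU (hmin ⟨hLU.trans hUF, hLg, hLθ, g, u, hu, hfu⟩ hLU))
  obtain ⟨g₀, u₀, hu₀, hgu₀⟩ := id hUbad
  haveI := hFn
  haveI hUn : Group.IsNilpotent U :=
    Group.nilpotent_of_mulEquiv (Subgroup.subgroupOfEquivOfLe hUF)
  have hcoU : (Nat.card U).Coprime (Nat.card G) := hco.coprime_dvd_left (card_dvd_of_le hUF)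
  -- it is a group of prime power order
  obtain ⟨s, hs, hsd, hsU⟩ : ∃ s, s.Prime ∧ s ∣ Nat.card U ∧ IsPGroup s U := by
    by_contra hall
    push Not at hall
    have hfix : ∀ g, ∀ s, s.Prime → ∀ P : Sylow s U, ∀ u ∈ (P : Subgroup U), ψ g (u : Y) = u := by
      intro g s hs P u hu
      haveI := Fact.mk hs
      have hS : ∀ (s : ℕ) (_ : Fact s.Prime) (P : Sylow s U), (P : Subgroup U).Normal :=
        ((Group.isNilpotent_of_finite_tfae (G := U)).out 0 3).mp hUn
      by_cases hsd : s ∣ Nat.card U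
      · haveI : (P : Subgroup U).Normal := hS s ⟨hs⟩ P
        haveI := P.characteristic_of_normal inferInstance
        refine hgood ((P : Subgroup U).map U.subtype) (map_subtype_le _) (fun e => ?_) ?_ ?_ g u
          (mem_map_of_mem _ hu)
        · refine hall s hs hsd ?_
          have hP := P.2.map U.subtype
          rwa [e] at hP
        · rintro h _ ⟨w, hw, rfl⟩
          exact ⟨res U (ψ h) (hUg h) w,
            ((inferInstance : (P : Subgroup U).Characteristic).fixed (res U (ψ h) (hUg h))).ge hw, rfl⟩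
        · rintro _ ⟨w, hw, rfl⟩
          exact ⟨res U θ hUθ w,
            ((inferInstance : (P : Subgroup U).Characteristic).fixed (res U θ hUθ)).ge hw, rfl⟩
      · obtain ⟨n, hn⟩ := P.2.exists_card_eq
        have h1 : Nat.card (P : Subgroup U) = 1 := by
          cases n with
          | zero => simpa using hn
          | succ n => exact absurd ((dvd_pow_self s n.succ_ne_zero).trans
              (hn ▸ (P : Subgroup U).card_subgroup_dvd_card)) hsd
        rw [Subgroup.card_eq_one.mp h1, mem_bot] at hu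
        rw [hu, OneMemClass.coe_one, map_one]
    apply hgu₀
    let E : Subgroup U := MonoidHom.eqLocus ((ψ g₀).toMonoidHom.comp U.subtype) U.subtype
    suffices hE : E = ⊤ from (hE.ge (mem_top (⟨u₀, hu₀⟩ : U)) : (⟨u₀, hu₀⟩ : U) ∈ E)
    refine Subgroup.eq_top_of_card_eq E (Nat.dvd_antisymm E.card_subgroup_dvd_card ?_)
    rw [Nat.dvd_iff_prime_pow_dvd_dvd]
    intro s k hs hk
    haveI := Fact.mk hs
    refine dvd_trans ?_ (card_dvd_of_le (show ((default : Sylow s U) : Subgroup U) ≤ E from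
      fun u hu => hfix g₀ s hs _ u hu))
    rw [Sylow.card_eq_multiplicity]
    exact pow_dvd_pow s ((hs.pow_dvd_iff_le_factorization Nat.card_pos.ne').mp hk)
  haveI := Fact.mk hs
  have hUb : U ≠ ⊥ := fun h => hgu₀ (by rw [mem_bot.mp (h.le hu₀), map_one])
  haveI : Group.IsSolvable U := inferInstance
  have hD : ⁅U, U⁆ < U := commutator_self_lt inferInstance hUb
  generalize hDd : ⁅U, U⁆ = D at hD
  have hinv : ∀ φ : MulAut Y, (∀ u ∈ U, φ u ∈ U) → ∀ z ∈ D, φ z ∈ D := by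
    intro φ hφ z hz
    have h : U.map φ.toMonoidHom ≤ U := by rintro _ ⟨u, hu, rfl⟩; exact hφ u hu
    rw [← hDd] at hz ⊢
    have h2 : (⁅U, U⁆).map φ.toMonoidHom ≤ ⁅U, U⁆ := by
      rw [map_commutator]; exact commutator_mono h h
    exact h2 (mem_map_of_mem _ hz)
  have hDfix : ∀ g, ∀ z ∈ D, ψ g z = z :=
    hgood D hD.le hD.ne (fun g => hinv _ (hUg g)) (hinv θ hUθ)
  -- it is generated by the displacements
  obtain ⟨K, hK⟩ : ∃ K, K = Subgroup.closure {y | ∃ g, ∃ u ∈ U, u⁻¹ * ψ g u = y} := ⟨_, rfl⟩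
  have hKU : K ≤ U := by
    rw [hK, closure_le]
    rintro _ ⟨g, u, hu, rfl⟩
    exact mul_mem (inv_mem hu) (hUg g u hu)
  have hKeq : K = U := by
    by_contra hne
    have hKg : ∀ h, ∀ y ∈ K, ψ h y ∈ K := by
      intro h y hy
      have hle : K.map (ψ h).toMonoidHom ≤ K := by
        rw [hK, MonoidHom.map_closure, closure_le]
        rintro _ ⟨_, ⟨g, u, hu, rfl⟩, rfl⟩
        refine subset_closure ⟨h * g * h⁻¹, ψ h u, hUg h u hu, ?_⟩
        show (ψ h u)⁻¹ * ψ (h * g * h⁻¹) (ψ h u) = ψ h (u⁻¹ * ψ g u)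
        simp [map_mul, MulAut.mul_apply]
      exact hle (mem_map_of_mem _ hy)
    have hKθ : ∀ y ∈ K, θ y ∈ K := by
      intro y hy
      have hle : K.map θ.toMonoidHom ≤ K := by
        rw [hK, MonoidHom.map_closure, closure_le]
        rintro _ ⟨_, ⟨g, u, hu, rfl⟩, rfl⟩
        obtain ⟨g', hg'⟩ := hκ g
        refine subset_closure ⟨g', θ u, hUθ u hu, ?_⟩
        have e := congrArg (fun φ : MulAut Y => φ u) hg'
        simp only [MulAut.mul_apply] at e
        show (θ u)⁻¹ * ψ g' (θ u) = θ (u⁻¹ * ψ g u)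
        rw [← e, map_mul, map_inv]
      exact hle (mem_map_of_mem _ hy)
    have hKfix := hgood K hKU hne hKg hKθ
    refine hgu₀ ?_
    have h1 := FPFSymThree.eq_of_fixed_diff hcoU (res U (ψ g₀) (hUg g₀))
      (x := ⟨u₀, hu₀⟩) (z := ⟨u₀⁻¹ * ψ g₀ u₀, mul_mem (inv_mem hu₀) (hUg g₀ u₀ hu₀)⟩)
      (Subtype.ext (mul_inv_cancel_left u₀ (ψ g₀ u₀)).symm)
      (Subtype.ext (hKfix g₀ _ (hK ▸ subset_closure ⟨g₀, u₀, hu₀, rfl⟩)))
      (by
        refine MulEquiv.ext fun u => Subtype.ext ?_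
        have h : ∀ n : ℕ, (((res U (ψ g₀) (hUg g₀)) ^ n) u : Y) = ψ (g₀ ^ n) u := by
          intro n
          induction n with
          | zero => rw [pow_zero, pow_zero, map_one]; rfl
          | succ n ih => rw [pow_succ', MulAut.mul_apply, coe_res, ih, pow_succ', map_mul, MulAut.mul_apply]
        rw [h, pow_card_eq_one', map_one]; rfl)
    exact congrArg Subtype.val h1
  have hcent : ∀ z ∈ D, ∀ u ∈ U, u * z = z * u := by
    intro z hz u hu
    have hle : K ≤ centralizer {z} := by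
      rw [hK, closure_le]
      rintro _ ⟨g, v, hv, rfl⟩
      refine SetLike.mem_coe.mpr (mem_centralizer_singleton_iff.mpr ?_)
      have hcz : v * z * v⁻¹ ∈ D := by
        have h : v * z * v⁻¹ = ⁅v, z⁆ * z := by rw [commutatorElement_def]; group
        rw [h]
        refine mul_mem ?_ hz
        rw [← hDd]
        exact commutator_mem_commutator hv (hD.le hz)
      have e := hDfix g _ hcz
      rw [map_mul, map_mul, map_inv, hDfix g z hz] at e
      have e2 := congrArg (fun w => v⁻¹ * w * ψ g v) e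
      simp only [mul_assoc, inv_mul_cancel_left, inv_mul_cancel, mul_one] at e2
      simpa [mul_assoc] using e2
    exact mem_centralizer_singleton_iff.mp (hle (hKeq.ge hu))
  -- the factor group
  let Z : Subgroup U := D.subgroupOf U
  haveI hZn : Z.Normal := ⟨fun z hz u => by
    rw [mem_subgroupOf] at hz ⊢
    have e : ((u * z * u⁻¹ : U) : Y) = z := by
      push_cast
      rw [hcent _ hz u u.2, mul_inv_cancel_right]
    rw [e]; exact hz⟩
  letI : CommGroup (U ⧸ Z) :=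
    { (inferInstance : Group (U ⧸ Z)) with
      mul_comm := fun x y => by
        obtain ⟨x, rfl⟩ := QuotientGroup.mk_surjective x
        obtain ⟨y, rfl⟩ := QuotientGroup.mk_surjective y
        show ((x * y : U) : U ⧸ Z) = ((y * x : U) : U ⧸ Z)
        rw [QuotientGroup.eq, mem_subgroupOf, ← hDd]
        have e : (((x * y)⁻¹ * (y * x) : U) : Y) = ⁅(y : Y)⁻¹, (x : Y)⁻¹⁆ := by
          simp [commutatorElement_def, mul_assoc]
        rw [e]
        exact commutator_mem_commutator (inv_mem y.2) (inv_mem x.2) }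
  let act : G → (U ⧸ Z) →* (U ⧸ Z) := fun g =>
    QuotientGroup.map Z Z (res U (ψ g) (hUg g)).toMonoidHom fun z hz => by
      rw [mem_comap, mem_subgroupOf]
      exact hinv _ (hUg g) _ hz
  have hact : ∀ g (u : U), act g (u : U ⧸ Z) = ((res U (ψ g) (hUg g) u : U) : U ⧸ Z) :=
    fun g u => rfl
  let N : (U ⧸ Z) →* (U ⧸ Z) := ∏ g, act g
  have hN : ∀ v, N v = ∏ g, act g v := fun v => by simp [N]
  have hNgen : ∀ g (u : U), N ((u⁻¹ * res U (ψ g) (hUg g) u : U) : U ⧸ Z) = 1 := by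
    intro g u
    rw [QuotientGroup.mk_mul, QuotientGroup.mk_inv, map_mul, map_inv, inv_mul_eq_one, hN, hN]
    refine (Fintype.prod_equiv (Equiv.mulRight g) _ _ fun h => ?_).symm
    rw [← hact g, show act h (act g (u : U ⧸ Z)) = act (h * g) (u : U ⧸ Z) from ?_]
    · rfl
    · rw [hact, hact, hact]
      congr 1
      exact Subtype.ext (by simp [map_mul, MulAut.mul_apply])
  have hN1 : ∀ v, N v = 1 := by
    intro v
    obtain ⟨u, rfl⟩ := QuotientGroup.mk_surjective v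
    have hle : K ≤ ((MonoidHom.ker (N.comp (QuotientGroup.mk' Z))).map U.subtype) := by
      rw [hK, closure_le]
      rintro _ ⟨g, w, hw, rfl⟩
      exact ⟨(⟨w, hw⟩ : U)⁻¹ * res U (ψ g) (hUg g) ⟨w, hw⟩, hNgen g _, rfl⟩
    obtain ⟨u', hu', he⟩ := hle (hKeq.ge u.2)
    have : u' = u := Subtype.ext he
    subst this
    exact hu'
  have hcoQ : (Nat.card (U ⧸ Z)).Coprime (Nat.card G) :=
    hcoU.coprime_dvd_left (Subgroup.card_quotient_dvd_card _)
  have hfixQ : ∀ w ∈ U, (∀ g, w⁻¹ * ψ g w ∈ D) → w ∈ D := by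
    intro w hw hwg
    have h : ∀ g, act g ((⟨w, hw⟩ : U) : U ⧸ Z) = ((⟨w, hw⟩ : U) : U ⧸ Z) := fun g => by
      rw [hact, eq_comm, QuotientGroup.eq, mem_subgroupOf]
      exact hwg g
    have h1 := hN1 ((⟨w, hw⟩ : U) : U ⧸ Z)
    rw [hN, Finset.prod_congr rfl fun g _ => h g, Finset.prod_const, Finset.card_univ,
      ← Nat.card_eq_fintype_card] at h1
    exact mem_subgroupOf.mp ((QuotientGroup.eq_one_iff _).mp
      (FPFSymThree.eq_one_of_pow_coprime hcoQ h1))
  refine ⟨U, s, hs, hsd.trans (card_dvd_of_le hUF), hUF, hsU, hUg, hUθ, hUbad, ?_, ?_, ?_, hgood⟩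
  · rw [hDd]; exact fun z hz => ⟨fun g => hDfix g z hz, hcent z hz⟩
  · rw [hDd]; exact hfixQ
  · rw [hDd]
    intro u hu
    let L : Subgroup Y :=
      (((powMonoidHom s : (U ⧸ Z) →* (U ⧸ Z)).range).comap (QuotientGroup.mk' Z)).map U.subtype
    have hLne : L ≠ U := by
      intro e
      have hsur : Function.Surjective (powMonoidHom s : (U ⧸ Z) →* (U ⧸ Z)) := by
        intro v
        obtain ⟨w, rfl⟩ := QuotientGroup.mk_surjective v
        obtain ⟨w', hw', hee⟩ := e.ge w.2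
        have : w' = w := Subtype.ext hee
        subst this
        exact hw'
      haveI : Nontrivial (U ⧸ Z) := by
        rw [QuotientGroup.nontrivial_iff]
        intro h
        exact hD.ne (le_antisymm hD.le fun y hy =>
          mem_subgroupOf.mp (h.ge (mem_top (⟨y, hy⟩ : U))))
      have hd : s ∣ Nat.card (U ⧸ Z) := by
        obtain ⟨n, hn⟩ := (hsU.to_quotient Z).exists_card_eq
        cases n with
        | zero =>
          rw [pow_zero] at hn
          exact absurd hn (Finite.one_lt_card).ne'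
        | succ n => rw [hn]; exact dvd_pow_self s n.succ_ne_zero
      obtain ⟨x, hx⟩ := exists_prime_orderOf_dvd_card' (G := U ⧸ Z) s hd
      have hinj := Finite.injective_iff_surjective.mpr hsur
      have hx1 : x = 1 := hinj (by
        show x ^ s = 1 ^ s
        rw [← hx, pow_orderOf_eq_one, one_pow])
      rw [hx1, orderOf_one] at hx
      exact hs.ne_one hx.symm
    have hLinv : ∀ φ : MulAut Y, (∀ w ∈ U, φ w ∈ U) → ∀ y ∈ L, φ y ∈ L := by
      intro φ hφ
      rintro _ ⟨w, ⟨v, hv⟩, rfl⟩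
      obtain ⟨t, rfl⟩ := QuotientGroup.mk_surjective v
      refine ⟨res U φ hφ w, ⟨((res U φ hφ t : U) : U ⧸ Z), ?_⟩, rfl⟩
      show ((res U φ hφ t : U) : U ⧸ Z) ^ s = ((res U φ hφ w : U) : U ⧸ Z)
      rw [← QuotientGroup.mk_pow, QuotientGroup.eq, mem_subgroupOf]
      have h2 : (t ^ s)⁻¹ * w ∈ Z := QuotientGroup.eq.mp hv
      rw [← map_pow (res U φ hφ), ← map_inv (res U φ hφ), ← map_mul (res U φ hφ)]
      exact hinv φ hφ _ h2
    have hmem : u ^ s ∈ L :=
      ⟨(⟨u, hu⟩ : U) ^ s, ⟨((⟨u, hu⟩ : U) : U ⧸ Z), rfl⟩, rfl⟩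
    refine hfixQ _ (pow_mem hu s) fun g => ?_
    rw [hgood L (map_subtype_le _) hLne (fun g => hLinv _ (hUg g)) (hLinv θ hUθ) g _ hmem,
      inv_mul_cancel]
    exact one_mem _

end CfsgLib.Core.HH
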