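import Cfsg.Agent.Lib.Core.Cores
import Cfsg.Agent.Lib.Core.MinNormal
import Cfsg.Agent.Lib.Core.Nilpotent
import Cfsg.Agent.Lib.Core.SolvableStruct
import Cfsg.Agent.Lib.Components.FStar
import Cfsg.Agent.Lib.PLocal.Factorization

/-!
# Fixed point free automorphisms of order dividing four

* `quotient_eq_one_of_fixed`: fixed point freeness passes to invariant quotients
* `neg_of_four`: the operator identity behind the theorem
* `isNilpotent_commutator_of_four`: the derived subgroup of a solvable group with such an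
  automorphism is nilpotent
-/

set_option autoImplicit false
set_option linter.all false

universe u

namespace CfsgLib.Core.FPFFour

open Subgroup Cfsg

theorem quotient_eq_one_of_fixed {G : Type*} [Group G] [Finite G] {φ : MulAut G}
    (hfp : ∀ x, φ x = x → x = 1) (N : Subgroup G) [N.Normal]
    (hN : N.map φ.toMonoidHom = N) (x : G ⧸ N) (hx : QuotientGroup.congr N N φ hN x = x) :
    x = 1 := by
  obtain ⟨g, rfl⟩ := QuotientGroup.mk_surjective x
  rw [show QuotientGroup.congr N N φ hN (g : G ⧸ N) = ((φ g : G) : G ⧸ N) from rfl,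
    QuotientGroup.eq] at hx
  let c : N → N := fun y => ⟨(φ (y : G))⁻¹ * y,
    N.mul_mem (N.inv_mem (hN.le (mem_map_of_mem _ y.2))) y.2⟩
  have hc : Function.Surjective c := by
    refine Finite.surjective_of_injective fun a b hab => ?_
    have h1 := congrArg (fun z : N => φ (a : G) * z * (b : G)⁻¹) hab
    have h2 : φ ((a : G) * (b : G)⁻¹) = a * (b : G)⁻¹ := by
      rw [map_mul, map_inv]
      simpa [c, mul_assoc] using h1.symm
    exact Subtype.ext (mul_inv_eq_one.mp (hfp _ h2))
  obtain ⟨y, hy⟩ := hc ⟨_, hx⟩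
  have hy' : (φ (y : G))⁻¹ * y = (φ g)⁻¹ * g := congrArg Subtype.val hy
  have h3 : φ (g * (y : G)⁻¹) = g * (y : G)⁻¹ := by
    rw [map_mul, map_inv]
    have := congrArg (fun z => φ g * z * (y : G)⁻¹) hy'
    simpa [mul_assoc] using this
  rw [mul_inv_eq_one.mp (hfp _ h3), QuotientGroup.eq_one_iff]
  exact y.2

/-- A unipotent operator of order prime to the order of the module is trivial. -/
theorem eq_zero_of_unipotent {M : Type*} [AddCommGroup M] (b : AddMonoid.End M) {n : ℕ}
    (hb : b ^ n = 1) (hn : (Nat.card M).Coprime n) {y : M} (h : b (b y - y) - (b y - y) = 0) :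
    b y - y = 0 := by
  generalize ht : b y - y = t at h
  have hbt : b t = t := sub_eq_zero.mp h
  have hk : ∀ k : ℕ, (b ^ k) y = y + k • t := by
    intro k
    induction k with
    | zero => simp
    | succ k ih =>
      rw [pow_succ']
      show b ((b ^ k) y) = _
      rw [ih, map_add, map_nsmul, hbt, succ_nsmul, ← add_assoc]
      have hby : b y = y + t := by rw [← ht]; abel
      rw [hby]
      abel
  have h0 : n • t = 0 := by
    have := hk n
    rw [hb] at this
    simpa using this.symm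
  have h1 : Nat.card M • t = 0 := card_nsmul_eq_zero'
  have h2 := Nat.Coprime.eq_one_of_dvd (Nat.Coprime.coprime_dvd_left
    (addOrderOf_dvd_of_nsmul_eq_zero h1) hn) (addOrderOf_dvd_of_nsmul_eq_zero h0)
  exact AddMonoid.addOrderOf_eq_one_iff.mp h2

/-- A fixed point free operator `s` with `s ^ 4 = 1` that normalises an abelian group without
fixed points of order prime to the module, with no fixed point there either, squares to `-1`. -/
theorem neg_of_four {Z M : Type*} [CommGroup Z] [Finite Z] [AddCommGroup M]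
    (hcop : (Nat.card M).Coprime (Nat.card Z))
    (ρ : Z →* AddMonoid.End M) (hinj : ∀ z, (∀ m, ρ z m = m) → z = 1)
    (hC : ∀ m, (∀ z, ρ z m = m) → m = 0)
    (s : M ≃+ M) (θ : Z ≃* Z) (hcomp : ∀ z m, s (ρ z m) = ρ (θ z) (s m))
    (hs : ∀ m, s (s (s (s m))) = m) (hsf : ∀ m, s m = m → m = 0)
    (hθf : ∀ z, θ z = z → z = 1) (hθ : ∀ z, θ (θ (θ (θ z))) = z) (m : M) :
    s (s m) = -m := by
  have hmul : ∀ a b m, ρ (a * b) m = ρ a (ρ b m) := fun a b m => by rw [map_mul]; rfl
  have hone : ∀ m, ρ 1 m = m := fun m => by rw [map_one]; rfl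
  have hnorm : ∀ m, m + s m + s (s m) + s (s (s m)) = 0 := by
    intro m
    refine hsf _ ?_
    simp only [map_add, hs]
    abel
  have hconj : ∀ (w : Z) m, m + ρ (w * (θ w)⁻¹) (s m) + ρ (w * (θ (θ w))⁻¹) (s (s m))
      + ρ (w * (θ (θ (θ w)))⁻¹) (s (s (s m))) = 0 := by
    intro w m
    have h := congrArg (ρ w) (hnorm (ρ w⁻¹ m))
    simpa only [map_add, map_zero, hcomp, map_inv, ← hmul, mul_inv_cancel, hone] using h
  have hsurj1 : Function.Surjective fun w : Z => w * (θ w)⁻¹ := by
    refine Finite.surjective_of_injective fun a b hab => ?_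
    have h : θ (a * b⁻¹) = a * b⁻¹ := by
      have h1 : a * (θ a)⁻¹ = b * (θ b)⁻¹ := hab
      rw [map_mul, map_inv]
      calc θ a * (θ b)⁻¹ = θ a * b⁻¹ * (b * (θ b)⁻¹) := by group
        _ = θ a * b⁻¹ * (a * (θ a)⁻¹) := by rw [h1]
        _ = a * b⁻¹ := by rw [mul_comm (θ a) b⁻¹, mul_assoc, mul_left_comm (θ a) a,
              mul_inv_cancel, mul_one, mul_comm]
    exact mul_inv_eq_one.mp (hθf _ h)
  have hsurj3 : Function.Surjective fun w : Z => w * (θ (θ (θ w)))⁻¹ := by
    intro y
    obtain ⟨w, hw⟩ := hsurj1 (θ y)⁻¹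
    refine ⟨w, ?_⟩
    have h1 := congrArg (fun z => θ (θ (θ z))) hw
    simp only [map_mul, map_inv, hθ] at h1
    have h2 : (θ (θ (θ w)) * w⁻¹)⁻¹ = y := by rw [h1, inv_inv]
    simpa [mul_comm] using h2
  -- the three step elimination
  have helim : ∀ (w v u : Z) (m : M),
      ρ (w * (θ w)⁻¹) (ρ (v * (θ (θ (θ v)))⁻¹) (ρ (u * (θ (θ u))⁻¹) m))
      - ρ (w * (θ w)⁻¹) (ρ (v * (θ (θ (θ v)))⁻¹) m)
      - ρ (w * (θ w)⁻¹) (ρ (u * (θ (θ u))⁻¹) m)
      - ρ (v * (θ (θ (θ v)))⁻¹) (ρ (u * (θ (θ u))⁻¹) m)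
      + ρ (w * (θ w)⁻¹) m + ρ (v * (θ (θ (θ v)))⁻¹) m + ρ (u * (θ (θ u))⁻¹) m - m = 0 := by
    intro w v u
    let E : M → M := fun m => m + ρ (w * (θ w)⁻¹) (s m) + ρ (w * (θ (θ w))⁻¹) (s (s m))
      + ρ (w * (θ (θ (θ w)))⁻¹) (s (s (s m)))
    let F1 : M → M := fun m => E m - ρ (w * (θ w)⁻¹) (m + s m + s (s m) + s (s (s m)))
    have hF1 : ∀ m, F1 m = 0 := fun m => by simp only [F1, E, hconj, hnorm, map_zero, sub_zero]
    let F2 : M → M := fun m => ρ v (F1 (ρ v⁻¹ m)) - ρ (v * (θ (θ (θ v)))⁻¹) (F1 m)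
    have hF2 : ∀ m, F2 m = 0 := fun m => by simp only [F2, hF1, map_zero, sub_zero]
    intro m
    have hF3 : ρ u (F2 (ρ u⁻¹ m)) - ρ (u * (θ (θ u))⁻¹) (F2 m) = 0 := by
      simp only [hF2, map_zero, sub_zero]
    simp only [F2, F1, E, map_add, map_sub, hcomp, map_inv, ← hmul] at hF3
    simp only [← hmul]
    rw [← neg_eq_zero, ← hF3]
    simp [mul_comm, mul_left_comm, mul_assoc, hone]
    abel
  have hτ : ∀ z, θ (θ z) = z := by
    intro z
    obtain ⟨b, hb⟩ : ∃ b, b = z * (θ (θ z))⁻¹ := ⟨_, rfl⟩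
    obtain ⟨w, hw⟩ := hsurj1 b
    obtain ⟨v, hv⟩ := hsurj3 b
    simp only at hw hv
    have hbn : ρ b ^ Nat.card Z = 1 := by rw [← map_pow, pow_card_eq_one', map_one]
    have h1 : ∀ m, ρ b m = m := by
      intro m
      have h := helim w v z m
      rw [hw, hv, ← hb] at h
      have h2 : ρ b (ρ b (ρ b m - m) - (ρ b m - m)) - (ρ b (ρ b m - m) - (ρ b m - m)) = 0 := by
        rw [← h]
        simp only [map_sub]
        abel
      have h3 : ρ b (ρ b m - m) - (ρ b m - m) = 0 := eq_zero_of_unipotent _ hbn hcop h2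
      exact sub_eq_zero.mp (eq_zero_of_unipotent _ hbn hcop h3)
    have h2 := hinj b h1
    rw [hb] at h2
    exact (mul_inv_eq_one.mp h2).symm
  have hinv : ∀ z, θ z = z⁻¹ := by
    intro z
    have h : z * θ z = 1 := hθf _ (by rw [map_mul, hτ, mul_comm])
    exact eq_inv_of_mul_eq_one_right h
  have hsq : Function.Surjective fun w : Z => w * w := by
    refine Finite.surjective_of_injective fun a b hab => ?_
    have hab' : a * a = b * b := hab
    have h : (a * b⁻¹) * (a * b⁻¹) = 1 := by
      rw [mul_mul_mul_comm, hab']; group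
    exact mul_inv_eq_one.mp (hθf _ (by rw [hinv, inv_eq_of_mul_eq_one_right h]))
  have key : m + s (s m) = 0 := by
    refine hC _ fun z => ?_
    obtain ⟨w, rfl⟩ := hsq z
    have h1 := hconj w (s (s (s m)))
    simp only [hτ, hs, mul_inv_cancel, hone, hinv, inv_inv] at h1
    have h2 := hnorm (s (s (s m)))
    simp only [hs] at h2
    show ρ (w * w) (m + s (s m)) = m + s (s m)
    rw [map_add]
    calc ρ (w * w) m + ρ (w * w) (s (s m))
        = (s (s (s m)) + ρ (w * w) m + s m + ρ (w * w) (s (s m)))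
          - (s (s (s m)) + m + s m + s (s m)) + (m + s (s m)) := by abel
      _ = m + s (s m) := by rw [h1, h2]; abel
  exact eq_neg_of_add_eq_zero_right key

section Group

variable {G : Type u} [Group G]

theorem map_frattini_le_frattini [Finite G] (N : Subgroup G) [N.Normal] :
    (frattini N).map N.subtype ≤ frattini G := by
  refine le_iInf fun M => le_iInf fun (hM : IsCoatom M) => ?_
  by_contra hle
  have htop : (frattini N).map N.subtype ⊔ M = ⊤ :=
    hM.2 _ (lt_of_le_of_ne le_sup_right fun h => hle (h.symm ▸ le_sup_left))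
  refine hle ((map_subtype_le _).trans (subgroupOf_eq_top.mp (frattini_nongenerating ?_)))
  rw [eq_top_iff]
  rintro ⟨n, hn⟩ -
  have hx : n ∈ (frattini N).map N.subtype ⊔ M := htop ▸ mem_top n
  rw [sup_comm, mem_sup_of_normal_right] at hx
  obtain ⟨a, ha, b, hb, hab⟩ := hx
  obtain ⟨b', hb', rfl⟩ := hb
  have haN : a ∈ N := by
    have : a = n * ((b' : G))⁻¹ := by rw [← hab]; simp
    rw [this]; exact N.mul_mem hn (N.inv_mem b'.2)
  have : (⟨n, hn⟩ : N) = ⟨a, haN⟩ * b' := Subtype.ext hab.symm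
  rw [this]
  exact mul_mem (mem_sup_left (mem_subgroupOf.mpr ha)) (mem_sup_right hb')

theorem isNilpotent_commutator_of_two_quotients (V W : Subgroup G) [V.Normal] [W.Normal]
    (hVW : V ⊓ W = ⊥) (h1 : Group.IsNilpotent (commutator (G ⧸ V)))
    (h2 : Group.IsNilpotent (commutator (G ⧸ W))) : Group.IsNilpotent (commutator G) := by
  have hmem : ∀ (N : Subgroup G) [N.Normal] (x : commutator G),
      QuotientGroup.mk' N (x : G) ∈ commutator (G ⧸ N) := by
    intro N _ x
    have h : Subgroup.map (QuotientGroup.mk' N) (commutator G) ≤ _root_.commutator (G ⧸ N) := by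
      rw [_root_.commutator_def, _root_.commutator_def, map_commutator]
      exact commutator_mono le_top le_top
    exact h (mem_map_of_mem _ x.2)
  let f : commutator G →* commutator (G ⧸ V) × commutator (G ⧸ W) :=
    (((QuotientGroup.mk' V).comp (commutator G).subtype).codRestrict _ (hmem V)).prod
      (((QuotientGroup.mk' W).comp (commutator G).subtype).codRestrict _ (hmem W))
  refine _root_.isNilpotent_of_ker_le_center f ?_
  intro x hx
  rw [MonoidHom.mem_ker, Prod.ext_iff] at hx
  have hx1 : (x : G) ∈ V := (QuotientGroup.eq_one_iff _).mp (congrArg Subtype.val hx.1)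
  have hx2 : (x : G) ∈ W := (QuotientGroup.eq_one_iff _).mp (congrArg Subtype.val hx.2)
  have : x = 1 := Subtype.ext (mem_bot.mp (hVW ▸ ⟨hx1, hx2⟩))
  exact this ▸ one_mem _

private theorem four_aux (n : ℕ) :
    ∀ (G : Type u) [Group G] [Finite G] (σ : MulAut G), Nat.card G = n → Group.IsSolvable G →
      σ ^ 4 = 1 → (∀ x, σ x = x → x = 1) → Group.IsNilpotent (commutator G) := by
  induction n using Nat.strong_induction_on with
  | _ n ih =>
  intro G _ _ σ hn hsolv hσ hfp
  subst hn
  have hσ4 : ∀ x, σ (σ (σ (σ x))) = x := fun x => by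
    have h := MulEquiv.congr_fun hσ x
    simpa [pow_succ] using h
  have hquo : ∀ (N : Subgroup G) [N.Normal], N.map σ.toMonoidHom = N → N ≠ ⊥ →
      Group.IsNilpotent (commutator (G ⧸ N)) := by
    intro N _ hN hne
    refine ih _ (card_quotient_lt N hne) (G ⧸ N) (QuotientGroup.congr N N σ hN) rfl
      inferInstance ?_ (quotient_eq_one_of_fixed hfp N hN)
    ext x
    obtain ⟨g, rfl⟩ := QuotientGroup.mk_surjective x
    simp only [pow_succ, pow_zero, one_mul, MulAut.mul_apply, MulAut.one_apply]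
    exact congrArg _ (hσ4 g)
  rcases subsingleton_or_nontrivial G with hG | hG
  · infer_instance
  -- the Frattini subgroup
  by_cases hΦ : frattini G = ⊥
  swap
  · haveI := hquo (frattini G) (characteristic_iff_map_eq.mp frattini_characteristic σ) hΦ
    haveI := isNilpotent_fittingSubgroup G
    refine isNilpotent_of_le (K := fittingSubgroup G) ?_
    have h1 : (commutator G).map (QuotientGroup.mk' (frattini G)) ≤
        fittingSubgroup (G ⧸ frattini G) := by
      refine le_trans (le_of_eq ?_) (le_fittingSubgroup (N := commutator (G ⧸ frattini G)) inferInstance)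
      rw [_root_.commutator_def, map_commutator,
        map_top_of_surjective _ (QuotientGroup.mk'_surjective _), _root_.commutator_def]
    rw [fittingSubgroup_quotient_frattini] at h1
    have h2 := comap_mono (f := QuotientGroup.mk' (frattini G)) h1
    rw [comap_map_eq, comap_map_eq, QuotientGroup.ker_mk',
      sup_eq_left.mpr (frattini_le_fittingSubgroup)] at h2
    exact le_sup_left.trans h2
  -- two invariant normal subgroups
  by_cases hprod : ∃ V W : Subgroup G, V.Normal ∧ W.Normal ∧ V.map σ.toMonoidHom = V ∧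
      W.map σ.toMonoidHom = W ∧ V ≠ ⊥ ∧ W ≠ ⊥ ∧ V ⊓ W = ⊥
  · obtain ⟨V, W, hVn, hWn, hV, hW, hVb, hWb, hVW⟩ := hprod
    exact isNilpotent_commutator_of_two_quotients V W hVW (hquo V hV hVb) (hquo W hW hWb)
  push Not at hprod
  haveI := hsolv
  obtain ⟨q, hq, hb⟩ := exists_pCore_ne_bot (G := G)
  haveI := Fact.mk hq
  have hFq : fittingSubgroup G = pCore q G := by
    refine le_antisymm ?_ (pCore_le_fittingSubgroup q)
    rw [fittingSubgroup_eq_iSup_pCore]
    refine iSup_le fun r => ?_
    by_cases hr : (r : ℕ) = q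
    · rw [hr]
    · by_cases hrb : pCore (r : ℕ) G = ⊥
      · rw [hrb]; exact bot_le
      · refine absurd (disjoint_iff.mp ?_) (hprod _ _ inferInstance inferInstance
          (map_equiv_pCore σ) (map_equiv_pCore σ) hrb hb)
        haveI := Fact.mk r.2
        exact IsPGroup.disjoint_of_ne r q hr _ _ (isPGroup_pCore _ G) (isPGroup_pCore _ G)
  generalize hF : fittingSubgroup G = F at hFq
  haveI : F.Normal := hF ▸ inferInstance
  have hFσ : F.map σ.toMonoidHom = F := by rw [← hF]; exact map_equiv_fittingSubgroup σ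
  have hFp : IsPGroup q F := hFq ▸ isPGroup_pCore q G
  haveI : Group.IsNilpotent F := hFp.isNilpotent
  haveI hFc : IsMulCommutative F := by
    rw [isMulCommutative_iff_commutator_eq_bot]
    have h1 : (frattini F).map F.subtype = ⊥ :=
      le_bot_iff.mp ((map_frattini_le_frattini F).trans hΦ.le)
    rw [← le_bot_iff, ← h1, ← map_subtype_commutator]
    exact map_mono CfsgLib.PGroups.commutator_le_frattini
  have hCF : centralizer (F : Set G) ≤ F := by
    rw [← hF]; exact Components.centralizer_fitting_le_of_isSolvable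
  have hFb : F ≠ ⊥ := hFq ▸ hb
  -- the conjugation representation of the quotient
  have hlift : F ≤ (MulAut.conjNormal (H := F)).ker := by
    intro a ha
    rw [MonoidHom.mem_ker]
    ext x
    rw [MulAut.conjNormal_apply, MulAut.one_apply,
      mul_inv_eq_iff_eq_mul]
    exact setLike_mul_comm ha x.2
  let r : G ⧸ F →* MulAut F := QuotientGroup.lift F MulAut.conjNormal hlift
  have hr : ∀ (g : G) (x : F), ((r (g : G ⧸ F) x : F) : G) = g * x * g⁻¹ := fun g x => by
    show ((MulAut.conjNormal g x : F) : G) = _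
    rw [MulAut.conjNormal_apply]
  have hrinj : ∀ x, (∀ f, r x f = f) → x = 1 := by
    intro x hx
    obtain ⟨g, rfl⟩ := QuotientGroup.mk_surjective x
    refine (QuotientGroup.eq_one_iff g).mpr (hCF (mem_centralizer_iff.mpr fun f hf => ?_))
    have h1 := congrArg Subtype.val (hx ⟨f, hf⟩)
    rw [hr] at h1
    exact (mul_inv_eq_iff_eq_mul.mp h1).symm
  let θ : MulAut (G ⧸ F) := QuotientGroup.congr F F σ hFσ
  have hθv : ∀ g : G, θ (g : G ⧸ F) = ((σ g : G) : G ⧸ F) := fun g => rfl
  have hθf : ∀ x, θ x = x → x = 1 := quotient_eq_one_of_fixed hfp F hFσ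
  let s : F ≃* F := (σ.subgroupMap F).trans (MulEquiv.subgroupCongr hFσ)
  have hsv : ∀ x : F, ((s x : F) : G) = σ x := fun x => rfl
  have hcomp : ∀ x f, s (r x f) = r (θ x) (s f) := by
    intro x f
    obtain ⟨g, rfl⟩ := QuotientGroup.mk_surjective x
    refine Subtype.ext ?_
    rw [hθv, hsv, hr, hr, hsv, map_mul, map_mul, map_inv]
  rcases subsingleton_or_nontrivial (G ⧸ F) with hX | hX
  · have : F = ⊤ := QuotientGroup.subgroup_eq_top_of_subsingleton F hX
    exact isNilpotent_of_le (K := F) (this ▸ le_top)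
  obtain ⟨p, hp, hpb⟩ := exists_pCore_ne_bot (G := G ⧸ F)
  haveI := Fact.mk hp
  have hpq : p ≠ q := by
    rintro rfl
    have h1 : IsPGroup p ((pCore p (G ⧸ F)).comap (QuotientGroup.mk' F)) :=
      (isPGroup_pCore p _).comap_of_ker_isPGroup _ (by rw [QuotientGroup.ker_mk']; exact hFp)
    have h2 := le_pCore h1
    rw [← hFq] at h2
    refine hpb (le_bot_iff.mp ?_)
    rw [← map_comap_eq_self_of_surjective (QuotientGroup.mk'_surjective F) (pCore p (G ⧸ F))]
    refine (map_mono h2).trans (le_of_eq ?_)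
    rw [QuotientGroup.map_mk'_self]
  generalize hP : pCore p (G ⧸ F) = P at hpb
  haveI : P.Normal := hP ▸ inferInstance
  have hPp : IsPGroup p P := hP ▸ isPGroup_pCore p _
  generalize hZ : P ⊓ centralizer (P : Set (G ⧸ F)) = Z
  haveI : Z.Normal := hZ ▸ inferInstance
  haveI : IsMulCommutative Z := by
    rw [← le_centralizer_iff_isMulCommutative, ← hZ]
    exact _root_.inf_le_right.trans (centralizer_le _root_.inf_le_left)
  have hZp : IsPGroup p Z := hZ ▸ hPp.to_le _root_.inf_le_left
  have hZθ : Z.map θ.toMonoidHom = Z := by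
    rw [← hZ, CfsgLib.PLocal.map_centralizer_of_injOn θ.toMonoidHom _
      ((MonoidHom.ker_eq_bot_iff θ.toMonoidHom).mpr θ.injective ▸ disjoint_bot_right),
      ← hP, map_equiv_pCore θ]
  have hZb : Z ≠ ⊥ := by
    haveI : Nontrivial P := (nontrivial_iff_ne_bot _).mpr hpb
    obtain ⟨⟨⟨z, hz⟩, hzc⟩, hz1⟩ := ne_bot_iff_exists_ne_one.mp hPp.bot_lt_center.ne'
    intro h
    apply hz1
    refine Subtype.ext (Subtype.ext (mem_bot.mp (h ▸ hZ ▸ ⟨hz, ?_⟩ : z ∈ (⊥ : Subgroup (G ⧸ F)))))
    exact mem_centralizer_iff.mpr fun y hy => congrArg Subtype.val (mem_center_iff.mp hzc ⟨y, hy⟩)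
  have hcopFZ : (Nat.card F).Coprime (Nat.card Z) := by
    obtain ⟨i, hi⟩ := IsPGroup.iff_card.mp hFp
    obtain ⟨j, hj⟩ := IsPGroup.iff_card.mp hZp
    rw [hi, hj]
    exact ((Nat.coprime_primes hq hp).mpr hpq.symm).pow i j
  -- no fixed points of `Z` on `F`
  open scoped IsMulCommutative in
  have hC : ∀ f : F, (∀ z : Z, r z f = f) → f = 1 := by
    haveI := Fintype.ofFinite Z
    let nrm : F →* F := ∏ z : Z, (r (z : G ⧸ F)).toMonoidHom
    have hnv : ∀ f, nrm f = ∏ z : Z, r (z : G ⧸ F) f := fun f => by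
      simp [nrm, MonoidHom.finsetProd_apply]
    let C : Subgroup F := ⨅ z : Z, MonoidHom.eqLocus (r (z : G ⧸ F)).toMonoidHom (MonoidHom.id F)
    have hCm : ∀ f, f ∈ C ↔ ∀ z : Z, r z f = f := fun f => by
      simp [C, mem_iInf]; rfl
    -- both are normal and invariant in `G`
    have hZconj : ∀ x : G ⧸ F, ∀ z : Z, x⁻¹ * z * x ∈ Z := fun x z => by
      simpa using (inferInstance : Z.Normal).conj_mem _ z.2 x⁻¹
    have hnrm : ∀ x : G ⧸ F, ∀ f, nrm (r x f) = r x (nrm f) := by
      intro x f
      rw [hnv, hnv, map_prod]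
      refine Fintype.prod_bijective (fun z : Z => (⟨x⁻¹ * z * x, hZconj x z⟩ : Z)) ?_ _ _ fun z => ?_
      · refine Finite.injective_iff_bijective.mp fun a b hab => Subtype.ext ?_
        simpa using congrArg (fun t : Z => x * (t : G ⧸ F) * x⁻¹) hab
      · simp only [← MulAut.mul_apply, ← map_mul]
        congr 1
        congr 1
        group
    have hnrms : ∀ f, nrm (s f) = s (nrm f) := by
      intro f
      rw [hnv, hnv, map_prod]
      simp only [hcomp]
      have hb : Function.Bijective fun z : Z => (⟨θ z, hZθ.le (mem_map_of_mem _ z.2)⟩ : Z) :=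
        Finite.injective_iff_bijective.mp fun a b hab =>
          Subtype.ext (θ.injective (congrArg Subtype.val hab))
      exact (Fintype.prod_bijective _ hb _ _ fun z => rfl).symm
    have hKn : (nrm.ker.map F.subtype).Normal := by
      refine ⟨?_⟩
      rintro _ ⟨f, hf, rfl⟩ g
      refine ⟨r (g : G ⧸ F) f, ?_, hr g f⟩
      rw [SetLike.mem_coe, MonoidHom.mem_ker] at hf ⊢
      rw [hnrm, hf, map_one]
    have hCn : (C.map F.subtype).Normal := by
      refine ⟨?_⟩
      rintro _ ⟨f, hf, rfl⟩ g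
      refine ⟨r (g : G ⧸ F) f, (hCm _).mpr fun z => ?_, hr g f⟩
      have h1 := (hCm f).mp hf ⟨_, hZconj (g : G ⧸ F) z⟩
      conv_rhs => rw [← h1]
      simp only [← MulAut.mul_apply, ← map_mul]
      congr 1
      congr 1
      group
    have hinvar : ∀ S : Subgroup F, (∀ f ∈ S, s f ∈ S) →
        (S.map F.subtype).map σ.toMonoidHom = S.map F.subtype := by
      intro S hS
      refine eq_of_le_of_card_ge ?_ (le_of_eq (card_map_of_injective (f := σ.toMonoidHom) σ.injective).symm)
      rintro _ ⟨_, ⟨f, hf, rfl⟩, rfl⟩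
      exact ⟨s f, hS f hf, hsv f⟩
    have hKi := hinvar nrm.ker fun f hf => by
      rw [MonoidHom.mem_ker] at hf ⊢
      rw [hnrms, hf, map_one]
    have hCi := hinvar C fun f hf => (hCm _).mpr fun z => by
      obtain ⟨z', hz', hzz⟩ := hZθ.ge z.2
      have h1 := congrArg s ((hCm f).mp hf ⟨z', hz'⟩)
      rw [hcomp] at h1
      rwa [show θ z' = (z : G ⧸ F) from hzz] at h1
    have hdisj : C ⊓ nrm.ker = ⊥ := by
      rw [eq_bot_iff]
      rintro f ⟨hf, hn⟩
      replace hn : nrm f = 1 := hn
      rw [hnv,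
        Finset.prod_congr rfl fun z _ => (hCm f).mp hf z, Finset.prod_const, Finset.card_univ,
        ← Nat.card_eq_fintype_card] at hn
      have := pow_gcd_eq_one.mpr ⟨hn, pow_card_eq_one' (x := f)⟩
      rwa [Nat.Coprime.gcd_eq_one hcopFZ.symm, pow_one] at this
    intro f hf
    by_contra hf1
    have hCb : C.map F.subtype ≠ ⊥ := fun h => hf1 (Subtype.ext (mem_bot.mp
      (h ▸ mem_map_of_mem F.subtype ((hCm f).mpr hf))))
    have hKb : nrm.ker.map F.subtype = ⊥ := by
      by_contra hKb
      refine hprod _ _ hCn hKn hCi hKi hCb hKb ?_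
      rw [← map_inf _ _ _ F.subtype_injective, hdisj, Subgroup.map_bot]
    rw [map_eq_bot_iff_of_injective _ F.subtype_injective] at hKb
    have hinjn : Function.Injective nrm := (MonoidHom.ker_eq_bot_iff _).mp hKb
    refine hZb ((eq_bot_iff_forall _).mpr fun z hz => hrinj z fun g => hinjn ?_)
    rw [hnv, hnv]
    simp only [← MulAut.mul_apply, ← map_mul]
    exact Fintype.prod_equiv (Equiv.mulRight (⟨z, hz⟩ : Z)) _ _ fun t => rfl
  -- operators
  open scoped IsMulCommutative in
  have hneg : ∀ f : F, s (s f) = f⁻¹ := by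
    let ρ : Z →* AddMonoid.End (Additive F) :=
      { toFun := fun z => MonoidHom.toAdditive (r (z : G ⧸ F)).toMonoidHom
        map_one' := by ext a; simp [MulEquiv.toMonoidHom]; rfl
        map_mul' := fun a b => by ext x; simp [MulEquiv.toMonoidHom]; rfl }
    let θZ : Z ≃* Z := (θ.subgroupMap Z).trans (MulEquiv.subgroupCongr hZθ)
    intro f
    refine Additive.ofMul.injective (neg_of_four (M := Additive F) ?_ ρ ?_ ?_
      (MulEquiv.toAdditive s) θZ ?_ ?_ ?_ ?_ ?_ (Additive.ofMul f))
    · exact hcopFZ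
    · exact fun z hz => Subtype.ext (hrinj _ fun g => Additive.ofMul.injective (hz (Additive.ofMul g)))
    · exact fun m hm => Additive.toMul.injective (hC (Additive.toMul m) fun z =>
        Additive.ofMul.injective (hm z))
    · exact fun z m => congrArg Additive.ofMul (hcomp z (Additive.toMul m))
    · exact fun m => congrArg Additive.ofMul (Subtype.ext (hσ4 _))
    · exact fun m hm => Additive.toMul.injective (Subtype.ext (hfp _ (congrArg Subtype.val hm)))
    · exact fun z hz => Subtype.ext (hθf _ (congrArg Subtype.val hz))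
    · intro z
      obtain ⟨z, hz⟩ := z
      obtain ⟨g, rfl⟩ := QuotientGroup.mk_surjective z
      exact Subtype.ext (congrArg (QuotientGroup.mk : G → G ⧸ F) (hσ4 g))
  have hτ : ∀ x, θ (θ x) = x := by
    intro x
    refine (mul_inv_eq_one.mp (hrinj (θ (θ x) * x⁻¹) fun f => ?_))
    obtain ⟨f, rfl⟩ : ∃ f', r x f' = f := ⟨(r x).symm f, (r x).apply_symm_apply f⟩
    rw [← MulAut.mul_apply, ← map_mul, inv_mul_cancel_right]
    have h1 := hneg (r x f)
    rw [hcomp, hcomp, hneg, map_inv, inv_inj] at h1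
    exact h1
  haveI : IsMulCommutative (G ⧸ F) := ⟨⟨fun a b => by
    have hinv : ∀ x, θ x = x⁻¹ := by
      have hsur : Function.Surjective fun t : G ⧸ F => t * (θ t)⁻¹ := by
        refine Finite.surjective_of_injective fun a b hab => ?_
        have h : θ (b⁻¹ * a) = b⁻¹ * a := by
          rw [map_mul, map_inv]
          have h1 := congrArg (fun z => b⁻¹ * z * θ a) hab
          simpa [mul_assoc] using h1.symm
        exact (inv_mul_eq_one.mp (hθf _ h)).symm
      intro x
      obtain ⟨t, rfl⟩ := hsur x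
      show θ (t * (θ t)⁻¹) = _
      rw [map_mul, map_inv, hτ, mul_inv_rev, inv_inv]
    have h1 := hinv (a⁻¹ * b⁻¹)
    rw [map_mul, hinv, hinv, inv_inv, inv_inv, mul_inv_rev, inv_inv, inv_inv] at h1
    exact h1⟩⟩
  refine isNilpotent_of_le (K := F) ?_
  exact Subgroup.Normal.quotient_commutative_iff_commutator_le.mp inferInstance

theorem isNilpotent_commutator_of_four [Finite G] (hsolv : Group.IsSolvable G) (σ : MulAut G)
    (hσ : σ ^ 4 = 1) (hfp : ∀ x, σ x = x → x = 1) : Group.IsNilpotent (commutator G) :=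
  four_aux _ G σ rfl hsolv hσ hfp

end Group

end CfsgLib.Core.FPFFour
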