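import Cfsg.Agent.Lib.Core.OpReduction
import Cfsg.Agent.Lib.Core.HallHigman
import Cfsg.Agent.Lib.Core.FPFAutomorphism
import Cfsg.Agent.Lib.PLocal.NormalPComplementThms

/-!
# Fixed point free nonabelian operator groups of order `p * q`

A solvable group with such coprime operators has Fitting height at most two.
-/

set_option autoImplicit false
set_option linter.all false

universe u v

namespace CfsgLib.Core.PQ

open Subgroup Cfsg OpSetup
open scoped commutatorElement

/-- The operator group: nonabelian of order `p * q`, with `π` of order `p` generating the normal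
subgroup. -/
structure IsPQ (p q : ℕ) (A : Type*) [Group A] (π : A) : Prop where
  hp : p.Prime
  hq : q.Prime
  card : Nat.card A = p * q
  ord : orderOf π = p
  normal : (zpowers π).Normal
  out : ∀ b, b ∉ zpowers π → orderOf b = q
  dvd : q ∣ p - 1
  proper : ∀ S : Subgroup A, S ≠ ⊥ → S ≠ ⊤ → (Nat.card S).Prime

theorem exists_isPQ {A : Type*} [Group A] [Finite A] {p q : ℕ} (hp : p.Prime) (hq : q.Prime)
    (hlt : q < p) (hA : Nat.card A = p * q) (hna : ¬ IsMulCommutative A) : ∃ π, IsPQ p q A π := by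
  haveI := Fact.mk hp
  haveI := Fact.mk hq
  obtain ⟨π, hπ⟩ := exists_prime_orderOf_dvd_card' (G := A) p (hA ▸ dvd_mul_right p q)
  have hidx : (zpowers π).index = q := by
    have h := (zpowers π).card_mul_index
    rw [Nat.card_zpowers, hπ, hA] at h
    exact Nat.eq_of_mul_eq_mul_left hp.pos h
  have hN : (zpowers π).Normal := by
    refine Subgroup.normal_of_index_eq_minFac_card ?_
    rw [hidx, hA]
    refine le_antisymm ?_ (Nat.minFac_le_of_dvd hq.two_le (dvd_mul_left q p))
    have hm : (p * q).minFac.Prime := Nat.minFac_prime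
      (Nat.ne_of_gt (lt_of_lt_of_le hp.one_lt (Nat.le_mul_of_pos_right p hq.pos)))
    rcases hm.dvd_mul.mp (Nat.minFac_dvd (p * q)) with h | h
    · rw [(Nat.prime_dvd_prime_iff_eq hm hp).mp h]; exact hlt.le
    · exact ((Nat.prime_dvd_prime_iff_eq hm hq).mp h).ge
  have hout : ∀ b, b ∉ zpowers π → orderOf b = q := by
    intro b hb
    have hd : orderOf b ∣ p * q := hA ▸ orderOf_dvd_natCard b
    have hne : ¬ orderOf b ∣ p := by
      intro h
      apply hb
      have hb1 : b ^ p = 1 := orderOf_dvd_iff_pow_eq_one.mp h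
      have h2 : (b : A ⧸ zpowers π) ^ p = 1 := by rw [← QuotientGroup.mk_pow, hb1]; rfl
      have h3 : orderOf (b : A ⧸ zpowers π) ∣ q := by
        have := orderOf_dvd_natCard (b : A ⧸ zpowers π)
        rwa [← Subgroup.index_eq_card, hidx] at this
      exact (QuotientGroup.eq_one_iff b).mp (orderOf_eq_one_iff.mp (Nat.eq_one_of_dvd_coprimes
        ((Nat.coprime_primes hp hq).mpr hlt.ne') (orderOf_dvd_of_pow_eq_one h2) h3))
    obtain ⟨d1, d2, h1, h2, he⟩ := exists_dvd_and_dvd_of_dvd_mul hd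
    rcases (Nat.dvd_prime hp).mp h1 with rfl | rfl
    · rcases (Nat.dvd_prime hq).mp h2 with rfl | rfl
      · exact absurd (by rw [he]; simp) hne
      · rw [he, one_mul]
    · rcases (Nat.dvd_prime hq).mp h2 with rfl | rfl
      · exact absurd (by rw [he, mul_one]) hne
      · haveI : IsCyclic A := isCyclic_of_orderOf_eq_card b (by rw [he, hA])
        letI := IsCyclic.commGroup (α := A)
        exact absurd ⟨⟨fun x y => mul_comm x y⟩⟩ hna
  refine ⟨π, hp, hq, hA, hπ, hN, hout, ?_, ?_⟩
  · -- the complement acts on the normal subgroup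
    obtain ⟨b, hb⟩ : ∃ b, b ∉ zpowers π := by
      by_contra h
      push Not at h
      refine hna ⟨⟨fun x y => ?_⟩⟩
      obtain ⟨i, rfl⟩ := mem_zpowers_iff.mp (h x)
      obtain ⟨j, rfl⟩ := mem_zpowers_iff.mp (h y)
      exact zpow_mul_comm π i j
    haveI := hN
    let c : MulAut (zpowers π) := MulAut.conjNormal b
    have hcq : c ^ q = 1 := by
      rw [← map_pow, ← hout b hb, pow_orderOf_eq_one, map_one]
    have hP : IsPGroup q (Subgroup.zpowers c) := fun g => ⟨1, by
      obtain ⟨k, hk⟩ := g.2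
      refine Subtype.ext ?_
      show (g : MulAut (zpowers π)) ^ q ^ 1 = 1
      rw [← hk, pow_one, ← zpow_natCast, ← zpow_mul, mul_comm, zpow_mul, zpow_natCast, hcq, one_zpow]⟩
    have h1 : MulAction.fixedPoints (Subgroup.zpowers c) (zpowers π) = {1} := by
      ext x
      refine ⟨fun hx => ?_, fun hx => ?_⟩
      · by_contra hx1
        have hx' : c x = x := hx ⟨c, mem_zpowers c⟩
        have hgen : zpowers (x : A) = zpowers π := by
          refine Subgroup.eq_of_le_of_card_ge (zpowers_le.mpr x.2) ?_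
          rw [Nat.card_zpowers, Nat.card_zpowers, hπ]
          have hd : orderOf (x : A) ∣ p := by
            rw [← hπ, ← Nat.card_zpowers π, Subgroup.orderOf_coe]
            exact orderOf_dvd_natCard x
          rcases (Nat.dvd_prime hp).mp hd with h | h
          · exact absurd (Subtype.ext (orderOf_eq_one_iff.mp h)) hx1
          · exact h.ge
        have hcb : Commute b (x : A) := by
          have e := congrArg Subtype.val hx'
          rw [MulAut.conjNormal_apply] at e
          exact mul_inv_eq_iff_eq_mul.mp e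
        have hcπ : Commute b π := by
          obtain ⟨k, hk⟩ := mem_zpowers_iff.mp (hgen.ge (mem_zpowers π))
          rw [← hk]; exact hcb.zpow_right k
        have htop : zpowers π ⊔ zpowers b = ⊤ := by
          refine Subgroup.eq_top_of_card_eq _ (Nat.dvd_antisymm (card_subgroup_dvd_card _) ?_)
          rw [hA]
          refine Nat.Coprime.mul_dvd_of_dvd_of_dvd ((Nat.coprime_primes hp hq).mpr hlt.ne') ?_ ?_
          · rw [← hπ, ← Nat.card_zpowers]; exact card_dvd_of_le le_sup_left
          · rw [← hout b hb, ← Nat.card_zpowers]; exact card_dvd_of_le le_sup_right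
        refine hna ⟨⟨fun y z => ?_⟩⟩
        have hall : ∀ y : A, y ∈ centralizer ({π, b} : Set A) := by
          intro y
          refine (show zpowers π ⊔ zpowers b ≤ centralizer ({π, b} : Set A) from ?_) (htop ▸ mem_top y)
          refine sup_le (zpowers_le.mpr ?_) (zpowers_le.mpr ?_) <;> rw [mem_centralizer_iff] <;>
            rintro w (rfl | rfl)
          exacts [rfl, hcπ.eq, hcπ.eq.symm, rfl]
        have hcen : ∀ y : A, ∀ w ∈ zpowers π ⊔ zpowers b, w * y = y * w := by
          intro y w hw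
          refine ((show zpowers π ⊔ zpowers b ≤ centralizer {y} from ?_) hw |>
            mem_centralizer_singleton_iff.mp)
          have h := mem_centralizer_iff.mp (hall y)
          exact sup_le (zpowers_le.mpr (mem_centralizer_singleton_iff.mpr (h π (Or.inl rfl))))
            (zpowers_le.mpr (mem_centralizer_singleton_iff.mpr (h b (Or.inr rfl))))
        exact hcen z y (htop ▸ mem_top y)
      · rw [Set.mem_singleton_iff.mp hx]
        exact fun a => map_one (a : MulAut (zpowers π))
    have h := hP.card_modEq_card_fixedPoints (α := zpowers π)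
    rw [h1, Nat.card_coe_set_eq, Set.ncard_singleton, Nat.card_zpowers, hπ] at h
    exact (Nat.modEq_iff_dvd' hp.one_le).mp h.symm
  · intro S hb ht
    obtain ⟨d1, d2, h1, h2, he⟩ := exists_dvd_and_dvd_of_dvd_mul (hA ▸ S.card_subgroup_dvd_card)
    rcases (Nat.dvd_prime hp).mp h1 with rfl | rfl <;> rcases (Nat.dvd_prime hq).mp h2 with rfl | rfl
    · exact absurd (Subgroup.card_eq_one.mp (by rw [he, one_mul])) hb
    · rwa [he, one_mul]
    · rwa [he, mul_one]
    · exact absurd (Subgroup.eq_top_of_card_eq S (by rw [he, hA])) ht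

variable {A : Type v} [Group A] [Fintype A] {X : Type u} [Group X] [Finite X]
  {M : Type u} [AddCommGroup M] [Finite M]

theorem sup_eq_top (hpr : ∀ S : Subgroup A, S ≠ ⊥ → S ≠ ⊤ → (Nat.card S).Prime) {g h : A}
    (hg : g ≠ 1) (hh : h ∉ zpowers g) : zpowers g ⊔ zpowers h = ⊤ := by
  by_contra ht
  have hb : zpowers g ⊔ zpowers h ≠ ⊥ := fun e =>
    hg (mem_bot.mp (e.le (mem_sup_left (mem_zpowers g))))
  have hp := hpr _ hb ht
  have hle : zpowers g ≤ zpowers g ⊔ zpowers h := le_sup_left
  rcases (Nat.dvd_prime hp).mp (card_dvd_of_le hle) with h1 | h1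
  · exact hg (zpowers_eq_bot.mp (Subgroup.card_eq_one.mp h1))
  · exact hh ((Subgroup.eq_of_le_of_card_ge hle h1.ge).ge (mem_sup_right (mem_zpowers h)))

theorem fixed_of_gen (hpr : ∀ S : Subgroup A, S ≠ ⊥ → S ≠ ⊤ → (Nat.card S).Prime)
    (θ : A →* MulAut X) (hfix : ∀ x, (∀ a, θ a x = x) → x = 1) {g h : A} (hg : g ≠ 1)
    (hh : h ∉ zpowers g) {x : X} (h1 : θ g x = x) (h2 : θ h x = x) : x = 1 := by
  refine hfix x fun a => ?_
  let S : Subgroup A :=
    { carrier := {a | θ a x = x}
      one_mem' := by simp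
      mul_mem' := fun {a b} (ha : θ a x = x) (hb : θ b x = x) => by
        show θ (a * b) x = x
        rw [map_mul, MulAut.mul_apply, hb, ha]
      inv_mem' := fun {a} (ha : θ a x = x) => by
        show θ a⁻¹ x = x
        conv_lhs => rw [← ha]
        rw [← MulAut.mul_apply, ← map_mul, inv_mul_cancel, map_one, MulAut.one_apply] }
  have : (⊤ : Subgroup A) ≤ S := by
    rw [← sup_eq_top hpr hg hh]
    exact sup_le (zpowers_le.mpr h1) (zpowers_le.mpr h2)
  exact this (mem_top a)

/-- The operators moving `Z` only inside `L`. -/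
def stab (D : Ops A X M) {Z : Subgroup X} (hZi : ∀ g, ∀ z ∈ Z, D.θ g z ∈ Z) (L : Subgroup X) :
    Subgroup A where
  carrier := {g | ∀ z ∈ Z, z * (D.θ g z)⁻¹ ∈ L}
  one_mem' := fun z _ => by simp
  mul_mem' := fun {g h} hg hh z hz => by
    have e := mul_mem (hh z hz) (hg _ (hZi h z hz))
    rw [D.θ_mul]
    simpa [mul_assoc] using e
  inv_mem' := fun {g} hg z hz => by
    have e := inv_mem (hg _ (hZi g⁻¹ z hz))
    rw [← D.θ_mul, mul_inv_cancel, D.θ_one] at e
    simpa [mul_assoc] using e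

theorem no_fixed (D : Setup A X M) (hpr : ∀ S : Subgroup A, S ≠ ⊥ → S ≠ ⊤ → (Nat.card S).Prime)
    (hcopX : (Nat.card A).Coprime (Nat.card X)) (hcopM : (Nat.card M).Coprime (Nat.card A))
    {Z : Subgroup X} (hZn : Z.Normal) (hZi : ∀ g, ∀ z ∈ Z, D.θ g z ∈ Z)
    (hZc : ∀ a ∈ Z, ∀ b ∈ Z, a * b = b * a) (hZb : Z ≠ ⊥) {N : Subgroup X} (hNZ : N ≤ Z) {b : A}
    (hb : b ≠ 1) (hbN : ∀ z ∈ Z, z * (D.θ b z)⁻¹ ∈ N) {m : M} (hm : D.Fixes N m)
    (hσ : D.σ b m = m) : m = 0 := by
  classical
  by_contra hm0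
  let Q : M → Prop := fun n => D.Fixes N n ∧ D.σ b n = n
  have hQr : ∀ z ∈ Z, ∀ n, Q n → Q (D.r z n) := fun z hz n hn =>
    ⟨fun k hk => by rw [← D.r_mul, hZc k (hNZ hk) z hz, D.r_mul, hn.1 k hk], by
      rw [D.comp, hn.2]
      have e : z⁻¹ * D.θ b z ∈ N := by
        rw [hZc z⁻¹ (inv_mem hz) _ (hZi b z hz)]
        simpa using inv_mem (hbN z hz)
      conv_lhs => rw [show D.θ b z = z * (z⁻¹ * D.θ b z) from (mul_inv_cancel_left z _).symm]
      rw [D.r_mul, hn.1 _ e]⟩
  obtain ⟨L, hL⟩ := D.exists_isKernel Z Q hm0 ⟨hm, hσ⟩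
  obtain ⟨-, ⟨n, hn0, hQn, hn⟩, hmax⟩ := id hL
  have hNL : N ≤ L := fun k hk => by
    by_contra hkL
    exact hn0 (hmax k (hNZ hk) hkL n hQn hn (hQn.1 k hk))
  have hbL : b ∈ stab D.toOps hZi L := fun z hz => hNL (hbN z hz)
  obtain ⟨E, -, -, hES, hEsum, -, -, hEinj, hEloc⟩ := D.kill hZc hZi hQr
    (fun x y hx hy => ⟨fun k hk => by rw [map_sub, hx.1 k hk, hy.1 k hk], by
      rw [map_sub, hx.2, hy.2]⟩) hL
    (Finset.univ.filter fun g => g ∉ zpowers b) (fun h hh => by
      by_contra hall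
      push Not at hall
      have htop : (⊤ : Subgroup A) ≤ stab D.toOps hZi L := by
        rw [← sup_eq_top hpr hb (Finset.mem_filter.mp hh).2]
        exact sup_le (zpowers_le.mpr hbL) (zpowers_le.mpr hall)
      refine hn0 (D.noFix Z hZn hZi hZb n fun z hz => hn z ?_)
      -- `Z` is generated by its displacements
      open scoped IsMulCommutative in
      haveI hZcomm : IsMulCommutative Z := ⟨⟨fun x y => Subtype.ext (hZc x x.2 y y.2)⟩⟩
      let w : Z := ∏ g : A, (⟨D.θ g z, hZi g z hz⟩ : Z)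
      have hw : w = 1 := by
        refine Subtype.ext (D.fixX _ fun a => ?_)
        let ρ : Z →* Z := ((D.θ a).toMonoidHom.comp Z.subtype).codRestrict Z fun y => hZi a y y.2
        refine congrArg Subtype.val (show ρ w = w from ?_)
        rw [map_prod]
        refine Fintype.prod_equiv (Equiv.mulLeft a) _ _ fun g => Subtype.ext ?_
        show D.θ a (D.θ g z) = D.θ (a * g) z
        rw [D.θ_mul]
      let Lz : Subgroup Z := L.subgroupOf Z
      have hpow : (⟨z, hz⟩ : Z) ^ Nat.card A ∈ Lz := by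
        have e : (⟨z, hz⟩ : Z) ^ Nat.card A =
            (∏ g : A, (⟨z, hz⟩ * (⟨D.θ g z, hZi g z hz⟩ : Z)⁻¹)) * w := by
          rw [← Finset.prod_mul_distrib]
          simp [Nat.card_eq_fintype_card]
        rw [e, hw, mul_one]
        exact prod_mem fun g _ => htop (mem_top g) z hz
      obtain ⟨c, hc⟩ : ∃ c, ((⟨z, hz⟩ : Z) ^ Nat.card A) ^ c = ⟨z, hz⟩ := by
        obtain ⟨c, hc⟩ := exists_pow_eq_self_of_coprime
          (Nat.Coprime.coprime_dvd_right (orderOf_dvd_natCard (⟨z, hz⟩ : Z))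
            (hcopX.coprime_dvd_right Z.card_subgroup_dvd_card))
        exact ⟨c, hc⟩
      have e2 := pow_mem hpow c
      rw [hc] at e2
      exact e2)
  refine hn0 (hEinj n hQn hn ?_)
  have hterm : ∀ g ∈ Finset.univ.filter (fun g => g ∈ zpowers b), E g (D.σ g n) = E 1 n := by
    intro g hg
    have hgb := (Finset.mem_filter.mp hg).2
    obtain ⟨k, rfl⟩ := (mem_powers_iff_mem_zpowers (x := b)).mpr hgb
    rw [show D.σ ((fun k => b ^ k) k) n = n from D.σ_pow_of_fixed hQn.2 k]
    exact hEloc _ n hQn hn (pow_mem hbL k)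
  have e := hEsum n
  rw [← Finset.sum_filter_add_sum_filter_not Finset.univ (fun g => g ∈ zpowers b),
    Finset.sum_congr rfl hterm,
    Finset.sum_eq_zero (s := Finset.univ.filter fun g => ¬g ∈ zpowers b) (fun g hg => hES g hg _),
    add_zero, Finset.sum_const, ← Fintype.card_subtype] at e
  exact AddMonoid.addOrderOf_eq_one_iff.mp (Nat.eq_one_of_dvd_coprimes hcopM
    (addOrderOf_dvd_of_nsmul_eq_zero card_nsmul_eq_zero')
    ((addOrderOf_dvd_of_nsmul_eq_zero e).trans (by
      rw [← Nat.card_eq_fintype_card]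
      exact (zpowers b).card_subgroup_dvd_card)))

end CfsgLib.Core.PQ

namespace CfsgLib.Core.PQ

open Subgroup Cfsg
open scoped commutatorElement

variable {X : Type u} [Group X] [Finite X] {M : Type*} [AddCommGroup M] [Finite M]
  (r : X →* AddMonoid.End M) {q : ℕ} [hq : Fact q.Prime] (θ : MulAut X) (σ : AddMonoid.End M)

/-- Passing to the quotient by the kernel of the module: the two consequences needed. -/
theorem mod_kernel (hθq : θ ^ q = 1) (hσq : σ ^ q = 1)
    (hcomp : ∀ x m, σ (r x m) = r (θ x) (σ m)) (hfpf : ∀ m, σ m = m → m = 0)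
    (hqM : (Nat.card M).Coprime q) {R : Subgroup X}
    (hRθ : ∀ x ∈ R, θ x ∈ R) (hRc : ∀ a ∈ R, ∀ b ∈ R, a * b = b * a)
    (hRfp : ∀ x ∈ R, θ x = x → x = 1) (hRq : (Nat.card R).Coprime q) :
    ((Nat.card M).Coprime (Nat.card R) → ∀ x ∈ R, ∀ m, r x m = m) ∧
    (∀ F : Subgroup X, F.Normal → Group.IsNilpotent F → (∀ y ∈ F, θ y ∈ F) →
      (Nat.card F).Coprime q → (Nat.card M).Coprime (Nat.card F) →
      (Nat.card F).Coprime (Nat.card R) → ∀ x ∈ R, ∀ y ∈ F, ∀ m, r ⁅x, y⁆ m = m) := by
  classical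
  have hr : ∀ (a b : X) (m : M), r (a * b) m = r a (r b m) := fun a b m => by rw [map_mul]; rfl
  let K : Subgroup X := r.toHomUnits.ker
  have hKm : ∀ x, x ∈ K ↔ ∀ m, r x m = m := fun x => by
    rw [MonoidHom.mem_ker, Units.ext_iff]
    show r x = 1 ↔ _
    exact ⟨fun h m => by rw [h]; rfl, fun h => AddMonoidHom.ext h⟩
  have hσinj : Function.Injective σ := fun a b h => sub_eq_zero.mp (by
    have e : σ (a - b) = 0 := by rw [map_sub, h, sub_self]
    have h1 : (σ ^ q) (a - b) = 0 := by
      obtain ⟨t, ht⟩ : ∃ t, q = t + 1 := ⟨q - 1, (Nat.sub_add_cancel hq.out.one_le).symm⟩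
      rw [ht, pow_succ]
      show (σ ^ t) (σ (a - b)) = 0
      rw [e, map_zero]
    rw [hσq] at h1
    exact h1)
  have hKθ : K.map θ.toMonoidHom = K := by
    refine eq_of_le_of_card_ge ?_
      (card_map_of_injective (f := θ.toMonoidHom) θ.injective).ge
    rintro _ ⟨x, hx, rfl⟩
    rw [hKm]
    intro m
    obtain ⟨m', rfl⟩ := Finite.injective_iff_surjective.mp hσinj m
    show r (θ x) (σ m') = σ m'
    rw [← hcomp, (hKm x).mp hx m']
  let Θ : MulAut (X ⧸ K) := QuotientGroup.congr K K θ hKθ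
  have hΘ : ∀ x : X, Θ (x : X ⧸ K) = ((θ x : X) : X ⧸ K) := fun x => rfl
  have hΘq : Θ ^ q = 1 := by
    have h : ∀ (n : ℕ) (x : X), (Θ ^ n) (x : X ⧸ K) = (((θ ^ n) x : X) : X ⧸ K) := by
      intro n x
      induction n with
      | zero => rfl
      | succ n ih => rw [pow_succ', MulAut.mul_apply, ih, hΘ, pow_succ', MulAut.mul_apply]
    refine MulEquiv.ext fun x => ?_
    obtain ⟨x, rfl⟩ := QuotientGroup.mk_surjective x
    rw [h, hθq]; rfl
  let r' : X ⧸ K →* AddMonoid.End M :=
    (Units.coeHom _).comp (QuotientGroup.lift K r.toHomUnits le_rfl)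
  have hr' : ∀ (x : X) m, r' (x : X ⧸ K) m = r x m := fun x m => rfl
  have hcomp' : ∀ y m, σ (r' y m) = r' (Θ y) (σ m) := fun y m => by
    obtain ⟨x, rfl⟩ := QuotientGroup.mk_surjective y
    rw [hΘ, hr', hr', hcomp]
  have hfaith : ∀ y : X ⧸ K, (∀ m, r' y m = m) → y = 1 := fun y hy => by
    obtain ⟨x, rfl⟩ := QuotientGroup.mk_surjective y
    exact (QuotientGroup.eq_one_iff x).mpr ((hKm x).mpr fun m => hy m)
  let R' := R.map (QuotientGroup.mk' K)
  have hR'θ : ∀ y ∈ R', Θ y ∈ R' := by
    rintro _ ⟨x, hx, rfl⟩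
    exact ⟨θ x, hRθ x hx, rfl⟩
  have hR'c : ∀ a ∈ R', ∀ b ∈ R', a * b = b * a := by
    rintro _ ⟨a, ha, rfl⟩ _ ⟨b, hb, rfl⟩
    rw [← map_mul, ← map_mul, hRc a ha b hb]
  have hR'd : Nat.card R' ∣ Nat.card R := card_map_dvd R (QuotientGroup.mk' K)
  have hR'fp : ∀ y ∈ R', Θ y = y → y = 1 := by
    let c : R → R := fun t => ⟨(t : X)⁻¹ * θ t, mul_mem (inv_mem t.2) (hRθ t t.2)⟩
    have hc : Function.Surjective c := by
      refine Finite.surjective_of_injective fun a b hab => ?_
      have h1 : (a : X)⁻¹ * θ a = (b : X)⁻¹ * θ b := congrArg Subtype.val hab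
      have h2 : θ ((a : X) * (b : X)⁻¹) = (a : X) * (b : X)⁻¹ := by
        rw [map_mul, map_inv]
        have h3 : θ a = (a : X) * ((b : X)⁻¹ * θ b) := by rw [← h1, mul_inv_cancel_left]
        rw [h3, mul_assoc (a : X), mul_inv_cancel_right]
      exact Subtype.ext (mul_inv_eq_one.mp (hRfp _ (mul_mem a.2 (inv_mem b.2)) h2))
    let c' : R' → R' := fun t => ⟨(t : X ⧸ K)⁻¹ * Θ t, mul_mem (inv_mem t.2) (hR'θ t t.2)⟩
    have hc' : Function.Surjective c' := by
      rintro ⟨_, x, hx, rfl⟩
      obtain ⟨t, ht⟩ := hc ⟨x, hx⟩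
      exact ⟨⟨_, mem_map_of_mem _ t.2⟩, Subtype.ext
        (congrArg (QuotientGroup.mk' K) (congrArg Subtype.val ht))⟩
    intro y hy hfix
    have h := Finite.injective_iff_surjective.mpr hc' (a₁ := ⟨y, hy⟩) (a₂ := 1) (Subtype.ext (by
      show y⁻¹ * Θ y = ((1 : R') : X ⧸ K)⁻¹ * Θ ((1 : R') : X ⧸ K)
      rw [hfix, inv_mul_cancel, OneMemClass.coe_one, map_one, inv_one, one_mul]))
    exact congrArg Subtype.val h
  refine ⟨fun hco x hx m => ?_, fun F hFn hFnil hFθ hFq hFM hFR x hx y hy m => ?_⟩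
  · have h := HH.fixed_of_abelian r' Θ σ hΘq hσq hcomp' hfpf R' hR'θ hR'c
      (hRq.coprime_dvd_left hR'd) (hco.coprime_dvd_right hR'd) (fun a _ ha => hfaith a ha)
    have h1 := hR'fp _ (mem_map_of_mem _ hx) (h _ (mem_map_of_mem _ hx))
    exact (hKm x).mp ((QuotientGroup.eq_one_iff x).mp h1) m
  · haveI := hFn
    haveI := hFnil
    let F' := F.map (QuotientGroup.mk' K)
    have hF'd : Nat.card F' ∣ Nat.card F := card_map_dvd F (QuotientGroup.mk' K)
    have hF'n : Group.IsNilpotent F' :=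
      Group.nilpotent_of_surjective _ ((QuotientGroup.mk' K).subgroupMap_surjective F)
    have h := HH.centralizes_of_fpf_module r' Θ σ hΘq hσq hcomp' hfpf hqM (F := F') (R := R')
      hF'n (by rintro _ ⟨y, hy, rfl⟩; exact ⟨θ y, hFθ y hy, rfl⟩)
      (hFq.coprime_dvd_left hF'd) (hFM.coprime_dvd_right hF'd) (fun a _ ha => hfaith a ha)
      hR'θ hR'c hR'fp (by
        rintro _ ⟨a, ha, rfl⟩ _ ⟨b, hb, rfl⟩
        exact ⟨a * b * a⁻¹, hFn.conj_mem b hb a, by simp⟩)
      ((hFR.coprime_dvd_left hF'd).coprime_dvd_right hR'd)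
      _ (mem_map_of_mem _ hx) _ (mem_map_of_mem _ hy)
    refine (hKm _).mp ((QuotientGroup.eq_one_iff _).mp ?_) m
    show QuotientGroup.mk' K ⁅x, y⁆ = 1
    rw [map_commutatorElement, commutatorElement_eq_one_iff_mul_comm]
    exact h

end CfsgLib.Core.PQ

namespace CfsgLib.Core.PQ

open Subgroup Cfsg OpSetup
open scoped commutatorElement

variable {A : Type v} [Group A] [Fintype A] {X : Type u} [Group X] [Finite X]
  {M : Type u} [AddCommGroup M] [Finite M] {p q : ℕ} {π : A}

theorem nilpotent_of_setup [Group.IsSolvable X] (hA : IsPQ p q A π) (D : Setup A X M)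
    (hcopX : (Nat.card A).Coprime (Nat.card X)) (hcopM : (Nat.card M).Coprime (Nat.card A))
    (hco : (Nat.card M).Coprime (Nat.card (fittingSubgroup X))) : Group.IsNilpotent X := by
  classical
  obtain ⟨hp, hq, hcard, hord, hnorm, hout, hdvd, hpr⟩ := id hA
  haveI := Fact.mk hp
  haveI := Fact.mk hq
  have hπ1 : π ≠ 1 := fun h => hp.ne_one (by rw [← hord, h, orderOf_one])
  have hXp : (Nat.card X).Coprime p :=
    (hcopX.coprime_dvd_left (hcard ▸ dvd_mul_right p q)).symm
  have hXq : (Nat.card X).Coprime q :=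
    (hcopX.coprime_dvd_left (hcard ▸ dvd_mul_left q p)).symm
  have hMp : (Nat.card M).Coprime p := hcopM.coprime_dvd_right (hcard ▸ dvd_mul_right p q)
  have hMq : (Nat.card M).Coprime q := hcopM.coprime_dvd_right (hcard ▸ dvd_mul_left q p)
  have hθπ : D.θ π ^ p = 1 := by rw [← map_pow, ← hord, pow_orderOf_eq_one, map_one]
  have hpowg : ∀ g ∈ zpowers π, ∃ k : ℕ, π ^ k = g := fun g hg =>
    (mem_powers_iff_mem_zpowers (x := π)).mpr hg
  obtain ⟨h₀, hh₀⟩ : ∃ h, h ∉ zpowers π := by
    by_contra hall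
    push Not at hall
    have e : Nat.card (zpowers π) = Nat.card A := by
      rw [(eq_top_iff' _).mpr hall, card_top]
    rw [Nat.card_zpowers, hord, hcard] at e
    nlinarith [hq.two_le, hp.two_le]
  rcases subsingleton_or_nontrivial X with hX | hX
  · exact (IsPGroup.of_card (p := p) (n := 0) (by rw [Nat.card_unique, pow_zero])).isNilpotent
  obtain ⟨m₀, hm₀⟩ : ∃ m : M, m ≠ 0 := by
    by_contra h
    push Not at h
    obtain ⟨x, hx⟩ := exists_ne (1 : X)
    exact hx (D.inj x fun m => by rw [h (D.r x m), h m])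
  generalize hFd : fittingSubgroup X = F at hco
  haveI : F.Normal := hFd ▸ inferInstance
  haveI hFnil : Group.IsNilpotent F := hFd ▸ isNilpotent_fittingSubgroup X
  have hFi : ∀ g, ∀ y ∈ F, D.θ g y ∈ F := fun g y hy => by
    rw [← hFd] at hy ⊢
    exact (map_equiv_fittingSubgroup (D.θ g)).le (mem_map_of_mem _ hy)
  have hCF : centralizer (F : Set X) ≤ F := by
    rw [← hFd]; exact Components.centralizer_fitting_le_of_isSolvable
  -- a minimal invariant abelian normal subgroup
  let P : Subgroup X → Prop := fun N =>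
    N.Normal ∧ (∀ g, ∀ z ∈ N, D.θ g z ∈ N) ∧ (∀ a ∈ N, ∀ b ∈ N, a * b = b * a)
  obtain ⟨Z, ⟨⟨hZn, hZi, hZc⟩, hZb⟩, hmin⟩ : ∃ Z, (P Z ∧ Z ≠ ⊥) ∧
      ∀ N, P N → N ≤ Z → N ≠ ⊥ → N = Z := by
    obtain ⟨t, ht, htb⟩ := exists_pCore_ne_bot (G := X)
    haveI := Fact.mk ht
    generalize hQ : pCore t X = T at htb
    haveI : T.Normal := hQ ▸ inferInstance
    generalize hC : T ⊓ centralizer (T : Set X) = C
    have hCi : ∀ g, C.map (D.θ g).toMonoidHom = C := by
      intro g
      rw [← hC, CfsgLib.PLocal.map_centralizer_of_injOn (D.θ g).toMonoidHom _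
        ((MonoidHom.ker_eq_bot_iff (D.θ g).toMonoidHom).mpr (D.θ g).injective ▸ disjoint_bot_right),
        ← hQ, map_equiv_pCore (D.θ g)]
    have hCb : C ≠ ⊥ := by
      haveI : Nontrivial T := (nontrivial_iff_ne_bot _).mpr htb
      obtain ⟨⟨⟨z, hz⟩, hzc⟩, hz1⟩ := ne_bot_iff_exists_ne_one.mp
        (hQ ▸ isPGroup_pCore t X : IsPGroup t T).bot_lt_center.ne'
      intro h
      apply hz1
      refine Subtype.ext (Subtype.ext (mem_bot.mp (h ▸ hC ▸ ⟨hz, ?_⟩ : z ∈ (⊥ : Subgroup X))))
      exact mem_centralizer_iff.mpr fun y hy => congrArg Subtype.val (mem_center_iff.mp hzc ⟨y, hy⟩)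
    have hCP : P C := ⟨hC ▸ inferInstance, fun g z hz => (hCi g).le (mem_map_of_mem _ hz),
      fun a ha b hb => by
        rw [← hC] at ha hb
        exact (mem_centralizer_iff.mp hb.2 a ha.1)⟩
    obtain ⟨Z, hZ, hmin⟩ := Set.Finite.exists_minimal
      (Set.toFinite {N : Subgroup X | P N ∧ N ≠ ⊥}) ⟨C, hCP, hCb⟩
    exact ⟨Z, hZ, fun N hN hle hb => le_antisymm hle (hmin ⟨hN, hb⟩ hle)⟩
  haveI := hZn
  have hZF : Z ≤ F := by
    haveI : Group.IsNilpotent Z := by
      let : CommGroup Z := { (inferInstance : Group Z) with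
        mul_comm := fun a b => Subtype.ext (hZc a a.2 b b.2) }
      exact CommGroup.isNilpotent
    rw [← hFd]
    exact le_fittingSubgroup inferInstance
  have hfg := fun {g h : A} (hg : g ≠ 1) (hh : h ∉ zpowers g) {x : X} =>
    fixed_of_gen hpr D.θ D.fixX hg hh (x := x)
  by_cases hI : ∃ b ∈ zpowers π, b ≠ 1 ∧ ∀ z ∈ Z, D.θ b z = z
  · -- an element of the normal subgroup is trivial on `Z`
    obtain ⟨b, hbπ, hb1, hbZ⟩ := hI
    have hbq : orderOf b = p := by
      rcases (Nat.dvd_prime hp).mp (hord ▸ (by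
        rw [← Nat.card_zpowers π, ← Nat.card_zpowers b]
        exact card_dvd_of_le (zpowers_le.mpr hbπ)) : orderOf b ∣ p) with h | h
      · exact absurd (orderOf_eq_one_iff.mp h) hb1
      · exact h
    have hbp : b ^ p = 1 := by rw [← hbq, pow_orderOf_eq_one]
    have hh₀b : h₀ ∉ zpowers b := fun h => hh₀ ((zpowers_le.mpr hbπ) h)
    have hT : ∀ m, D.σ b m = m → m = 0 := fun m hm =>
      no_fixed D hpr hcopX hcopM hZn hZi hZc hZb bot_le hb1 (fun z hz => by
        rw [hbZ z hz, mul_inv_cancel]; exact one_mem _)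
        (fun k hk => by rw [mem_bot.mp hk]; exact D.r_one _) hm
    have hexc : ¬ (2 ∣ Nat.card F ∧ ∃ j, p = 2 ^ j + 1) := by
      rintro ⟨h2, j, hj⟩
      have hq2 : q = 2 := by
        have h : q ∣ 2 ^ j := by rwa [hj, Nat.add_sub_cancel] at hdvd
        exact (Nat.prime_dvd_prime_iff_eq hq Nat.prime_two).mp (hq.dvd_of_dvd_pow h)
      exact absurd (Nat.eq_one_of_dvd_coprimes hXq (h2.trans F.card_subgroup_dvd_card)
        (hq2 ▸ dvd_rfl)) (by norm_num)
    have hFfix := HH.fixed_of_fpf_module (q := p) D.r (D.θ b) (D.σ b)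
      (by rw [← map_pow, hbp, map_one]) (by rw [← map_pow, hbp, map_one])
      (fun x m => D.comp b x m) hT hMp hFnil (hFi b)
      (hXp.coprime_dvd_left F.card_subgroup_dvd_card) hco (fun y _ hy => D.inj y hy) hexc
    have hball : ∀ x, D.θ b x = x := by
      intro x
      refine FPFSymThree.eq_of_fixed_diff hXp (D.θ b) (mul_inv_cancel_left x (D.θ b x)).symm
        (hFfix _ ?_) (by rw [← map_pow, hbp, map_one])
      refine hCF (mem_centralizer_iff.mpr fun f hf => ?_)
      have e := hFfix _ ((inferInstance : F.Normal).conj_mem f hf x)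
      rw [map_mul, map_mul, map_inv, hFfix f hf] at e
      calc f * (x⁻¹ * D.θ b x) = x⁻¹ * (x * f * x⁻¹) * D.θ b x := by group
        _ = x⁻¹ * (D.θ b x * f * (D.θ b x)⁻¹) * D.θ b x := by rw [e]
        _ = x⁻¹ * D.θ b x * f := by group
    exact FPFAut.isNilpotent_of_fpf
      (fun K _ _ p _ hp P h => CfsgLib.PLocal.hasNormalPComplement_glauberman hp P h) (D.θ h₀)
      (fun x hx => hfg hb1 hh₀b (hball x) hx) hq
      (by rw [← map_pow, ← hout h₀ hh₀, pow_orderOf_eq_one, map_one])
  · push Not at hI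
    letI := Fintype.ofFinite X
    let S : Subgroup X → M → M := fun N m => ∑ n : X with n ∈ N, D.r n m
    let Adm : Subgroup X → A → Prop := fun N b =>
      N.Normal ∧ N ≤ Z ∧ b ∉ zpowers π ∧ ∀ z ∈ Z, z * (D.θ b z)⁻¹ ∈ N
    let Q : M → Prop := fun m => ∀ N b, Adm N b → S N m = 0
    have hSr : ∀ N : Subgroup X, N.Normal → ∀ x m, S N (D.r x m) = D.r x (S N m) := by
      intro N hN x m
      simp only [S, map_sum]
      refine Finset.sum_bij' (fun n _ => x⁻¹ * n * x) (fun n _ => x * n * x⁻¹) ?_ ?_ ?_ ?_ ?_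
      · intro n hn
        simp only [Finset.mem_filter, Finset.mem_univ, true_and] at hn ⊢
        simpa using hN.conj_mem n hn x⁻¹
      · intro n hn
        simp only [Finset.mem_filter, Finset.mem_univ, true_and] at hn ⊢
        exact hN.conj_mem n hn x
      · intro n _; group
      · intro n _; group
      · intro n _
        rw [← D.r_mul, ← D.r_mul]
        congr 2
        group
    have hQr : ∀ x m, Q m → Q (D.r x m) := fun x m hm N b hA => by
      rw [hSr N hA.1, hm N b hA, map_zero]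
    have hQs : ∀ a b, Q a → Q b → Q (a - b) := fun a c ha hc N b hA => by
      have h1 := ha N b hA
      have h2 := hc N b hA
      simp only [S, map_sub, Finset.sum_sub_distrib] at h1 h2 ⊢
      rw [h1, h2, sub_self]
    -- the pieces detect every vector
    have hcover : ∀ m, Q m → m = 0 := by
      intro m hm
      by_contra hm0
      obtain ⟨K, hK⟩ := D.exists_isKernel Z Q hm0 hm
      obtain ⟨b, hb1, hball⟩ := D.exists_uniform' hcopX hpr hZi hZc hZb hQr hQs hK
      obtain ⟨hKZ, ⟨n, hn0, hQn, hn⟩, -⟩ := hK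
      let N := normalClosure ((fun z => z * (D.θ b z)⁻¹) '' (Z : Set X))
      have hNK : N ≤ K := by
        show normalClosure _ ≤ K
        rw [normalClosure, closure_le]
        intro y hy
        obtain ⟨s, ⟨w, hw, rfl⟩, hconj⟩ := Group.mem_conjugatesOfSet_iff.mp hy
        obtain ⟨x, rfl⟩ := isConj_iff.mp hconj
        exact hball x w hw
      have hNn : N.Normal := normalClosure_normal
      have hNb : ∀ z ∈ Z, z * (D.θ b z)⁻¹ ∈ N := fun z hz =>
        subset_normalClosure ⟨z, hz, rfl⟩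
      by_cases hbπ : b ∈ zpowers π
      · -- then `N` is invariant
        have hNi : ∀ g, ∀ y ∈ N, D.θ g y ∈ N := by
          intro g y hy
          haveI : (N.comap (D.θ g).toMonoidHom).Normal := hNn.comap _
          refine (normalClosure_le_normal ?_ : N ≤ N.comap (D.θ g).toMonoidHom) hy
          rintro _ ⟨w, hw, rfl⟩
          show D.θ g (w * (D.θ b w)⁻¹) ∈ N
          have hgb : g * b * g⁻¹ ∈ zpowers b := by
            have hsub : zpowers b = zpowers π := by
              refine Subgroup.eq_of_le_of_card_ge (zpowers_le.mpr hbπ) ?_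
              have hd : orderOf b ∣ orderOf π := by
                rw [← Nat.card_zpowers, ← Nat.card_zpowers]
                exact card_dvd_of_le (zpowers_le.mpr hbπ)
              rw [Nat.card_zpowers, Nat.card_zpowers]
              rcases (Nat.dvd_prime hp).mp (hord ▸ hd) with h | h
              · exact absurd (orderOf_eq_one_iff.mp h) hb1
              · rw [h, hord]
            rw [hsub]
            exact hnorm.conj_mem b hbπ g
          have hmem : g * b * g⁻¹ ∈ stab D.toOps hZi N :=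
            (zpowers_le.mpr (show b ∈ stab D.toOps hZi N from hNb)) hgb
          have e := hmem _ (hZi g w hw)
          rw [map_mul, map_inv]
          rwa [← D.θ_mul, inv_mul_cancel_right, D.θ_mul] at e
        by_cases hNbot : N = ⊥
        · obtain ⟨z, hz, hne⟩ := hI b hbπ hb1
          exact hne (mul_inv_eq_one.mp (mem_bot.mp (hNbot.le (hNb z hz)))).symm
        · have hNeq : N = Z := hmin N
            ⟨hNn, hNi, fun a ha c hc => hZc a (hKZ (hNK ha)) c (hKZ (hNK hc))⟩
            (hNK.trans hKZ) hNbot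
          exact hn0 (D.noFix Z hZn hZi hZb n fun k hk => hn k (hNK (hNeq.ge hk)))
      · have h := hQn N b ⟨hNn, hNK.trans hKZ, hbπ, hNb⟩
        simp only [S] at h
        rw [Finset.sum_congr rfl fun k hk => hn k (hNK (Finset.mem_filter.mp hk).2),
          Finset.sum_const, ← Fintype.card_subtype, ← Nat.card_eq_fintype_card] at h
        exact hn0 (AddMonoid.addOrderOf_eq_one_iff.mp (Nat.eq_one_of_dvd_coprimes
          ((hco.coprime_dvd_right (card_dvd_of_le ((hNK.trans hKZ).trans hZF))))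
          (addOrderOf_dvd_of_nsmul_eq_zero card_nsmul_eq_zero') (addOrderOf_dvd_of_nsmul_eq_zero h)))
    -- an element trivial on every piece is trivial
    have hfaith : ∀ x, (∀ N b, Adm N b → ∀ m, D.Fixes N m → D.r x m = m) → x = 1 := by
      intro x hx
      refine D.inj x fun m => sub_eq_zero.mp (hcover _ fun N b hA => ?_)
      have hfix : D.Fixes N (S N m) := fun k hk => by
        simp only [S, map_sum]
        refine Finset.sum_bij' (fun n _ => k * n) (fun n _ => k⁻¹ * n) ?_ ?_ ?_ ?_ ?_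
        · intro n hn
          simp only [Finset.mem_filter, Finset.mem_univ, true_and] at hn ⊢
          exact mul_mem hk hn
        · intro n hn
          simp only [Finset.mem_filter, Finset.mem_univ, true_and] at hn ⊢
          exact mul_mem (inv_mem hk) hn
        · intro n _; group
        · intro n _; group
        · intro n _; rw [D.r_mul]
      have h1 := hSr N hA.1 x m
      rw [hx N b hA _ hfix] at h1
      simp only [S] at h1 ⊢
      simp only [map_sub, Finset.sum_sub_distrib]
      rw [h1, sub_self]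
    -- the centraliser of `π` is trivial
    suffices hCπ : ∀ x, D.θ π x = x → x = 1 from
      FPFAut.isNilpotent_of_fpf
        (fun K _ _ p _ hp P h => CfsgLib.PLocal.hasNormalPComplement_glauberman hp P h) (D.θ π)
        hCπ hp hθπ
    intro x₀ hx₀
    by_contra hx1
    let C : Subgroup X := MonoidHom.eqLocus (D.θ π).toMonoidHom (MonoidHom.id X)
    have hCi : ∀ g, ∀ y ∈ C, D.θ g y ∈ C := by
      intro g y (hy : D.θ π y = y)
      show D.θ π (D.θ g y) = D.θ g y
      obtain ⟨k, hk⟩ := hpowg _ (hnorm.conj_mem π (mem_zpowers π) g⁻¹)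
      rw [inv_inv] at hk
      rw [← D.θ_mul, show π * g = g * π ^ k by rw [hk]; group, D.θ_mul, D.θ_pow_of_fixed hy k]
    obtain ⟨R, ⟨hRC, hRi, hRb⟩, hRmin⟩ := Set.Finite.exists_minimal
      (Set.toFinite {R : Subgroup X | R ≤ C ∧ (∀ g, ∀ y ∈ R, D.θ g y ∈ R) ∧ R ≠ ⊥})
      ⟨C, le_rfl, hCi, fun e => hx1 (mem_bot.mp (e.le hx₀))⟩
    have hRlt : ∀ T : Subgroup X, T < R → (∀ g, ∀ y ∈ T, D.θ g y ∈ T) → T = ⊥ := by
      intro T hT hTi
      by_contra hTb
      exact hT.ne (le_antisymm hT.le (hRmin ⟨hT.le.trans hRC, hTi, hTb⟩ hT.le))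
    haveI : Group.IsSolvable R := inferInstance
    have hRc : ∀ a ∈ R, ∀ b ∈ R, a * b = b * a := by
      have h := hRlt _ (commutator_self_lt inferInstance hRb) (fun g y hy => by
        have hle : R.map (D.θ g).toMonoidHom ≤ R := by rintro _ ⟨u, hu, rfl⟩; exact hRi g u hu
        have h2 : (⁅R, R⁆).map (D.θ g).toMonoidHom ≤ ⁅R, R⁆ := by
          rw [map_commutator]; exact commutator_mono hle hle
        exact h2 (mem_map_of_mem _ hy))
      exact fun a ha b hb => commutatorElement_eq_one_iff_mul_comm.mp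
        (mem_bot.mp (h.le (commutator_mem_commutator ha hb)))
    obtain ⟨t, ht, htd⟩ := Nat.exists_prime_and_dvd
      (fun e => hRb (Subgroup.card_eq_one.mp e) : Nat.card R ≠ 1)
    haveI := Fact.mk ht
    have hRt : ∀ y ∈ R, y ^ t = 1 := by
      let T : Subgroup X :=
        { carrier := {y | y ∈ R ∧ y ^ t = 1}
          one_mem' := ⟨one_mem R, one_pow t⟩
          mul_mem' := fun {a b} ha hb => ⟨mul_mem ha.1 hb.1, by
            rw [Commute.mul_pow (hRc a ha.1 b hb.1), ha.2, hb.2, one_mul]⟩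
          inv_mem' := fun {a} ha => ⟨inv_mem ha.1, by rw [inv_pow, ha.2, inv_one]⟩ }
      have hTR : T ≤ R := fun y hy => hy.1
      rcases lt_or_eq_of_le hTR with hlt | heq
      · have h := hRlt T hlt fun g y hy => ⟨hRi g y hy.1, by rw [← map_pow, hy.2, map_one]⟩
        obtain ⟨y, hy⟩ := exists_prime_orderOf_dvd_card' (G := R) t htd
        have hyT : (y : X) ∈ T := ⟨y.2, by
          rw [← SubgroupClass.coe_pow, ← hy, pow_orderOf_eq_one, OneMemClass.coe_one]⟩
        rw [h, mem_bot] at hyT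
        have : y = 1 := Subtype.ext hyT
        rw [this, orderOf_one] at hy
        exact absurd hy.symm ht.ne_one
      · exact fun y hy => (heq.ge hy).2
    obtain ⟨i, hi⟩ := IsPGroup.iff_card.mp (fun y : R => ⟨1, Subtype.ext (by
      rw [SubgroupClass.coe_pow, pow_one]; exact hRt y y.2)⟩ : IsPGroup t R)
    -- each piece
    have hpiece : ∀ N b, Adm N b → ((Nat.card M).Coprime (Nat.card R) →
        ∀ x ∈ R, ∀ m, D.Fixes N m → D.r x m = m) ∧
        ((Nat.card F).Coprime (Nat.card R) →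
        ∀ x ∈ R, ∀ y ∈ F, ∀ m, D.Fixes N m → D.r ⁅x, y⁆ m = m) := by
      rintro N b ⟨hNn, hNZ, hbπ, hbN⟩
      let MN : AddSubgroup M :=
        { carrier := {m | D.Fixes N m}
          zero_mem' := fun k _ => map_zero _
          add_mem' := fun {a c} ha hc k hk => by rw [map_add, ha k hk, hc k hk]
          neg_mem' := fun {a} ha k hk => by rw [map_neg, ha k hk] }
      have hbNN : ∀ k ∈ N, D.θ b k ∈ N := fun k hk => by
        have e := mul_mem (inv_mem (hbN k (hNZ hk))) hk
        simpa using e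
      have hsurN : ∀ k ∈ N, ∃ l ∈ N, D.θ b l = k := fun k hk => by
        obtain ⟨⟨l, hl⟩, he⟩ := (HH.res N (D.θ b) hbNN).surjective ⟨k, hk⟩
        exact ⟨l, hl, congrArg Subtype.val he⟩
      have hσMN : ∀ m ∈ MN, D.σ b m ∈ MN := fun m hm k hk => by
        obtain ⟨l, hl, rfl⟩ := hsurN k hk
        rw [← D.comp, hm l hl]
      have hrMN : ∀ x, ∀ m ∈ MN, D.r x m ∈ MN := fun x m hm k hk => by
        have e : x⁻¹ * k * x ∈ N := by simpa using hNn.conj_mem k hk x⁻¹
        calc D.r k (D.r x m) = D.r x (D.r (x⁻¹ * k * x) m) := by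
              rw [← D.r_mul, ← D.r_mul]; congr 2; group
          _ = D.r x m := by rw [hm _ e]
      let cut : (f : AddMonoid.End M) → (∀ m ∈ MN, f m ∈ MN) → AddMonoid.End MN := fun f hf =>
        ((f : M →+ M).comp MN.subtype).codRestrict MN fun m => hf m m.2
      let r' : X →* AddMonoid.End MN :=
        { toFun := fun x => cut (D.r x) (hrMN x)
          map_one' := AddMonoidHom.ext fun m => Subtype.ext (D.r_one _)
          map_mul' := fun x y => AddMonoidHom.ext fun m => Subtype.ext (D.r_mul x y _) }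
      have hbo : orderOf b = q := hout b hbπ
      have hb1 : b ≠ 1 := fun h => hbπ (h ▸ one_mem _)
      have hbq : b ^ q = 1 := by rw [← hbo, pow_orderOf_eq_one]
      have hσq : cut (D.σ b) hσMN ^ q = 1 := by
        have h : ∀ (n : ℕ) (m : MN), (((cut (D.σ b) hσMN) ^ n) m : M) = (D.σ b ^ n) (m : M) := by
          intro n
          induction n with
          | zero => intro m; rfl
          | succ n ih =>
            intro m
            rw [pow_succ', pow_succ']
            show D.σ b (((cut (D.σ b) hσMN) ^ n) m : M) = D.σ b ((D.σ b ^ n) m)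
            rw [ih]
        exact AddMonoidHom.ext fun m => Subtype.ext ((h q m).trans (by
          rw [← map_pow, hbq, map_one]; rfl))
      have hqR : (Nat.card R).Coprime q := hXq.coprime_dvd_left R.card_subgroup_dvd_card
      have hMNd : Nat.card MN ∣ Nat.card M := MN.card_addSubgroup_dvd_card
      obtain ⟨h1, h2⟩ := mod_kernel (q := q) r' (D.θ b) (cut (D.σ b) hσMN)
        (by rw [← map_pow, hbq, map_one]) hσq (fun x m => Subtype.ext (D.comp b x m))
        (fun m hm => Subtype.ext (no_fixed D hpr hcopX hcopM hZn hZi hZc hZb hNZ hb1 hbN m.2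
          (congrArg Subtype.val hm)))
        (hMq.coprime_dvd_left hMNd) (R := R) (hRi b) hRc
        (fun y hy he => hfg hπ1 hbπ (hRC hy) he) hqR
      refine ⟨fun hco' x hx m hm => congrArg Subtype.val
        (h1 (hco'.coprime_dvd_left hMNd) x hx ⟨m, hm⟩), fun hFR x hx y hy m hm => ?_⟩
      exact congrArg Subtype.val (h2 F inferInstance hFnil (hFi b)
        (hXq.coprime_dvd_left F.card_subgroup_dvd_card) (hco.coprime_dvd_left hMNd) hFR x hx y hy ⟨m, hm⟩)
    by_cases htM : t ∣ Nat.card M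
    · have hFR : (Nat.card F).Coprime (Nat.card R) := by
        rw [hi]
        exact ((ht.coprime_iff_not_dvd.mpr fun h => ht.ne_one
          (Nat.eq_one_of_dvd_coprimes hco htM h)).symm).pow_right i
      have hRF : R ≤ F := fun x hx => hCF (mem_centralizer_iff.mpr fun y hy => Eq.symm
        (commutatorElement_eq_one_iff_mul_comm.mp
          (hfaith _ fun N b hA m hm => (hpiece N b hA).2 hFR x hx y hy m hm)))
      exact ht.ne_one (Nat.eq_one_of_dvd_coprimes hco htM (htd.trans (card_dvd_of_le hRF)))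
    · have hMR : (Nat.card M).Coprime (Nat.card R) := by
        rw [hi]
        exact ((ht.coprime_iff_not_dvd.mpr htM).symm).pow_right i
      exact hRb ((eq_bot_iff_forall R).mpr fun x hx =>
        hfaith x fun N b hA m hm => (hpiece N b hA).1 hMR x hx m hm)

theorem exists_nilpotent_normal {G : Type u} {A : Type v} [Group G] [Finite G] [Group A] [Finite A]
    [MulDistribMulAction A G] (hG : Group.IsSolvable G) {p q : ℕ} (hp : p.Prime) (hq : q.Prime)
    (hlt : q < p) (hA : Nat.card A = p * q) (hna : ¬ IsMulCommutative A)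
    (hcop : (Nat.card G).Coprime (p * q)) (hfpf : ∀ g : G, (∀ a : A, a • g = g) → g = 1) :
    ∃ F : Subgroup G, ∃ hF : F.Normal, Group.IsNilpotent ↥F ∧ Group.IsNilpotent (G ⧸ F) := by
  letI := Fintype.ofFinite A
  obtain ⟨π, hπ⟩ := exists_isPQ hp hq hlt hA hna
  exact ⟨fittingSubgroup G, inferInstance, isNilpotent_fittingSubgroup G,
    exists_nilpotent_quotient
      (fun X _ _ _ M _ _ D h1 h2 h3 _ => nilpotent_of_setup hπ D h1 h2 h3)
      (MulDistribMulAction.toMulAut A G) hG (by rw [hA]; exact hcop.symm)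
      fun g hg => hfpf g hg⟩

end CfsgLib.Core.PQ
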