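import Cfsg.Agent.Lib.Core.FPFSymThreeBasic

/-!
# Coprime fixed point free actions of the symmetric group of degree three

`isNilpotent_commutator_of_symThree`: the derived subgroup of a solvable group with such an action is
nilpotent.
-/

set_option autoImplicit false
set_option linter.all false
set_option maxRecDepth 4000

universe u

namespace CfsgLib.Core.FPFSymThree

open Subgroup Cfsg

/-- The symmetric group of degree three. -/
abbrev S3 := Equiv.Perm (Fin 3)

/-- A three cycle. -/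
def ra : S3 := Equiv.swap 0 1 * Equiv.swap 1 2

/-- An involution. -/
def rt : S3 := Equiv.swap 0 1

theorem s3_cases : ∀ g : S3, g = 1 ∨ g = ra ∨ g = ra * ra ∨ g = rt ∨ g = ra * rt ∨ g = ra * ra * rt := by
  decide

theorem s3_univ : (Finset.univ : Finset S3) = {1, ra, ra * ra, rt, ra * rt, ra * ra * rt} := by
  decide

theorem s3_inv_cases : ∀ g : S3, g ≠ 1 → g = ra ∨ g = ra * ra ∨ g * g = 1 := by decide

theorem s3_ra : ra * (ra * ra) = 1 := by decide

theorem s3_rel : ∀ t : S3, t * t = 1 → t ≠ 1 →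
    t * ra = ra * ra * t ∧ t * (ra * ra) = ra * t := by decide

theorem s3_conj : ∀ t t' : S3, t * t = 1 → t ≠ 1 → t' * t' = 1 → t' ≠ 1 →
    t' = t ∨ t' = ra * t * ra⁻¹ ∨ t' = ra * ra * t * (ra * ra)⁻¹ := by decide

theorem s3_pair : ∀ t t' : S3, t * t = 1 → t ≠ 1 → t' * t' = 1 → t' ≠ 1 → t ≠ t' →
    ra = t * t' ∨ ra = t' * t := by decide

theorem s3_of_inv : ∀ t : S3, t * t = 1 → t ≠ 1 → ∀ g : S3,
    g = 1 ∨ g = ra ∨ g = ra * ra ∨ g = t ∨ g = ra * t ∨ g = ra * ra * t := by decide

theorem s3_gen : ∀ g h : S3, g = 1 ∨ h = 1 ∨ h = g ∨ h = g * g ∨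
    ((ra = g ∨ ra = g * g ∨ ra = h ∨ ra = h * h ∨ ra = g * h ∨ ra = h * g) ∧
      (rt = g ∨ rt = h ∨ rt = g * h ∨ rt = h * g ∨ rt = g * (g * h) ∨ rt = h * (h * g) ∨ rt = g * h * g)) := by decide

theorem s3_conj_inv : ∀ t g : S3, t * t = 1 → t ≠ 1 →
    g * t * g⁻¹ * (g * t * g⁻¹) = 1 ∧ g * t * g⁻¹ ≠ 1 := by decide

theorem s3_univ' : ∀ t : S3, t * t = 1 → t ≠ 1 →
    (Finset.univ : Finset S3) = {1, t, ra, ra * t, ra * ra, ra * ra * t} := by decide

set_option synthInstance.maxSize 1000 in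
set_option synthInstance.maxHeartbeats 100000 in
theorem s3_nodup : ∀ t : S3, t * t = 1 → t ≠ 1 → (1 : S3) ≠ t ∧ 1 ≠ ra * t ∧ 1 ≠ ra * ra * t ∧
    t ≠ ra ∧ t ≠ ra * t ∧ t ≠ ra * ra ∧ t ≠ ra * ra * t ∧ ra ≠ ra * t ∧ ra ≠ ra * ra * t ∧
    ra * t ≠ ra * ra ∧ ra * t ≠ ra * ra * t ∧ ra * ra ≠ ra * ra * t := by decide

theorem s3_ra_ne : (1 : S3) ≠ ra ∧ (1 : S3) ≠ ra * ra ∧ ra ≠ ra * ra := by decide

theorem s3_sq_sq : ∀ g : S3, g * g ≠ 1 → g * g * (g * g) = g := by decide

/-- The data: an action on a group, a faithful operator representation of the group on a module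
compatible with fixed point free actions. -/
structure Setup (X M : Type*) [Group X] [AddCommGroup M] where
  r : X →* AddMonoid.End M
  σ : S3 →* AddMonoid.End M
  θ : S3 →* MulAut X
  comp : ∀ g x m, σ g (r x m) = r (θ g x) (σ g m)
  fixM : ∀ m, (∀ g, σ g m = m) → m = 0
  fixX : ∀ x, (∀ g, θ g x = x) → x = 1
  inj : ∀ x, (∀ m, r x m = m) → x = 1
  noFix : ∀ N : Subgroup X, N.Normal → (∀ g, ∀ n ∈ N, θ g n ∈ N) → N ≠ ⊥ →
    ∀ m, (∀ n ∈ N, r n m = m) → m = 0

namespace Setup

variable {X M : Type*} [Group X] [AddCommGroup M] (D : Setup X M)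

theorem mul_apply (a b : X) (m : M) : D.r (a * b) m = D.r a (D.r b m) := by rw [map_mul]; rfl

theorem one_apply (m : M) : D.r 1 m = m := by rw [map_one]; rfl

theorem σ_mul (g h : S3) (m : M) : D.σ (g * h) m = D.σ g (D.σ h m) := by rw [map_mul]; rfl

theorem θ_mul (g h : S3) (x : X) : D.θ (g * h) x = D.θ g (D.θ h x) := by rw [map_mul]; rfl

theorem θ_three (x : X) : D.θ ra (D.θ ra (D.θ ra x)) = x := by
  rw [← D.θ_mul, ← D.θ_mul, mul_assoc, s3_ra, map_one, MulAut.one_apply]

theorem θ_sq {t : S3} (ht : t * t = 1) (x : X) : D.θ t (D.θ t x) = x := by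
  rw [← D.θ_mul, ht, map_one, MulAut.one_apply]

theorem σ_sq {t : S3} (ht : t * t = 1) (m : M) : D.σ t (D.σ t m) = m := by
  rw [← D.σ_mul, ht, map_one]; rfl

theorem norm_zero (m : M) : ∑ g, D.σ g m = 0 :=
  D.fixM _ fun h => by
    rw [map_sum]
    exact Fintype.sum_equiv (Equiv.mulLeft h) _ _ fun g => (D.σ_mul h g m).symm

theorem rel (w : X) (m : M) : ∑ g, D.r (w * (D.θ g w)⁻¹) (D.σ g m) = 0 := by
  have h := congrArg (D.r w) (D.norm_zero (D.r w⁻¹ m))
  rw [map_sum, map_zero] at h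
  rw [← h]
  refine Finset.sum_congr rfl fun g _ => ?_
  rw [D.comp, map_inv, ← D.mul_apply]

theorem sum_six {β : Type*} [AddCommMonoid β] (f : S3 → β) :
    ∑ g, f g = f 1 + (f ra + (f (ra * ra) + (f rt + (f (ra * rt) + f (ra * ra * rt))))) := by
  rw [s3_univ, Finset.sum_insert (by decide), Finset.sum_insert (by decide),
    Finset.sum_insert (by decide), Finset.sum_insert (by decide), Finset.sum_insert (by decide),
    Finset.sum_singleton]

variable [Finite X] [Group.IsSolvable X]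

theorem coprime_subgroup (h6 : (Nat.card X).Coprime 6) (H : Subgroup X) {k : ℕ} (hk : k ∣ 6) :
    (Nat.card H).Coprime k :=
  (h6.coprime_dvd_left H.card_subgroup_dvd_card).coprime_dvd_right hk

theorem inv_of_fixed (h6 : (Nat.card X).Coprime 6) {x : X} (hx : D.θ ra x = x) {t : S3}
    (ht : t * t = 1) (ht1 : t ≠ 1) : D.θ t x = x⁻¹ := by
  let C : Subgroup X := MonoidHom.eqLocus (D.θ ra).toMonoidHom (MonoidHom.id X)
  have hC : ∀ y, y ∈ C ↔ D.θ ra y = y := fun y => Iff.rfl
  have hCt : ∀ y ∈ C, D.θ t y ∈ C := by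
    intro y hy
    rw [hC] at hy ⊢
    rw [← D.θ_mul, ← (s3_rel t ht ht1).2, D.θ_mul, D.θ_mul, hy, hy]
  have hmap : C.map (D.θ t).toMonoidHom = C := by
    refine eq_of_le_of_card_ge ?_ (le_of_eq (card_map_of_injective (f := (D.θ t).toMonoidHom)
      (D.θ t).injective).symm)
    rintro _ ⟨y, hy, rfl⟩
    exact hCt y hy
  let φ : MulAut C := ((D.θ t).subgroupMap C).trans (MulEquiv.subgroupCongr hmap)
  have hφ : ∀ y : C, ((φ y : C) : X) = D.θ t y := fun y => rfl
  have h := inv_of_fpf_involution φ (fun y => Subtype.ext (D.θ_sq ht y)) (fun y hy => ?_) ⟨x, hx⟩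
  · exact congrArg Subtype.val h
  refine Subtype.ext (D.fixX y fun g => ?_)
  have h1 : D.θ t y = y := congrArg Subtype.val hy
  have h2 : D.θ ra y = y := y.2
  rcases s3_of_inv t ht ht1 g with rfl | rfl | rfl | rfl | rfl | rfl
  · simp
  · exact h2
  · rw [D.θ_mul, h2, h2]
  · exact h1
  · rw [D.θ_mul, h1, h2]
  · rw [D.θ_mul, D.θ_mul, h1, h2, h2]

/-- If the three cycle centralises an invariant abelian normal subgroup, the group is abelian. -/
theorem comm_of_centralized (h6 : (Nat.card X).Coprime 6)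
    (hco : (Nat.card M).Coprime (Nat.card (fittingSubgroup X))) {Z : Subgroup X} [Z.Normal]
    (hZi : ∀ g, ∀ z ∈ Z, D.θ g z ∈ Z) (hZb : Z ≠ ⊥) (hfix : ∀ z ∈ Z, D.θ ra z = z) (a b : X) :
    a * b = b * a := by
  have hN : ∀ m, m + D.σ ra m + D.σ ra (D.σ ra m) = 0 := by
    intro m
    have hT : D.σ rt m + (D.σ (ra * rt) m + D.σ (ra * ra * rt) m) = 0 := by
      refine D.noFix Z inferInstance hZi hZb _ fun z hz => ?_
      obtain ⟨k, hk⟩ := exists_sq (h6.coprime_dvd_right (by norm_num)) z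
      obtain ⟨w, hw⟩ : ∃ w, w = z ^ k := ⟨_, rfl⟩
      have hwz : w * w = z := by rw [← pow_two, hw, ← pow_mul, mul_comm, pow_mul, pow_two]; exact hk
      have hwZ : w ∈ Z := hw ▸ pow_mem hz k
      have hi : ∀ t, t * t = 1 → t ≠ 1 → D.θ t w = w⁻¹ := fun t ht ht1 =>
        D.inv_of_fixed h6 (hfix w hwZ) ht ht1
      have e := D.rel w m
      have e0 := D.norm_zero m
      rw [sum_six] at e e0
      rw [map_one, MulAut.one_apply, hfix w hwZ, D.θ_mul ra ra, hfix w hwZ, hfix w hwZ,
        hi rt (by decide) (by decide), hi (ra * rt) (by decide) (by decide),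
        hi (ra * ra * rt) (by decide) (by decide), inv_inv, hwz, mul_inv_cancel, D.one_apply,
        D.one_apply, D.one_apply] at e
      rw [map_add, map_add, ← sub_eq_zero]
      rw [← sub_zero (0 : M)]
      conv_rhs => arg 1; rw [← e]
      conv_rhs => arg 2; rw [← e0]
      abel
    have e0 := D.norm_zero m
    rw [sum_six, hT, add_zero] at e0
    rw [← D.σ_mul, ← e0, map_one, AddMonoid.End.coe_one, id_eq, add_assoc]
  generalize hF : fittingSubgroup X = F at hco
  haveI : F.Normal := hF ▸ inferInstance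
  have hFi : F.map (D.θ ra).toMonoidHom = F := hF ▸ map_equiv_fittingSubgroup (D.θ ra)
  let φ : MulAut F := ((D.θ ra).subgroupMap F).trans (MulEquiv.subgroupCongr hFi)
  have hφ : ∀ y : F, ((φ y : F) : X) = D.θ ra y := fun y => rfl
  have hFfix : ∀ y ∈ F, D.θ ra y = y := by
    intro y hy
    have h := fixes_of_norm_zero (S := F) inferInstance hco
      (h6.coprime_dvd_left F.card_subgroup_dvd_card) (D.r.comp F.subtype)
      (fun x hx => Subtype.ext (D.inj x hx)) (D.σ ra)
      (fun m => ⟨D.σ (ra * ra) m, by rw [← D.σ_mul, s3_ra, map_one]; rfl⟩) φ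
      (fun x => Subtype.ext (D.θ_three x)) (fun x m => D.comp ra x m) hN ⟨y, hy⟩
    exact congrArg Subtype.val h
  have hall : ∀ x, D.θ ra x = x := by
    intro x
    refine eq_of_fixed_diff (k := 3) (h6.coprime_dvd_right (by norm_num)) (D.θ ra)
      (mul_inv_cancel_left x (D.θ ra x)).symm (hFfix _ ?_)
      (MulEquiv.ext fun z => by simp [pow_succ, D.θ_three])
    have hC : centralizer (F : Set X) ≤ F := by
      rw [← hF]; exact Components.centralizer_fitting_le_of_isSolvable
    refine hC (mem_centralizer_iff.mpr fun f hf => ?_)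
    have e := hFfix _ ((inferInstance : F.Normal).conj_mem f hf x)
    rw [map_mul, map_mul, map_inv, hFfix f hf] at e
    calc f * (x⁻¹ * D.θ ra x) = x⁻¹ * (x * f * x⁻¹) * D.θ ra x := by group
      _ = x⁻¹ * (D.θ ra x * f * (D.θ ra x)⁻¹) * D.θ ra x := by rw [e]
      _ = x⁻¹ * D.θ ra x * f := by group
  exact commute_of_forall_inv (D.θ rt)
    (fun x => D.inv_of_fixed h6 (hall x) (by decide) (by decide)) a b

/-- Commutativity, from three kernels permuted by the group. -/
theorem comm_of_kernels (h6 : (Nat.card X).Coprime 6) (K : S3 → Subgroup X)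
    (hKn : ∀ t, t * t = 1 → t ≠ 1 → (K t).Normal)
    (hK : ∀ t, t * t = 1 → t ≠ 1 → ∀ x, x⁻¹ * D.θ t x ∈ K t)
    (hKb : ∀ x, (∀ t, t * t = 1 → t ≠ 1 → x ∈ K t) → x = 1) (x y : X) : x * y = y * x := by
  have h2 : (Nat.card X).Coprime 2 := h6.coprime_dvd_right (by norm_num)
  have hfp : ∀ z, D.θ ra z = z → z = 1 := by
    intro z hz
    refine hKb z fun t ht ht1 => ?_
    have h := hK t ht ht1 z
    rw [D.inv_of_fixed h6 hz ht ht1, ← mul_inv_rev] at h
    obtain ⟨k, hk⟩ := exists_sq h2 z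
    rw [← hk]
    exact pow_mem (inv_mem_iff.mp h) k
  have hcomm := commute_conj_of_fpf_three (D.θ ra) D.θ_three hfp
  rw [← mul_inv_eq_one]
  have : x * y * x⁻¹ * y⁻¹ = 1 := by
    refine hKb _ fun t ht ht1 => ?_
    haveI := hKn t ht ht1
    obtain ⟨i, hi⟩ := exists_fixed_mul h2 (D.θ t) (D.θ_sq ht) x
    obtain ⟨j, hj⟩ := exists_fixed_mul h2 (D.θ t) (D.θ_sq ht) y
    generalize hx' : x * (x⁻¹ * D.θ t x) ^ i = x' at hi
    generalize hy' : y * (y⁻¹ * D.θ t y) ^ j = y' at hj
    let π := QuotientGroup.mk' (K t)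
    have hπ : ∀ z, π (D.θ t z) = π z := fun z =>
      ((QuotientGroup.eq).mpr (hK t ht ht1 z)).symm
    have hπp : ∀ (z : X) (n : ℕ), π (z * (z⁻¹ * D.θ t z) ^ n) = π z := by
      intro z n
      rw [map_mul, map_pow, map_mul, map_inv, hπ, inv_mul_cancel, one_pow, mul_one]
    have hx0 : π x = π x' := by rw [← hx', hπp]
    have hy0 : π y = π y' := by rw [← hy', hπp]
    rw [← QuotientGroup.eq_one_iff]
    show π (x * y * x⁻¹ * y⁻¹) = 1
    -- a fixed element in the quotient
    have hsum : ∀ z, z * D.θ ra z * D.θ ra (D.θ ra z) = 1 := by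
      intro z
      obtain ⟨s, rfl⟩ : ∃ s, s⁻¹ * D.θ ra s = z := by
        refine Finite.surjective_of_injective (f := fun s => s⁻¹ * D.θ ra s) (fun a b hab => ?_) z
        have h : D.θ ra (a * b⁻¹) = a * b⁻¹ := by
          rw [map_mul, map_inv]
          have h1 := congrArg (fun z => a * z * (D.θ ra b)⁻¹) hab
          simpa [mul_assoc] using h1
        exact mul_inv_eq_one.mp (hfp _ h)
      simp only [map_mul, map_inv, D.θ_three]
      group
    have hrel : ∀ z, D.θ t z = z → π z = (π (D.θ ra z) * π (D.θ ra z))⁻¹ := by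
      intro z hz
      have h1 : π (D.θ ra (D.θ ra z)) = π (D.θ ra z) := by
        rw [← hπ (D.θ ra z), ← D.θ_mul t, (s3_rel t ht ht1).1, D.θ_mul, hz, D.θ_mul]
      rw [eq_inv_iff_mul_eq_one, ← mul_assoc]
      nth_rewrite 2 [← h1]
      rw [← map_mul, ← map_mul, hsum, map_one]
    have hzfix : D.θ t (x' * y' * x'⁻¹ * y'⁻¹) = x' * y' * x'⁻¹ * y'⁻¹ := by
      simp only [map_mul, map_inv, hi, hj]
    have hc := hrel _ hzfix
    simp only [map_mul, map_inv] at hc
    simp only [map_mul, map_inv, hx0, hy0]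
    rw [hrel x' hi, hrel y' hj] at hc ⊢
    generalize hu : π (D.θ ra x') = u at hc ⊢
    generalize hv : π (D.θ ra y') = v at hc ⊢
    obtain ⟨c, hcdef⟩ : ∃ c, c = u * v * u⁻¹ * v⁻¹ := ⟨_, rfl⟩
    have hcu : u * c = c * u := by
      have e := (hcomm (D.θ ra x') (D.θ ra y')).map π
      simp only [map_mul, map_inv, hu, hv] at e
      have e' : Commute u c := by
        rw [hcdef, mul_assoc u v u⁻¹, mul_assoc u (v * u⁻¹) v⁻¹]
        refine (Commute.refl u).mul_right ?_
        simpa [mul_assoc] using e.inv_right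
      exact e'.eq
    have hcv : v * c = c * v := by
      have e := (hcomm (D.θ ra y') (D.θ ra x')).map π
      simp only [map_mul, map_inv, hu, hv] at e
      have e' : Commute v c := hcdef ▸ e.mul_right (Commute.refl v).inv_right
      exact e'.eq
    have huv : u * v = c * (v * u) := by rw [hcdef]; group
    have e1 : (u * u) * v = c * c * (v * (u * u)) := by
      calc (u * u) * v = u * (u * v) := by group
        _ = (u * c) * (v * u) := by rw [huv]; group
        _ = c * (u * v) * u := by rw [hcu]; group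
        _ = _ := by rw [huv]; group
    have e2 : (u * u) * (v * v) = c * c * (c * c) * ((v * v) * (u * u)) := by
      have hv2 : v * (c * c) = c * c * v := (Commute.mul_right hcv hcv).eq
      calc (u * u) * (v * v) = ((u * u) * v) * v := by group
        _ = (c * c * (v * (u * u))) * v := by rw [e1]
        _ = c * c * v * ((u * u) * v) := by group
        _ = c * c * (v * (c * c)) * v * (u * u) := by rw [e1]; group
        _ = _ := by rw [hv2]; group
    have e4 : (u * u)⁻¹ * (v * v)⁻¹ * (u * u)⁻¹⁻¹ * (v * v)⁻¹⁻¹ = c * c * (c * c) := by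
      have cv : Commute (v * v) (c * c * (c * c)) :=
        (((Commute.mul_right hcv hcv).mul_right (Commute.mul_right hcv hcv))).mul_left
          (((Commute.mul_right hcv hcv).mul_right (Commute.mul_right hcv hcv)))
      have cu : Commute (u * u) (c * c * (c * c)) :=
        (((Commute.mul_right hcu hcu).mul_right (Commute.mul_right hcu hcu))).mul_left
          (((Commute.mul_right hcu hcu).mul_right (Commute.mul_right hcu hcu)))
      rw [inv_inv, inv_inv, mul_assoc _ (u * u), e2]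
      calc (u * u)⁻¹ * (v * v)⁻¹ * (c * c * (c * c) * (v * v * (u * u)))
          = (u * u)⁻¹ * ((v * v)⁻¹ * (c * c * (c * c))) * ((v * v) * (u * u)) := by group
        _ = (u * u)⁻¹ * ((c * c * (c * c)) * (v * v)⁻¹) * ((v * v) * (u * u)) := by
          rw [cv.inv_left.eq]
        _ = ((u * u)⁻¹ * (c * c * (c * c))) * (u * u) := by group
        _ = (c * c * (c * c)) * (u * u)⁻¹ * (u * u) := by rw [cu.inv_left.eq]
        _ = _ := by group
    rw [e4] at hc ⊢
    have hc6 : c ^ 6 = 1 := by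
      have e : c * c * (c * c) * (c * c) = 1 := by
        rw [← hcdef] at hc
        rw [hc, inv_mul_cancel]
      rw [← e]; simp only [pow_succ, pow_zero, one_mul, mul_assoc]
    have : c = 1 := eq_one_of_pow_coprime
      (h6.coprime_dvd_left (Subgroup.card_quotient_dvd_card _)) hc6
    rw [this]; simp
  rw [← this]; group

/-- The fixed points of a subgroup on the module. -/
def Fixes (K : Subgroup X) (m : M) : Prop := ∀ k ∈ K, D.r k m = m

theorem fixes_closure {S : Set X} {m : M} (h : ∀ s ∈ S, D.r s m = m) : D.Fixes (closure S) m := by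
  intro k hk
  induction hk using closure_induction with
  | mem x hx => exact h x hx
  | one => exact D.one_apply m
  | mul a b _ _ ha hb => rw [D.mul_apply, hb, ha]
  | inv a _ ha =>
    conv_lhs => rw [← ha]
    rw [← D.mul_apply, inv_mul_cancel, D.one_apply]

include D in
/-- The group is abelian. -/
theorem comm (h6 : (Nat.card X).Coprime 6)
    (hco : (Nat.card M).Coprime (Nat.card (fittingSubgroup X))) (a b : X) : a * b = b * a := by
  classical
  rcases subsingleton_or_nontrivial X with hX | hX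
  · exact Subsingleton.elim _ _
  obtain ⟨m₀, hm₀⟩ : ∃ m : M, m ≠ 0 := by
    by_contra h
    push Not at h
    obtain ⟨x, hx⟩ := exists_ne (1 : X)
    exact hx (D.inj x fun m => by rw [h (D.r x m), h m])
  -- the admissible subgroups
  let P : Subgroup X → Prop := fun N =>
    N.Normal ∧ (∀ g, ∀ z ∈ N, D.θ g z ∈ N) ∧ (∀ a ∈ N, ∀ b ∈ N, a * b = b * a)
  obtain ⟨Z, ⟨hZP, hZb⟩, hmin⟩ : ∃ Z, (P Z ∧ Z ≠ ⊥) ∧
      ∀ N, P N → N ≤ Z → N ≠ ⊥ → N = Z := by
    obtain ⟨q, hq, hqb⟩ := exists_pCore_ne_bot (G := X)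
    haveI := Fact.mk hq
    generalize hQ : pCore q X = Q at hqb
    haveI : Q.Normal := hQ ▸ inferInstance
    generalize hC : Q ⊓ centralizer (Q : Set X) = C
    have hCi : ∀ g, C.map (D.θ g).toMonoidHom = C := by
      intro g
      rw [← hC, CfsgLib.PLocal.map_centralizer_of_injOn (D.θ g).toMonoidHom _
        ((MonoidHom.ker_eq_bot_iff (D.θ g).toMonoidHom).mpr (D.θ g).injective ▸ disjoint_bot_right),
        ← hQ, map_equiv_pCore (D.θ g)]
    have hCb : C ≠ ⊥ := by
      haveI : Nontrivial Q := (nontrivial_iff_ne_bot _).mpr hqb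
      obtain ⟨⟨⟨z, hz⟩, hzc⟩, hz1⟩ := ne_bot_iff_exists_ne_one.mp
        (hQ ▸ isPGroup_pCore q X : IsPGroup q Q).bot_lt_center.ne'
      intro h
      apply hz1
      refine Subtype.ext (Subtype.ext (mem_bot.mp (h ▸ hC ▸ ⟨hz, ?_⟩ : z ∈ (⊥ : Subgroup X))))
      exact mem_centralizer_iff.mpr fun y hy => congrArg Subtype.val (mem_center_iff.mp hzc ⟨y, hy⟩)
    have hCP : P C := ⟨hC ▸ inferInstance, fun g z hz => (hCi g).le (mem_map_of_mem _ hz),
      fun a ha b hb => by
        rw [← hC] at ha hb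
        exact (mem_centralizer_iff.mp hb.2 a ha.1)⟩
    obtain ⟨Z, hZ, hmin⟩ := Set.Finite.exists_minimal
      (Set.toFinite {N : Subgroup X | P N ∧ N ≠ ⊥}) ⟨C, hCP, hCb⟩
    exact ⟨Z, hZ, fun N hN hle hb => le_antisymm hle (hmin ⟨hN, hb⟩ hle)⟩
  obtain ⟨hZn, hZi, hZc⟩ := hZP
  haveI := hZn
  by_cases hfix : ∀ z ∈ Z, D.θ ra z = z
  · exact D.comm_of_centralized h6 hco hZi hZb hfix a b
  -- notation
  have hodd : (Nat.card X).Coprime 2 := h6.coprime_dvd_right (by norm_num)
  have hcg : ∀ g, ∀ z ∈ Z, z * (D.θ g z)⁻¹ ∈ Z := fun g z hz => mul_mem hz (inv_mem (hZi g z hz))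
  have hθimg : ∀ g h z, D.θ g (z * (D.θ h z)⁻¹) =
      D.θ g z * (D.θ (g * h * g⁻¹) (D.θ g z))⁻¹ := fun g h z => by
    rw [map_mul, map_inv, ← D.θ_mul (g * h * g⁻¹) g, ← D.θ_mul g h, inv_mul_cancel_right]
  -- the family of kernels
  let IsK : Subgroup X → Prop := fun K => K ≤ Z ∧ (∃ m, m ≠ 0 ∧ D.Fixes K m) ∧
    ∀ b ∈ Z, b ∉ K → ∀ m, D.Fixes K m → D.r b m = m → m = 0
  obtain ⟨K₀, hK₀⟩ : ∃ K, IsK K := by
    obtain ⟨K, ⟨hKZ, hKm⟩, hmax⟩ := Set.Finite.exists_maximal
      (Set.toFinite {K : Subgroup X | K ≤ Z ∧ ∃ m, m ≠ 0 ∧ D.Fixes K m})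
      ⟨⊥, bot_le, m₀, hm₀, fun k hk => by rw [mem_bot.mp hk]; exact D.one_apply _⟩
    refine ⟨K, hKZ, hKm, fun b hb hbK m hm hbm => ?_⟩
    by_contra hm0
    have hle : closure (insert b (K : Set X)) ≤ Z :=
      (closure_le _).mpr (Set.insert_subset hb hKZ)
    refine hbK (hmax ⟨hle, m, hm0, D.fixes_closure ?_⟩ ?_ (subset_closure (Set.mem_insert b _)))
    · rintro s (rfl | hs)
      · exact hbm
      · exact hm s hs
    · exact fun k hk => subset_closure (Set.mem_insert_of_mem b hk)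
  have htrans : ∀ (e : X ≃* X) (f : M → M), Function.Bijective f → f 0 = 0 →
      (∀ x m, f (D.r x m) = D.r (e x) (f m)) → (∀ z, z ∈ Z ↔ e z ∈ Z) →
      ∀ K, IsK K → IsK (K.map e.toMonoidHom) := by
    intro e f hf hf0 hcompat hZe K hK
    obtain ⟨hKZ, ⟨m, hm, hfx⟩, hinj⟩ := hK
    refine ⟨?_, ⟨f m, fun h => hm (hf.1 (h.trans hf0.symm)), ?_⟩, ?_⟩
    · rintro _ ⟨k, hk, rfl⟩
      exact (hZe k).mp (hKZ hk)
    · rintro _ ⟨k, hk, rfl⟩
      show D.r (e k) (f m) = f m
      rw [← hcompat, hfx k hk]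
    · intro b hb hbK n hn hbn
      obtain ⟨b', rfl⟩ := e.surjective b
      obtain ⟨n', rfl⟩ := hf.2 n
      rw [hinj b' ((hZe b').mpr hb) (fun h => hbK (mem_map_of_mem _ h)) n' ?_ ?_, hf0]
      · intro k hk
        refine hf.1 ?_
        rw [hcompat]
        exact hn _ (mem_map_of_mem _ hk)
      · refine hf.1 ?_
        rw [hcompat]
        exact hbn
  have hKconj : ∀ x K, IsK K → IsK (K.map (MulAut.conj x).toMonoidHom) := by
    intro x
    refine htrans (MulAut.conj x) (D.r x) ⟨fun a b h => ?_, fun m => ⟨D.r x⁻¹ m, ?_⟩⟩ (map_zero _)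
      (fun y m => ?_) fun z => ⟨fun h => hZn.conj_mem z h x, fun h => ?_⟩
    · have := congrArg (D.r x⁻¹) h
      rwa [← D.mul_apply, ← D.mul_apply, inv_mul_cancel, D.one_apply, D.one_apply] at this
    · rw [← D.mul_apply, mul_inv_cancel, D.one_apply]
    · rw [← D.mul_apply, ← D.mul_apply, MulAut.conj_apply, inv_mul_cancel_right]
    · have := hZn.conj_mem _ h x⁻¹
      simpa [mul_assoc] using this
  have hKθ : ∀ g K, IsK K → IsK (K.map (D.θ g).toMonoidHom) := by
    intro g
    refine htrans (D.θ g) (D.σ g) ⟨fun a b h => ?_, fun m => ⟨D.σ g⁻¹ m, ?_⟩⟩ (map_zero _)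
      (fun y m => D.comp g y m) fun z => ⟨hZi g z, fun h => ?_⟩
    · have := congrArg (D.σ g⁻¹) h
      rwa [← D.σ_mul, ← D.σ_mul, inv_mul_cancel, map_one] at this
    · rw [← D.σ_mul, mul_inv_cancel, map_one]; rfl
    · have := hZi g⁻¹ _ h
      rwa [← D.θ_mul, inv_mul_cancel, map_one, MulAut.one_apply] at this
  -- every kernel contains the commutators of some nontrivial element
  have hker : ∀ K, IsK K → ∃ g, g ≠ 1 ∧ ∀ z ∈ Z, z * (D.θ g z)⁻¹ ∈ K := by
    intro K hK
    by_contra hne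
    push Not at hne
    obtain ⟨hKZ, ⟨m, hm0, hm⟩, hinj⟩ := hK
    choose! w hwZ hwK using hne
    have hind : ∀ S : Finset S3, (1 : S3) ∉ S → ∃ E : S3 → M → M,
        (∀ g, ∀ z ∈ Z, ∀ n, D.r z (E g n) = E g (D.r z n)) ∧ (∀ g, E g 0 = 0) ∧
        (∀ g ∈ S, ∀ n, E g n = 0) ∧ (∀ n, ∑ g, E g (D.σ g n) = 0) ∧
        (∀ n, D.Fixes K n → D.Fixes K (E 1 n)) ∧
        (∀ n, D.Fixes K n → E 1 n = 0 → n = 0) := by
      intro S
      induction S using Finset.induction with
      | empty =>
        intro _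
        exact ⟨fun _ n => n, fun _ _ _ _ => rfl, fun _ => rfl, by simp, D.norm_zero, fun _ h => h,
          fun _ _ h => h⟩
      | @insert h S hhS ihS =>
        intro h1
        rw [Finset.mem_insert, not_or] at h1
        obtain ⟨E, hEz, hE0, hES, hEsum, hEfix, hEinj⟩ := ihS h1.2
        have hh : h ≠ 1 := fun e => h1.1 e.symm
        generalize hv : w h = v
        have hvZ : v ∈ Z := hv ▸ hwZ h hh
        refine ⟨fun g n => D.r (v * (D.θ g v)⁻¹) (E g n) - D.r (v * (D.θ h v)⁻¹) (E g n),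
          ?_, ?_, ?_, ?_, ?_, ?_⟩
        · intro g z hz n
          show D.r z (D.r _ (E g n) - D.r _ (E g n)) = D.r _ (E g (D.r z n)) - D.r _ (E g (D.r z n))
          rw [map_sub, ← hEz g z hz, ← D.mul_apply, ← D.mul_apply, ← D.mul_apply, ← D.mul_apply,
            hZc z hz _ (hcg g v hvZ), hZc z hz _ (hcg h v hvZ)]
        · intro g; simp [hE0]
        · intro g hg n
          rcases Finset.mem_insert.mp hg with rfl | hg
          · exact sub_self _
          · simp [hES g hg]
        · intro n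
          rw [Finset.sum_sub_distrib, ← map_sum, hEsum, map_zero, sub_zero]
          have e := congrArg (D.r v) (hEsum (D.r v⁻¹ n))
          rw [map_sum, map_zero] at e
          rw [← e]
          refine Finset.sum_congr rfl fun g _ => ?_
          rw [D.comp, map_inv, ← hEz g _ (inv_mem (hZi g v hvZ)), ← D.mul_apply]
        · intro n hn k hk
          have hfx := hEfix n hn k hk
          have hcom : ∀ y ∈ Z, D.r k (D.r y (E 1 n)) = D.r y (E 1 n) := fun y hy => by
            rw [← D.mul_apply, hZc k (hKZ hk) y hy, D.mul_apply, hfx]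
          rw [map_sub, hcom _ (hcg 1 v hvZ), hcom _ (hcg h v hvZ)]
        · intro n hn h0
          refine hEinj n hn (hinj _ (hcg h v hvZ) (hv ▸ hwK h hh) _ (hEfix n hn) ?_)
          simp only at h0
          rw [map_one, MulAut.one_apply, mul_inv_cancel, D.one_apply, sub_eq_zero] at h0
          exact h0.symm
    obtain ⟨E, -, -, hES, hEsum, -, hEinj⟩ := hind (Finset.univ.erase 1) (Finset.notMem_erase _ _)
    refine hm0 (hEinj m hm ?_)
    have e := hEsum m
    rw [Finset.sum_eq_single (1 : S3) (fun g _ hg => hES g (by simp [hg]) _) (by simp),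
      map_one] at e
    exact e
  -- the intersection of all kernels is trivial
  have hsep : ∀ z ∈ Z, (∀ K, IsK K → z ∈ K) → z = 1 := by
    intro z hz hzK
    obtain ⟨J, hJ⟩ : ∃ J : Subgroup X, ∀ y, y ∈ J ↔ ∀ K, IsK K → y ∈ K :=
      ⟨⨅ (K : Subgroup X) (_ : IsK K), K, fun y => by simp [mem_iInf]⟩
    have hJZ : J ≤ Z := fun y hy => hK₀.1 ((hJ y).mp hy K₀ hK₀)
    have hJn : J.Normal := by
      refine ⟨fun y hy x => (hJ _).mpr fun K hK => ?_⟩
      obtain ⟨k, hk, hke⟩ := (show y ∈ K.map (MulAut.conj x⁻¹).toMonoidHom from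
        (hJ y).mp hy _ (hKconj x⁻¹ K hK))
      have : x⁻¹ * k * x⁻¹⁻¹ = y := hke
      rw [← this]
      simpa [mul_assoc] using hk
    have hJP : P J := ⟨hJn, fun g y hy => (hJ _).mpr fun K hK => by
      obtain ⟨k, hk, hke⟩ := (show y ∈ K.map (D.θ g⁻¹).toMonoidHom from
        (hJ y).mp hy _ (hKθ g⁻¹ K hK))
      have : D.θ g⁻¹ k = y := hke
      rw [← this, ← D.θ_mul, mul_inv_cancel, map_one, MulAut.one_apply]
      exact hk, fun a ha b hb => hZc a (hJZ ha) b (hJZ hb)⟩
    by_contra hz1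
    have hJeq := hmin J hJP hJZ (ne_bot_iff_exists_ne_one.mpr ⟨⟨z, (hJ z).mpr hzK⟩,
      fun h => hz1 (congrArg Subtype.val h)⟩)
    obtain ⟨m, hm0, hm⟩ := hK₀.2.1
    exact hm0 (D.noFix Z hZn hZi hZb m fun n hn => hm n ((hJ n).mp (hJeq.ge hn) K₀ hK₀))
  -- the normal subgroups attached to the involutions
  let J : S3 → Subgroup X := fun t => normalClosure ((fun z => z * (D.θ t z)⁻¹) '' (Z : Set X))
  have hJn : ∀ t, (J t).Normal := fun t => normalClosure_normal
  have hJZ : ∀ t, J t ≤ Z := fun t => normalClosure_le_normal (by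
    rintro _ ⟨z, hz, rfl⟩; exact hcg t z hz)
  have hJmem : ∀ t, ∀ z ∈ Z, z * (D.θ t z)⁻¹ ∈ J t := fun t z hz =>
    subset_normalClosure ⟨z, hz, rfl⟩
  have hJθ : ∀ g t, ∀ j ∈ J t, D.θ g j ∈ J (g * t * g⁻¹) := by
    intro g t j hj
    haveI : ((J (g * t * g⁻¹)).comap (D.θ g).toMonoidHom).Normal := (hJn _).comap _
    refine (normalClosure_le_normal ?_ : J t ≤ (J (g * t * g⁻¹)).comap (D.θ g).toMonoidHom) hj
    rintro _ ⟨z, hz, rfl⟩
    show D.θ g (z * (D.θ t z)⁻¹) ∈ J (g * t * g⁻¹)
    rw [hθimg]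
    exact hJmem _ _ (hZi g z hz)
  have hKJ : ∀ K, IsK K → ∃ t, t * t = 1 ∧ t ≠ 1 ∧ J t ≤ K := by
    intro K hK
    have hx : ∀ x : X, ∃ g, g ≠ 1 ∧ ∀ z ∈ Z, x * (z * (D.θ g z)⁻¹) * x⁻¹ ∈ K := by
      intro x
      obtain ⟨g, hg, h⟩ := hker _ (hKconj x⁻¹ K hK)
      refine ⟨g, hg, fun z hz => ?_⟩
      obtain ⟨k, hk, hke⟩ := h z hz
      have : x⁻¹ * k * x⁻¹⁻¹ = z * (D.θ g z)⁻¹ := hke
      rw [← this]
      simpa [mul_assoc] using hk
    -- all these elements generate a proper subgroup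
    obtain ⟨g₀, hg₀, hall⟩ : ∃ g₀, g₀ ≠ 1 ∧
        ∀ x, ∀ z ∈ Z, x * (z * (D.θ g₀ z)⁻¹) * x⁻¹ ∈ K := by
      let S : X → Subgroup S3 :=
        fun x =>
        { carrier := {g | ∀ z ∈ Z, x * (z * (D.θ g z)⁻¹) * x⁻¹ ∈ K}
          one_mem' := fun z hz => by simp
          mul_mem' := fun {g h} hg hh z hz => by
            have e := mul_mem (hh z hz) (hg _ (hZi h z hz))
            rw [D.θ_mul]
            convert e using 1
            group
          inv_mem' := fun {g} hg z hz => by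
            have e := inv_mem (hg _ (hZi g⁻¹ z hz))
            rw [← D.θ_mul, mul_inv_cancel, map_one, MulAut.one_apply] at e
            convert e using 1
            group }
      obtain ⟨g₀, hg₀, h₀⟩ := hx 1
      by_cases hcl : ∀ x g, g ≠ 1 → g ∈ S x → g = g₀ ∨ g = g₀ * g₀
      · refine ⟨g₀, hg₀, fun x => ?_⟩
        obtain ⟨g, hg, hgx⟩ := hx x
        rcases hcl x g hg hgx with rfl | rfl
        · exact hgx
        · have h3 : g₀ * g₀ * (g₀ * g₀) = g₀ := by
            have : ∀ g : S3, g * g ≠ 1 → g * g * (g * g) = g := by decide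
            exact this g₀ hg
          have := (S x).mul_mem hgx hgx
          rwa [h3] at this
      exfalso
      push Not at hcl
      obtain ⟨x₁, g₁, hg₁, hg₁S, hne₁, hne₂⟩ := hcl
      -- two independent elements: a common fixed point
      let Γ := X ⋊[D.θ] S3
      haveI : Finite Γ := Finite.of_equiv _ SemidirectProduct.equivProd.symm
      let ψ : Γ →* MulAut X := SemidirectProduct.lift (MulAut.conj (G := X)) D.θ fun g => by
        ext x y
        simp [← D.θ_mul]
      have hψl : ∀ x y, ψ (SemidirectProduct.inl x) y = x * y * x⁻¹ := fun x y => by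
        simp only [ψ]
        erw [SemidirectProduct.lift_inl]
        rfl
      have hψr : ∀ g y, ψ (SemidirectProduct.inr g) y = D.θ g y := fun g y => by
        simp only [ψ]
        erw [SemidirectProduct.lift_inr]
      have hψZ : ∀ γ, ∀ z ∈ Z, ψ γ z ∈ Z := by
        intro γ z hz
        rw [← SemidirectProduct.inl_left_mul_inr_right γ, map_mul, MulAut.mul_apply, hψr, hψl]
        exact hZn.conj_mem _ (hZi _ z hz) _
      let f₀ : Z → X ⧸ K := fun z => QuotientGroup.mk (z : X)
      let act : Γ → (Z → X ⧸ K) → (Z → X ⧸ K) := fun γ f z => f ⟨ψ γ⁻¹ z, hψZ _ _ z.2⟩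
      letI : MulAction Γ (Z → X ⧸ K) :=
        { smul := act
          one_smul := fun f => funext fun z => congrArg f (Subtype.ext (by simp))
          mul_smul := fun γ δ f => funext fun z => congrArg f (Subtype.ext (by
            show ψ (γ * δ)⁻¹ z = ψ δ⁻¹ (ψ γ⁻¹ z)
            rw [mul_inv_rev, map_mul, MulAut.mul_apply])) }
      have hsm : ∀ (γ : Γ) (f : Z → X ⧸ K) (z : Z), (γ • f) z = f ⟨ψ γ⁻¹ z, hψZ _ _ z.2⟩ := fun _ _ _ => rfl
      let N : Subgroup Γ := (SemidirectProduct.inl : X →* Γ).range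
      let A : Subgroup Γ := (SemidirectProduct.inr : S3 →* Γ).range
      haveI : N.Normal := by
        rw [show N = _ from SemidirectProduct.range_inl_eq_ker_rightHom]
        infer_instance
      have hψl' : ∀ x y, ψ (SemidirectProduct.inl x)⁻¹ y = x⁻¹ * y * x := fun x y => by
        rw [← map_inv SemidirectProduct.inl, hψl, inv_inv]
      have hψr' : ∀ g y, ψ (SemidirectProduct.inr g)⁻¹ y = D.θ g⁻¹ y := fun g y => by
        rw [← map_inv SemidirectProduct.inr, hψr]
      -- fixed translates of the base point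
      have hiff : ∀ (g : S3) (x : X), (SemidirectProduct.inr g : Γ) • (SemidirectProduct.inl x : Γ) • f₀ =
          (SemidirectProduct.inl x : Γ) • f₀ ↔ ∀ z ∈ Z, x⁻¹ * (z * (D.θ g⁻¹ z)⁻¹) * x ∈ K := by
        intro g x
        rw [funext_iff]
        simp only [hsm, f₀, hψr', hψl']
        have key : ∀ z ∈ Z, (x⁻¹ * D.θ g⁻¹ z * x)⁻¹ * (x⁻¹ * z * x) =
            x⁻¹ * (z * (D.θ g⁻¹ z)⁻¹) * x := by
          intro z hz
          rw [← hZc (D.θ g⁻¹ z)⁻¹ (inv_mem (hZi _ z hz)) z hz]
          group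
        refine ⟨fun h z hz => key z hz ▸ (QuotientGroup.eq).mp (h ⟨z, hz⟩),
          fun h z => (QuotientGroup.eq).mpr ?_⟩
        rw [key z z.2]
        exact h z z.2
      -- the elements moving the base point within its orbit
      let B : Subgroup S3 :=
        { carrier := {g | ∃ k : Γ, k ∈ N ∧ (SemidirectProduct.inr g : Γ) • f₀ = k • f₀}
          one_mem' := ⟨1, one_mem _, by rw [map_one]⟩
          mul_mem' := by
            rintro g h ⟨k, hk, hgk⟩ ⟨l, hl, hhl⟩
            refine ⟨SemidirectProduct.inr g * l * (SemidirectProduct.inr g)⁻¹ * k,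
              mul_mem (‹N.Normal›.conj_mem l hl _) hk, ?_⟩
            rw [map_mul, mul_smul, hhl, mul_smul _ k f₀, ← hgk, ← mul_smul, ← mul_smul,
              inv_mul_cancel_right]
          inv_mem' := by
            rintro g ⟨k, hk, hgk⟩
            refine ⟨(SemidirectProduct.inr g)⁻¹ * k⁻¹ * (SemidirectProduct.inr g)⁻¹⁻¹,
              ‹N.Normal›.conj_mem _ (inv_mem hk) _, ?_⟩
            rw [map_inv, inv_inv, mul_smul, hgk, mul_smul, inv_smul_smul] }
      have hSB : ∀ x g, g ∈ S x → g ∈ B := by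
        intro x g hg
        refine inv_mem_iff.mp ?_
        have h := (hiff g⁻¹ x⁻¹).mpr fun z hz => by rw [inv_inv, inv_inv]; exact hg z hz
        refine ⟨SemidirectProduct.inr g⁻¹ * (SemidirectProduct.inl x⁻¹)⁻¹ *
          (SemidirectProduct.inr g⁻¹)⁻¹ * SemidirectProduct.inl x⁻¹,
          mul_mem (‹N.Normal›.conj_mem _ (inv_mem ⟨x⁻¹, rfl⟩) _) ⟨x⁻¹, rfl⟩, ?_⟩
        conv_rhs => rw [mul_smul, ← h, ← mul_smul, ← mul_smul]
        congr 1
        group
      have hBtop : ∀ g, g ∈ B := by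
        have h0 : g₀ ∈ B := hSB 1 g₀ h₀
        have h1 : g₁ ∈ B := hSB x₁ g₁ hg₁S
        rcases s3_gen g₀ g₁ with h | h | h | h | ⟨hra, hrt⟩
        · exact absurd h hg₀
        · exact absurd h hg₁
        · exact absurd h hne₁
        · exact absurd h hne₂
        have hra' : ra ∈ B := by
          rcases hra with h | h | h | h | h | h <;> rw [h]
          exacts [h0, mul_mem h0 h0, h1, mul_mem h1 h1, mul_mem h0 h1, mul_mem h1 h0]
        have hrt' : rt ∈ B := by
          rcases hrt with h | h | h | h | h | h | h <;> rw [h]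
          exacts [h0, h1, mul_mem h0 h1, mul_mem h1 h0, mul_mem h0 (mul_mem h0 h1),
            mul_mem h1 (mul_mem h1 h0), mul_mem (mul_mem h0 h1) h0]
        intro g
        rcases s3_cases g with rfl | rfl | rfl | rfl | rfl | rfl
        exacts [one_mem _, hra', mul_mem hra' hra', hrt', mul_mem hra' hrt',
          mul_mem (mul_mem hra' hra') hrt']
      obtain ⟨_, ⟨k, rfl⟩, hfk⟩ := exists_fixed_point (A := A) (K := N) (x := f₀)
        (le_normalizer_of_normal A N)
        (by
          rw [show Nat.card N = Nat.card X from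
            (Nat.card_congr (MonoidHom.ofInjective SemidirectProduct.inl_injective).toEquiv).symm,
            show Nat.card A = Nat.card S3 from
            (Nat.card_congr (MonoidHom.ofInjective SemidirectProduct.inr_injective).toEquiv).symm]
          have : Nat.card S3 = 6 := by rw [Nat.card_eq_fintype_card]; decide
          rw [this]
          exact h6.symm)
        (Or.inr (Group.isSolvable_of_surjective (SemidirectProduct.inl : X →* Γ).rangeRestrict_surjective))
        (by rintro _ ⟨g, rfl⟩; exact hBtop g)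
      have hfixk : ∀ g, ∀ z ∈ Z, z * (D.θ g z)⁻¹ ∈ K.map (MulAut.conj k).toMonoidHom := by
        intro g z hz
        have e := (hiff g⁻¹ k).mp (hfk _ ⟨g⁻¹, rfl⟩) z hz
        rw [inv_inv] at e
        exact ⟨_, e, by simp [mul_assoc]⟩
      obtain ⟨hkZ, ⟨m, hm0, hm⟩, -⟩ := hKconj k K hK
      -- this kernel would be all of `Z`
      apply hm0
      refine D.noFix Z hZn hZi hZb m fun z hz => hm z ?_
      generalize hK' : K.map (MulAut.conj k).toMonoidHom = K' at hfixk hkZ ⊢
      obtain ⟨n, hn, hfx⟩ := exists_fixed_in_coset D.θ K' (fun g n hn => by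
          have e := mul_mem (inv_mem (hfixk g n (hkZ hn))) hn
          simpa using e)
        (by
          rw [show Nat.card S3 = 6 by rw [Nat.card_eq_fintype_card]; decide]
          exact (h6.coprime_dvd_left K'.card_subgroup_dvd_card).symm)
        inferInstance z (fun g => by
          have e := inv_mem (hfixk g z hz)
          have e' := hZc (D.θ g z) (hZi g z hz) z⁻¹ (inv_mem hz)
          rw [mul_inv_rev, inv_inv, e'] at e
          exact e)
      rw [eq_inv_of_mul_eq_one_left (D.fixX _ hfx)]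
      exact inv_mem hn
    have hg0cases := s3_inv_cases g₀ hg₀
    have hclose : ∀ g, (∀ x, ∀ z ∈ Z, x * (z * (D.θ g z)⁻¹) * x⁻¹ ∈ K) →
        normalClosure ((fun z => z * (D.θ g z)⁻¹) '' (Z : Set X)) ≤ K := by
      intro g h
      rw [normalClosure, closure_le]
      intro y hy
      obtain ⟨s, ⟨z, hz, rfl⟩, hconj⟩ := Group.mem_conjugatesOfSet_iff.mp hy
      obtain ⟨x, rfl⟩ := isConj_iff.mp hconj
      exact h x z hz
    have hraK : ¬ ∀ x, ∀ z ∈ Z, x * (z * (D.θ ra z)⁻¹) * x⁻¹ ∈ K := by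
      intro h
      let W := normalClosure ((fun z => z * (D.θ ra z)⁻¹) '' (Z : Set X))
      have hWK : W ≤ K := hclose ra h
      have hWn : W.Normal := normalClosure_normal
      have hWi : ∀ g, ∀ y ∈ W, D.θ g y ∈ W := by
        intro g y hy
        haveI : (W.comap (D.θ g).toMonoidHom).Normal := hWn.comap _
        refine (normalClosure_le_normal ?_ : W ≤ W.comap (D.θ g).toMonoidHom) hy
        rintro _ ⟨z, hz, rfl⟩
        show D.θ g (z * (D.θ ra z)⁻¹) ∈ W
        rw [hθimg]
        have hc : ∀ g : S3, g * ra * g⁻¹ = ra ∨ g * ra * g⁻¹ = ra * ra := by decide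
        rcases hc g with hc | hc <;> rw [hc]
        · exact subset_normalClosure ⟨_, hZi g z hz, rfl⟩
        · have e : D.θ g z * (D.θ (ra * ra) (D.θ g z))⁻¹ =
              (D.θ g z * (D.θ ra (D.θ g z))⁻¹) *
                (D.θ ra (D.θ g z) * (D.θ ra (D.θ ra (D.θ g z)))⁻¹) := by
            rw [D.θ_mul]; group
          rw [e]
          exact mul_mem (subset_normalClosure ⟨_, hZi g z hz, rfl⟩)
            (subset_normalClosure ⟨_, hZi ra _ (hZi g z hz), rfl⟩)
      have hWeq : W = Z := hmin W ⟨hWn, hWi, fun a ha b hb => hZc a (hK.1 (hWK ha)) b (hK.1 (hWK hb))⟩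
        (hWK.trans hK.1) (fun hb => hfix fun z hz => (mul_inv_eq_one.mp (mem_bot.mp
          (hb ▸ subset_normalClosure ⟨z, hz, rfl⟩))).symm)
      obtain ⟨-, ⟨m, hm0, hm⟩, -⟩ := hK
      exact hm0 (D.noFix Z hZn hZi hZb m fun n hn => hm n (hWK (hWeq.ge hn)))
    refine ⟨g₀, ?_, hg₀, hclose g₀ hall⟩
    rcases hg0cases with rfl | rfl | h
    · exact absurd hall hraK
    · refine absurd (fun x z hz => ?_) hraK
      have e1 := hall x z hz
      have e2 := hall x _ (hZi (ra * ra) z hz)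
      rw [D.θ_mul, D.θ_mul, D.θ_three, ← D.θ_mul] at e2
      have e := mul_mem e1 e2
      convert e using 1
      group
    · exact h
  -- the three cycle is fixed point free on `Z`
  have hcentr : ∀ z ∈ Z, D.θ ra z = z → z = 1 := by
    intro z hz hz1
    refine hsep z hz fun K hK => ?_
    obtain ⟨t, ht, ht1, hle⟩ := hKJ K hK
    refine hle ?_
    obtain ⟨k, hk⟩ := exists_sq hodd z
    rw [← hk]
    refine pow_mem ?_ k
    have e := hJmem t z hz
    rwa [D.inv_of_fixed h6 hz1 ht ht1, inv_inv] at e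
  have hnorm3 : ∀ z ∈ Z, z * D.θ ra z * D.θ ra (D.θ ra z) = 1 := by
    intro z hz
    refine hcentr _ (mul_mem (mul_mem hz (hZi _ z hz)) (hZi _ _ (hZi _ z hz))) ?_
    rw [map_mul, map_mul, D.θ_three, hZc _ (mul_mem (hZi _ z hz) (hZi _ _ (hZi _ z hz))) z hz,
      mul_assoc]
  have hJθ' : ∀ t, t * t = 1 → t ≠ 1 → ∀ j ∈ J t, D.θ t j ∈ J t := fun t ht ht1 j hj => by
    have e := hJθ t t j hj
    rwa [mul_inv_cancel_right] at e
  -- the involution inverts its subgroup
  have hJfix : ∀ t, t * t = 1 → t ≠ 1 → ∀ c ∈ J t, D.θ t c = c → c = 1 := by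
    intro t ht ht1 c hc htc
    have hcZ := hJZ t hc
    have h1 : D.θ t (D.θ ra c) = D.θ ra (D.θ ra c) := by
      rw [← D.θ_mul, (s3_rel t ht ht1).1, D.θ_mul, D.θ_mul, htc]
    have h2 : D.θ ra c * (D.θ ra (D.θ ra c))⁻¹ ∈ J t := h1 ▸ hJmem t _ (hZi ra c hcZ)
    have h3 : D.θ ra c * D.θ ra (D.θ ra c) = c⁻¹ := by
      rw [eq_inv_iff_mul_eq_one, hZc _ (mul_mem (hZi _ c hcZ) (hZi _ _ (hZi _ c hcZ))) c hcZ,
        ← mul_assoc, hnorm3 c hcZ]
    have h4 : D.θ ra c ∈ J t := by
      obtain ⟨k, hk⟩ := exists_sq hodd (D.θ ra c)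
      rw [← hk]
      refine pow_mem ?_ k
      have e := mul_mem h2 (h3.symm ▸ inv_mem hc : D.θ ra c * D.θ ra (D.θ ra c) ∈ J t)
      have hcm : (D.θ ra (D.θ ra c))⁻¹ * D.θ ra c = D.θ ra c * (D.θ ra (D.θ ra c))⁻¹ :=
        hZc _ (inv_mem (hZi _ _ (hZi _ c hcZ))) _ (hZi _ c hcZ)
      convert e using 1
      calc D.θ ra c * D.θ ra c
          = D.θ ra c * (D.θ ra c * (D.θ ra (D.θ ra c))⁻¹) * D.θ ra (D.θ ra c) := by group
        _ = D.θ ra c * ((D.θ ra (D.θ ra c))⁻¹ * D.θ ra c) * D.θ ra (D.θ ra c) := by rw [hcm]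
        _ = _ := by group
    have h5 : D.θ ra (D.θ ra c) ∈ J t := by
      have e : D.θ ra (D.θ ra c) = (D.θ ra c)⁻¹ * c⁻¹ := by rw [← h3]; group
      rw [e]
      exact mul_mem (inv_mem h4) (inv_mem hc)
    refine hsep c hcZ fun K hK => ?_
    obtain ⟨t', ht', ht1', hle⟩ := hKJ K hK
    refine hle ?_
    rcases s3_conj t t' ht ht1 ht' ht1' with rfl | rfl | rfl
    · exact hc
    · simpa [D.θ_three] using hJθ ra t _ h5
    · have e := hJθ (ra * ra) t _ h4
      rwa [D.θ_mul, D.θ_three] at e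
  have hJinv : ∀ t, t * t = 1 → t ≠ 1 → ∀ j ∈ J t, D.θ t j = j⁻¹ := by
    intro t ht ht1 j hj
    refine eq_inv_of_mul_eq_one_right (hJfix t ht ht1 _ (mul_mem hj (hJθ' t ht ht1 j hj)) ?_)
    rw [map_mul, D.θ_sq ht, hZc _ (hZi t j (hJZ t hj)) j (hJZ t hj)]
  have hJdisj : ∀ t t', t * t = 1 → t ≠ 1 → t' * t' = 1 → t' ≠ 1 → t ≠ t' →
      ∀ j, j ∈ J t → j ∈ J t' → j = 1 := by
    intro t t' ht ht1 ht' ht1' hne j hj hj'
    refine hcentr j (hJZ t hj) ?_
    rcases s3_pair t t' ht ht1 ht' ht1' hne with e | e <;> rw [e, D.θ_mul]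
    · rw [hJinv t' ht' ht1' j hj', hJinv t ht ht1 _ (inv_mem hj), inv_inv]
    · rw [hJinv t ht ht1 j hj, hJinv t' ht' ht1' _ (inv_mem hj'), inv_inv]
  have hne3 : ∀ t, t * t = 1 → t ≠ 1 → (ra * t * ra⁻¹ ≠ t ∧
      ra * ra * t * (ra * ra)⁻¹ ≠ t ∧ ra * t * ra⁻¹ ≠ ra * ra * t * (ra * ra)⁻¹) := by decide
  -- the group commutes with the action on `Z`
  let Agree : S3 → Prop := fun g => ∀ x, ∀ t, t * t = 1 → t ≠ 1 → ∀ j ∈ J t,
    D.θ g x * j * (D.θ g x)⁻¹ = x * j * x⁻¹
  have hI : ∀ t, t * t = 1 → t ≠ 1 → ∀ x, ∀ j ∈ J t,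
      D.θ t x * j * (D.θ t x)⁻¹ = x * j * x⁻¹ := by
    intro t ht ht1 x j hj
    have e := hJinv t ht ht1 _ ((hJn t).conj_mem j hj x)
    rw [map_mul, map_mul, map_inv, hJinv t ht ht1 j hj] at e
    apply inv_injective
    rw [← e]; group
  have hII : Agree ra := by
    intro x t₁ ht₁ ht₁1 j₁ hj₁
    obtain ⟨t, rfl⟩ : ∃ t, t₁ = ra * t * ra⁻¹ := ⟨ra⁻¹ * t₁ * ra, by group⟩
    have htt := s3_conj_inv (ra * t * ra⁻¹) ra⁻¹ ht₁ ht₁1
    have hcan : ra⁻¹ * (ra * t * ra⁻¹) * ra⁻¹⁻¹ = t := by group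
    rw [hcan] at htt
    obtain ⟨ht, ht1⟩ := htt
    obtain ⟨j, hj, rfl⟩ : ∃ j ∈ J t, D.θ ra j = j₁ := by
      refine ⟨D.θ ra⁻¹ j₁, ?_, by rw [← D.θ_mul, mul_inv_cancel, map_one, MulAut.one_apply]⟩
      have e := hJθ ra⁻¹ _ j₁ hj₁
      rwa [hcan] at e
    have hy : x * j * x⁻¹ ∈ J t := (hJn t).conj_mem j hj x
    generalize hye : x * j * x⁻¹ = y at hy
    have hjj : D.θ ra (D.θ ra j) ∈ J (ra * ra * t * (ra * ra)⁻¹) := by
      have := hJθ (ra * ra) t j hj
      rwa [D.θ_mul] at this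
    have hyy : D.θ ra (D.θ ra y) ∈ J (ra * ra * t * (ra * ra)⁻¹) := by
      have := hJθ (ra * ra) t y hy
      rwa [D.θ_mul] at this
    have e : x * D.θ ra j * x⁻¹ * (x * D.θ ra (D.θ ra j) * x⁻¹) = D.θ ra y * D.θ ra (D.θ ra y) := by
      have e1 : D.θ ra j * D.θ ra (D.θ ra j) = j⁻¹ := by
        rw [← mul_right_inj j, ← mul_assoc, hnorm3 j (hJZ t hj), mul_inv_cancel]
      have e2 : D.θ ra y * D.θ ra (D.θ ra y) = y⁻¹ := by
        rw [← mul_right_inj y, ← mul_assoc, hnorm3 y (hJZ t hy), mul_inv_cancel]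
      rw [e2, ← hye]
      calc _ = x * (D.θ ra j * D.θ ra (D.θ ra j)) * x⁻¹ := by group
        _ = _ := by rw [e1]; group
    have hq : (D.θ ra y)⁻¹ * (x * D.θ ra j * x⁻¹) =
        D.θ ra (D.θ ra y) * (x * D.θ ra (D.θ ra j) * x⁻¹)⁻¹ := by
      rw [eq_mul_inv_iff_mul_eq, mul_assoc, e, inv_mul_cancel_left]
    have h1 : (D.θ ra y)⁻¹ * (x * D.θ ra j * x⁻¹) = 1 :=
      hJdisj _ _ ht₁ ht₁1 (s3_conj_inv t (ra * ra) ht ht1).1 (s3_conj_inv t (ra * ra) ht ht1).2
        (hne3 t ht ht1).2.2 _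
        (mul_mem (inv_mem (hJθ ra t y hy)) ((hJn _).conj_mem _ hj₁ x))
        (hq ▸ mul_mem hyy (inv_mem ((hJn _).conj_mem _ hjj x)))
    rw [inv_mul_eq_one] at h1
    rw [← h1, ← hye, map_mul, map_mul, map_inv]
  have hAg : ∀ g, Agree g := by
    have hA1 : Agree 1 := fun x t _ _ j _ => by simp
    have hA2 : Agree (ra * ra) := fun x t ht ht1 j hj => by
      rw [D.θ_mul, hII (D.θ ra x) t ht ht1 j hj, hII x t ht ht1 j hj]
    intro g x t ht ht1 j hj
    rcases s3_of_inv t ht ht1 g with rfl | rfl | rfl | rfl | rfl | rfl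
    · exact hA1 x t ht ht1 j hj
    · exact hII x t ht ht1 j hj
    · exact hA2 x t ht ht1 j hj
    · exact hI _ ht ht1 x j hj
    · rw [D.θ_mul, hII _ _ ht ht1 j hj, hI _ ht ht1 x j hj]
    · rw [D.θ_mul, hA2 _ _ ht ht1 j hj, hI _ ht ht1 x j hj]
  -- `Z` is generated by the three subgroups
  obtain ⟨W, hW⟩ : ∃ W : Subgroup X, W = ⨆ (t : S3) (_ : t * t = 1) (_ : t ≠ 1), J t := ⟨_, rfl⟩
  have hJW : ∀ t, t * t = 1 → t ≠ 1 → J t ≤ W := fun t ht ht1 =>
    hW ▸ le_iSup_of_le t (le_iSup_of_le ht (le_iSup_of_le ht1 le_rfl))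
  have hWle : ∀ H : Subgroup X, (∀ t, t * t = 1 → t ≠ 1 → J t ≤ H) → W ≤ H := fun H h =>
    hW ▸ iSup_le fun t => iSup_le fun ht => iSup_le fun ht1 => h t ht ht1
  have hWn : W.Normal := by
    refine ⟨fun y hy x => ?_⟩
    refine (hWle (W.comap (MulAut.conj x).toMonoidHom) fun t ht ht1 j hj => ?_) hy
    exact hJW t ht ht1 ((hJn t).conj_mem j hj x)
  have hWi : ∀ g, ∀ y ∈ W, D.θ g y ∈ W := by
    intro g y hy
    refine (hWle (W.comap (D.θ g).toMonoidHom) fun t ht ht1 j hj => ?_) hy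
    exact hJW _ (s3_conj_inv t g ht ht1).1 (s3_conj_inv t g ht ht1).2 (hJθ g t j hj)
  have hWZ : W ≤ Z := hWle Z fun t _ _ => hJZ t
  have hWeq : W = Z := by
    refine hmin W ⟨hWn, hWi, fun a ha b hb => hZc a (hWZ ha) b (hWZ hb)⟩ hWZ fun hb => hfix ?_
    intro z hz
    have hti : ∀ t, t * t = 1 → t ≠ 1 → D.θ t z = z := fun t ht ht1 =>
      (mul_inv_eq_one.mp (mem_bot.mp (hb.le (hJW t ht ht1 (hJmem t z hz))))).symm
    have e : ra = (ra * rt) * rt := by decide
    rw [e, D.θ_mul, hti rt (by decide) (by decide), hti (ra * rt) (by decide) (by decide)]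
  -- hence `Z` is central
  have hZcen : ∀ x, ∀ z ∈ Z, x * z * x⁻¹ = z := by
    intro x
    let H : Subgroup X := centralizer (Z : Set X)
    have hmem : ∀ y, y ∈ H ↔ ∀ z ∈ Z, y * z * y⁻¹ = z := fun y => by
      rw [mem_centralizer_iff]
      exact forall₂_congr fun z _ => by rw [mul_inv_eq_iff_eq_mul, eq_comm]
    have hHi : ∀ g, ∀ n ∈ H, D.θ g n ∈ H := by
      intro g n hn
      rw [hmem] at hn ⊢
      intro z hz
      have hz' := hZi g⁻¹ z hz
      have e := congrArg (D.θ g) (hn _ hz')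
      rwa [map_mul, map_mul, map_inv (D.θ g), ← D.θ_mul, mul_inv_cancel, map_one, MulAut.one_apply] at e
    obtain ⟨n, hn, hfx⟩ := exists_fixed_in_coset D.θ H hHi
      (by
        rw [show Nat.card S3 = 6 by rw [Nat.card_eq_fintype_card]; decide]
        exact (h6.coprime_dvd_left H.card_subgroup_dvd_card).symm)
      inferInstance x (fun g => by
        rw [hmem, ← hWeq]
        let E : Subgroup X := MonoidHom.eqLocus (MulAut.conj (x⁻¹ * D.θ g x)).toMonoidHom
          (MonoidHom.id X)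
        intro z hz
        refine (hWle E fun t ht ht1 j hj => ?_) hz
        show x⁻¹ * D.θ g x * j * (x⁻¹ * D.θ g x)⁻¹ = j
        calc x⁻¹ * D.θ g x * j * (x⁻¹ * D.θ g x)⁻¹ =
              x⁻¹ * (D.θ g x * j * (D.θ g x)⁻¹) * x := by group
          _ = x⁻¹ * (x * j * x⁻¹) * x := by rw [hAg g x t ht ht1 j hj]
          _ = j := by group)
    have hxH : x ∈ H := by rw [eq_inv_of_mul_eq_one_left (D.fixX _ hfx)]; exact inv_mem hn
    exact (hmem x).mp hxH
  -- the three fixed point spaces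
  have hFx : ∀ t m x, D.Fixes (J t) m → D.Fixes (J t) (D.r x m) := fun t m x hm k hk => by
    have e : k * x = x * k := (mul_inv_eq_iff_eq_mul.mp (hZcen x k (hJZ t hk))).symm
    rw [← D.mul_apply, e, D.mul_apply, hm k hk]
  have hFσ : ∀ g t m, t * t = 1 → D.Fixes (J t) m → D.Fixes (J (g * t * g⁻¹)) (D.σ g m) := by
    intro g t m _ hm k hk
    have hk' := hJθ g⁻¹ _ k hk
    rw [show g⁻¹ * (g * t * g⁻¹) * g⁻¹⁻¹ = t by group] at hk'
    have e := D.comp g (D.θ g⁻¹ k) m
    rw [hm _ hk', ← D.θ_mul, mul_inv_cancel, map_one, MulAut.one_apply] at e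
    exact e.symm
  have hF2 : ∀ t t', t * t = 1 → t ≠ 1 → t' * t' = 1 → t' ≠ 1 → t ≠ t' → ∀ m,
      D.Fixes (J t) m → D.Fixes (J t') m → m = 0 := by
    intro t t' ht ht1 ht' ht1' hne m hm hm'
    let E : Subgroup X :=
      { carrier := {y | D.r y m = m}
        one_mem' := D.one_apply m
        mul_mem' := fun {p q} (hp : D.r p m = m) (hq : D.r q m = m) => by
          show D.r (p * q) m = m
          rw [D.mul_apply, hq, hp]
        inv_mem' := fun {p} (hp : D.r p m = m) => by
          show D.r p⁻¹ m = m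
          conv_lhs => rw [← hp]
          rw [← D.mul_apply, inv_mul_cancel, D.one_apply] }
    refine D.noFix Z hZn hZi hZb m fun z hz => ?_
    refine (hWle E ?_ : W ≤ E) (hWeq.ge hz)
    intro t'' ht'' ht1'' j hj
    by_cases h1 : t'' = t
    · exact hm j (h1 ▸ hj)
    by_cases h2 : t'' = t'
    · exact hm' j (h2 ▸ hj)
    -- the third subgroup lies in the product of the other two
    have h3 : (ra * t'' * ra⁻¹ = t ∧ ra * ra * t'' * (ra * ra)⁻¹ = t') ∨
        (ra * t'' * ra⁻¹ = t' ∧ ra * ra * t'' * (ra * ra)⁻¹ = t) := by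
      obtain ⟨n1, n2, n3⟩ := hne3 t'' ht'' ht1''
      rcases s3_conj t'' t ht'' ht1'' ht ht1 with e | e | e <;>
        rcases s3_conj t'' t' ht'' ht1'' ht' ht1' with e' | e' | e' <;>
        first
          | exact absurd e.symm h1
          | exact absurd e'.symm h2
          | exact absurd (e.trans e'.symm) hne
          | exact Or.inl ⟨e.symm, e'.symm⟩
          | exact Or.inr ⟨e'.symm, e.symm⟩
    have ej : j = (D.θ ra (D.θ ra j))⁻¹ * (D.θ ra j)⁻¹ := by
      rw [← mul_inv_rev, eq_inv_iff_mul_eq_one, ← mul_assoc]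
      exact hnorm3 j (hJZ t'' hj)
    have p1 := hJθ ra t'' j hj
    have p2 := hJθ (ra * ra) t'' j hj
    rw [D.θ_mul] at p2
    rw [ej]
    rcases h3 with ⟨e1, e2⟩ | ⟨e1, e2⟩ <;> rw [e1] at p1 <;> rw [e2] at p2
    · exact mul_mem (hm' _ (inv_mem p2) : _ ∈ E) (hm _ (inv_mem p1) : _ ∈ E)
    · exact mul_mem (hm _ (inv_mem p2) : _ ∈ E) (hm' _ (inv_mem p1) : _ ∈ E)
  have hFneg : ∀ t, t * t = 1 → t ≠ 1 → ∀ m, D.Fixes (J t) m → D.σ t m = -m := by
    intro t ht ht1 m hm
    have hadd : ∀ t (p q : M), D.Fixes (J t) p → D.Fixes (J t) q → D.Fixes (J t) (p + q) :=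
      fun t p q hp hq k hk => by rw [map_add, hp k hk, hq k hk]
    have hsub : ∀ t (p : M) b, D.Fixes (J t) p → D.Fixes (J t) (D.r b p - p) :=
      fun t p b hp k hk => by rw [map_sub, hFx t p b hp k hk, hp k hk]
    obtain ⟨n1, n2, n3⟩ := hne3 t ht ht1
    obtain ⟨i1, i1'⟩ := s3_conj_inv t ra ht ht1
    obtain ⟨i2, i2'⟩ := s3_conj_inv t (ra * ra) ht ht1
    generalize hv0 : m + D.σ t m = v0
    have hv0F : D.Fixes (J t) v0 := by
      have e := hFσ t t m ht hm
      rw [mul_inv_cancel_right] at e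
      exact hv0 ▸ hadd t _ _ hm e
    generalize hv1 : D.σ ra v0 = v1
    generalize hv2 : D.σ (ra * ra) v0 = v2
    have hv1F : D.Fixes (J (ra * t * ra⁻¹)) v1 := hv1 ▸ hFσ ra t v0 ht hv0F
    have hv2F : D.Fixes (J (ra * ra * t * (ra * ra)⁻¹)) v2 := hv2 ▸ hFσ (ra * ra) t v0 ht hv0F
    have hsum : v0 + v1 + v2 = 0 := by
      rw [← hv1, ← hv2, ← hv0, map_add, map_add, ← D.σ_mul ra t, ← D.σ_mul (ra * ra) t]
      rw [← D.norm_zero m]
      obtain ⟨a1, a2, a3, a4, a5, a6, a7, a8, a9, a10, a11, a12⟩ := s3_nodup t ht ht1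
      have hra := s3_ra_ne
      rw [s3_univ' t ht ht1, Finset.sum_insert (by simp [a1, a2, a3, hra.1, hra.2.1]),
        Finset.sum_insert (by simp [a4, a5, a6, a7]),
        Finset.sum_insert (by simp [a8, a9, hra.2.2]),
        Finset.sum_insert (by simp [a10, a11]), Finset.sum_insert (by simp [a12]),
        Finset.sum_singleton, map_one]
      show _ = m + (D.σ t m + _)
      abel
    have hkill : ∀ b ∈ J (ra * t * ra⁻¹), D.r b v0 - v0 = 0 := by
      intro b hb
      refine hF2 t _ ht ht1 i2 i2' (Ne.symm n2) _ (hsub t v0 b hv0F) ?_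
      have e : D.r b v0 - v0 = -(D.r b v2 - v2) := by
        have h := congrArg (fun y => D.r b y - y) hsum
        simp only [map_add, map_zero, sub_zero, hv1F b hb] at h
        rw [← add_eq_zero_iff_eq_neg]
        rw [← h]; abel
      rw [e]
      exact fun k hk => by rw [map_neg, hsub _ v2 b hv2F k hk]
    have h0 : v0 = 0 := hF2 t _ ht ht1 i1 i1' (Ne.symm n1) v0 hv0F
      fun k hk => sub_eq_zero.mp (hkill k hk)
    rw [← hv0] at h0
    exact eq_neg_of_add_eq_zero_right h0
  -- the kernels on the fixed point spaces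
  let Kt : S3 → Subgroup X := fun t =>
    { carrier := {x | ∀ m, D.Fixes (J t) m → D.r x m = m}
      one_mem' := fun m _ => D.one_apply m
      mul_mem' := fun {p q} hp hq m hm => by rw [D.mul_apply, hq m hm, hp m hm]
      inv_mem' := fun {p} hp m hm => by
        conv_lhs => rw [← hp m hm]
        rw [← D.mul_apply, inv_mul_cancel, D.one_apply] }
  have hKn : ∀ t, t * t = 1 → t ≠ 1 → (Kt t).Normal := fun t _ _ => ⟨fun y hy x m hm => by
    rw [D.mul_apply, D.mul_apply, hy _ (hFx t m x⁻¹ hm), ← D.mul_apply, mul_inv_cancel,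
      D.one_apply]⟩
  have hKtmem : ∀ t, t * t = 1 → t ≠ 1 → ∀ x, x⁻¹ * D.θ t x ∈ Kt t := by
    intro t ht ht1 x m hm
    have e := D.comp t x m
    rw [hFneg t ht ht1 _ (hFx t m x hm), hFneg t ht ht1 m hm, map_neg] at e
    rw [D.mul_apply, ← neg_inj.mp e, ← D.mul_apply, inv_mul_cancel, D.one_apply]
  refine D.comm_of_kernels h6 Kt hKn hKtmem ?_ a b
  intro x hx
  obtain ⟨N, hN⟩ : ∃ N : Subgroup X, ∀ y, y ∈ N ↔ ∀ t, t * t = 1 → t ≠ 1 → y ∈ Kt t :=
    ⟨⨅ (t : S3) (_ : t * t = 1) (_ : t ≠ 1), Kt t, fun y => by simp [mem_iInf]⟩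
  by_contra hx1
  have hNn : N.Normal := ⟨fun y hy z => (hN _).mpr fun t ht ht1 =>
    (hKn t ht ht1).conj_mem y ((hN y).mp hy t ht ht1) z⟩
  have hNi : ∀ g, ∀ y ∈ N, D.θ g y ∈ N := by
    intro g y hy
    refine (hN _).mpr fun t ht ht1 m hm => ?_
    obtain ⟨c1, c2⟩ := s3_conj_inv t g⁻¹ ht ht1
    have e := D.comp g y (D.σ g⁻¹ m)
    rw [(hN y).mp hy _ c1 c2 _ (hFσ g⁻¹ t m ht hm), ← D.σ_mul, mul_inv_cancel, map_one] at e
    exact e.symm
  obtain ⟨m, hm0, hm⟩ := hK₀.2.1
  obtain ⟨t, ht, ht1, hle⟩ := hKJ K₀ hK₀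
  exact hm0 (D.noFix N hNn hNi (fun hb => hx1 (mem_bot.mp (hb.le ((hN x).mpr hx)))) m fun y hy =>
    (hN y).mp hy t ht ht1 m fun k hk => hm k (hle hk))

end Setup

section Main

variable {G : Type u} [Group G]

private theorem symThree_aux (n : ℕ) :
    ∀ (G : Type u) [Group G] [Finite G] (φ : S3 →* MulAut G), Nat.card G = n → Group.IsSolvable G →
      (Nat.card G).Coprime 6 → (∀ x, (∀ g, φ g x = x) → x = 1) →
      Group.IsNilpotent (commutator G) := by
  induction n using Nat.strong_induction_on with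
  | _ n ih =>
  intro G _ _ φ hn hsolv h6 hfp
  subst hn
  haveI := hsolv
  have hS6 : Nat.card S3 = 6 := by rw [Nat.card_eq_fintype_card]; decide
  have hinvt : ∀ (N : Subgroup G) (g : S3), N.map (φ g).toMonoidHom = N → ∀ x ∈ N, φ g x ∈ N :=
    fun N g h x hx => h.le (mem_map_of_mem _ hx)
  -- induced actions
  have hact : ∀ (N : Subgroup G) [N.Normal], (∀ g, N.map (φ g).toMonoidHom = N) →
      ∃ ψ : S3 →* MulAut (G ⧸ N), (∀ g (x : G), ψ g (x : G ⧸ N) = ((φ g x : G) : G ⧸ N)) ∧
        ∀ y, (∀ g, ψ g y = y) → y = 1 := by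
    intro N _ hN
    let ψ : S3 →* MulAut (G ⧸ N) :=
      { toFun := fun g => QuotientGroup.congr N N (φ g) (hN g)
        map_one' := MulEquiv.ext fun y => by
          obtain ⟨x, rfl⟩ := QuotientGroup.mk_surjective y
          show ((φ 1 x : G) : G ⧸ N) = _
          rw [map_one]; rfl
        map_mul' := fun g h => MulEquiv.ext fun y => by
          obtain ⟨x, rfl⟩ := QuotientGroup.mk_surjective y
          show ((φ (g * h) x : G) : G ⧸ N) = ((φ g (φ h x) : G) : G ⧸ N)
          rw [map_mul]; rfl }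
    refine ⟨ψ, fun g x => rfl, fun y hy => ?_⟩
    obtain ⟨x, rfl⟩ := QuotientGroup.mk_surjective y
    obtain ⟨n, hn, hfx⟩ := exists_fixed_in_coset φ N (fun g => hinvt N g (hN g))
      (by rw [hS6]; exact (h6.coprime_dvd_left N.card_subgroup_dvd_card).symm)
      inferInstance x (fun g => (QuotientGroup.eq).mp (hy g).symm)
    rw [QuotientGroup.eq_one_iff, eq_inv_of_mul_eq_one_left (hfp _ hfx)]
    exact inv_mem hn
  have hquo : ∀ (N : Subgroup G) [N.Normal], (∀ g, N.map (φ g).toMonoidHom = N) → N ≠ ⊥ →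
      Group.IsNilpotent (commutator (G ⧸ N)) := by
    intro N _ hN hne
    obtain ⟨ψ, -, hψ⟩ := hact N hN
    exact ih _ (card_quotient_lt N hne) (G ⧸ N) ψ rfl inferInstance
      (h6.coprime_dvd_left N.card_quotient_dvd_card) hψ
  rcases subsingleton_or_nontrivial G with hG | hG
  · infer_instance
  -- the Frattini subgroup
  by_cases hΦ : frattini G = ⊥
  swap
  · haveI := hquo (frattini G) (fun g => characteristic_iff_map_eq.mp frattini_characteristic (φ g)) hΦ
    haveI := isNilpotent_fittingSubgroup G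
    refine isNilpotent_of_le (K := fittingSubgroup G) ?_
    have h1 : (commutator G).map (QuotientGroup.mk' (frattini G)) ≤
        fittingSubgroup (G ⧸ frattini G) := by
      refine le_trans (le_of_eq ?_) (le_fittingSubgroup (N := commutator (G ⧸ frattini G)) inferInstance)
      rw [_root_.commutator_def, map_commutator,
        map_top_of_surjective _ (QuotientGroup.mk'_surjective _), _root_.commutator_def]
    rw [fittingSubgroup_quotient_frattini] at h1
    have h2 := comap_mono (f := QuotientGroup.mk' (frattini G)) h1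
    rw [comap_map_eq, comap_map_eq, QuotientGroup.ker_mk',
      sup_eq_left.mpr (frattini_le_fittingSubgroup)] at h2
    exact le_sup_left.trans h2
  -- two invariant normal subgroups
  by_cases hprod : ∃ V W : Subgroup G, V.Normal ∧ W.Normal ∧ (∀ g, V.map (φ g).toMonoidHom = V) ∧
      (∀ g, W.map (φ g).toMonoidHom = W) ∧ V ≠ ⊥ ∧ W ≠ ⊥ ∧ V ⊓ W = ⊥
  · obtain ⟨V, W, hVn, hWn, hV, hW, hVb, hWb, hVW⟩ := hprod
    exact FPFFour.isNilpotent_commutator_of_two_quotients V W hVW (hquo V hV hVb) (hquo W hW hWb)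
  push Not at hprod
  obtain ⟨q, hq, hb⟩ := exists_pCore_ne_bot (G := G)
  haveI := Fact.mk hq
  have hFq : fittingSubgroup G = pCore q G := by
    refine le_antisymm ?_ (pCore_le_fittingSubgroup q)
    rw [fittingSubgroup_eq_iSup_pCore]
    refine iSup_le fun r => ?_
    by_cases hr : (r : ℕ) = q
    · rw [hr]
    · by_cases hrb : pCore (r : ℕ) G = ⊥
      · rw [hrb]; exact bot_le
      · refine absurd (disjoint_iff.mp ?_) (hprod _ _ inferInstance inferInstance
          (fun g => map_equiv_pCore (φ g)) (fun g => map_equiv_pCore (φ g)) hrb hb)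
        haveI := Fact.mk r.2
        exact IsPGroup.disjoint_of_ne r q hr _ _ (isPGroup_pCore _ G) (isPGroup_pCore _ G)
  generalize hF : fittingSubgroup G = F at hFq
  haveI : F.Normal := hF ▸ inferInstance
  have hFi : ∀ g, F.map (φ g).toMonoidHom = F := fun g => hF ▸ map_equiv_fittingSubgroup (φ g)
  have hFp : IsPGroup q F := hFq ▸ isPGroup_pCore q G
  haveI : Group.IsNilpotent F := hFp.isNilpotent
  haveI hFc : IsMulCommutative F := by
    rw [isMulCommutative_iff_commutator_eq_bot]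
    have h1 : (frattini F).map F.subtype = ⊥ :=
      le_bot_iff.mp ((FPFFour.map_frattini_le_frattini F).trans hΦ.le)
    rw [← le_bot_iff, ← h1, ← map_subtype_commutator]
    exact map_mono CfsgLib.PGroups.commutator_le_frattini
  have hCF : centralizer (F : Set G) ≤ F := by
    rw [← hF]; exact Components.centralizer_fitting_le_of_isSolvable
  -- the conjugation representation of the quotient
  have hlift : F ≤ (MulAut.conjNormal (H := F)).ker := by
    intro a ha
    rw [MonoidHom.mem_ker]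
    ext x
    rw [MulAut.conjNormal_apply, MulAut.one_apply, mul_inv_eq_iff_eq_mul]
    exact setLike_mul_comm ha x.2
  let r₀ : G ⧸ F →* MulAut F := QuotientGroup.lift F MulAut.conjNormal hlift
  have hr : ∀ (g : G) (x : F), ((r₀ (g : G ⧸ F) x : F) : G) = g * x * g⁻¹ := fun g x => by
    show ((MulAut.conjNormal g x : F) : G) = _
    rw [MulAut.conjNormal_apply]
  obtain ⟨θ, hθv, hθf⟩ := hact F hFi
  let s₀ : S3 → MulAut F := fun g => ((φ g).subgroupMap F).trans (MulEquiv.subgroupCongr (hFi g))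
  have hsv : ∀ g (x : F), ((s₀ g x : F) : G) = φ g x := fun g x => rfl
  open scoped IsMulCommutative in
  have main : IsMulCommutative (G ⧸ F) := by
    let r : G ⧸ F →* AddMonoid.End (Additive F) :=
      { toFun := fun x => MonoidHom.toAdditive (r₀ x).toMonoidHom
        map_one' := by ext a; simp [MulEquiv.toMonoidHom]; rfl
        map_mul' := fun a b => by ext x; simp [MulEquiv.toMonoidHom]; rfl }
    let σ : S3 →* AddMonoid.End (Additive F) :=
      { toFun := fun g => MonoidHom.toAdditive (s₀ g).toMonoidHom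
        map_one' := by
          ext a
          show φ 1 _ = _
          rw [map_one]; rfl
        map_mul' := fun g h => by
          ext a
          show φ (g * h) _ = φ g (φ h _)
          rw [map_mul]; rfl }
    have hco : (Nat.card (Additive F)).Coprime (Nat.card (fittingSubgroup (G ⧸ F))) := by
      have hX : pCore q (G ⧸ F) = ⊥ := by
        have h1 : IsPGroup q ((pCore q (G ⧸ F)).comap (QuotientGroup.mk' F)) :=
          (isPGroup_pCore q _).comap_of_ker_isPGroup _ (by rw [QuotientGroup.ker_mk']; exact hFp)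
        have h2 := le_pCore h1
        rw [← hFq] at h2
        rw [← le_bot_iff, ← map_comap_eq_self_of_surjective (QuotientGroup.mk'_surjective F)
          (pCore q (G ⧸ F))]
        exact (map_mono h2).trans (le_of_eq (QuotientGroup.map_mk'_self _))
      have hle : fittingSubgroup (G ⧸ F) ≤ pPrimeCore q (G ⧸ F) := by
        rw [fittingSubgroup_eq_iSup_pCore]
        refine iSup_le fun r => ?_
        by_cases hr : (r : ℕ) = q
        · rw [hr, hX]; exact bot_le
        · exact pCore_le_pPrimeCore_of_ne hq r.2 hr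
      obtain ⟨i, hi⟩ := IsPGroup.iff_card.mp hFp
      show (Nat.card F).Coprime _
      rw [hi]
      exact (((coprime_card_pPrimeCore q (G ⧸ F)).coprime_dvd_left (card_dvd_of_le hle)).symm).pow_left i
    let D : Setup (G ⧸ F) (Additive F) :=
      { r := r
        σ := σ
        θ := θ
        comp := fun g x m => by
          obtain ⟨y, rfl⟩ := QuotientGroup.mk_surjective x
          refine congrArg Additive.ofMul (Subtype.ext ?_)
          show φ g (r₀ (y : G ⧸ F) (Additive.toMul m) : F) =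
            ((r₀ (θ g (y : G ⧸ F)) (s₀ g (Additive.toMul m)) : F) : G)
          rw [hθv, hr, hr, hsv, map_mul, map_mul, map_inv]
        fixM := fun m hm => Additive.toMul.injective (Subtype.ext (hfp _ fun g =>
          congrArg Subtype.val (congrArg Additive.toMul (hm g))))
        fixX := hθf
        inj := fun x hx => by
          obtain ⟨g, rfl⟩ := QuotientGroup.mk_surjective x
          refine (QuotientGroup.eq_one_iff g).mpr (hCF (mem_centralizer_iff.mpr fun f hf => ?_))
          have h1 := congrArg Subtype.val (congrArg Additive.toMul (hx (Additive.ofMul ⟨f, hf⟩)))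
          have h2 : ((r₀ (g : G ⧸ F) ⟨f, hf⟩ : F) : G) = f := h1
          rw [hr] at h2
          exact (mul_inv_eq_iff_eq_mul.mp h2).symm
        noFix := fun N hN hNi hNb m hm => by
          haveI := hN
          obtain ⟨B, hBn, hBb, hBN, hBmin⟩ := exists_minimal_normal_le' N hNb
          haveI := hBn
          haveI hBc := commutative_of_minimal_normal B inferInstance hBb hBmin
          have hBF : B ≤ fittingSubgroup (G ⧸ F) := le_fittingSubgroup inferInstance
          generalize hZ : N ⊓ fittingSubgroup (G ⧸ F) = Z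
          haveI : Z.Normal := hZ ▸ inferInstance
          have hZb : Z ≠ ⊥ := fun h => hBb (le_bot_iff.mp (h ▸ hZ ▸ le_inf hBN hBF))
          have hZi : ∀ g, ∀ z ∈ Z, θ g z ∈ Z := fun g z hz => by
            rw [← hZ] at hz ⊢
            exact ⟨hNi g z hz.1, (map_equiv_fittingSubgroup (θ g)).le (mem_map_of_mem _ hz.2)⟩
          have hcopFZ : (Nat.card F).Coprime (Nat.card Z) :=
            (show (Nat.card F).Coprime _ from hco).coprime_dvd_right
              (card_dvd_of_le (hZ ▸ inf_le_right))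
          have hmfix : ∀ z : Z, r₀ z (Additive.toMul m) = Additive.toMul m := fun z =>
            congrArg Additive.toMul (hm z (hZ.symm.le z.2).1)
          -- fixed points and the kernel of the norm
          haveI := Fintype.ofFinite Z
          let nrm : F →* F := ∏ z : Z, (r₀ (z : G ⧸ F)).toMonoidHom
          have hnv : ∀ f, nrm f = ∏ z : Z, r₀ (z : G ⧸ F) f := fun f => by
            simp [nrm, MonoidHom.finsetProd_apply]
          let C : Subgroup F := ⨅ z : Z, MonoidHom.eqLocus (r₀ (z : G ⧸ F)).toMonoidHom (MonoidHom.id F)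
          have hCm : ∀ f, f ∈ C ↔ ∀ z : Z, r₀ z f = f := fun f => by simp [C, mem_iInf]; rfl
          have hZconj : ∀ x : G ⧸ F, ∀ z : Z, x⁻¹ * z * x ∈ Z := fun x z => by
            simpa using (inferInstance : Z.Normal).conj_mem _ z.2 x⁻¹
          have hnrm : ∀ x : G ⧸ F, ∀ f, nrm (r₀ x f) = r₀ x (nrm f) := by
            intro x f
            rw [hnv, hnv, map_prod]
            refine Fintype.prod_bijective (fun z : Z => (⟨x⁻¹ * z * x, hZconj x z⟩ : Z)) ?_ _ _
              fun z => ?_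
            · refine Finite.injective_iff_bijective.mp fun a b hab => Subtype.ext ?_
              simpa using congrArg (fun t : Z => x * (t : G ⧸ F) * x⁻¹) hab
            · simp only [← MulAut.mul_apply, ← map_mul]
              congr 1
              congr 1
              group
          have hcomp : ∀ g x f, s₀ g (r₀ x f) = r₀ (θ g x) (s₀ g f) := by
            intro g x f
            obtain ⟨y, rfl⟩ := QuotientGroup.mk_surjective x
            refine Subtype.ext ?_
            rw [hθv, hsv, hr, hr, hsv, map_mul, map_mul, map_inv]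
          have hnrms : ∀ g f, nrm (s₀ g f) = s₀ g (nrm f) := by
            intro g f
            rw [hnv, hnv, map_prod]
            simp only [hcomp]
            have hb : Function.Bijective fun z : Z => (⟨θ g z, hZi g z z.2⟩ : Z) :=
              Finite.injective_iff_bijective.mp fun a b hab =>
                Subtype.ext ((θ g).injective (congrArg Subtype.val hab))
            exact (Fintype.prod_bijective _ hb _ _ fun z => rfl).symm
          have hKn : (nrm.ker.map F.subtype).Normal := by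
            refine ⟨?_⟩
            rintro _ ⟨f, hf, rfl⟩ g
            refine ⟨r₀ (g : G ⧸ F) f, ?_, hr g f⟩
            rw [SetLike.mem_coe, MonoidHom.mem_ker] at hf ⊢
            rw [hnrm, hf, map_one]
          have hCn : (C.map F.subtype).Normal := by
            refine ⟨?_⟩
            rintro _ ⟨f, hf, rfl⟩ g
            refine ⟨r₀ (g : G ⧸ F) f, (hCm _).mpr fun z => ?_, hr g f⟩
            have h1 := (hCm f).mp hf ⟨_, hZconj (g : G ⧸ F) z⟩
            conv_rhs => rw [← h1]
            simp only [← MulAut.mul_apply, ← map_mul]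
            congr 1
            congr 1
            group
          have hinvar : ∀ S : Subgroup F, (∀ g, ∀ f ∈ S, s₀ g f ∈ S) →
              ∀ g, (S.map F.subtype).map (φ g).toMonoidHom = S.map F.subtype := by
            intro S hS g
            refine eq_of_le_of_card_ge ?_
              (le_of_eq (card_map_of_injective (f := (φ g).toMonoidHom) (φ g).injective).symm)
            rintro _ ⟨_, ⟨f, hf, rfl⟩, rfl⟩
            exact ⟨s₀ g f, hS g f hf, hsv g f⟩
          have hKi := hinvar nrm.ker fun g f hf => by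
            rw [MonoidHom.mem_ker] at hf ⊢
            rw [hnrms, hf, map_one]
          have hCi := hinvar C fun g f hf => (hCm _).mpr fun z => by
            have h1 := congrArg (s₀ g) ((hCm f).mp hf ⟨θ g⁻¹ z, hZi g⁻¹ z z.2⟩)
            have e : θ g (θ g⁻¹ (z : G ⧸ F)) = z := by
              rw [← MulAut.mul_apply, ← map_mul θ, mul_inv_cancel, map_one, MulAut.one_apply]
            rw [hcomp] at h1
            simp only [e] at h1
            exact h1
          have hdisj : C ⊓ nrm.ker = ⊥ := by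
            rw [eq_bot_iff]
            rintro f ⟨hf, hn⟩
            replace hn : nrm f = 1 := hn
            rw [hnv, Finset.prod_congr rfl fun z _ => (hCm f).mp hf z, Finset.prod_const,
              Finset.card_univ, ← Nat.card_eq_fintype_card] at hn
            have := pow_gcd_eq_one.mpr ⟨hn, pow_card_eq_one' (x := f)⟩
            rwa [Nat.Coprime.gcd_eq_one hcopFZ.symm, pow_one] at this
          by_contra hm0
          have hCb : C.map F.subtype ≠ ⊥ := fun h => hm0 (Additive.toMul.injective (Subtype.ext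
            (mem_bot.mp (h ▸ mem_map_of_mem F.subtype ((hCm _).mpr hmfix)))))
          have hKb : nrm.ker.map F.subtype = ⊥ := by
            by_contra hKb
            refine hprod _ _ hCn hKn hCi hKi hCb hKb ?_
            rw [← map_inf _ _ _ F.subtype_injective, hdisj, Subgroup.map_bot]
          rw [map_eq_bot_iff_of_injective _ F.subtype_injective] at hKb
          have hinjn : Function.Injective nrm := (MonoidHom.ker_eq_bot_iff _).mp hKb
          refine hZb ((eq_bot_iff_forall _).mpr fun z hz => ?_)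
          have hz1 : ∀ f, r₀ z f = f := fun f => hinjn (by
            rw [hnv, hnv]
            simp only [← MulAut.mul_apply, ← map_mul]
            exact Fintype.prod_equiv (Equiv.mulRight (⟨z, hz⟩ : Z)) _ _ fun t => rfl)
          obtain ⟨y, rfl⟩ := QuotientGroup.mk_surjective z
          refine (QuotientGroup.eq_one_iff y).mpr (hCF (mem_centralizer_iff.mpr fun f hf => ?_))
          have h2 := congrArg Subtype.val (hz1 ⟨f, hf⟩)
          rw [hr] at h2
          exact (mul_inv_eq_iff_eq_mul.mp h2).symm }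
    exact ⟨⟨fun a b => D.comm (h6.coprime_dvd_left F.card_quotient_dvd_card) hco a b⟩⟩
  refine isNilpotent_of_le (K := F) ?_
  exact Subgroup.Normal.quotient_commutative_iff_commutator_le.mp main

theorem isNilpotent_commutator_of_symThree [Finite G] (φ : S3 →* MulAut G)
    (hsolv : Group.IsSolvable G) (h6 : (Nat.card G).Coprime 6)
    (hfp : ∀ x, (∀ g, φ g x = x) → x = 1) : Group.IsNilpotent (commutator G) :=
  symThree_aux _ G φ rfl hsolv h6 hfp

end Main

end CfsgLib.Core.FPFSymThree
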