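import Cfsg.Agent.Lib.Core.OpReduction
import Cfsg.Agent.Lib.Core.FPFAutomorphism
import Cfsg.Agent.Lib.PLocal.NormalPComplementThms

/-!
# Ward's theorem

A solvable group with a fixed point free elementary abelian operator group of order `p ^ 2` has
Fitting height at most two.
-/

set_option autoImplicit false
set_option linter.all false

universe u v

namespace CfsgLib.Core.Ward

open Subgroup Cfsg OpSetup

variable {A : Type v} [Group A] [Fintype A] {p : ℕ}

/-- The standing hypotheses on the operator group. -/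
def IsPSq (p : ℕ) (A : Type v) [Group A] : Prop :=
  p.Prime ∧ (∀ a b : A, a * b = b * a) ∧ (∀ a : A, a ^ p = 1) ∧ Nat.card A = p ^ 2

theorem prime_card_of_proper (hA : IsPSq p A) (S : Subgroup A) (hb : S ≠ ⊥) (ht : S ≠ ⊤) :
    (Nat.card S).Prime := by
  obtain ⟨hp, -, -, hc⟩ := hA
  have hd : Nat.card S ∣ p ^ 2 := hc ▸ S.card_subgroup_dvd_card
  obtain ⟨i, hi, he⟩ := (Nat.dvd_prime_pow hp).mp hd
  interval_cases i
  · exact absurd (Subgroup.card_eq_one.mp (by rw [he, pow_zero])) hb
  · rwa [he, pow_one]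
  · exact absurd (Subgroup.eq_top_of_card_eq S (by rw [he, hc])) ht

theorem zpowers_card (hA : IsPSq p A) {g : A} (hg : g ≠ 1) : Nat.card (zpowers g) = p := by
  haveI := Fact.mk hA.1
  rw [Nat.card_zpowers]
  exact orderOf_eq_prime (hA.2.2.1 g) hg

theorem sup_eq_top (hA : IsPSq p A) {g h : A} (hg : g ≠ 1) (hh : h ∉ zpowers g) :
    zpowers g ⊔ zpowers h = ⊤ := by
  by_contra ht
  have hb : zpowers g ⊔ zpowers h ≠ ⊥ := fun e =>
    hg (mem_bot.mp (e.le (mem_sup_left (mem_zpowers g))))
  have hpr := prime_card_of_proper hA _ hb ht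
  have hle : zpowers g ≤ zpowers g ⊔ zpowers h := le_sup_left
  have hd := card_dvd_of_le hle
  rw [zpowers_card hA hg] at hd
  have he : p = Nat.card (zpowers g ⊔ zpowers h : Subgroup A) :=
    (Nat.prime_dvd_prime_iff_eq hA.1 hpr).mp hd
  have := Subgroup.eq_of_le_of_card_ge hle (by rw [zpowers_card hA hg, ← he])
  exact hh (this.ge (mem_sup_right (mem_zpowers h)))

variable {X : Type u} [Group X] [Finite X]

theorem fixed_of_gen (hA : IsPSq p A) (θ : A →* MulAut X)
    (hfix : ∀ x, (∀ a, θ a x = x) → x = 1) {g h : A} (hg : g ≠ 1) (hh : h ∉ zpowers g) {x : X}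
    (h1 : θ g x = x) (h2 : θ h x = x) : x = 1 := by
  refine hfix x fun a => ?_
  let S : Subgroup A :=
    { carrier := {a | θ a x = x}
      one_mem' := by simp
      mul_mem' := fun {a b} (ha : θ a x = x) (hb : θ b x = x) => by
        show θ (a * b) x = x
        rw [map_mul, MulAut.mul_apply, hb, ha]
      inv_mem' := fun {a} (ha : θ a x = x) => by
        show θ a⁻¹ x = x
        conv_lhs => rw [← ha]
        rw [← MulAut.mul_apply, ← map_mul, inv_mul_cancel, map_one, MulAut.one_apply] }
  have : (⊤ : Subgroup A) ≤ S := by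
    rw [← sup_eq_top hA hg hh]
    exact sup_le (zpowers_le.mpr h1) (zpowers_le.mpr h2)
  exact this (mem_top a)

/-- An abelian group cannot be fixed point freely acted on by all operators of order `p`. -/
theorem eq_one_of_all_fpf (hA : IsPSq p A) {E : Type*} [CommGroup E] [Finite E] (θ : A →* MulAut E)
    (hcop : (Nat.card E).Coprime p) (hf : ∀ g, g ≠ 1 → ∀ x, θ g x = x → x = 1) (y : E) :
    y = 1 := by
  obtain ⟨hp, hcomm, hpow, hcard⟩ := id hA
  haveI := Fact.mk hp
  obtain ⟨g, hg⟩ : ∃ g : A, g ≠ 1 := by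
    by_contra h
    push Not at h
    haveI : Subsingleton A := ⟨fun a b => by rw [h a, h b]⟩
    rw [Nat.card_unique] at hcard
    nlinarith [hp.two_le]
  obtain ⟨h, hh⟩ : ∃ h : A, h ∉ zpowers g := by
    by_contra hall
    push Not at hall
    have : zpowers g = ⊤ := (eq_top_iff' _).mpr hall
    have e := zpowers_card hA hg
    rw [this, card_top, hcard] at e
    nlinarith [hp.two_le]
  have hnorm : ∀ a : A, a ≠ 1 → ∀ x : E, ∏ j ∈ Finset.range p, θ (a ^ j) x = 1 := by
    intro a ha x
    refine hf a ha _ ?_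
    obtain ⟨m, hm⟩ : ∃ m, p = m + 1 := ⟨p - 1, by have := hp.pos; omega⟩
    rw [map_prod, hm]
    conv_rhs => rw [Finset.prod_range_succ']
    rw [Finset.prod_range_succ]
    congr 1
    · refine Finset.prod_congr rfl fun j _ => ?_
      rw [← MulAut.mul_apply, ← map_mul, ← pow_succ']
    · rw [← MulAut.mul_apply, ← map_mul, ← pow_succ', ← hm, hpow, pow_zero]
  have hne : ∀ j : ℕ, g * h ^ j ≠ 1 := by
    intro j e
    have h1 : h ^ j = g⁻¹ := eq_inv_of_mul_eq_one_right e
    have hb : zpowers g ≤ zpowers h :=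
      zpowers_le.mpr (inv_mem_iff.mp (h1 ▸ pow_mem (mem_zpowers h) j))
    have hh1 : h ≠ 1 := fun e => hh (e ▸ one_mem _)
    exact hh ((Subgroup.eq_of_le_of_card_ge hb
      (by rw [zpowers_card hA hg, zpowers_card hA hh1])).ge (mem_zpowers h))
  have hkey : ∏ i ∈ Finset.range p, ∏ j ∈ Finset.range p, θ ((g * h ^ j) ^ i) y = 1 := by
    rw [Finset.prod_comm]
    exact Finset.prod_eq_one fun j _ => hnorm _ (hne j) y
  obtain ⟨m, hm⟩ : ∃ m, p = m + 1 := ⟨p - 1, by have := hp.pos; omega⟩
  rw [show Finset.range p = Finset.range (m + 1) by rw [← hm]] at hkey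
  rw [Finset.prod_range_succ', Finset.prod_eq_one, one_mul] at hkey
  · simp only [pow_zero, map_one, MulAut.one_apply, Finset.prod_const, Finset.card_range] at hkey
    rw [← hm] at hkey
    exact FPFSymThree.eq_one_of_pow_coprime hcop hkey
  · intro i hi
    have hhi : h ^ (i + 1) ≠ 1 := by
      intro e
      have hh1 : h ≠ 1 := fun e => hh (e ▸ one_mem _)
      have hd : p ∣ i + 1 := orderOf_eq_prime (hpow h) hh1 ▸ orderOf_dvd_of_pow_eq_one e
      have := Nat.le_of_dvd (Nat.succ_pos i) hd
      have := Finset.mem_range.mp hi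
      omega
    rw [show m + 1 = p from hm.symm]
    have e1 : ∀ j, θ ((g * h ^ j) ^ (i + 1)) y = θ (g ^ (i + 1)) (θ ((h ^ (i + 1)) ^ j) y) := by
      intro j
      rw [Commute.mul_pow (hcomm g (h ^ j)), ← pow_mul, mul_comm j, pow_mul, map_mul,
        MulAut.mul_apply]
    rw [Finset.prod_congr rfl fun j _ => e1 j, ← map_prod, hnorm _ hhi, map_one]

variable {M : Type u} [AddCommGroup M] [Finite M]

theorem nilpotent_of_setup [Group.IsSolvable X] (hA : IsPSq p A) (D : Setup A X M)
    (hcopX : (Nat.card A).Coprime (Nat.card X)) (hcopM : (Nat.card M).Coprime (Nat.card A))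
    (hco : (Nat.card M).Coprime (Nat.card (fittingSubgroup X))) : Group.IsNilpotent X := by
  classical
  obtain ⟨hp, hcomm, hpow, hcard⟩ := id hA
  haveI := Fact.mk hp
  have hcopp : (Nat.card X).Coprime p :=
    (hcopX.coprime_dvd_left (hcard ▸ dvd_pow_self p two_ne_zero)).symm
  rcases subsingleton_or_nontrivial X with hX | hX
  · exact (IsPGroup.of_card (p := p) (n := 0) (by rw [Nat.card_unique, pow_zero])).isNilpotent
  obtain ⟨m₀, hm₀⟩ : ∃ m : M, m ≠ 0 := by
    by_contra h
    push Not at h
    obtain ⟨x, hx⟩ := exists_ne (1 : X)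
    exact hx (D.inj x fun m => by rw [h (D.r x m), h m])
  -- a minimal invariant abelian normal subgroup
  let P : Subgroup X → Prop := fun N =>
    N.Normal ∧ (∀ g, ∀ z ∈ N, D.θ g z ∈ N) ∧ (∀ a ∈ N, ∀ b ∈ N, a * b = b * a)
  obtain ⟨Z, ⟨⟨hZn, hZi, hZc⟩, hZb⟩, hmin⟩ : ∃ Z, (P Z ∧ Z ≠ ⊥) ∧
      ∀ N, P N → N ≤ Z → N ≠ ⊥ → N = Z := by
    obtain ⟨q, hq, hqb⟩ := exists_pCore_ne_bot (G := X)
    haveI := Fact.mk hq
    generalize hQ : pCore q X = Q at hqb
    haveI : Q.Normal := hQ ▸ inferInstance
    generalize hC : Q ⊓ centralizer (Q : Set X) = C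
    have hCi : ∀ g, C.map (D.θ g).toMonoidHom = C := by
      intro g
      rw [← hC, CfsgLib.PLocal.map_centralizer_of_injOn (D.θ g).toMonoidHom _
        ((MonoidHom.ker_eq_bot_iff (D.θ g).toMonoidHom).mpr (D.θ g).injective ▸ disjoint_bot_right),
        ← hQ, map_equiv_pCore (D.θ g)]
    have hCb : C ≠ ⊥ := by
      haveI : Nontrivial Q := (nontrivial_iff_ne_bot _).mpr hqb
      obtain ⟨⟨⟨z, hz⟩, hzc⟩, hz1⟩ := ne_bot_iff_exists_ne_one.mp
        (hQ ▸ isPGroup_pCore q X : IsPGroup q Q).bot_lt_center.ne'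
      intro h
      apply hz1
      refine Subtype.ext (Subtype.ext (mem_bot.mp (h ▸ hC ▸ ⟨hz, ?_⟩ : z ∈ (⊥ : Subgroup X))))
      exact mem_centralizer_iff.mpr fun y hy => congrArg Subtype.val (mem_center_iff.mp hzc ⟨y, hy⟩)
    have hCP : P C := ⟨hC ▸ inferInstance, fun g z hz => (hCi g).le (mem_map_of_mem _ hz),
      fun a ha b hb => by
        rw [← hC] at ha hb
        exact (mem_centralizer_iff.mp hb.2 a ha.1)⟩
    obtain ⟨Z, hZ, hmin⟩ := Set.Finite.exists_minimal
      (Set.toFinite {N : Subgroup X | P N ∧ N ≠ ⊥}) ⟨C, hCP, hCb⟩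
    exact ⟨Z, hZ, fun N hN hle hb => le_antisymm hle (hmin ⟨hN, hb⟩ hle)⟩
  haveI := hZn
  -- one operator centralises it
  obtain ⟨K, hK⟩ := D.exists_isKernel Z (fun _ => True) hm₀ trivial
  obtain ⟨b, hb1, hball⟩ := D.exists_uniform hcopX (prime_card_of_proper hA) hZi hZc hZb hK
  have hbZ : ∀ z ∈ Z, D.θ b z = z := by
    intro z hz
    let N := normalClosure ((fun z => z * (D.θ b z)⁻¹) '' (Z : Set X))
    have hNK : N ≤ K := by
      show normalClosure _ ≤ K
      rw [normalClosure, closure_le]
      intro y hy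
      obtain ⟨s, ⟨w, hw, rfl⟩, hconj⟩ := Group.mem_conjugatesOfSet_iff.mp hy
      obtain ⟨x, rfl⟩ := isConj_iff.mp hconj
      exact hball x w hw
    have hNn : N.Normal := normalClosure_normal
    have hNi : ∀ g, ∀ y ∈ N, D.θ g y ∈ N := by
      intro g y hy
      haveI : (N.comap (D.θ g).toMonoidHom).Normal := hNn.comap _
      refine (normalClosure_le_normal ?_ : N ≤ N.comap (D.θ g).toMonoidHom) hy
      rintro _ ⟨w, hw, rfl⟩
      show D.θ g (w * (D.θ b w)⁻¹) ∈ N
      rw [map_mul, map_inv, ← D.θ_mul, hcomm g b, D.θ_mul]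
      exact subset_normalClosure ⟨_, hZi g w hw, rfl⟩
    by_cases hNb : N = ⊥
    · exact (mul_inv_eq_one.mp (mem_bot.mp (hNb.le (subset_normalClosure ⟨z, hz, rfl⟩)))).symm
    · exfalso
      have hNeq : N = Z := hmin N ⟨hNn, hNi, fun a ha c hc => hZc a (hK.1 (hNK ha)) c (hK.1 (hNK hc))⟩
        (hNK.trans hK.1) hNb
      obtain ⟨-, ⟨m, hm0, -, hm⟩, -⟩ := hK
      exact hm0 (D.noFix Z hZn hZi hZb m fun n hn => hm n (hNK (hNeq.ge hn)))
  -- outside of its subgroup the operators are fixed point free on `Z`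
  have hfpZ : ∀ h, h ∉ zpowers b → ∀ z ∈ Z, D.θ h z = z → z = 1 := fun h hh z hz e =>
    fixed_of_gen hA D.θ D.fixX hb1 hh (hbZ z hz) e
  have hbfix : ∀ g ∈ zpowers b, ∀ z ∈ Z, D.θ g z = z := by
    intro g hg z hz
    obtain ⟨k, rfl⟩ := (mem_powers_iff_mem_zpowers (x := b)).mpr hg
    exact D.θ_pow_of_fixed (hbZ z hz) k
  -- hence `b` has no fixed point on the module
  have hT : ∀ m, D.σ b m = m → m = 0 := by
    intro m hm
    by_contra hm0
    let Q : M → Prop := fun n => D.σ b n = n
    obtain ⟨L, hL⟩ := D.exists_isKernel Z Q hm0 hm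
    obtain ⟨-, ⟨n, hn0, hQn, hn⟩, -⟩ := id hL
    have hQr : ∀ z ∈ Z, ∀ k, Q k → Q (D.r z k) := fun z hz k hk => by
      show D.σ b (D.r z k) = D.r z k
      rw [D.comp, hbZ z hz, hk]
    obtain ⟨E, -, -, hES, hEsum, hEeq, hEfix, hEinj, -⟩ := D.kill hZc hZi hQr
      (fun x y (hx : D.σ b x = x) (hy : D.σ b y = y) => show D.σ b (x - y) = x - y by
        rw [map_sub, hx, hy]) hL
      (Finset.univ.filter fun g => g ∉ zpowers b) (fun h hh => by
        have hhb := (Finset.mem_filter.mp hh).2
        by_contra hall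
        push Not at hall
        refine hn0 (D.noFix Z hZn hZi hZb n fun z hz => hn z ?_)
        -- every element of `Z` is a commutator with `h`
        let c : Z → Z := fun t => ⟨t * (D.θ h t)⁻¹, mul_mem t.2 (inv_mem (hZi h t t.2))⟩
        have hc : Function.Surjective c := by
          refine Finite.surjective_of_injective fun a d had => ?_
          have e : D.θ h ((d : X)⁻¹ * a) = (d : X)⁻¹ * a := by
            rw [map_mul, map_inv]
            have h1 := congrArg (fun t : Z => (d : X)⁻¹ * (t : X) * D.θ h a) had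
            simpa [c, mul_assoc] using h1.symm
          exact Subtype.ext (inv_mul_eq_one.mp
            (hfpZ h hhb _ (mul_mem (inv_mem d.2) a.2) e)).symm
        obtain ⟨t, ht⟩ := hc ⟨z, hz⟩
        have h2 : (t : X) * (D.θ h t)⁻¹ = z := congrArg Subtype.val ht
        exact h2 ▸ hall t t.2)
    refine hn0 (hEinj n hQn hn ?_)
    have hterm : ∀ g ∈ Finset.univ.filter (fun g => g ∈ zpowers b), E g (D.σ g n) = E 1 n := by
      intro g hg
      have hgb := (Finset.mem_filter.mp hg).2
      rw [hEeq g fun z hz => hbfix g hgb z hz]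
      obtain ⟨k, rfl⟩ := (mem_powers_iff_mem_zpowers (x := b)).mpr hgb
      exact congrArg _ (D.σ_pow_of_fixed hQn k)
    have e := hEsum n
    rw [← Finset.sum_filter_add_sum_filter_not Finset.univ (fun g => g ∈ zpowers b),
      Finset.sum_congr rfl hterm,
      Finset.sum_eq_zero (s := Finset.univ.filter fun g => ¬g ∈ zpowers b) (fun g hg => hES g hg _),
      add_zero, Finset.sum_const, ← Fintype.card_subtype] at e
    have hcz : Fintype.card {g // g ∈ zpowers b} = p := by
      rw [← Nat.card_eq_fintype_card]; exact zpowers_card hA hb1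
    rw [hcz] at e
    exact AddMonoid.addOrderOf_eq_one_iff.mp (Nat.eq_one_of_dvd_coprimes
      (hcopM.coprime_dvd_right (hcard ▸ dvd_pow_self p two_ne_zero))
      (addOrderOf_dvd_of_nsmul_eq_zero card_nsmul_eq_zero') (addOrderOf_dvd_of_nsmul_eq_zero e))
  -- hence `b` centralises the Fitting subgroup
  generalize hFd : fittingSubgroup X = F at hco
  haveI : F.Normal := hFd ▸ inferInstance
  have hFi : ∀ g, ∀ y ∈ F, D.θ g y ∈ F := fun g y hy => by
    rw [← hFd] at hy ⊢
    exact (map_equiv_fittingSubgroup (D.θ g)).le (mem_map_of_mem _ hy)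
  have hθb3 : D.θ b ^ p = 1 := by rw [← map_pow, hpow, map_one]
  have hFfix : ∀ n, ∀ U : Subgroup X, Nat.card U = n → U ≤ F → (∀ g, ∀ u ∈ U, D.θ g u ∈ U) →
      ∀ u ∈ U, D.θ b u = u := by
    intro n
    induction n using Nat.strong_induction_on with
    | _ n ih =>
    intro U hn hUF hU a ha
    subst hn
    rcases eq_or_ne U ⊥ with rfl | hUb
    · rw [mem_bot.mp ha, map_one]
    have hlt : ∀ K : Subgroup X, K ≤ U → (∀ g, ∀ u ∈ K, D.θ g u ∈ K) → K ≠ U → ∀ u ∈ K, D.θ b u = u := by
      intro K hK hKi hne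
      refine ih _ ?_ K rfl (hK.trans hUF) hKi
      by_contra hle
      exact hne (Subgroup.eq_of_le_of_card_ge hK (not_lt.mp hle))
    obtain ⟨K, hK⟩ : ∃ K, K = closure ((fun u => u⁻¹ * D.θ b u) '' (U : Set X)) := ⟨_, rfl⟩
    have hKU : K ≤ U := by
      rw [hK, closure_le]
      rintro _ ⟨u, hu, rfl⟩
      exact mul_mem (inv_mem hu) (hU b u hu)
    by_cases hne : K ≠ U
    · have hKi : ∀ g, ∀ u ∈ K, D.θ g u ∈ K := by
        intro g u hu
        have : K.map (D.θ g).toMonoidHom ≤ K := by
          rw [hK, MonoidHom.map_closure, closure_le]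
          rintro _ ⟨_, ⟨v, hv, rfl⟩, rfl⟩
          refine subset_closure ⟨D.θ g v, hU g v hv, ?_⟩
          show (D.θ g v)⁻¹ * D.θ b (D.θ g v) = D.θ g (v⁻¹ * D.θ b v)
          rw [map_mul, map_inv, ← D.θ_mul, hcomm b g, D.θ_mul]
        exact this (mem_map_of_mem _ hu)
      exact FPFSymThree.eq_of_fixed_diff hcopp (D.θ b) (mul_inv_cancel_left a (D.θ b a)).symm
        (hlt K hKU hKi hne _ (hK.symm ▸ subset_closure ⟨a, ha, rfl⟩)) hθb3
    push Not at hne
    have hD : ⁅U, U⁆ < U := commutator_self_lt inferInstance hUb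
    have hDi : ∀ g, ∀ u ∈ ⁅U, U⁆, D.θ g u ∈ ⁅U, U⁆ := by
      intro g u hu
      have : (⁅U, U⁆).map (D.θ g).toMonoidHom ≤ ⁅U, U⁆ := by
        rw [map_commutator]
        have h' : U.map (D.θ g).toMonoidHom ≤ U := by
          rintro _ ⟨y, hy, rfl⟩; exact hU g y hy
        exact commutator_mono h' h'
      exact this (mem_map_of_mem _ hu)
    have hDf := hlt _ hD.le hDi hD.ne
    -- the fixed points of the other operators in `U` are trivial
    have hCh : ∀ h, h ∉ zpowers b → ∀ u ∈ U, D.θ h u = u → u = 1 := by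
      intro h hh u hu hhu
      let C : Subgroup X := U ⊓ MonoidHom.eqLocus (D.θ h).toMonoidHom (MonoidHom.id X)
      have hCm : ∀ y, y ∈ C ↔ y ∈ U ∧ D.θ h y = y := fun y => Iff.rfl
      have hCi : ∀ g, ∀ y ∈ C, D.θ g y ∈ C := fun g y hy => by
        rw [hCm] at hy ⊢
        exact ⟨hU g y hy.1, by rw [← D.θ_mul, hcomm h g, D.θ_mul, hy.2]⟩
      have hCab : ∀ c d : C, c * d = d * c := by
        rintro ⟨c, hc⟩ ⟨d, hd⟩
        refine Subtype.ext ?_
        have hmem : c * d * c⁻¹ * d⁻¹ ∈ ⁅U, U⁆ := commutator_mem_commutator hc.1 hd.1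
        have e : D.θ h (c * d * c⁻¹ * d⁻¹) = c * d * c⁻¹ * d⁻¹ := by
          have ec : D.θ h c = c := hc.2
          have ed : D.θ h d = d := hd.2
          rw [map_mul, map_mul, map_mul, map_inv, map_inv, ec, ed]
        have e1 := fixed_of_gen hA D.θ D.fixX hb1 hh (hDf _ hmem) e
        show c * d = d * c
        rw [mul_inv_eq_one, mul_inv_eq_iff_eq_mul] at e1
        exact e1
      letI : Fintype (zpowers b) := Fintype.ofFinite _
      let θC : zpowers b →* MulAut C :=
        { toFun := fun g =>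
            { toFun := fun y => ⟨D.θ g y, hCi g y y.2⟩
              invFun := fun y => ⟨D.θ (g : A)⁻¹ y, hCi _ y y.2⟩
              left_inv := fun y => Subtype.ext (by
                show D.θ (g : A)⁻¹ (D.θ g y) = y
                rw [← D.θ_mul, inv_mul_cancel, D.θ_one])
              right_inv := fun y => Subtype.ext (by
                show D.θ g (D.θ (g : A)⁻¹ y) = y
                rw [← D.θ_mul, mul_inv_cancel, D.θ_one])
              map_mul' := fun y w => Subtype.ext (map_mul _ _ _) }
          map_one' := MulEquiv.ext fun y => Subtype.ext (D.θ_one y)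
          map_mul' := fun g k => MulEquiv.ext fun y => Subtype.ext (D.θ_mul g k y) }
      let O : Ops (zpowers b) C M :=
        { r := D.r.comp C.subtype
          σ := D.σ.comp (zpowers b).subtype
          θ := θC
          comp := fun g y m => D.comp g y m
          norm := fun m => hT _ (by
            rw [map_sum]
            refine Fintype.sum_equiv (Equiv.mulLeft (⟨b, mem_zpowers b⟩ : zpowers b)) _ _ fun g => ?_
            show D.σ b (D.σ g m) = D.σ (b * g) m
            rw [D.σ_mul]) }
      have hfpf : ∀ g : zpowers b, g ≠ 1 → ∀ y : C, O.θ g y = y → y = 1 := by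
        intro g hg y hy
        have hg1 : (g : A) ≠ 1 := fun e => hg (Subtype.ext e)
        have hgz : zpowers (g : A) = zpowers b := Subgroup.eq_of_le_of_card_ge (zpowers_le.mpr g.2)
          (by rw [zpowers_card hA hg1, zpowers_card hA hb1])
        exact Subtype.ext (fixed_of_gen hA D.θ D.fixX hg1 (by rw [hgz]; exact hh)
          (congrArg Subtype.val hy) y.2.2)
      exact D.inj u fun m => O.trivial_of_fpf hCab
        (hco.coprime_dvd_right (card_dvd_of_le (inf_le_left.trans hUF))) hfpf ⟨u, hu, hhu⟩ m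
    -- the largest abelian quotient of `U`
    haveI : ((⁅U, U⁆ : Subgroup X).subgroupOf U).Normal :=
      normal_subgroupOf_of_le_normalizer (FPFSymThree.le_normalizer_commutator_self' U)
    let E := U ⧸ (⁅U, U⁆ : Subgroup X).subgroupOf U
    letI : CommGroup E :=
      { (inferInstance : Group E) with
        mul_comm := fun x y => by
          obtain ⟨x, rfl⟩ := QuotientGroup.mk_surjective x
          obtain ⟨y, rfl⟩ := QuotientGroup.mk_surjective y
          show ((x * y : U) : E) = ((y * x : U) : E)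
          rw [QuotientGroup.eq, mem_subgroupOf]
          have e : (((x * y)⁻¹ * (y * x) : U) : X) =
              (y : X)⁻¹ * (x : X)⁻¹ * (y : X)⁻¹⁻¹ * (x : X)⁻¹⁻¹ := by
            simp [mul_assoc]
          rw [e]
          exact commutator_mem_commutator (inv_mem y.2) (inv_mem x.2) }
    let θU : A →* MulAut U :=
      { toFun := fun g =>
          { toFun := fun y => ⟨D.θ g y, hU g y y.2⟩
            invFun := fun y => ⟨D.θ g⁻¹ y, hU _ y y.2⟩
            left_inv := fun y => Subtype.ext (by
              show D.θ g⁻¹ (D.θ g y) = y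
              rw [← D.θ_mul, inv_mul_cancel, D.θ_one])
            right_inv := fun y => Subtype.ext (by
              show D.θ g (D.θ g⁻¹ y) = y
              rw [← D.θ_mul, mul_inv_cancel, D.θ_one])
            map_mul' := fun y w => Subtype.ext (map_mul _ _ _) }
        map_one' := MulEquiv.ext fun y => Subtype.ext (D.θ_one y)
        map_mul' := fun g k => MulEquiv.ext fun y => Subtype.ext (D.θ_mul g k y) }
    have hmapD : ∀ g, ((⁅U, U⁆ : Subgroup X).subgroupOf U).map (θU g).toMonoidHom =
        (⁅U, U⁆ : Subgroup X).subgroupOf U := by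
      intro g
      refine eq_of_le_of_card_ge ?_
        (le_of_eq (card_map_of_injective (f := (θU g).toMonoidHom) (θU g).injective).symm)
      rintro _ ⟨y, hy, rfl⟩
      exact hDi g y hy
    let θE : A →* MulAut E :=
      { toFun := fun g => QuotientGroup.congr _ _ (θU g) (hmapD g)
        map_one' := MulEquiv.ext fun y => by
          obtain ⟨y, rfl⟩ := QuotientGroup.mk_surjective y
          show ((θU 1 y : U) : E) = _
          rw [map_one]; rfl
        map_mul' := fun g k => MulEquiv.ext fun y => by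
          obtain ⟨y, rfl⟩ := QuotientGroup.mk_surjective y
          show ((θU (g * k) y : U) : E) = ((θU g (θU k y) : U) : E)
          rw [map_mul]; rfl }
    have hEf : ∀ g, g ≠ 1 → ∀ y, θE g y = y → y = 1 := by
      intro g hg y hy
      by_cases hgb : g ∈ zpowers b
      · -- `b` has no fixed point, as `U` is generated by its commutators
        have hbfp : ∀ y : E, θE b y = y → y = 1 := by
          have hsurE : Function.Surjective fun t : E => t⁻¹ * θE b t := by
            let c : E →* E :=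
              { toFun := fun t => t⁻¹ * θE b t
                map_one' := by simp
                map_mul' := fun s t => by rw [map_mul, mul_inv]; exact mul_mul_mul_comm _ _ _ _ }
            have hle : U ≤ ((c.range.comap (QuotientGroup.mk' _)).map U.subtype) := by
              refine hne.ge.trans ?_
              rw [hK, closure_le]
              rintro _ ⟨u, hu, rfl⟩
              exact ⟨⟨u⁻¹ * D.θ b u, mul_mem (inv_mem hu) (hU b u hu)⟩,
                ⟨((⟨u, hu⟩ : U) : E), rfl⟩, rfl⟩
            intro t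
            obtain ⟨w, rfl⟩ := QuotientGroup.mk_surjective t
            obtain ⟨w', hw', hww⟩ := hle w.2
            obtain ⟨s, hs⟩ := hw'
            exact ⟨s, hs.trans (congrArg QuotientGroup.mk (Subtype.ext hww))⟩
          intro y hy
          refine Finite.injective_iff_surjective.mpr hsurE ?_
          show y⁻¹ * θE b y = 1⁻¹ * θE b 1
          rw [hy, inv_mul_cancel, map_one, inv_one, one_mul]
        refine hbfp y ?_
        have hgz : zpowers g = zpowers b := Subgroup.eq_of_le_of_card_ge (zpowers_le.mpr hgb)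
          (by rw [zpowers_card hA hg, zpowers_card hA hb1])
        obtain ⟨k, hk⟩ := (mem_powers_iff_mem_zpowers (x := g)).mpr (hgz.ge (mem_zpowers b))
        have hpk : ∀ k : ℕ, θE (g ^ k) y = y := by
          intro k
          induction k with
          | zero => rw [pow_zero, map_one, MulAut.one_apply]
          | succ k ihk => rw [pow_succ, map_mul, MulAut.mul_apply, hy, ihk]
        have e : g ^ k = b := hk
        rw [← e]; exact hpk k
      · obtain ⟨w, rfl⟩ := QuotientGroup.mk_surjective y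
        let θg : zpowers g →* MulAut U := θU.comp (zpowers g).subtype
        have hwD : (w : U)⁻¹ * θU g w ∈ (⁅U, U⁆ : Subgroup X).subgroupOf U :=
          QuotientGroup.eq.mp hy.symm
        obtain ⟨n, hn, hfx⟩ := FPFSymThree.exists_fixed_in_coset θg
          ((⁅U, U⁆ : Subgroup X).subgroupOf U) (fun k n hn => hDi k n hn)
          (by
            rw [zpowers_card hA hg]
            exact ((hcopp.coprime_dvd_left U.card_subgroup_dvd_card).coprime_dvd_left
              (Subgroup.card_subgroup_dvd_card _)).symm) inferInstance w (fun k => by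
            obtain ⟨i, hi⟩ := (mem_powers_iff_mem_zpowers (x := g)).mpr k.2
            have hpk : ∀ i : ℕ, θE (g ^ i) (w : E) = (w : E) := by
              intro i
              induction i with
              | zero => rw [pow_zero, map_one, MulAut.one_apply]
              | succ i ihi => rw [pow_succ, map_mul, MulAut.mul_apply, hy, ihi]
            have e : g ^ i = (k : A) := hi
            have e2 := hpk i
            rw [e] at e2
            exact QuotientGroup.eq.mp e2.symm)
        have h1 := hCh g hgb _ (w * n).2 (congrArg Subtype.val (hfx ⟨g, mem_zpowers g⟩))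
        have h2 : w = n⁻¹ := eq_inv_of_mul_eq_one_left (Subtype.ext h1)
        exact (QuotientGroup.eq_one_iff _).mpr (h2 ▸ inv_mem hn)
    have hall : ∀ y : E, y = 1 := eq_one_of_all_fpf hA θE
      ((hcopp.coprime_dvd_left U.card_subgroup_dvd_card).coprime_dvd_left
        (Subgroup.card_quotient_dvd_card _)) hEf
    exact absurd (le_antisymm hD.le fun u hu => (QuotientGroup.eq_one_iff (⟨u, hu⟩ : U)).mp
      (hall ((⟨u, hu⟩ : U) : E))) hD.ne
  -- hence `b` is trivial, and the other operators are fixed point free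
  have hball' : ∀ x, D.θ b x = x := by
    intro x
    refine FPFSymThree.eq_of_fixed_diff hcopp (D.θ b) (mul_inv_cancel_left x (D.θ b x)).symm
      (hFfix _ F rfl le_rfl hFi _ ?_) hθb3
    have hC : centralizer (F : Set X) ≤ F := by
      rw [← hFd]; exact Components.centralizer_fitting_le_of_isSolvable
    refine hC (mem_centralizer_iff.mpr fun f hf => ?_)
    have e := hFfix _ F rfl le_rfl hFi _ ((inferInstance : F.Normal).conj_mem f hf x)
    rw [map_mul, map_mul, map_inv, hFfix _ F rfl le_rfl hFi f hf] at e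
    calc f * (x⁻¹ * D.θ b x) = x⁻¹ * (x * f * x⁻¹) * D.θ b x := by group
      _ = x⁻¹ * (D.θ b x * f * (D.θ b x)⁻¹) * D.θ b x := by rw [e]
      _ = x⁻¹ * D.θ b x * f := by group
  obtain ⟨h, hh⟩ : ∃ h : A, h ∉ zpowers b := by
    by_contra hall
    push Not at hall
    have : zpowers b = ⊤ := (eq_top_iff' _).mpr hall
    have e := zpowers_card hA hb1
    rw [this, card_top, hcard] at e
    nlinarith [hp.two_le]
  exact FPFAut.isNilpotent_of_fpf
    (fun K _ _ p _ hp P h => CfsgLib.PLocal.hasNormalPComplement_glauberman hp P h) (D.θ h)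
    (fun x hx => fixed_of_gen hA D.θ D.fixX hb1 hh (hball' x) hx) hp
    (by rw [← map_pow, hpow, map_one])

theorem exists_chain {G : Type u} [Group G] [Finite G]
    (h : Group.IsNilpotent (G ⧸ fittingSubgroup G)) :
    ∃ F : Fin (2 + 1) → Subgroup G, F 0 = ⊥ ∧ F (Fin.last 2) = ⊤ ∧ Monotone F ∧
      (∀ i, (F i).Normal) ∧ ∀ i : Fin 2, ∃ k : ℕ, (F i.succ).lowerCentralSeries k ≤ F i.castSucc := by
  refine ⟨![⊥, fittingSubgroup G, ⊤], rfl, rfl, ?_, ?_, ?_⟩
  · refine Fin.monotone_iff_le_succ.mpr fun i => ?_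
    fin_cases i <;> simp
  · intro i; fin_cases i <;> simp <;> infer_instance
  · intro i
    fin_cases i
    · haveI := isNilpotent_fittingSubgroup G
      obtain ⟨k, hk⟩ := (Subgroup.isNilpotent_iff_lowerCentralSeries (S := fittingSubgroup G)).mp inferInstance
      exact ⟨k, le_of_eq hk⟩
    · obtain ⟨k, hk⟩ := _root_.nilpotent_iff_lowerCentralSeries.mp h
      refine ⟨k, ?_⟩
      show (⊤ : Subgroup G).lowerCentralSeries k ≤ fittingSubgroup G
      have e := lowerCentralSeries.map (QuotientGroup.mk' (fittingSubgroup G)) k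
      rw [hk, le_bot_iff, Subgroup.map_eq_bot_iff, QuotientGroup.ker_mk'] at e
      exact e

end CfsgLib.Core.Ward

namespace CfsgLib.Core.Ward

open Subgroup Cfsg OpSetup

theorem ward {G : Type u} [Group G] [Finite G] (hG : Group.IsSolvable G) {p : ℕ} (hp : p.Prime)
    (A : Subgroup (MulAut G)) (hA : Cfsg.IsElementaryAbelian p A) (hcard : Nat.card A = p ^ 2)
    (hfpf : ∀ g : G, (∀ a ∈ A, a g = g) → g = 1) : Group.IsNilpotent (G ⧸ fittingSubgroup G) := by
  haveI := Fact.mk hp
  letI : Fintype A := Fintype.ofFinite A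
  have hmod := (IsPGroup.of_card hcard).card_modEq_card_fixedPoints (α := G)
  haveI hsub : Subsingleton (MulAction.fixedPoints A G) := by
    refine ⟨fun x y => Subtype.ext ?_⟩
    rw [hfpf x fun a ha => x.2 ⟨a, ha⟩, hfpf y fun a ha => y.2 ⟨a, ha⟩]
  haveI : Nonempty (MulAction.fixedPoints A G) := ⟨⟨1, fun a => map_one (a : MulAut G)⟩⟩
  rw [Nat.card_unique (α := MulAction.fixedPoints A G)] at hmod
  have hnd : ¬ p ∣ Nat.card G := fun hd => hp.one_lt.ne'
    (Nat.dvd_one.mp ((Nat.modEq_zero_iff_dvd).mp (hmod.symm.trans ((Nat.modEq_zero_iff_dvd).mpr hd))))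
  have hcop : (Nat.card A).Coprime (Nat.card G) := by
    rw [hcard]
    exact ((hp.coprime_iff_not_dvd).mpr hnd).pow_left 2
  have hA' : IsPSq p A := by
    refine ⟨hp, ?_, ?_, hcard⟩
    · intro a b
      exact (hA.1.is_comm.comm a b)
    · intro a
      exact Subtype.ext (hA.2 a a.2)
  exact exists_nilpotent_quotient
    (fun X _ _ _ M _ _ D h1 h2 h3 _ => nilpotent_of_setup hA' D h1 h2 h3)
    A.subtype hG hcop fun g hg => hfpf g fun a ha => hg ⟨a, ha⟩

end CfsgLib.Core.Ward
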