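import Mathlib
import Cfsg.Agent.Lib.Core.MinNormal
import Cfsg.Agent.Lib.Core.Coprime
import Cfsg.Agent.Lib.Core.CriticalSubgroup
import Cfsg.Agent.Lib.Core.FrobeniusFree
import Cfsg.Agent.Lib.PGroups.Basic

/-!
# Fixed points in the commutator subgroup of a coprime automorphism of odd prime order

* `main`: for an automorphism `x` of odd prime order `p` of a solvable `p'`-group `H`, the fixed
  points of `x` in `[H, x]` lie in the subgroup generated by the fixed points in the `[h, x]`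
-/

set_option autoImplicit false
set_option linter.all false

namespace CfsgLib.Core.Flavell

open Subgroup
open scoped Pointwise commutatorElement

universe u

variable {H : Type u} [Group H]

/-- The fixed points. -/
def fixer (x : MulAut H) : Subgroup H := (x : H →* H).eqLocus (MonoidHom.id H)

/-- The subgroup generated by the `h⁻¹ xⁱ(h)`. -/
def Lh (x : MulAut H) (h : H) : Subgroup H := closure {c : H | ∃ i : ℕ, c = h⁻¹ * (x ^ i) h}

/-- The subgroup generated by the `h⁻¹ xⁱ(h)` with `h ∈ K`. -/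
def commOf (x : MulAut H) (K : Subgroup H) : Subgroup H :=
  closure {c : H | ∃ h ∈ K, ∃ i : ℕ, c = h⁻¹ * (x ^ i) h}

/-- The subgroup generated by the fixed points in the `[h, x]`. -/
def D (x : MulAut H) : Subgroup H := ⨆ h : H, Lh x h ⊓ fixer x

/-- Invariance. -/
def Inv (x : MulAut H) (K : Subgroup H) : Prop := ∀ k ∈ K, x k ∈ K

theorem mem_fixer {x : MulAut H} {h : H} : h ∈ fixer x ↔ x h = h := Iff.rfl

theorem pow_fixed {x : MulAut H} {h : H} (hh : x h = h) (i : ℕ) : (x ^ i) h = h := by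
  induction i with
  | zero => rfl
  | succ i ih => rw [pow_succ', MulAut.mul_apply, ih, hh]

theorem Inv.pow {x : MulAut H} {K : Subgroup H} (hK : Inv x K) (i : ℕ) {k : H} (hk : k ∈ K) :
    (x ^ i) k ∈ K := by
  induction i with
  | zero => exact hk
  | succ i ih => rw [pow_succ', MulAut.mul_apply]; exact hK _ ih

theorem inv_closure {x : MulAut H} {S : Set H} (h : ∀ s ∈ S, x s ∈ closure S) : Inv x (closure S) := by
  intro k hk
  have : closure S ≤ (closure S).comap x.toMonoidHom := (closure_le _).2 h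
  exact this hk

theorem Inv.map_eq [Finite H] {x : MulAut H} {K : Subgroup H} (hK : Inv x K) :
    K.map x.toMonoidHom = K :=
  eq_of_le_of_card_ge (by rintro _ ⟨k, hk, rfl⟩; exact hK k hk)
    (card_map_of_injective (f := x.toMonoidHom) x.injective).ge

theorem inv_of_map_le {x : MulAut H} {K : Subgroup H} (h : K.map x.toMonoidHom ≤ K) : Inv x K :=
  fun _ hk => h (mem_map_of_mem _ hk)

theorem inv_sup {x : MulAut H} {K L : Subgroup H} (hK : Inv x K) (hL : Inv x L) : Inv x (K ⊔ L) := by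
  intro k hk
  have : K ⊔ L ≤ (K ⊔ L).comap x.toMonoidHom :=
    sup_le (fun a ha => mem_sup_left (hK a ha)) fun a ha => mem_sup_right (hL a ha)
  exact this hk

theorem inv_inf {x : MulAut H} {K L : Subgroup H} (hK : Inv x K) (hL : Inv x L) : Inv x (K ⊓ L) :=
  fun k hk => ⟨hK k hk.1, hL k hk.2⟩

theorem inv_commutator [Finite H] {x : MulAut H} {K L : Subgroup H} (hK : Inv x K) (hL : Inv x L) :
    Inv x ⁅K, L⁆ :=
  inv_of_map_le (by rw [map_commutator, hK.map_eq, hL.map_eq])

theorem inv_fixer (x : MulAut H) : Inv x (fixer x) := fun k (hk : x k = k) => by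
  show x (x k) = x k
  rw [hk, hk]

theorem gen_succ (x : MulAut H) (g : H) (i : ℕ) :
    g⁻¹ * (x ^ (i + 1)) g = (g⁻¹ * x g) * x (g⁻¹ * (x ^ i) g) := by
  rw [map_mul, map_inv, pow_succ', MulAut.mul_apply, mul_assoc, mul_inv_cancel_left]

theorem gen_mem_Lh (x : MulAut H) (h : H) (i : ℕ) : h⁻¹ * (x ^ i) h ∈ Lh x h :=
  subset_closure ⟨i, rfl⟩

theorem inv_Lh (x : MulAut H) (h : H) : Inv x (Lh x h) := by
  refine inv_closure ?_
  rintro _ ⟨i, rfl⟩
  have h1 : x (h⁻¹ * (x ^ i) h) = (h⁻¹ * (x ^ 1) h)⁻¹ * (h⁻¹ * (x ^ (i + 1)) h) := by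
    rw [gen_succ x h i, pow_one, inv_mul_cancel_left]
  rw [h1]
  exact mul_mem (inv_mem (gen_mem_Lh x h 1)) (gen_mem_Lh x h (i + 1))

theorem gen_mem_commOf {x : MulAut H} {K : Subgroup H} {h : H} (hh : h ∈ K) (i : ℕ) :
    h⁻¹ * (x ^ i) h ∈ commOf x K := subset_closure ⟨h, hh, i, rfl⟩

theorem inv_commOf {x : MulAut H} {K : Subgroup H} (hK : Inv x K) : Inv x (commOf x K) := by
  refine inv_closure ?_
  rintro _ ⟨h, hh, i, rfl⟩
  have h1 : x (h⁻¹ * (x ^ i) h) = (x h)⁻¹ * (x ^ i) (x h) := by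
    rw [map_mul, map_inv, ← MulAut.mul_apply, ← MulAut.mul_apply, ← pow_succ, ← pow_succ']
  rw [h1]
  exact gen_mem_commOf (hK h hh) i

theorem commOf_le {x : MulAut H} {K : Subgroup H} (hK : Inv x K) : commOf x K ≤ K := by
  rw [commOf, closure_le]
  rintro _ ⟨h, hh, i, rfl⟩
  exact mul_mem (inv_mem hh) (hK.pow i hh)

theorem commOf_conj_mem {x : MulAut H} {K : Subgroup H} {g c : H} (hg : g ∈ K)
    (hc : c ∈ commOf x K) : g * c * g⁻¹ ∈ commOf x K := by
  have : commOf x K ≤ (commOf x K).comap (MulAut.conj g).toMonoidHom := by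
    rw [commOf, closure_le]
    rintro _ ⟨h, hh, i, rfl⟩
    show g * (h⁻¹ * (x ^ i) h) * g⁻¹ ∈ commOf x K
    have h1 : g * (h⁻¹ * (x ^ i) h) * g⁻¹ =
        ((h * g⁻¹)⁻¹ * (x ^ i) (h * g⁻¹)) * ((g⁻¹)⁻¹ * (x ^ i) g⁻¹)⁻¹ := by
      rw [map_mul, map_inv]; group
    rw [h1]
    exact mul_mem (gen_mem_commOf (mul_mem hh (inv_mem hg)) i)
      (inv_mem (gen_mem_commOf (inv_mem hg) i))
  exact this hc

theorem Lh_le_commOf_top (x : MulAut H) (h : H) : Lh x h ≤ commOf x ⊤ := by
  rw [Lh, closure_le]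
  rintro _ ⟨i, rfl⟩
  exact gen_mem_commOf (mem_top h) i

theorem mem_D {x : MulAut H} {g c : H} (hc : c ∈ Lh x g) (hf : x c = c) : c ∈ D x :=
  mem_iSup_of_mem g ⟨hc, hf⟩

variable [Finite H] {p : ℕ}

theorem orderOf_coprime (hcop : (Nat.card H).Coprime p) (a : H) : p.Coprime (orderOf a) :=
  hcop.symm.coprime_dvd_right (orderOf_dvd_natCard a)

theorem mem_of_pow_mem (hcop : (Nat.card H).Coprime p) {M : Subgroup H} {a : H} (h : a ^ p ∈ M) :
    a ∈ M := by
  obtain ⟨m, hm⟩ := exists_pow_eq_self_of_coprime (orderOf_coprime hcop a)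
  rw [← hm]
  exact pow_mem h m

/-- The generators of `[g, x]` lie in `[K, x]` as soon as they lie in `K`. -/
theorem gen_mem_commOf_of_mem {x : MulAut H} (hxp : x ^ p = 1) (hcop : (Nat.card H).Coprime p)
    {K : Subgroup H} (hK : Inv x K) {g : H} (hg : ∀ i : ℕ, g⁻¹ * (x ^ i) g ∈ K) (i : ℕ) :
    g⁻¹ * (x ^ i) g ∈ commOf x K := by
  have key : ∀ j : ℕ, ((g⁻¹ * x g) ^ j)⁻¹ * (g⁻¹ * (x ^ j) g) ∈ commOf x K := by
    intro j
    induction j with
    | zero => simp
    | succ j ih =>
      have hm : (g⁻¹ * (x ^ j) g)⁻¹ * x (g⁻¹ * (x ^ j) g) ∈ commOf x K := by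
        have := gen_mem_commOf (x := x) (hg j) 1
        rwa [pow_one] at this
      have h1 : ((g⁻¹ * x g) ^ (j + 1))⁻¹ * (g⁻¹ * (x ^ (j + 1)) g) =
          (((g⁻¹ * x g) ^ j)⁻¹ * (g⁻¹ * (x ^ j) g)) *
            ((g⁻¹ * (x ^ j) g)⁻¹ * x (g⁻¹ * (x ^ j) g)) := by
        rw [gen_succ, pow_succ', _root_.mul_inv_rev]
        group
      rw [h1]
      exact mul_mem ih hm
  have h1 : g⁻¹ * x g ∈ commOf x K := by
    refine mem_of_pow_mem hcop ?_
    have := key p
    rw [hxp, MulAut.one_apply, inv_mul_cancel, mul_one] at this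
    exact inv_mem_iff.1 this
  have := mul_mem (pow_mem h1 i) (key i)
  rwa [mul_inv_cancel_left] at this

theorem commOf_commOf {x : MulAut H} (hxp : x ^ p = 1) (hcop : (Nat.card H).Coprime p) :
    commOf x ⊤ ≤ commOf x (commOf x ⊤) := by
  have hinv : Inv x (commOf x (⊤ : Subgroup H)) := inv_commOf fun k _ => mem_top _
  rw [commOf, closure_le]
  rintro _ ⟨h, -, i, rfl⟩
  exact gen_mem_commOf_of_mem hxp hcop hinv (fun j => gen_mem_commOf (mem_top h) j) i

variable [hp : Fact p.Prime]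

/-- An invariant coset of an invariant subgroup has a fixed element. -/
theorem fixed_in_coset {x : MulAut H} (hxp : x ^ p = 1) (hcop : (Nat.card H).Coprime p)
    {N : Subgroup H} (hN : Inv x N) {k : H} (hk : k⁻¹ * x k ∈ N) : ∃ n ∈ N, x (k * n) = k * n := by
  classical
  haveI := Fintype.ofFinite N
  let f : N → N := fun n => ⟨k⁻¹ * x (k * n), by
    rw [map_mul, ← mul_assoc]
    exact mul_mem hk (hN _ n.2)⟩
  have hf : Function.Injective f := fun a b h => by
    have := mul_left_cancel (congrArg Subtype.val h : k⁻¹ * x (k * a) = k⁻¹ * x (k * b))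
    exact Subtype.ext (mul_left_cancel (x.injective this))
  let σ : Equiv.Perm N := Equiv.ofBijective f (Finite.injective_iff_bijective.1 hf)
  have hσ : ∀ (j : ℕ) (n : N), (((σ ^ j) n : N) : H) = k⁻¹ * (x ^ j) (k * n) := by
    intro j
    induction j with
    | zero => intro n; simp
    | succ j ih =>
      intro n
      rw [pow_succ', Equiv.Perm.mul_apply]
      show k⁻¹ * x (k * ((σ ^ j) n : N)) = _
      rw [ih, mul_inv_cancel_left, pow_succ', MulAut.mul_apply]
  have hσp : σ ^ p ^ 1 = 1 := Equiv.ext fun n => Subtype.ext (by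
    rw [pow_one, hσ, hxp, MulAut.one_apply, inv_mul_cancel_left]; rfl)
  have hdvd : ¬ p ∣ Fintype.card N := by
    rw [← Nat.card_eq_fintype_card]
    intro h
    exact hp.out.ne_one
      (Nat.Coprime.eq_one_of_dvd hcop.symm (h.trans (card_subgroup_dvd_card N)))
  obtain ⟨n, hn⟩ := Equiv.Perm.exists_fixed_point_of_prime hdvd hσp
  refine ⟨n, n.2, ?_⟩
  have h1 : k⁻¹ * x (k * (n : H)) = n := congrArg Subtype.val hn
  rwa [inv_mul_eq_iff_eq_mul] at h1

/-- An invariant Sylow subgroup. -/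
theorem exists_inv_sylow {x : MulAut H} (hxp : x ^ p = 1) (hcop : (Nat.card H).Coprime p) (r : ℕ)
    [Fact r.Prime] : ∃ R : Sylow r H, Inv x (R : Subgroup H) := by
  classical
  haveI := Fintype.ofFinite (Sylow r H)
  let σ : Equiv.Perm (Sylow r H) := MulAction.toPermHom (MulAut H) (Sylow r H) x
  have hσp : σ ^ p ^ 1 = 1 := by rw [pow_one, ← map_pow, hxp, map_one]
  obtain ⟨R₀⟩ := (Sylow.nonempty : Nonempty (Sylow r H))
  have hdvd : ¬ p ∣ Fintype.card (Sylow r H) := by
    rw [← Nat.card_eq_fintype_card]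
    intro h
    exact hp.out.ne_one (Nat.Coprime.eq_one_of_dvd hcop.symm
      ((h.trans R₀.card_dvd_index).trans (index_dvd_card _)))
  obtain ⟨R, hR⟩ := Equiv.Perm.exists_fixed_point_of_prime hdvd hσp
  refine ⟨R, fun k hk => ?_⟩
  have h : x • R = R := hR
  have h2 : x • k ∈ x • (R : Subgroup H) := Subgroup.smul_mem_pointwise_smul k x _ hk
  rw [← Sylow.pointwise_smul_def, h] at h2
  exact h2

/-- A homomorphism to an abelian group invariant under `x` is trivial if `[H, x] = H`. -/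
theorem hom_trivial {x : MulAut H} (htop : commOf x ⊤ = ⊤) {A : Type*} [CommGroup A] (F : H →* A)
    (hF : ∀ h, F (x h) = F h) (h : H) : F h = 1 := by
  have hFi : ∀ (i : ℕ) (k : H), F ((x ^ i) k) = F k := by
    intro i
    induction i with
    | zero => intro k; rfl
    | succ i ih => intro k; rw [pow_succ', MulAut.mul_apply, hF, ih]
  have hle : commOf x ⊤ ≤ F.ker := by
    rw [commOf, closure_le]
    rintro _ ⟨k, -, i, rfl⟩
    show F _ = 1
    rw [map_mul, map_inv, hFi, inv_mul_cancel]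
  exact hle (htop.ge (mem_top h))

/-- If `[H, x] = H` the fixed points lie in the derived group. -/
theorem mem_commutator_of_fixed {x : MulAut H} (hxp : x ^ p = 1) (hcop : (Nat.card H).Coprime p)
    (htop : commOf x ⊤ = ⊤) {v : H} (hv : x v = v) : v ∈ _root_.commutator H := by
  let F : H →* Abelianization H :=
    ∏ i ∈ Finset.range p, Abelianization.of.comp (x ^ i).toMonoidHom
  have hFap : ∀ k, F k = ∏ i ∈ Finset.range p, Abelianization.of ((x ^ i) k) := fun k => by
    simp [F, MonoidHom.finsetProd_apply]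
  have hp0 : p ≠ 0 := hp.out.ne_zero
  have hF : ∀ k, F (x k) = F k := by
    intro k
    rw [hFap, hFap]
    have h1 : ∀ i, (x ^ i) (x k) = (x ^ (i + 1)) k := fun i => by rw [pow_succ, MulAut.mul_apply]
    simp only [h1]
    obtain ⟨q, rfl⟩ : ∃ q, p = q + 1 := ⟨p - 1, by omega⟩
    rw [Finset.prod_range_succ, Finset.prod_range_succ' (fun i => Abelianization.of ((x ^ i) k)), hxp,
      pow_zero]
  have h1 := hom_trivial htop F hF v
  rw [hFap, Finset.prod_congr rfl (fun i _ => by rw [pow_fixed hv i]), Finset.prod_const,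
    Finset.card_range, ← map_pow] at h1
  have h2 : v ^ p ∈ _root_.commutator H := by
    rwa [← Abelianization.ker_of, MonoidHom.mem_ker]
  exact mem_of_pow_mem hcop h2

/-- The norm of an invariant abelian subgroup. -/
theorem exists_proj {x : MulAut H} (hxp : x ^ p = 1) {V : Subgroup H} (hV : Inv x V)
    (hVc : ∀ a ∈ V, ∀ b ∈ V, a * b = b * a) :
    ∃ π : V →* H, (∀ v, π v ∈ V) ∧ (∀ v, x (π v) = π v) ∧
      (∀ v : V, x (v : H) = v → π v = (v : H) ^ p) ∧
      (∀ v : V, π ⟨x v, hV v v.2⟩ = π v) ∧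
      (∀ K : Subgroup H, Inv x K → ∀ v : V, (v : H) ∈ K → π v ∈ K) ∧
      (∀ c, x c = c → ∀ v w : V, (w : H) = c * v * c⁻¹ → π w = c * π v * c⁻¹) := by
  classical
  letI : CommGroup V :=
    { (inferInstance : Group V) with mul_comm := fun a b => Subtype.ext (hVc a a.2 b b.2) }
  let xV : MulAut V := HH.res V x hV
  have hxV : ∀ (i : ℕ) (v : V), (((xV ^ i) v : V) : H) = (x ^ i) v := by
    intro i
    induction i with
    | zero => intro v; rfl
    | succ i ih =>
      intro v
      rw [pow_succ', MulAut.mul_apply]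
      show x (((xV ^ i) v : V) : H) = _
      rw [ih, pow_succ', MulAut.mul_apply]
  let F : V →* V := ∏ i ∈ Finset.range p, (xV ^ i).toMonoidHom
  have hFap : ∀ v, F v = ∏ i ∈ Finset.range p, (xV ^ i) v := fun v => by
    simp [F, MonoidHom.finsetProd_apply]
  have hxVp : xV ^ p = 1 := MulEquiv.ext fun v => Subtype.ext (by rw [hxV, hxp]; rfl)
  have hp0 : p ≠ 0 := hp.out.ne_zero
  have hshift : ∀ v : V, ∏ i ∈ Finset.range p, (xV ^ (i + 1)) v = F v := by
    intro v
    rw [hFap]
    obtain ⟨q, rfl⟩ : ∃ q, p = q + 1 := ⟨p - 1, by omega⟩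
    rw [Finset.prod_range_succ, Finset.prod_range_succ' (fun i => (xV ^ i) v), hxVp, pow_zero]
  have hfix : ∀ v, xV (F v) = F v := by
    intro v
    have h := hshift v
    conv_rhs => rw [← h]
    rw [hFap, map_prod]
    exact Finset.prod_congr rfl fun i _ => by rw [pow_succ', MulAut.mul_apply]
  refine ⟨V.subtype.comp F, fun v => (F v).2, fun v => congrArg Subtype.val (hfix v), ?_, ?_, ?_, ?_⟩
  · intro v hv
    show ((F v : V) : H) = _
    have h1 : ∀ i, (xV ^ i) v = v := fun i => Subtype.ext (by rw [hxV, pow_fixed hv])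
    rw [hFap, Finset.prod_congr rfl (fun i _ => h1 i), Finset.prod_const, Finset.card_range,
      SubgroupClass.coe_pow]
  · intro v
    show ((F (⟨x v, hV v v.2⟩ : V) : V) : H) = (F v : H)
    rw [← hshift v, hFap]
    exact congrArg Subtype.val (Finset.prod_congr rfl fun i _ => by rw [pow_succ, MulAut.mul_apply]; rfl)
  · intro K hK v hvK
    show ((F v : V) : H) ∈ K
    have : F v ∈ K.subgroupOf V := by
      rw [hFap]
      refine Subgroup.prod_mem _ fun i _ => ?_
      rw [mem_subgroupOf, hxV]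
      exact hK.pow i hvK
    exact this
  · intro c hc v w hw
    show ((F w : V) : H) = c * (F v : H) * c⁻¹
    have hpr : ∀ q : ℕ, ((∏ i ∈ Finset.range q, (xV ^ i) w : V) : H) =
        c * ((∏ i ∈ Finset.range q, (xV ^ i) v : V) : H) * c⁻¹ := by
      intro q
      induction q with
      | zero => simp
      | succ q ih =>
        rw [Finset.prod_range_succ, Finset.prod_range_succ, coe_mul, coe_mul, ih, hxV, hxV, hw,
          map_mul, map_mul, map_inv, pow_fixed hc]
        group
    rw [hFap, hFap]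
    exact hpr p

/-- A minimal normal invariant subgroup of an invariant subgroup. -/
theorem exists_min_abelian (x : MulAut H) [Group.IsSolvable H] {K : Subgroup H} (hK : Inv x K)
    (hne : K ≠ ⊥) :
    ∃ N : Subgroup H, N ≠ ⊥ ∧ N ≤ K ∧ Inv x N ∧ (∀ k ∈ K, ∀ n ∈ N, k * n * k⁻¹ ∈ N) ∧
      (∀ a ∈ N, ∀ b ∈ N, a * b = b * a) ∧ (∃ s : ℕ, s.Prime ∧ ∀ a ∈ N, a ^ s = 1) ∧
      ∀ M : Subgroup H, M ≤ N → Inv x M → (∀ k ∈ K, ∀ n ∈ M, k * n * k⁻¹ ∈ M) → M = ⊥ ∨ M = N := by
  obtain ⟨N, ⟨hN0, hNK, hNi, hNn⟩, hmin⟩ := WellFounded.has_min (wellFounded_lt (α := Subgroup H))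
    {N : Subgroup H | N ≠ ⊥ ∧ N ≤ K ∧ Inv x N ∧ ∀ k ∈ K, ∀ n ∈ N, k * n * k⁻¹ ∈ N}
    ⟨K, hne, le_rfl, hK, fun k hk n hn => mul_mem (mul_mem hk hn) (inv_mem hk)⟩
  have hmin' : ∀ M : Subgroup H, M ≤ N → Inv x M → (∀ k ∈ K, ∀ n ∈ M, k * n * k⁻¹ ∈ M) →
      M = ⊥ ∨ M = N := by
    intro M h1 h2 h3
    by_contra hcon
    push Not at hcon
    exact hmin M ⟨hcon.1, h1.trans hNK, h2, h3⟩ (lt_of_le_of_ne h1 hcon.2)
  have hcomm : ∀ a ∈ N, ∀ b ∈ N, a * b = b * a := by
    have hlt := commutator_self_lt (N := N) inferInstance hN0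
    have h3 : ∀ k ∈ K, ∀ n ∈ ⁅N, N⁆, k * n * k⁻¹ ∈ ⁅N, N⁆ := by
      intro k hk
      have hNm : N.map (MulAut.conj k).toMonoidHom ≤ N := by
        rintro _ ⟨a, ha, rfl⟩; exact hNn k hk a ha
      have hle : ⁅N, N⁆.map (MulAut.conj k).toMonoidHom ≤ ⁅N, N⁆ := by
        rw [map_commutator]; exact commutator_mono hNm hNm
      exact fun n hn => hle (mem_map_of_mem _ hn)
    rcases hmin' ⁅N, N⁆ hlt.le (inv_commutator hNi hNi) h3 with h | h
    · intro a ha b hb
      exact commutatorElement_eq_one_iff_mul_comm.1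
        ((Subgroup.eq_bot_iff_forall _).1 h _ (commutator_mem_commutator ha hb))
    · exact absurd h hlt.ne
  obtain ⟨s, hs, hsd⟩ := Nat.exists_prime_and_dvd (n := Nat.card N) fun h => hN0 (card_eq_one.mp h)
  haveI := Fact.mk hs
  let M : Subgroup H :=
    { carrier := {a | a ∈ N ∧ a ^ s = 1}
      one_mem' := ⟨one_mem N, one_pow s⟩
      mul_mem' := fun {a b} ha hb => ⟨mul_mem ha.1 hb.1, by
        rw [(show Commute a b from hcomm a ha.1 b hb.1).mul_pow, ha.2, hb.2, one_mul]⟩
      inv_mem' := fun {a} ha => ⟨inv_mem ha.1, by rw [inv_pow, ha.2, inv_one]⟩ }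
  rcases hmin' M (fun a ha => ha.1) (fun a ha => ⟨hNi a ha.1, by rw [← map_pow, ha.2, map_one]⟩)
    (fun k hk a ha => ⟨hNn k hk a ha.1, by rw [conj_pow, ha.2, mul_one, mul_inv_cancel]⟩) with h | h
  · obtain ⟨a, ha⟩ := exists_prime_orderOf_dvd_card' (G := N) s hsd
    have haM : (a : H) ∈ M := ⟨a.2, by rw [← ha, ← orderOf_coe, pow_orderOf_eq_one]⟩
    rw [h, mem_bot] at haM
    rw [← orderOf_coe, haM, orderOf_one] at ha
    exact absurd ha.symm hs.ne_one
  · exact ⟨N, hN0, hNK, hNi, hNn, hcomm, ⟨s, hs, fun a ha => (h.ge ha).2⟩, hmin'⟩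

/-- A central element of a Sylow subgroup in the derived group lies in the derived group of the
Sylow subgroup. -/
theorem central_mem_sylow_commutator {r : ℕ} [Fact r.Prime] (R : Sylow r H) {z : H}
    (hz : z ∈ center H) (hzc : z ∈ _root_.commutator H) (hzR : z ∈ (R : Subgroup H)) :
    z ∈ ⁅(R : Subgroup H), (R : Subgroup H)⁆ := by
  classical
  let S := (R : Subgroup H)
  let φ : S →* Abelianization S := Abelianization.of
  have key : ∀ (k : ℕ) (g₀ : H), g₀⁻¹ * z ^ k * g₀ ∈ S → g₀⁻¹ * z ^ k * g₀ = z ^ k := by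
    intro k g₀ _
    rw [mul_assoc, ← mem_center_iff.1 (pow_mem hz k) g₀, inv_mul_cancel_left]
  have h1 := MonoidHom.transfer_eq_pow φ z key
  have h2 : MonoidHom.transfer φ z = 1 := Abelianization.commutator_subset_ker _ hzc
  rw [h2] at h1
  have h3 : (⟨z ^ S.index, MonoidHom.transfer_eq_pow_aux z key⟩ : S) ∈ _root_.commutator S := by
    rw [← Abelianization.ker_of, MonoidHom.mem_ker]
    exact h1.symm
  have h4 : z ^ S.index ∈ ⁅S, S⁆ := by
    have := mem_map_of_mem S.subtype h3
    rwa [map_subtype_commutator] at this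
  obtain ⟨j, hj⟩ := R.2 ⟨z, hzR⟩
  have hco : S.index.Coprime (orderOf z) := by
    refine Nat.Coprime.coprime_dvd_right
      (orderOf_dvd_of_pow_eq_one (show z ^ r ^ j = 1 from congrArg Subtype.val hj)) ?_
    exact (((Fact.out : r.Prime).coprime_iff_not_dvd.2 R.not_dvd_index).symm).pow_right j
  obtain ⟨m, hm⟩ := exists_pow_eq_self_of_coprime hco
  rw [← hm]
  exact pow_mem h4 m

/-- The inductive hypothesis. -/
def Claim (p : ℕ) (n : ℕ) : Prop :=
  ∀ (H : Type u) [Group H] [Finite H], Nat.card H < n → Group.IsSolvable H →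
    (Nat.card H).Coprime p → ∀ x : MulAut H, x ^ p = 1 → commOf x ⊤ ⊓ fixer x ≤ D x

variable {n : ℕ} (IH : Claim.{u} p n) (hn : Nat.card H = n) [hsol : Group.IsSolvable H]
  (hcop : (Nat.card H).Coprime p) {x : MulAut H} (hxp : x ^ p = 1)

include IH hn hcop hxp

theorem claim_subgroup {K : Subgroup H} (hK : Inv x K) (hne : K ≠ ⊤) :
    commOf x K ⊓ fixer x ≤ D x := by
  let xK : MulAut K := HH.res K x hK
  have hxK : ∀ (i : ℕ) (k : K), (((xK ^ i) k : K) : H) = (x ^ i) k := by
    intro i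
    induction i with
    | zero => intro k; rfl
    | succ i ih =>
      intro k
      rw [pow_succ', MulAut.mul_apply]
      show x (((xK ^ i) k : K) : H) = _
      rw [ih, pow_succ', MulAut.mul_apply]
  have hlt : Nat.card K < n := by
    rw [← hn]
    exact lt_of_le_of_ne (card_le_card_group K) fun h => hne (eq_top_of_card_eq K h)
  have h := IH K hlt inferInstance (hcop.coprime_dvd_left (card_subgroup_dvd_card K)) xK
    (MulEquiv.ext fun k => Subtype.ext (by rw [hxK, hxp]; rfl))
  rintro c ⟨hc, hcf⟩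
  have hcK : c ∈ K := commOf_le hK hc
  have hmap : ∀ S : Set K, (closure S).map K.subtype = closure (K.subtype '' S) := fun S =>
    MonoidHom.map_closure _ _
  have hc' : (⟨c, hcK⟩ : K) ∈ commOf xK ⊤ := by
    have h1 : commOf x K ≤ (commOf xK ⊤).map K.subtype := by
      rw [commOf, closure_le]
      rintro _ ⟨k, hk, i, rfl⟩
      exact ⟨(⟨k, hk⟩ : K)⁻¹ * (xK ^ i) ⟨k, hk⟩, gen_mem_commOf (mem_top _) i,
        by simp [hxK]⟩
    obtain ⟨y, hy, hyc⟩ := h1 hc
    rwa [show (⟨c, hcK⟩ : K) = y from Subtype.ext hyc.symm]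
  have hD : (D xK).map K.subtype ≤ D x := by
    rw [D, Subgroup.map_iSup]
    refine iSup_le fun k => ?_
    rintro _ ⟨y, ⟨hy1, hy2⟩, rfl⟩
    refine mem_D (g := (k : H)) ?_ (congrArg Subtype.val (show xK y = y from hy2))
    have h1 : (Lh xK k).map K.subtype ≤ Lh x (k : H) := by
      rw [Lh, hmap, closure_le]
      rintro _ ⟨_, ⟨i, rfl⟩, rfl⟩
      show ((k⁻¹ * (xK ^ i) k : K) : H) ∈ _
      rw [coe_mul, coe_inv, hxK]
      exact gen_mem_Lh x _ i
    exact h1 (mem_map_of_mem _ hy1)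
  exact hD ⟨⟨c, hcK⟩, h ⟨hc', Subtype.ext hcf⟩, rfl⟩

theorem claim_quotient (htop : commOf x ⊤ = ⊤) {W : Subgroup H} [W.Normal] (hW : Inv x W)
    (hW0 : W ≠ ⊥) : fixer x ≤ D x ⊔ (W ⊓ fixer x) := by
  let xQ : MulAut (H ⧸ W) := QuotientGroup.congr W W x hW.map_eq
  have hxQ : ∀ (i : ℕ) (k : H), (xQ ^ i) (k : H ⧸ W) = (((x ^ i) k : H) : H ⧸ W) := by
    intro i k
    induction i with
    | zero => rfl
    | succ i ih => rw [pow_succ', MulAut.mul_apply, ih, pow_succ', MulAut.mul_apply]; rfl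
  have hlt : Nat.card (H ⧸ W) < n := by
    rw [← hn, W.card_eq_card_quotient_mul_card_subgroup]
    exact lt_mul_of_one_lt_right Nat.card_pos (W.one_lt_card_iff_ne_bot.2 hW0)
  have h := IH (H ⧸ W) hlt inferInstance
    (hcop.coprime_dvd_left (card_quotient_dvd_card W)) xQ
    (MulEquiv.ext fun k => by
      induction k using QuotientGroup.induction_on with
      | H k => rw [hxQ, hxp]; rfl)
  have hcomm : ∀ k : H, (k : H ⧸ W) ∈ commOf xQ ⊤ := by
    intro k
    have h1 : commOf x ⊤ ≤ (commOf xQ ⊤).comap (QuotientGroup.mk' W) := by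
      rw [commOf, closure_le]
      rintro _ ⟨k, -, i, rfl⟩
      rw [SetLike.mem_coe, mem_comap, QuotientGroup.mk'_apply, QuotientGroup.mk_mul, QuotientGroup.mk_inv,
        ← hxQ]
      exact gen_mem_commOf (mem_top _) i
    exact h1 (htop.ge (mem_top k))
  have hD : D xQ ≤ (D x).map (QuotientGroup.mk' W) := by
    refine iSup_le fun gb => ?_
    induction gb using QuotientGroup.induction_on with
    | H g =>
      rintro yb ⟨hy1, hy2⟩
      have h1 : Lh xQ (g : H ⧸ W) ≤ (Lh x g).map (QuotientGroup.mk' W) := by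
        rw [Lh, closure_le]
        rintro _ ⟨i, rfl⟩
        refine ⟨g⁻¹ * (x ^ i) g, gen_mem_Lh x g i, ?_⟩
        show ((g⁻¹ * (x ^ i) g : H) : H ⧸ W) = _
        rw [QuotientGroup.mk_mul, QuotientGroup.mk_inv, ← hxQ]
      obtain ⟨y, hy, rfl⟩ := h1 hy1
      have hyW : y⁻¹ * x y ∈ W ⊓ Lh x g := by
        refine Subgroup.mem_inf.2 ⟨QuotientGroup.eq.1 ?_, mul_mem (inv_mem hy) (inv_Lh x g y hy)⟩
        have : xQ (y : H ⧸ W) = (y : H ⧸ W) := hy2
        exact this.symm
      obtain ⟨w, hw, hfix⟩ := fixed_in_coset hxp hcop (inv_inf hW (inv_Lh x g)) hyW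
      refine ⟨y * w, mem_D (mul_mem hy hw.2) hfix, ?_⟩
      show ((y * w : H) : H ⧸ W) = (y : H ⧸ W)
      rw [QuotientGroup.mk_mul, (QuotientGroup.eq_one_iff w).2 hw.1, mul_one]
  intro c hc
  obtain ⟨d, hd, hdc⟩ := hD (h ⟨hcomm c, by
    show xQ (c : H ⧸ W) = (c : H ⧸ W)
    have := hxQ 1 c
    rw [pow_one, pow_one, show x c = c from hc] at this
    exact this⟩)
  have hdf : x d = d := by
    have : D x ≤ fixer x := iSup_le fun _ => inf_le_right
    exact this hd
  have hw : d⁻¹ * c ∈ W ⊓ fixer x :=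
    Subgroup.mem_inf.2 ⟨QuotientGroup.eq.1 hdc, mul_mem (inv_mem (show d ∈ fixer x from hdf)) hc⟩
  have := mul_mem (mem_sup_left (T := W ⊓ fixer x) hd) (mem_sup_right (S := D x) hw)
  rwa [mul_inv_cancel_left] at this

/-- The nilpotent case. -/
theorem claim_nilpotent {r : ℕ} [Fact r.Prime] (hH : IsPGroup r H) [Nontrivial H]
    (hp2 : p ≠ 2) (htop : commOf x ⊤ = ⊤) (hno : ∀ g, Lh x g ≠ ⊤) : fixer x ≤ D x := by
  classical
  haveI := hH.isNilpotent
  set Γ : ℕ → Subgroup H := fun i => (⊤ : Subgroup H).lowerCentralSeries i with hΓ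
  have hex : ∃ i, Γ i = ⊥ := Subgroup.nilpotent_iff_lowerCentralSeries.1 inferInstance
  obtain ⟨m, hm⟩ : ∃ m, Nat.find hex = m + 1 := by
    refine ⟨Nat.find hex - 1, (Nat.succ_pred_eq_of_pos (Nat.pos_of_ne_zero fun h => ?_)).symm⟩
    have := Nat.find_spec hex
    rw [h] at this
    exact top_ne_bot this
  have hW0 : Γ m ≠ ⊥ := Nat.find_min hex (by omega)
  have hW1 : Γ (m + 1) = ⊥ := hm ▸ Nat.find_spec hex
  have hsucc : ∀ i, Γ (i + 1) = ⁅Γ i, (⊤ : Subgroup H)⁆ := fun i => Subgroup.lowerCentralSeries_succ _ i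
  have hinv : ∀ i, Inv x (Γ i) := by
    intro i
    induction i with
    | zero => exact fun k _ => mem_top _
    | succ i ih => rw [hsucc]; exact inv_commutator ih fun k _ => mem_top _
  have hnorm : ∀ i, (Γ i).Normal := by
    intro i
    induction i with
    | zero => exact inferInstanceAs (⊤ : Subgroup H).Normal
    | succ i ih => rw [hsucc]; exact inferInstance
  haveI := hnorm m
  have hcen : ∀ w ∈ Γ m, ∀ k : H, k * w = w * k := by
    intro w hw k
    have h1 : ⁅w, k⁆ ∈ Γ (m + 1) := by rw [hsucc]; exact commutator_mem_commutator hw (mem_top k)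
    rw [hW1, mem_bot] at h1
    exact (commutatorElement_eq_one_iff_mul_comm.1 h1).symm
  obtain ⟨π, hπW, hπfix, hπpow, hπx, hπK, -⟩ :=
    exists_proj hxp (hinv m) fun a ha b _ => (hcen a ha b).symm
  suffices hgoal : ∀ w : Γ m, π w ∈ D x by
    refine (claim_quotient IH hn hcop hxp htop (hinv m) hW0).trans (sup_le le_rfl ?_)
    rintro w ⟨hw, hwf⟩
    refine mem_of_pow_mem hcop ?_
    have := hgoal ⟨w, hw⟩
    rwa [hπpow ⟨w, hw⟩ (show x w = w from hwf)] at this
  let U : Subgroup (Γ m) := (D x).comap π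
  suffices hU : ∀ w : Γ m, w ∈ U from hU
  -- elements of `[K, x]` project into `D`
  have hproj : ∀ K : Subgroup H, Inv x K → K ≠ ⊤ → ∀ w : Γ m, (w : H) ∈ commOf x K → π w ∈ D x :=
    fun K hK hKt w hw => claim_subgroup IH hn hcop hxp hK hKt
      ⟨hπK _ (inv_commOf hK) w hw, hπfix w⟩
  rcases Nat.eq_zero_or_pos m with rfl | hmpos
  · intro w
    show π w ∈ D x
    have h1 := mem_commutator_of_fixed hxp hcop htop (hπfix w)
    have hcb : _root_.commutator H = ⊥ := by
      rw [_root_.commutator_def, ← hW1, hsucc]; rfl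
    rw [hcb, mem_bot] at h1
    rw [h1]; exact one_mem _
  by_cases hm1 : m = 1
  · -- class two
    subst hm1
    have hmemW : ∀ a b : H, ⁅a, b⁆ ∈ Γ 1 := fun a b => by
      rw [show (1 : ℕ) = 0 + 1 from rfl, hsucc]
      exact commutator_mem_commutator (show a ∈ Γ 0 from mem_top a) (mem_top b)
    let cm : H → H → Γ 1 := fun a b => ⟨⁅a, b⁆, hmemW a b⟩
    let F : H → H → H := fun a b => π (cm a b)
    have hl : ∀ a b c, F (a * b) c = F a c * F b c := by
      intro a b c
      show π (cm (a * b) c) = π (cm a c) * π (cm b c)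
      rw [← map_mul]
      congr 1
      refine Subtype.ext ?_
      show ⁅a * b, c⁆ = ⁅a, c⁆ * ⁅b, c⁆
      calc ⁅a * b, c⁆ = a * ⁅b, c⁆ * a⁻¹ * ⁅a, c⁆ := by simp only [commutatorElement_def]; group
        _ = ⁅a, c⁆ * ⁅b, c⁆ := by
          rw [hcen _ (hmemW b c) a, mul_inv_cancel_right, hcen _ (hmemW b c) ⁅a, c⁆]
    have hswap : ∀ a b, F b a = (F a b)⁻¹ := fun a b => by
      show π (cm b a) = (π (cm a b))⁻¹
      rw [← map_inv]
      congr 1
      exact Subtype.ext (commutatorElement_inv a b).symm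
    have hr' : ∀ a b c, F a (b * c) = F a b * F a c := by
      intro a b c
      rw [hswap (b * c) a, hl, mul_inv_rev, ← hswap b a, ← hswap c a]
      refine hcen _ (hπW _) _
    have hx1 : ∀ a b, F (x a) (x b) = F a b := fun a b => by
      show π (cm (x a) (x b)) = π (cm a b)
      rw [← hπx (cm a b)]
      congr 1
      exact Subtype.ext (by simp [cm, commutatorElement_def])
    have hFi : ∀ a b, F a⁻¹ b = (F a b)⁻¹ := fun a b => by
      refine eq_inv_of_mul_eq_one_left ?_
      rw [← hl, inv_mul_cancel]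
      show π (cm 1 b) = 1
      rw [show cm 1 b = 1 from Subtype.ext (commutatorElement_one_left b), map_one]
    have hFir : ∀ a b, F a b⁻¹ = (F a b)⁻¹ := fun a b => by
      rw [hswap b⁻¹ a, hFi, ← hswap b a]
    have haa : ∀ a, F a a = 1 := fun a => by
      show π (cm a a) = 1
      rw [show cm a a = 1 from Subtype.ext (commutatorElement_self a), map_one]
    have hcom : ∀ a b c d, F a b * F c d = F c d * F a b := fun a b c d => hcen _ (hπW _) _
    -- the values `F(a, xⁱ a)` lie in `D`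
    have hsq : ∀ a, F a (x a) ∈ D x := by
      intro a
      set c : ℕ → H := fun i => a⁻¹ * (x ^ i) a with hc
      have hLD : ∀ i j, F (c i) (c j) ∈ D x := by
        intro i j
        refine mem_D (g := a) ?_ (hπfix _)
        refine hπK _ (inv_Lh x a) _ ?_
        exact mul_mem (mul_mem (mul_mem (gen_mem_Lh x a i) (gen_mem_Lh x a j))
          (inv_mem (gen_mem_Lh x a i))) (inv_mem (gen_mem_Lh x a j))
      have key : ∀ k : ℕ, ((F a (x a)) ^ k)⁻¹ * F a ((x ^ k) a) ∈ D x := by
        intro k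
        induction k with
        | zero => simp [haa]
        | succ k ih =>
          have hd : F (c 1) (c (k + 1)) =
              (F a ((x ^ (k + 1)) a))⁻¹ * (F a (x a) * F a ((x ^ k) a)) := by
            show F (a⁻¹ * (x ^ 1) a) (a⁻¹ * (x ^ (k + 1)) a) = _
            rw [hl, hr', hr', pow_one, hFi a a⁻¹, hFir a a, haa, inv_one, inv_one, one_mul, hFi,
              hFir (x a) a, ← hswap (x a) a, pow_succ' x k, MulAut.mul_apply, hx1]
          have := mul_mem ih (inv_mem (hd ▸ hLD 1 (k + 1)))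
          convert this using 1
          rw [_root_.mul_inv_rev, _root_.mul_inv_rev, inv_inv, pow_succ, _root_.mul_inv_rev]
          set e := F a (x a)
          set f := F a ((x ^ k) a)
          set g := F a ((x ^ (k + 1)) a)
          have h1 : Commute e f := hcom _ _ _ _
          calc e⁻¹ * (e ^ k)⁻¹ * g = (e ^ k)⁻¹ * e⁻¹ * g := by
                rw [((Commute.refl e).inv_left.pow_right k).inv_right.eq]
            _ = (e ^ k)⁻¹ * f * (f⁻¹ * e⁻¹ * g) := by group
      refine mem_of_pow_mem hcop (inv_mem_iff.1 ?_)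
      have := key p
      rwa [hxp, MulAut.one_apply, haa, mul_one] at this
    have hpol : ∀ a b, F (a⁻¹ * (x ^ 2) a) (x b) ∈ D x := by
      intro a b
      have h1 := hsq (a * b)
      rw [map_mul, hl, hr', hr'] at h1
      have h3 : F a (x b) * F b (x a) ∈ D x := by
        have := mul_mem (mul_mem (inv_mem (hsq a)) h1) (inv_mem (hsq b))
        simpa [mul_assoc] using this
      have h4 : F (a⁻¹ * (x ^ 2) a) (x b) = (F a (x b) * F b (x a))⁻¹ := by
        rw [hl, hFi, pow_two, MulAut.mul_apply, hx1, hswap b (x a), _root_.mul_inv_rev]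
        exact ((show Commute (F a (x b)) (F b (x a)) from hcom _ _ _ _).inv_inv).eq
      rw [h4]
      exact inv_mem h3
    have hall : ∀ h b, F h b ∈ D x := by
      intro h b
      let S : Subgroup H :=
        { carrier := {h | F h b ∈ D x}
          one_mem' := by
            show F 1 b ∈ D x
            have : F 1 b = 1 := by
              show π (cm 1 b) = 1
              rw [show cm 1 b = 1 from Subtype.ext (commutatorElement_one_left b), map_one]
            rw [this]; exact one_mem _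
          mul_mem' := fun {u v} hu hv => by
            show F (u * v) b ∈ D x
            rw [hl]; exact mul_mem hu hv
          inv_mem' := fun {u} hu => by
            show F u⁻¹ b ∈ D x
            rw [hFi]; exact inv_mem hu }
      have h2 : ∀ a, a⁻¹ * (x ^ 2) a ∈ S := fun a => by
        show F _ b ∈ D x
        have := hpol a (x.symm b)
        rwa [x.apply_symm_apply] at this
      have h2k : ∀ (k : ℕ) (a : H), a⁻¹ * (x ^ (2 * k)) a ∈ S := by
        intro k
        induction k with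
        | zero => intro a; simp
        | succ k ihk =>
          intro a
          have e : a⁻¹ * (x ^ (2 * (k + 1))) a =
              (a⁻¹ * (x ^ 2) a) * (((x ^ 2) a)⁻¹ * (x ^ (2 * k)) ((x ^ 2) a)) := by
            rw [← MulAut.mul_apply, ← pow_add, mul_assoc, mul_inv_cancel_left]
            ring_nf
          rw [e]
          exact mul_mem (h2 a) (ihk _)
      have hle : commOf x ⊤ ≤ S := by
        rw [commOf, closure_le]
        rintro _ ⟨a, -, i, rfl⟩
        obtain ⟨q, hq⟩ : Odd p := hp.out.odd_of_ne_two hp2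
        have e : x ^ i = x ^ (2 * (i * (q + 1))) := by
          rw [show 2 * (i * (q + 1)) = i + p * i by rw [hq]; ring, pow_add, pow_mul, hxp, one_pow,
            mul_one]
        rw [e]
        exact h2k _ a
      exact hle (htop.ge (mem_top h))
    intro w
    have hle : (Γ 1) ≤ U.map (Γ 1).subtype := by
      refine (hsucc 0).le.trans ?_
      rw [commutator_le]
      intro a _ b _
      exact ⟨cm a b, hall a b, rfl⟩
    obtain ⟨u, hu, huw⟩ := hle w.2
    rwa [← Subtype.ext huw]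
  · -- class at least three
    obtain ⟨l, rfl⟩ : ∃ l, m = l + 2 := ⟨m - 2, by omega⟩
    have hmemW : ∀ g ∈ Γ (l + 1), ∀ a : H, ⁅g, a⁆ ∈ Γ (l + 2) := fun g hg a => by
      rw [hsucc]; exact commutator_mem_commutator hg (mem_top a)
    have hall : ∀ (g : H) (hg : g ∈ Γ (l + 1)) (a : H), (⟨⁅g, a⁆, hmemW g hg a⟩ : Γ (l + 2)) ∈ U := by
      intro g hg
      have hl : ∀ a b, (⟨⁅g, a * b⁆, hmemW g hg _⟩ : Γ (l + 2)) =
          ⟨⁅g, a⁆, hmemW g hg a⟩ * ⟨⁅g, b⁆, hmemW g hg b⟩ := by
        intro a b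
        refine Subtype.ext ?_
        show ⁅g, a * b⁆ = ⁅g, a⁆ * ⁅g, b⁆
        calc ⁅g, a * b⁆ = ⁅g, a⁆ * (a * ⁅g, b⁆ * a⁻¹) := by simp only [commutatorElement_def]; group
          _ = ⁅g, a⁆ * ⁅g, b⁆ := by rw [hcen _ (hmemW g hg b) a, mul_inv_cancel_right]
      let f : H →* Γ (l + 2) := MonoidHom.mk' (fun a => ⟨⁅g, a⁆, hmemW g hg a⟩) hl
      suffices h : commOf x ⊤ ≤ U.comap f from fun a => h (htop.ge (mem_top a))
      rw [commOf, closure_le]
      rintro _ ⟨h, -, i, rfl⟩
      set c := h⁻¹ * (x ^ i) h with hc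
      set K := Lh x h ⊔ Γ 1 with hK
      have hKi : Inv x K := inv_sup (inv_Lh x h) (hinv 1)
      have hKt : K ≠ ⊤ := by
        intro hKt
        refine hno h (frattini_nongenerating (top_le_iff.1 (hKt.ge.trans (sup_le_sup_left ?_ _))))
        rw [show (1 : ℕ) = 0 + 1 from rfl, hsucc]
        exact CfsgLib.PGroups.commutator_le_frattini' hH
      have hgK : g ∈ K := mem_sup_right ((Subgroup.lowerCentralSeries_antitone (S := (⊤ : Subgroup H))
        (by omega : 1 ≤ l + 1)) hg)
      obtain ⟨u, hu, huf⟩ := fixed_in_coset hxp hcop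
        (inv_inf (inv_commOf hKi) (hinv (l + 1))) (k := g)
        (Subgroup.mem_inf.2 ⟨by simpa using gen_mem_commOf (x := x) hgK 1, mul_mem (inv_mem hg) (hinv _ g hg)⟩)
      set g0 := g * u with hg0
      have hg0m : g0 ∈ Γ (l + 1) := mul_mem hg hu.2
      have hcK : c ∈ commOf x K :=
        gen_mem_commOf_of_mem hxp hcop hKi (fun j => mem_sup_left (gen_mem_Lh x h j)) i
      let w1 : Γ (l + 2) := ⟨⁅u⁻¹, c⁆, hmemW _ (inv_mem hu.2) c⟩
      have hw1 : π w1 ∈ D x := hproj K hKi hKt w1 (mul_mem (mul_mem (mul_mem (inv_mem hu.1) hcK)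
        (inv_mem (inv_mem hu.1))) (inv_mem hcK))
      -- the fixed part pairs trivially
      let w0 : H → Γ (l + 2) := fun a => ⟨⁅g0, a⁆, hmemW _ hg0m a⟩
      have hw0 : π (w0 c) = 1 := by
        have hl0 : ∀ a b, w0 (a * b) = w0 a * w0 b := by
          intro a b
          refine Subtype.ext ?_
          show ⁅g0, a * b⁆ = ⁅g0, a⁆ * ⁅g0, b⁆
          calc ⁅g0, a * b⁆ = ⁅g0, a⁆ * (a * ⁅g0, b⁆ * a⁻¹) := by
                simp only [commutatorElement_def]; group
            _ = ⁅g0, a⁆ * ⁅g0, b⁆ := by rw [hcen _ (hmemW _ hg0m b) a, mul_inv_cancel_right]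
        let π' : Γ (l + 2) →* Γ (l + 2) := π.codRestrict _ hπW
        letI : CommGroup (Γ (l + 2)) :=
          { (inferInstance : Group (Γ (l + 2))) with
            mul_comm := fun a b => Subtype.ext (hcen b b.2 a) }
        have h1 := hom_trivial htop (π'.comp (MonoidHom.mk' w0 hl0)) (fun a => Subtype.ext (by
          show π (w0 (x a)) = π (w0 a)
          rw [← hπx (w0 a)]
          congr 1
          refine Subtype.ext ?_
          show ⁅g0, x a⁆ = x ⁅g0, a⁆
          rw [map_commutatorElement, huf])) c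
        exact congrArg Subtype.val h1
      show π (f c) ∈ D x
      have hsplit : f c = w0 c * w1 := by
        refine Subtype.ext ?_
        show ⁅g, c⁆ = ⁅g0, c⁆ * ⁅u⁻¹, c⁆
        have e : g = g0 * u⁻¹ := by rw [hg0, mul_inv_cancel_right]
        conv_lhs => rw [e]
        calc ⁅g0 * u⁻¹, c⁆ = g0 * ⁅u⁻¹, c⁆ * g0⁻¹ * ⁅g0, c⁆ := by
              simp only [commutatorElement_def]; group
          _ = ⁅g0, c⁆ * ⁅u⁻¹, c⁆ := by
              rw [hcen _ (hmemW _ (inv_mem hu.2) c) g0, mul_inv_cancel_right,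
                hcen _ (hmemW _ (inv_mem hu.2) c)]
      rw [hsplit, map_mul, hw0, one_mul]
      exact hw1
    intro w
    have hle : (Γ (l + 2)) ≤ U.map (Γ (l + 2)).subtype := by
      conv_lhs => rw [hsucc]
      rw [commutator_le]
      intro g hg a _
      exact ⟨_, hall g hg a, rfl⟩
    obtain ⟨u, hu, huw⟩ := hle w.2
    rwa [← Subtype.ext huw]

/-- Two complements of an abelian normal `r`-subgroup generated by displacements. -/
theorem count_case {r s : ℕ} [Fact r.Prime] [Fact s.Prime] (hrs : r ≠ s) (hp2 : p ≠ 2)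
    {V : Subgroup H} [V.Normal] (hV : Inv x V) (hVc : ∀ a ∈ V, ∀ b ∈ V, a * b = b * a)
    (hVr : ∀ a ∈ V, a ^ r = 1) (hV0 : V ≠ ⊥)
    (hcase : ∀ g', Lh x g' ⊔ V = ⊤ → Lh x g' ⊓ V = ⊥)
    {g : H} (hg : Lh x g ⊔ V = ⊤) (hLc : ∀ a ∈ Lh x g, ∀ b ∈ Lh x g, a * b = b * a)
    (hLs : ∀ a ∈ Lh x g, a ^ s = 1) (hLfix : ∀ a ∈ Lh x g, x a = a → a = 1)
    (hVfix : ∀ v ∈ V, (∀ a ∈ Lh x g, a * v = v * a) → v = 1) :
    ∀ v ∈ V, x v = v → v = 1 := by
  classical
  set L := Lh x g with hLdef
  have hLi : Inv x L := inv_Lh x g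
  have hLV : L ⊓ V = ⊥ := hcase g hg
  have hnorm : ∀ A : Subgroup H, A ≤ normalizer (V : Set H) := fun A => by
    rw [normalizer_eq_top]; exact le_top
  have hcardLV : ∀ L' : Subgroup H, L' ⊔ V = ⊤ → L' ⊓ V = ⊥ →
      Nat.card L' * Nat.card V = Nat.card H := by
    intro L' h1 h2
    have h3 := CfsgLib.Core.card_sup_mul_card_inf L' V (hnorm L')
    rw [h1, h2, card_top, card_bot, mul_one] at h3
    exact h3.symm
  have hLp : IsPGroup s L := fun a => ⟨1, Subtype.ext (by simpa using hLs a a.2)⟩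
  have hVp : IsPGroup r V := fun a => ⟨1, Subtype.ext (by simpa using hVr a a.2)⟩
  obtain ⟨i, hi⟩ := IsPGroup.iff_card.1 hLp
  obtain ⟨j, hj⟩ := IsPGroup.iff_card.1 hVp
  have hsyl : ∀ L' : Subgroup H, L' ⊔ V = ⊤ → L' ⊓ V = ⊥ →
      ∃ S : Sylow s H, (S : Subgroup H) = L' := by
    intro L' h1 h2
    have hc : Nat.card L' = Nat.card L := Nat.eq_of_mul_eq_mul_right Nat.card_pos
      ((hcardLV L' h1 h2).trans (hcardLV L hg hLV).symm)
    obtain ⟨S, hS⟩ := (IsPGroup.of_card (n := i) (hc.trans hi)).exists_le_sylow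
    refine ⟨S, (eq_of_le_of_card_ge hS ?_).symm⟩
    obtain ⟨k, hk⟩ := IsPGroup.iff_card.1 S.2
    have hd : Nat.card S ∣ Nat.card L * Nat.card V :=
      (hcardLV L hg hLV).symm ▸ card_subgroup_dvd_card _
    rw [hc]
    refine Nat.le_of_dvd Nat.card_pos (Nat.Coprime.dvd_of_dvd_mul_right ?_ hd)
    rw [hk, hj]
    exact Nat.Coprime.pow _ _ ((Nat.coprime_primes Fact.out Fact.out).2 hrs.symm)
  -- every twist is a conjugate by a fixed point
  have htw : ∀ v : V, ∃ w : (fixer x ⊓ V : Subgroup H),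
      Lh x (g * v) = L.map (MulAut.conj (w : H)).toMonoidHom := by
    intro v
    set L' := Lh x (g * v) with hL'
    have h1 : L' ⊔ V = ⊤ := by
      rw [eq_top_iff, ← hg]
      refine sup_le ?_ le_sup_right
      rw [hLdef, Lh, closure_le]
      rintro _ ⟨k, rfl⟩
      have e : g⁻¹ * (x ^ k) g =
          (v : H) * ((g * v)⁻¹ * (x ^ k) (g * v)) * ((x ^ k) (v : H))⁻¹ := by
        rw [map_mul]; group
      rw [e]
      exact mul_mem (mul_mem (mem_sup_right v.2) (mem_sup_left (gen_mem_Lh x _ k)))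
        (inv_mem (mem_sup_right (hV.pow k v.2)))
    obtain ⟨S, hS⟩ := hsyl L hg hLV
    obtain ⟨S', hS'⟩ := hsyl L' h1 (hcase _ h1)
    obtain ⟨k, hk⟩ := MulAction.exists_smul_eq H S S'
    have hkL : L.map (MulAut.conj k).toMonoidHom = L' := by
      rw [← hS, ← hS', ← hk, Sylow.coe_subgroup_smul]; rfl
    set N := normalizer (L : Set H) with hN
    have hNi : Inv x N := by
      intro a ha
      rw [hN, mem_normalizer_iff_map_conj_eq] at ha ⊢
      conv_rhs => rw [← hLi.map_eq, ← ha, map_map]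
      conv_lhs => rw [← hLi.map_eq, map_map]
      congr 1
      refine MonoidHom.ext fun y => ?_
      show x a * x y * (x a)⁻¹ = x (a * y * a⁻¹)
      rw [map_mul, map_mul, map_inv]
    have hkN : k⁻¹ * x k ∈ N := by
      rw [hN, mem_normalizer_iff_map_conj_eq]
      have e : L.map (MulAut.conj (x k)).toMonoidHom = L.map (MulAut.conj k).toMonoidHom := by
        conv_lhs => rw [← hLi.map_eq, map_map]
        have hL'i : L'.map x.toMonoidHom = L' := (inv_Lh x (g * v)).map_eq
        conv_rhs => rw [hkL, ← hL'i, ← hkL, map_map]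
        congr 1
        refine MonoidHom.ext fun y => ?_
        show x k * x y * (x k)⁻¹ = x (k * y * k⁻¹)
        rw [map_mul, map_mul, map_inv]
      have e2 : (MulAut.conj (k⁻¹ * x k)).toMonoidHom =
          (MulAut.conj k⁻¹).toMonoidHom.comp (MulAut.conj (x k)).toMonoidHom := by
        refine MonoidHom.ext fun y => ?_
        show k⁻¹ * x k * y * (k⁻¹ * x k)⁻¹ = k⁻¹ * (x k * y * (x k)⁻¹) * k⁻¹⁻¹
        group
      show L.map (MulAut.conj (k⁻¹ * x k)).toMonoidHom = L
      rw [e2, ← map_map, e, map_map]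
      refine (congrArg (fun f => L.map f) ?_).trans L.map_id
      refine MonoidHom.ext fun y => ?_
      show k⁻¹ * (k * y * k⁻¹) * k⁻¹⁻¹ = y
      group
    obtain ⟨m, hm, hfix⟩ := fixed_in_coset hxp hcop hNi hkN
    set k' := k * m with hk'
    have hk'L : L.map (MulAut.conj k').toMonoidHom = L' := by
      rw [hN, mem_normalizer_iff_map_conj_eq] at hm
      rw [← hkL]
      conv_rhs => rw [← hm, map_map]
      congr 1
      refine MonoidHom.ext fun y => ?_
      show k * m * y * (k * m)⁻¹ = k * (m * y * m⁻¹) * k⁻¹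
      group
    obtain ⟨l, hl, w, hw, hlw⟩ := (CfsgLib.Core.mem_sup_iff_mul (hnorm L)).1
      (hg.ge (mem_top k'))
    have e : l⁻¹ * x l = w * (x w)⁻¹ := by
      have h := hfix
      rw [hlw, map_mul] at h
      rw [eq_mul_inv_iff_mul_eq, mul_assoc, inv_mul_eq_iff_eq_mul]
      exact h
    have hl1 : x l = l := by
      have hmem : l⁻¹ * x l ∈ L ⊓ V :=
        Subgroup.mem_inf.2 ⟨mul_mem (inv_mem hl) (hLi l hl), e ▸ mul_mem hw (inv_mem (hV w hw))⟩
      rw [hLV, mem_bot, inv_mul_eq_one] at hmem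
      exact hmem.symm
    have hl0 := hLfix l hl hl1
    rw [hl0, one_mul] at hlw
    exact ⟨⟨w, (congrArg x hlw).symm.trans (hfix.trans hlw), hw⟩, by
      rw [← hk'L]; exact congrArg (fun z => L.map (MulAut.conj z).toMonoidHom) hlw⟩
  -- the fibres
  set C := (fixer x ⊓ V : Subgroup H) with hC
  choose φ hφ using htw
  haveI : Nonempty V := ⟨1⟩
  let ψ : V → C × H := fun v =>
    (φ v, g * ((v : H) * ((Function.invFun φ (φ v) : V) : H)⁻¹) * g⁻¹)
  have hmem : ∀ v, (ψ v).2 ∈ C := by
    intro v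
    set v' := Function.invFun φ (φ v) with hv'
    have hsame : Lh x (g * v') = Lh x (g * v) := by
      rw [hφ, hφ]
      exact congrArg (fun z : (C : Subgroup H) => L.map (MulAut.conj (z : H)).toMonoidHom)
        (Function.invFun_eq ⟨v, rfl⟩)
    set c := g⁻¹ * x g with hc
    have he : ∀ u : V, (g * (u : H))⁻¹ * (x ^ 1) (g * (u : H)) = (u : H)⁻¹ * c * x (u : H) := by
      intro u
      rw [pow_one, map_mul, hc]; group
    have hin : ((v : H)⁻¹ * c * x (v : H))⁻¹ * ((v' : H)⁻¹ * c * x (v' : H)) ∈ Lh x (g * v) ⊓ V := by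
      refine Subgroup.mem_inf.2 ⟨?_, ?_⟩
      · refine mul_mem (inv_mem ?_) ?_
        · rw [← he]; exact gen_mem_Lh x _ 1
        · rw [← he, ← hsame]; exact gen_mem_Lh x _ 1
      · have e : ((v : H)⁻¹ * c * x (v : H))⁻¹ * ((v' : H)⁻¹ * c * x (v' : H)) =
            (x (v : H))⁻¹ * (c⁻¹ * ((v : H) * (v' : H)⁻¹) * c⁻¹⁻¹) * x (v' : H) := by group
        rw [e]
        exact mul_mem (mul_mem (inv_mem (hV _ v.2))
          ((inferInstance : V.Normal).conj_mem _ (mul_mem v.2 (inv_mem v'.2)) c⁻¹)) (hV _ v'.2)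
    have htop' : Lh x (g * v) ⊔ V = ⊤ := by
      rw [eq_top_iff, ← hg]
      refine sup_le ?_ le_sup_right
      rw [hLdef, Lh, closure_le]
      rintro _ ⟨k, rfl⟩
      have e : g⁻¹ * (x ^ k) g =
          (v : H) * ((g * v)⁻¹ * (x ^ k) (g * v)) * ((x ^ k) (v : H))⁻¹ := by
        rw [map_mul]; group
      rw [e]
      exact mul_mem (mul_mem (mem_sup_right v.2) (mem_sup_left (gen_mem_Lh x _ k)))
        (inv_mem (mem_sup_right (hV.pow k v.2)))
    rw [hcase _ htop', mem_bot, inv_mul_eq_one] at hin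
    set d := (v : H) * (v' : H)⁻¹ with hd
    have hdV : d ∈ V := mul_mem v.2 (inv_mem v'.2)
    have h1 : x d = c⁻¹ * d * c := by
      rw [hd, map_mul, map_inv]
      have h2 : c * x (v : H) = (v : H) * (v' : H)⁻¹ * c * x (v' : H) := by
        calc c * x (v : H) = (v : H) * ((v : H)⁻¹ * c * x (v : H)) := by group
          _ = (v : H) * ((v' : H)⁻¹ * c * x (v' : H)) := by rw [hin]
          _ = _ := by group
      calc x (v : H) * (x (v' : H))⁻¹ = c⁻¹ * (c * x (v : H)) * (x (v' : H))⁻¹ := by group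
        _ = c⁻¹ * ((v : H) * (v' : H)⁻¹) * c := by rw [h2]; group
    refine ⟨?_, (inferInstance : V.Normal).conj_mem d hdV g⟩
    show x (g * d * g⁻¹) = g * d * g⁻¹
    rw [map_mul, map_mul, map_inv, h1, hc]
    group
  have hψinj : Function.Injective fun v => ((φ v : C), (⟨(ψ v).2, hmem v⟩ : C)) := by
    intro v u h
    have h1 := congrArg Prod.fst h
    have h2 := congrArg (fun z : C × C => (z.2 : H)) h
    simp only [ψ] at h1 h2
    rw [h1] at h2
    exact Subtype.ext (mul_right_cancel (mul_left_cancel (mul_right_cancel h2)))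
  have hle : Nat.card V ≤ Nat.card C * Nat.card C :=
    (Nat.card_le_card_of_injective _ hψinj).trans (Nat.card_prod C C).le
  -- the Frobenius group gives `|V| = |C| ^ p`
  letI : CommGroup V :=
    { (inferInstance : Group V) with mul_comm := fun a b => Subtype.ext (hVc a a.2 b b.2) }
  letI : CommGroup L :=
    { (inferInstance : Group L) with mul_comm := fun a b => Subtype.ext (hLc a a.2 b b.2) }
  let ρ : L →* AddMonoid.End (Additive V) :=
    { toFun := fun a => MonoidHom.toAdditive (MulAut.conjNormal (a : H) : MulAut V).toMonoidHom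
      map_one' := by rw [OneMemClass.coe_one, map_one]; rfl
      map_mul' := fun a b => by rw [Subgroup.coe_mul, map_mul]; rfl }
  have hρ : ∀ (a : L) (v : V),
      ((Additive.toMul (ρ a (Additive.ofMul v)) : V) : H) = a * v * (a : H)⁻¹ :=
    fun a v => MulAut.conjNormal_apply (a : H) v
  let xV : MulAut V := HH.res V x hV
  let T : AddMonoid.End (Additive V) := MonoidHom.toAdditive xV.toMonoidHom
  have hT : ∀ v : V, ((Additive.toMul (T (Additive.ofMul v)) : V) : H) = x v := fun v => rfl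
  have hTpow : ∀ (k : ℕ) (v : V),
      ((Additive.toMul ((T ^ k) (Additive.ofMul v)) : V) : H) = (x ^ k) v := by
    intro k
    induction k with
    | zero => intro v; rfl
    | succ k ih =>
      intro v
      rw [pow_succ', pow_succ', MulAut.mul_apply]
      show x ((Additive.toMul ((T ^ k) (Additive.ofMul v)) : V) : H) = _
      rw [ih]
  let θ : MulAut L := HH.res L x hLi
  have hθ : ∀ (k : ℕ) (a : L), (((θ ^ k) a : L) : H) = (x ^ k) a := by
    intro k
    induction k with
    | zero => intro a; rfl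
    | succ k ih =>
      intro a
      rw [pow_succ', MulAut.mul_apply]
      show x (((θ ^ k) a : L) : H) = _
      rw [ih, pow_succ', MulAut.mul_apply]
  have hsR : ¬ r ∣ Nat.card L := by
    rw [hi]
    intro h
    exact hrs ((Nat.prime_dvd_prime_iff_eq Fact.out Fact.out).1
      ((Fact.out : r.Prime).dvd_of_dvd_pow h))
  have hqs : p ≠ r := by
    intro h
    have hj0 : j ≠ 0 := fun h0 => hV0 (eq_bot_of_card_eq V (by rw [hj, h0, pow_zero]))
    have h1 : p ∣ Nat.card V := by rw [hj, h]; exact dvd_pow_self r hj0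
    exact hp.out.ne_one (Nat.Coprime.eq_one_of_dvd hcop.symm (h1.trans (card_subgroup_dvd_card V)))
  have hcard := FrobFree.card_eq_pow (s := r) (M := Additive V)
    (fun v => Additive.toMul.injective (Subtype.ext (by simpa using hVr _ (Additive.toMul v).2)))
    hsR ρ (q := p) hqs θ
    (MulEquiv.ext fun a => Subtype.ext (by rw [hθ, hxp]; rfl))
    (fun a ha => Subtype.ext (hLfix a a.2 (congrArg Subtype.val ha))) T
    (DFunLike.ext _ _ fun v => Additive.toMul.injective (Subtype.ext (by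
      have := hTpow p (Additive.toMul v)
      rw [ofMul_toMul, hxp] at this
      exact this)))
    (fun a v => Additive.toMul.injective (Subtype.ext (by
      show x ((Additive.toMul (ρ a (Additive.ofMul (Additive.toMul v))) : V) : H) =
        ((Additive.toMul (ρ (θ a) (Additive.ofMul (xV (Additive.toMul v)))) : V) : H)
      rw [hρ, hρ, map_mul, map_mul, map_inv]
      rfl)))
    (fun v hv => Additive.toMul.injective (Subtype.ext (hVfix _ (Additive.toMul v).2 fun a ha => by
      have h1 := hρ ⟨a, ha⟩ (Additive.toMul v)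
      rw [ofMul_toMul, hv ⟨a, ha⟩] at h1
      exact (mul_inv_eq_iff_eq_mul.1 h1.symm))))
  have hC' : Nat.card {m : Additive V // T m = m} = Nat.card C := by
    refine Nat.card_congr
      { toFun := fun m => ⟨((Additive.toMul m.1 : V) : H),
          congrArg (fun z => ((Additive.toMul z : V) : H)) m.2, (Additive.toMul m.1).2⟩
        invFun := fun c => ⟨Additive.ofMul ⟨(c : H), c.2.2⟩, Additive.toMul.injective (Subtype.ext c.2.1)⟩
        left_inv := fun m => rfl
        right_inv := fun c => rfl }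
  rw [show Nat.card (Additive V) = Nat.card V from rfl, hC'] at hcard
  intro v hv hvf
  by_contra hv1
  have h2 : 2 ≤ Nat.card C := by
    have : C ≠ ⊥ := fun h => hv1 ((Subgroup.eq_bot_iff_forall C).1 h v ⟨hvf, hv⟩)
    exact C.one_lt_card_iff_ne_bot.2 this
  have hp3 : 3 ≤ p := by have := hp.out.two_le; omega
  have h4 : Nat.card C ^ 2 < Nat.card C ^ p := Nat.pow_lt_pow_right h2 (by omega)
  rw [hcard, ← pow_two] at hle
  omega

theorem claim_step (hp2 : p ≠ 2) : commOf x ⊤ ⊓ fixer x ≤ D x := by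
  classical
  by_cases htop : commOf x (⊤ : Subgroup H) = ⊤
  swap
  · refine le_trans (inf_le_inf_right _ (commOf_commOf hxp hcop)) ?_
    exact claim_subgroup IH hn hcop hxp (inv_commOf fun k _ => mem_top _) htop
  rw [htop, top_inf_eq]
  by_cases hno : ∃ g, Lh x g = ⊤
  · obtain ⟨g, hg⟩ := hno
    exact fun c hc => mem_D (g := g) (hg.ge (mem_top c)) hc
  push Not at hno
  rcases subsingleton_or_nontrivial H with hH | hH
  · exact fun c _ => by rw [Subsingleton.elim c 1]; exact one_mem _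
  have hinvtop : Inv x (⊤ : Subgroup H) := fun k _ => mem_top _
  obtain ⟨V, hV0, -, hVi, hVn, hVc, ⟨r, hr, hVr⟩, hVmin⟩ :=
    exists_min_abelian x hinvtop (top_ne_bot)
  haveI hVnorm : V.Normal := ⟨fun a ha k => hVn k (mem_top k) a ha⟩
  haveI := Fact.mk hr
  have hmin : ∀ M : Subgroup H, M ≤ V → Inv x M → M.Normal → M = ⊥ ∨ M = V :=
    fun M h1 h2 h3 => hVmin M h1 h2 fun k _ a ha => h3.conj_mem a ha k
  obtain ⟨π, hπV, hπfix, hπpow, hπx, hπK, hπc⟩ := exists_proj hxp hVi hVc
  suffices hgoal : ∀ c ∈ V, x c = c → c ∈ D x from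
    (claim_quotient IH hn hcop hxp htop hVi hV0).trans
      (sup_le le_rfl fun c hc => hgoal c hc.1 hc.2)
  let U : Subgroup V := (D x).comap π
  have hfromU : (∀ v : V, v ∈ U) → ∀ c ∈ V, x c = c → c ∈ D x := fun h c hc hcf => by
    refine mem_of_pow_mem hcop ?_
    have := h ⟨c, hc⟩
    rwa [mem_comap, hπpow ⟨c, hc⟩ hcf] at this
  have hproj : ∀ K : Subgroup H, Inv x K → K ≠ ⊤ → ∀ v : V, (v : H) ∈ commOf x K → π v ∈ D x :=
    fun K hK hKt v hv => claim_subgroup IH hn hcop hxp hK hKt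
      ⟨hπK _ (inv_commOf hK) v hv, hπfix v⟩
  have hmemV : ∀ v ∈ V, ∀ h : H, ⁅v, h⁆ ∈ V := by
    intro v hv h
    have : ⁅v, h⁆ = v * (h * v⁻¹ * h⁻¹) := by rw [commutatorElement_def]; group
    rw [this]
    exact mul_mem hv (hVnorm.conj_mem _ (inv_mem hv) h)
  -- the elements whose commutators with `V` project into `D`
  let S : Submonoid H :=
    { carrier := {h | ∀ v : V, (⟨⁅(v : H), h⁆, hmemV v v.2 h⟩ : V) ∈ U}
      one_mem' := fun v => by
        show π _ ∈ D x
        rw [show (⟨⁅(v : H), (1 : H)⁆, hmemV v v.2 1⟩ : V) = 1 from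
          Subtype.ext (commutatorElement_one_right _), map_one]
        exact one_mem _
      mul_mem' := fun {a b} ha hb v => by
        let w : V := ⟨⁅(v : H), b⁆, hmemV v v.2 b⟩
        have e : (⟨⁅(v : H), a * b⁆, hmemV v v.2 _⟩ : V) =
            ⟨⁅(v : H), a⁆, hmemV v v.2 a⟩ * (⟨⁅(w : H), a⁆, hmemV w w.2 a⟩)⁻¹ * w := by
          refine Subtype.ext ?_
          show ⁅(v : H), a * b⁆ = ⁅(v : H), a⁆ * ⁅⁅(v : H), b⁆, a⁆⁻¹ * ⁅(v : H), b⁆
          simp only [commutatorElement_def]; group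
        rw [e]
        exact mul_mem (mul_mem (ha v) (inv_mem (ha w))) (hb v) }
  let S' : Subgroup H :=
    { S with
      inv_mem' := fun {a} ha => by
        have h : a⁻¹ = a ^ (orderOf a - 1) := by
          rw [eq_comm, ← mul_eq_one_iff_eq_inv, ← pow_succ,
            Nat.sub_add_cancel (orderOf_pos a), pow_orderOf_eq_one]
        show a⁻¹ ∈ S
        rw [h]
        exact pow_mem (show a ∈ S from ha) _ }
  have hfromS : ∀ N : Subgroup H, N ≤ S' → ⁅V, N⁆ = V → ∀ v : V, v ∈ U := by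
    intro N hN hVN v
    have hle : ⁅V, N⁆ ≤ U.map V.subtype := by
      rw [commutator_le]
      intro a ha b hb
      exact ⟨⟨⁅a, b⁆, hmemV a ha b⟩, hN hb ⟨a, ha⟩, rfl⟩
    obtain ⟨u, hu, huv⟩ := hle (hVN.ge v.2)
    rw [← (Subtype.ext huv : u = v)]
    exact hu
  have hVle : ⁅V, (⊤ : Subgroup H)⁆ ≤ V := commutator_le_left V ⊤
  by_cases hA : ∀ g, Lh x g ⊔ V ≠ ⊤
  · -- every `[g, x] V` is proper
    have hS : ⊤ ≤ S' := by
      rw [← htop, commOf, closure_le]
      rintro _ ⟨g, -, i, rfl⟩ v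
      have hKi : Inv x (Lh x g ⊔ V) := inv_sup (inv_Lh x g) hVi
      have hc := gen_mem_commOf_of_mem hxp hcop hKi (fun j => mem_sup_left (gen_mem_Lh x g j)) i
      refine hproj _ hKi (hA g) _ ?_
      show ⁅(v : H), g⁻¹ * (x ^ i) g⁆ ∈ commOf x (Lh x g ⊔ V)
      rw [commutatorElement_def]
      exact mul_mem (commOf_conj_mem (mem_sup_right v.2) hc) (inv_mem hc)
    rcases hmin _ hVle (inv_commutator hVi hinvtop) inferInstance with hbot | hfull
    swap
    · exact hfromU (hfromS ⊤ hS hfull)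
    -- `V` is central
    have hVcen : V ≤ center H := fun v hv => mem_center_iff.2 fun h => by
      have h1 := commutator_mem_commutator hv (mem_top h)
      rw [hbot, mem_bot, commutatorElement_eq_one_iff_mul_comm] at h1
      exact h1.symm
    obtain ⟨R, hRi⟩ := exists_inv_sylow hxp hcop r
    have hVR : V ≤ (R : Subgroup H) :=
      (show IsPGroup r V from fun a => ⟨1, Subtype.ext (by simpa using hVr a a.2)⟩).le_sylow_of_normal R
    by_cases hRt : (R : Subgroup H) = ⊤
    · have hHr : IsPGroup r H := fun a => by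
        obtain ⟨k, hk⟩ := R.2 ⟨a, hRt.ge (mem_top a)⟩
        exact ⟨k, congrArg Subtype.val hk⟩
      exact fun c _ hcf => claim_nilpotent IH hn hcop hxp hHr hp2 htop hno hcf
    intro z hzV hzf
    set M := commOf x (R : Subgroup H) with hM
    have hMR : M ≤ R := commOf_le hRi
    have hDR : D x ⊓ (R : Subgroup H) ≤ normalizer (M : Set H) := fun d hd => by
      rw [mem_normalizer_iff_map_conj_eq]
      refine eq_of_le_of_card_ge ?_
        (card_map_of_injective (f := (MulAut.conj d).toMonoidHom) (MulAut.conj d).injective).ge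
      rintro _ ⟨m, hm, rfl⟩
      exact commOf_conj_mem hd.2 hm
    set T := (D x ⊓ (R : Subgroup H)) ⊔ M with hT
    have hRT : ∀ a ∈ (R : Subgroup H), ∃ t ∈ T, ∃ w ∈ V, a = t * w := by
      intro a ha
      obtain ⟨m, hm, hfix⟩ := fixed_in_coset hxp hcop (inv_commOf hRi) (k := a)
        (by simpa using gen_mem_commOf (x := x) ha 1)
      have hcR : a * m ∈ (R : Subgroup H) := mul_mem ha (hMR hm)
      have h1 := claim_quotient IH hn hcop hxp htop hVi hV0 (show a * m ∈ fixer x from hfix)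
      obtain ⟨d, hd, w, hw, hdw⟩ := (CfsgLib.Core.mem_sup_iff_mul
        (show D x ≤ normalizer ((V ⊓ fixer x : Subgroup H) : Set H) from fun d _ =>
          (centralizer_le_normalizer _) (mem_centralizer_iff.2 fun w hw =>
            (mem_center_iff.1 (hVcen hw.1) d).symm))).1 h1
      have hdR : d ∈ (R : Subgroup H) := by
        have : d = a * m * w⁻¹ := by rw [hdw, mul_inv_cancel_right]
        rw [this]
        exact mul_mem hcR (inv_mem (hVR hw.1))
      refine ⟨d * m⁻¹, mul_mem (mem_sup_left ⟨hd, hdR⟩) (mem_sup_right (inv_mem hm)), w, hw.1, ?_⟩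
      have e : a = a * m * m⁻¹ := by group
      rw [e, hdw, mul_assoc, mul_assoc, ← mem_center_iff.1 (hVcen hw.1) m⁻¹]
    have hzR : z ∈ T := by
      have h1 := central_mem_sylow_commutator R (hVcen hzV)
        (mem_commutator_of_fixed hxp hcop htop hzf) (hVR hzV)
      have h2 : ⁅(R : Subgroup H), (R : Subgroup H)⁆ ≤ T := by
        rw [commutator_le]
        intro a ha b hb
        obtain ⟨t, ht, w, hw, rfl⟩ := hRT a ha
        obtain ⟨t', ht', w', hw', rfl⟩ := hRT b hb
        have hwc : ∀ y, y * w = w * y := mem_center_iff.1 (hVcen hw)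
        have hwc' : ∀ y, y * w' = w' * y := mem_center_iff.1 (hVcen hw')
        have e : ⁅t * w, t' * w'⁆ = ⁅t, t'⁆ := by
          calc ⁅t * w, t' * w'⁆ = t * ⁅w, t' * w'⁆ * t⁻¹ * ⁅t, t' * w'⁆ := by
                simp only [commutatorElement_def]; group
            _ = ⁅t, t'⁆ * (t' * ⁅t, w'⁆ * t'⁻¹) := by
                rw [commutatorElement_eq_one_iff_mul_comm.2 (hwc _).symm]
                simp only [commutatorElement_def]; group
            _ = ⁅t, t'⁆ := by
                rw [commutatorElement_eq_one_iff_mul_comm.2 (hwc' t)]; group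
        rw [e]
        exact mul_mem (mul_mem (mul_mem ht ht') (inv_mem ht)) (inv_mem ht')
      exact h2 h1
    obtain ⟨d, hd, m, hm, rfl⟩ := (CfsgLib.Core.mem_sup_iff_mul hDR).1 hzR
    refine mul_mem hd.1 (claim_subgroup IH hn hcop hxp hRi hRt ⟨hm, ?_⟩)
    have hdf : d ∈ fixer x := (show D x ≤ fixer x from iSup_le fun _ => inf_le_right) hd.1
    have := mul_mem (inv_mem hdf) (show d * m ∈ fixer x from hzf)
    rwa [inv_mul_cancel_left] at this
  -- some `[g, x]` complements `V`
  push Not at hA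
  obtain ⟨g, hg⟩ := hA
  have hcase : ∀ g', Lh x g' ⊔ V = ⊤ → Lh x g' ⊓ V = ⊥ := by
    intro g' hg'
    have hn' : (Lh x g' ⊓ V).Normal := by
      refine ⟨fun a ha k => ?_⟩
      obtain ⟨l, hl, w, hw, rfl⟩ := (CfsgLib.Core.mem_sup_iff_mul
        (show Lh x g' ≤ normalizer (V : Set H) by rw [normalizer_eq_top]; exact le_top)).1
        (hg'.ge (mem_top k))
      have e : l * w * a * (l * w)⁻¹ = l * a * l⁻¹ := by
        rw [mul_assoc l w a, hVc w hw a ha.2]; group
      rw [e]
      exact Subgroup.mem_inf.2 ⟨mul_mem (mul_mem hl ha.1) (inv_mem hl), hVnorm.conj_mem a ha.2 l⟩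
    rcases hmin _ inf_le_right (inv_inf (inv_Lh x g') hVi) hn' with h | h
    · exact h
    · exfalso
      refine hno g' ?_
      rw [← hg', sup_of_le_left (h ▸ inf_le_left)]
  set L := Lh x g with hL
  have hLV : L ⊓ V = ⊥ := hcase g hg
  have hsplit : ∀ k : H, ∃ l ∈ L, ∃ w ∈ V, k = l * w := fun k =>
    (CfsgLib.Core.mem_sup_iff_mul (show L ≤ normalizer (V : Set H) by
      rw [normalizer_eq_top]; exact le_top)).1 (hg.ge (mem_top k))
  rcases hmin _ hVle (inv_commutator hVi hinvtop) inferInstance with hbot | hfull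
  · -- `V` is central
    have hVcen : ∀ v ∈ V, ∀ h : H, v * h = h * v := fun v hv h => by
      have h1 := commutator_mem_commutator hv (mem_top h)
      rwa [hbot, mem_bot, commutatorElement_eq_one_iff_mul_comm] at h1
    have hLn : L.Normal := ⟨fun a ha k => by
      obtain ⟨l, hl, w, hw, rfl⟩ := hsplit k
      have e : l * w * a * (l * w)⁻¹ = l * a * l⁻¹ := by
        rw [mul_assoc l w a, hVcen w hw a]; group
      rw [e]
      exact mul_mem (mul_mem hl ha) (inv_mem hl)⟩
    intro c hc hcf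
    letI : CommGroup V :=
      { (inferInstance : Group V) with mul_comm := fun a b => Subtype.ext (hVc a a.2 b b.2) }
    let π' : V →* V := π.codRestrict V hπV
    -- the projection to `V` along `L`
    choose ll hll ww hww hlw using hsplit
    have huniq : ∀ (k l w : H), l ∈ L → w ∈ V → k = l * w → ww k = w := by
      intro k l w hl hw hk
      have h1 : (ll k)⁻¹ * l = ww k * w⁻¹ := by
        rw [eq_mul_inv_iff_mul_eq, mul_assoc, inv_mul_eq_iff_eq_mul, ← hlw, hk]
      have hmem : ww k * w⁻¹ ∈ L ⊓ V :=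
        Subgroup.mem_inf.2 ⟨h1 ▸ mul_mem (inv_mem (hll k)) hl, mul_mem (hww k) (inv_mem hw)⟩
      rwa [hLV, mem_bot, mul_inv_eq_one] at hmem
    let pr : H →* V := MonoidHom.mk' (fun k => ⟨ww k, hww k⟩) fun a b => Subtype.ext (by
      show ww (a * b) = ww a * ww b
      refine huniq _ (ll a * ll b) _ (mul_mem (hll a) (hll b)) (mul_mem (hww a) (hww b)) ?_
      conv_lhs => rw [hlw a, hlw b]
      rw [mul_assoc (ll a) (ww a), ← mul_assoc (ww a), hVcen _ (hww a) (ll b)]
      group)
    have hprx : ∀ k, pr (x k) = ⟨x (pr k), hVi _ (pr k).2⟩ := fun k => Subtype.ext (by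
      refine huniq _ (x (ll k)) _ (inv_Lh x g _ (hll k)) (hVi _ (hww k)) ?_
      show x k = x (ll k) * x (ww k)
      rw [← map_mul, ← hlw])
    have htriv := hom_trivial htop (π'.comp pr) (fun k => Subtype.ext (by
      show π (pr (x k)) = π (pr k)
      rw [hprx, hπx])) c
    have hpc : pr c = ⟨c, hc⟩ := Subtype.ext (huniq c 1 c (one_mem L) hc (one_mul c).symm)
    have h1 : π ⟨c, hc⟩ = 1 := by
      have := congrArg Subtype.val htriv
      rwa [MonoidHom.comp_apply, hpc] at this
    refine mem_of_pow_mem hcop ?_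
    rw [← hπpow ⟨c, hc⟩ hcf, h1]
    exact one_mem _
  -- `V` has no nontrivial central element
  have hVL : ∀ v ∈ V, (∀ l ∈ L, l * v = v * l) → v = 1 := by
    have hn' : (V ⊓ center H).Normal := ⟨fun a ha k => by
      rw [mem_center_iff.1 ha.2 k, mul_inv_cancel_right]; exact ha⟩
    have hbot : V ⊓ center H = ⊥ := by
      rcases hmin _ inf_le_left (fun a ha => ⟨hVi a ha.1, mem_center_iff.2 fun k => by
        have := congrArg x (mem_center_iff.1 ha.2 (x.symm k))
        rwa [map_mul, map_mul, x.apply_symm_apply] at this⟩) hn' with h | h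
      · exact h
      · exfalso
        refine hV0 ?_
        rw [← hfull, commutator_eq_bot_iff_le_centralizer]
        intro v hv
        rw [mem_centralizer_iff]
        intro k _
        exact mem_center_iff.1 ((h.ge hv).2) k
    intro v hv hcomm
    have : v ∈ V ⊓ center H := ⟨hv, mem_center_iff.2 fun k => by
      obtain ⟨l, hl, w, hw, rfl⟩ := hsplit k
      rw [mul_assoc, hVc w hw v hv, ← mul_assoc, hcomm l hl, mul_assoc]⟩
    rwa [hbot, mem_bot] at this
  by_cases hfaith : L ⊓ centralizer (V : Set H) = ⊥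
  swap
  · -- the kernel of the action
    set K0 := L ⊓ centralizer (V : Set H) with hK0
    have hK0i : Inv x K0 := fun a ha => ⟨inv_Lh x g a ha.1, mem_centralizer_iff.2 fun v hv => by
      obtain ⟨u, hu, rfl⟩ := (hVi.map_eq.symm ▸ hv : v ∈ V.map x.toMonoidHom)
      show x u * x a = x a * x u
      rw [← map_mul, ← map_mul, mem_centralizer_iff.1 ha.2 u hu]⟩
    haveI hK0n : K0.Normal := ⟨fun a ha k => by
      obtain ⟨l, hl, w, hw, rfl⟩ := hsplit k
      have e : l * w * a * (l * w)⁻¹ = l * a * l⁻¹ := by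
        rw [mul_assoc l w a, mem_centralizer_iff.1 ha.2 w hw]; group
      rw [e]
      refine Subgroup.mem_inf.2 ⟨mul_mem (mul_mem hl ha.1) (inv_mem hl), mem_centralizer_iff.2 fun v hv => ?_⟩
      have h := mem_centralizer_iff.1 ha.2 (l⁻¹ * v * l⁻¹⁻¹) (hVnorm.conj_mem v hv l⁻¹)
      calc v * (l * a * l⁻¹) = l * (l⁻¹ * v * l⁻¹⁻¹ * a) * l⁻¹ := by group
        _ = l * (a * (l⁻¹ * v * l⁻¹⁻¹)) * l⁻¹ := by rw [h]
        _ = l * a * l⁻¹ * v := by group⟩
    intro c _ hcf
    exact (claim_quotient IH hn hcop hxp htop hK0i hfaith).trans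
      (sup_le le_rfl fun w hw => mem_D (g := g) hw.1.1 hw.2) (show c ∈ fixer x from hcf)
  have hLne : L ≠ ⊥ := by
    intro h
    refine hV0 ((Subgroup.eq_bot_iff_forall V).2 fun v hv => hVL v hv fun l hl => ?_)
    rw [h, mem_bot] at hl
    rw [hl, one_mul, mul_one]
  obtain ⟨N, hN0, hNL, hNi, hNn, hNc, ⟨s, hs, hNs⟩, -⟩ := exists_min_abelian x (inv_Lh x g) hLne
  haveI := Fact.mk hs
  have hCVN : ∀ v ∈ V, (∀ a ∈ N, a * v = v * a) → v = 1 := by
    let M : Subgroup H := V ⊓ centralizer (N : Set H)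
    have hMn : M.Normal := ⟨fun a ha k => by
      obtain ⟨l, hl, w, hw, rfl⟩ := hsplit k
      have e : l * w * a * (l * w)⁻¹ = l * a * l⁻¹ := by
        rw [mul_assoc l w a, hVc w hw a ha.1]; group
      rw [e]
      refine ⟨hVnorm.conj_mem a ha.1 l, mem_centralizer_iff.2 fun y hy => ?_⟩
      have h := mem_centralizer_iff.1 ha.2 (l⁻¹ * y * l⁻¹⁻¹) (hNn _ (inv_mem hl) y hy)
      calc y * (l * a * l⁻¹) = l * (l⁻¹ * y * l⁻¹⁻¹ * a) * l⁻¹ := by group
        _ = l * (a * (l⁻¹ * y * l⁻¹⁻¹)) * l⁻¹ := by rw [h]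
        _ = l * a * l⁻¹ * y := by group⟩
    have hMi : Inv x M := fun a ha => ⟨hVi a ha.1, mem_centralizer_iff.2 fun y hy => by
      obtain ⟨u, hu, rfl⟩ := (hNi.map_eq.symm ▸ hy : y ∈ N.map x.toMonoidHom)
      show x u * x a = x a * x u
      rw [← map_mul, ← map_mul, mem_centralizer_iff.1 ha.2 u hu]⟩
    intro v hv hcomm
    rcases hmin M inf_le_left hMi hMn with h | h
    · have : v ∈ M := ⟨hv, mem_centralizer_iff.2 fun y hy => hcomm y hy⟩
      rwa [h, mem_bot] at this
    · exfalso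
      refine hN0 ((Subgroup.eq_bot_iff_forall N).2 fun a ha => ?_)
      have : a ∈ L ⊓ centralizer (V : Set H) := ⟨hNL ha, mem_centralizer_iff.2 fun y hy =>
        (mem_centralizer_iff.1 ((h.ge hy).2) a ha).symm⟩
      rwa [hfaith, mem_bot] at this
  have hrs : r ≠ s := by
    intro e
    subst e
    -- an `r`-group fixes a nontrivial element of `V`
    have hNp : IsPGroup r N := fun a => ⟨1, Subtype.ext (by simpa using hNs a a.2)⟩
    letI : MulAction N V :=
      { smul := fun a v => ⟨(a : H) * v * (a : H)⁻¹, hVnorm.conj_mem v v.2 a⟩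
        one_smul := fun v => Subtype.ext (by show (1 : H) * v * (1 : H)⁻¹ = v; simp)
        mul_smul := fun a b v => Subtype.ext (by
          show ((a : H) * b) * v * ((a : H) * b)⁻¹ = a * ((b : H) * v * (b : H)⁻¹) * (a : H)⁻¹
          group) }
    have hcard : r ∣ Nat.card V := by
      obtain ⟨k, hk⟩ := IsPGroup.iff_card.1
        (show IsPGroup r V from fun a => ⟨1, Subtype.ext (by simpa using hVr a a.2)⟩)
      rcases k with _ | k
      · exact absurd (eq_bot_of_card_eq V (by rw [hk, pow_zero])) hV0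
      · rw [hk]; exact dvd_pow_self r k.succ_ne_zero
    obtain ⟨v, hv, hv1⟩ := hNp.exists_fixed_point_of_prime_dvd_card_of_fixed_point V hcard
      (a := (1 : V)) (fun a => Subtype.ext (by show (a : H) * (1 : H) * (a : H)⁻¹ = 1; simp))
    refine hv1 (Eq.symm (Subtype.ext ?_))
    exact hCVN v v.2 fun a ha => mul_inv_eq_iff_eq_mul.1 (congrArg Subtype.val (hv ⟨a, ha⟩))
  by_cases hNeq : N = L
  · -- `L` is elementary abelian
    subst hNeq
    have hLfix : ∀ a ∈ L, x a = a → a = 1 := by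
      intro a ha hfa
      have h1 := mem_commutator_of_fixed hxp hcop htop hfa
      have h2 : _root_.commutator H ≤ V := by
        rw [_root_.commutator_def, commutator_le]
        intro u _ w _
        obtain ⟨l, hl, v, hv, rfl⟩ := hsplit u
        obtain ⟨l', hl', v', hv', rfl⟩ := hsplit w
        rw [← QuotientGroup.eq_one_iff, ← QuotientGroup.mk'_apply, map_commutatorElement,
          commutatorElement_eq_one_iff_mul_comm]
        have e : ∀ (y : H), y ∈ V → QuotientGroup.mk' V y = 1 := fun y hy =>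
          (QuotientGroup.eq_one_iff y).2 hy
        rw [map_mul, map_mul, e v hv, e v' hv', mul_one, mul_one, ← map_mul, ← map_mul,
          hNc l hl l' hl']
      have : a ∈ L ⊓ V := ⟨ha, h2 h1⟩
      rwa [hLV, mem_bot] at this
    intro c hc hcf
    rw [count_case IH hn hcop hxp hrs hp2 hVi hVc hVr hV0 hcase hg hNc hNs hLfix hCVN c hc hcf]
    exact one_mem _
  -- a proper `N`
  set K := N ⊔ V with hK
  have hKi : Inv x K := inv_sup hNi hVi
  have hKt : K ≠ ⊤ := by
    intro h
    refine hNeq (le_antisymm hNL fun l hl => ?_)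
    obtain ⟨a, ha, v, hv, e⟩ := (CfsgLib.Core.mem_sup_iff_mul
      (show N ≤ normalizer (V : Set H) by rw [normalizer_eq_top]; exact le_top)).1
      (h.ge (mem_top l))
    have hvL : v ∈ L ⊓ V := Subgroup.mem_inf.2 ⟨by
      have e' : v = a⁻¹ * l := by rw [e, inv_mul_cancel_left]
      rw [e']; exact mul_mem (inv_mem (hNL ha)) hl, hv⟩
    rw [hLV, mem_bot] at hvL
    rw [e, hvL, mul_one]
    exact ha
  have hMS : commOf x N ≤ S' := by
    intro m hm v
    have hmK : m ∈ commOf x K := by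
      refine (Subgroup.closure_mono ?_) hm
      rintro _ ⟨a, ha, i, rfl⟩
      exact ⟨a, mem_sup_left ha, i, rfl⟩
    refine hproj K hKi hKt _ ?_
    show ⁅(v : H), m⁆ ∈ commOf x K
    rw [commutatorElement_def]
    exact mul_mem (commOf_conj_mem (mem_sup_right v.2) hmK) (inv_mem hmK)
  have hCS : ∀ a ∈ L, x a = a → a ∈ S' := by
    intro a ha hfa v
    show π _ ∈ D x
    have hpr : π ⟨⁅(v : H), a⁆, hmemV v v.2 a⟩ = π v * (a * (π v)⁻¹ * a⁻¹) := by
      let w : V := ⟨a * (v : H)⁻¹ * a⁻¹, hVnorm.conj_mem _ (inv_mem v.2) a⟩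
      have hw : π w = a * π v⁻¹ * a⁻¹ := hπc a hfa v⁻¹ w rfl
      rw [map_inv] at hw
      rw [← hw, ← map_mul]
      congr 1
      refine Subtype.ext ?_
      show ⁅(v : H), a⁆ = (v : H) * (a * (v : H)⁻¹ * a⁻¹)
      rw [commutatorElement_def]; group
    rw [hpr]
    -- conjugating by a fixed `w` carries `[g, x]` to `[g w⁻¹, x]`
    set w := π v with hw
    have hwf : x w = w := hπfix v
    have hmem : w * a * w⁻¹ ∈ Lh x (g * w⁻¹) := by
      have hle : L ≤ (Lh x (g * w⁻¹)).comap (MulAut.conj w).toMonoidHom := by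
        rw [hL, Lh, closure_le]
        rintro _ ⟨i, rfl⟩
        show w * (g⁻¹ * (x ^ i) g) * w⁻¹ ∈ Lh x (g * w⁻¹)
        have e : w * (g⁻¹ * (x ^ i) g) * w⁻¹ = (g * w⁻¹)⁻¹ * (x ^ i) (g * w⁻¹) := by
          rw [map_mul, map_inv, pow_fixed hwf]; group
        rw [e]
        exact gen_mem_Lh x _ i
      exact hle ha
    have h1 : w * a * w⁻¹ ∈ D x := mem_D hmem (by rw [map_mul, map_mul, map_inv, hwf, hfa])
    have h2 : a ∈ D x := mem_D ha hfa
    have e : w * (a * w⁻¹ * a⁻¹) = (w * a * w⁻¹) * a⁻¹ := by group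
    rw [e]
    exact mul_mem h1 (inv_mem h2)
  have hNS : N ≤ S' := by
    intro a ha
    obtain ⟨m, hm, hfix⟩ := fixed_in_coset hxp hcop (inv_commOf hNi) (k := a)
      (by simpa using gen_mem_commOf (x := x) ha 1)
    have h1 : a * m ∈ S' := hCS _ (hNL (mul_mem ha (commOf_le hNi hm))) hfix
    have := mul_mem h1 (inv_mem (hMS hm))
    rwa [mul_inv_cancel_right] at this
  have hVN : ⁅V, N⁆ = V := by
    have hle : ⁅V, N⁆ ≤ V := commutator_le_left V N
    have hn' : (⁅V, N⁆ : Subgroup H).Normal := ⟨fun a ha k => by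
      obtain ⟨l, hl, w, hw, rfl⟩ := hsplit k
      have e : l * w * a * (l * w)⁻¹ = l * a * l⁻¹ := by
        rw [mul_assoc l w a, hVc w hw a (hle ha)]; group
      rw [e]
      have hm : ⁅V, N⁆.map (MulAut.conj l).toMonoidHom ≤ ⁅V, N⁆ := by
        rw [map_commutator]
        exact commutator_mono (by rintro _ ⟨b, hb, rfl⟩; exact hVnorm.conj_mem b hb l)
          (by rintro _ ⟨b, hb, rfl⟩; exact hNn l hl b hb)
      exact hm (mem_map_of_mem _ ha)⟩
    rcases hmin _ hle (inv_commutator hVi hNi) hn' with h | h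
    · exfalso
      refine hV0 ((Subgroup.eq_bot_iff_forall V).2 fun v hv => hCVN v hv fun a ha => ?_)
      have h1 := commutator_mem_commutator hv ha
      rw [h, mem_bot, commutatorElement_eq_one_iff_mul_comm] at h1
      exact h1.symm
    · exact h
  exact hfromU (hfromS N hNS hVN)

omit IH hn hcop hxp

/-- Flavell: the fixed points in `[H, x]` are generated by the fixed points in the `[h, x]`. -/
theorem main (hp2 : p ≠ 2) : ∀ (n : ℕ) (H : Type u) [Group H] [Finite H], Nat.card H = n →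
    Group.IsSolvable H → (Nat.card H).Coprime p → ∀ x : MulAut H, x ^ p = 1 →
      commOf x ⊤ ⊓ fixer x ≤ D x := by
  intro n
  induction n using Nat.strongRecOn with
  | ind n ih =>
    intro H _ _ hn hsol hcop x hxp
    haveI := hsol
    exact claim_step (fun K _ _ hK => ih _ hK K rfl) hn hcop hxp hp2

end CfsgLib.Core.Flavell
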