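import Cfsg.Agent.Lib.Core.Cores
import Cfsg.Agent.Lib.Core.Nilpotent
import Mathlib

/-!
# Free modules for complements of Frobenius groups

* `exists_normal_element`: a finite group acting freely on a commutative ring with finitely many
  maximal ideals has an element whose conjugates give an invertible matrix
* `isInternal_of_isUnit`: semilinear operators over such a ring make a module free
* `exists_free`: a module of a Frobenius group with nilpotent kernel fixing no vector is free over
  the complement
-/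

set_option autoImplicit false
set_option linter.all false

namespace CfsgLib.Core.FrobReg

open scoped Matrix

section Ring

variable {A H : Type*} [CommRing A] [Group H] [Finite H] [MulSemiringAction H A]

/-- A finite group acting faithfully on a field has an element with invertible matrix of conjugates. -/
theorem exists_normal_element_field (K : Type*) [Field K] (S : Type*) [Group S] [Fintype S] [DecidableEq S]
    [MulSemiringAction S K] [FaithfulSMul S K] :
    ∃ α : K, ∀ c : S → K, (∀ s, ∑ t, (s * t) • α * c t = 0) → c = 0 := by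
  classical
  haveI : IsGalois (FixedPoints.subfield S K) K := by
    constructor
  obtain ⟨α, hα⟩ := exists_linearIndependent_algEquiv_apply (K := FixedPoints.subfield S K) (L := K)
  have hli : LinearIndependent (FixedPoints.subfield S K) fun t : S => t • α :=
    hα.comp _ (FixedPoints.toAlgAut_bijective S K).injective
  have hcard : Fintype.card S = Module.finrank (FixedPoints.subfield S K) K :=
    (FixedPoints.finrank_eq_card S K).symm
  have hspan := hli.span_eq_top_of_card_eq_finrank hcard
  refine ⟨α, fun c hc => ?_⟩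
  set M : Matrix S S K := Matrix.of fun s t => (s * t) • α with hM
  by_contra hne
  have hdet : M.det = 0 := Matrix.exists_mulVec_eq_zero_iff.1 ⟨c, hne, funext fun s => hc s⟩
  obtain ⟨d, hd, hdM⟩ := Matrix.exists_vecMul_eq_zero_iff.2 hdet
  have hind := (linearIndependent_monoidHom K K).comp
    (fun s : S => (MulSemiringAction.toRingHom S K s : K →* K)) fun s t h =>
      eq_of_smul_eq_smul fun x : K => DFunLike.congr_fun h x
  rw [Fintype.linearIndependent_iff] at hind
  refine hd (funext (hind d ?_))
  let L : K →ₗ[FixedPoints.subfield S K] K :=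
    ∑ s, d s • (MulSemiringAction.toAlgHom (FixedPoints.subfield S K) K s).toLinearMap
  have hL : L = 0 := LinearMap.ext_on_range hspan fun t => by
    have := congrFun hdM t
    simpa [L, M, Matrix.vecMul, dotProduct, mul_smul] using this
  funext x
  have := LinearMap.congr_fun hL x
  simpa [L] using this

/-- The image of a maximal ideal. -/
noncomputable def smulMax (h : H) (m : MaximalSpectrum A) : MaximalSpectrum A :=
  ⟨Ideal.comap (MulSemiringAction.toRingHom H A h⁻¹) m.asIdeal,
    Ideal.comap_isMaximal_of_surjective _ fun y => ⟨h • y, inv_smul_smul h y⟩⟩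

theorem mem_smulMax {h : H} {m : MaximalSpectrum A} {x : A} :
    x ∈ (smulMax h m).asIdeal ↔ h⁻¹ • x ∈ m.asIdeal := Iff.rfl

/-- A free action has an element whose matrix of conjugates is invertible. -/
theorem exists_normal_element [Fintype H] [DecidableEq H] [Finite (MaximalSpectrum A)]
    (hfree : ∀ (m : MaximalSpectrum A) (h : H), h ≠ 1 → ∃ x : A, h • x - x ∉ m.asIdeal) :
    ∃ a : A, IsUnit (Matrix.of fun g h : H => (g * h) • a).det := by
  classical
  letI : MulAction H (MaximalSpectrum A) :=
    { smul := smulMax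
      one_smul := fun m => MaximalSpectrum.ext (SetLike.ext fun x => by
        show x ∈ (smulMax (1 : H) m).asIdeal ↔ x ∈ m.asIdeal
        rw [mem_smulMax, inv_one, one_smul])
      mul_smul := fun g h m => MaximalSpectrum.ext (SetLike.ext fun x => by
        show x ∈ (smulMax (g * h) m).asIdeal ↔ x ∈ (smulMax g (smulMax h m)).asIdeal
        rw [mem_smulMax, mem_smulMax, mem_smulMax, mul_inv_rev, mul_smul]) }
  have hmem : ∀ (h : H) (m : MaximalSpectrum A) (x : A), x ∈ (h • m).asIdeal ↔ h⁻¹ • x ∈ m.asIdeal :=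
    fun _ _ _ => Iff.rfl
  -- the element required at a single maximal ideal
  have hloc : ∀ m : MaximalSpectrum A, ∃ α : A, ∀ c : MulAction.stabilizer H m → A,
      (∀ s, ∑ t, ((s * t : MulAction.stabilizer H m) : H) • α * c t ∈ m.asIdeal) → ∀ t, c t ∈ m.asIdeal := by
    intro m
    haveI := m.isMaximal
    letI : Field (A ⧸ m.asIdeal) := Ideal.Quotient.field _
    set S := MulAction.stabilizer H m
    have hst : ∀ (s : S), m.asIdeal ≤ Ideal.comap (MulSemiringAction.toRingHom H A (s : H)) m.asIdeal := by
      intro s x hx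
      rw [Ideal.mem_comap]
      show (s : H) • x ∈ _
      have hs : (s : H) • m = m := s.2
      rw [← hs, hmem, inv_smul_smul]
      exact hx
    letI : SMul S (A ⧸ m.asIdeal) := ⟨fun s => Ideal.quotientMap _ _ (hst s)⟩
    have hmk : ∀ (s : S) (x : A), s • (Ideal.Quotient.mk m.asIdeal x) = Ideal.Quotient.mk m.asIdeal ((s : H) • x) :=
      fun s x => rfl
    letI : MulSemiringAction S (A ⧸ m.asIdeal) :=
      { smul := (· • ·)
        one_smul := fun x => by
          obtain ⟨x, rfl⟩ := Ideal.Quotient.mk_surjective x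
          rw [hmk, OneMemClass.coe_one, one_smul]
        mul_smul := fun s t x => by
          obtain ⟨x, rfl⟩ := Ideal.Quotient.mk_surjective x
          rw [hmk, hmk, hmk, Subgroup.coe_mul, mul_smul]
        smul_zero := fun s => map_zero (Ideal.quotientMap _ _ (hst s))
        smul_add := fun s x y => map_add (Ideal.quotientMap _ _ (hst s)) x y
        smul_one := fun s => map_one (Ideal.quotientMap _ _ (hst s))
        smul_mul := fun s x y => map_mul (Ideal.quotientMap _ _ (hst s)) x y }
    haveI : FaithfulSMul S (A ⧸ m.asIdeal) := ⟨fun {s t} h => by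
      by_contra hne
      obtain ⟨x, hx⟩ := hfree m ((t⁻¹ * s : S) : H) (fun e => hne (inv_mul_eq_one.1 (Subtype.ext e)).symm)
      apply hx
      rw [← Ideal.Quotient.eq, ← hmk, mul_smul, h, inv_smul_smul]⟩
    obtain ⟨α, hα⟩ := exists_normal_element_field (A ⧸ m.asIdeal) S
    obtain ⟨α, rfl⟩ := Ideal.Quotient.mk_surjective α
    refine ⟨α, fun c hc t => Ideal.Quotient.eq_zero_iff_mem.1 (congrFun (hα (fun t => Ideal.Quotient.mk _ (c t)) fun s => ?_) t)⟩
    have := Ideal.Quotient.eq_zero_iff_mem.2 (hc s)
    rw [map_sum] at this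
    simpa only [map_mul, ← hmk] using this
  choose α hα using hloc
  let r : MaximalSpectrum A → MaximalSpectrum A := fun m =>
    (Quotient.out (Quotient.mk (MulAction.orbitRel H (MaximalSpectrum A)) m))
  have hr : ∀ (h : H) m, r (h • m) = r m := fun h m => by
    simp only [r]
    rw [Quotient.sound (s := MulAction.orbitRel H _) (MulAction.mem_orbit m h)]
  have hrm : ∀ m, ∃ h : H, h • r m = m := fun m => by
    obtain ⟨h, hh⟩ := Quotient.mk_out (s := MulAction.orbitRel H _) m
    exact ⟨h⁻¹, by show h⁻¹ • r m = m; rw [show r m = h • m from hh.symm, inv_smul_smul]⟩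
  -- Chinese remainder
  have hco : Pairwise (Function.onFun IsCoprime fun m : MaximalSpectrum A => m.asIdeal) := fun i j hij =>
    Ideal.isCoprime_iff_sup_eq.2 (i.isMaximal.coprime_of_ne j.isMaximal fun e => hij (MaximalSpectrum.ext e))
  obtain ⟨z, hz⟩ := (Ideal.quotientInfRingEquivPiQuotient _ hco).surjective
    fun m => Ideal.Quotient.mk m.asIdeal (if r m = m then α m else 0)
  obtain ⟨a, rfl⟩ := Ideal.Quotient.mk_surjective z
  have ha : ∀ m : MaximalSpectrum A, a - (if r m = m then α m else 0) ∈ m.asIdeal := fun m =>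
    Ideal.Quotient.eq.1 (congrFun hz m)
  refine ⟨a, ?_⟩
  -- at a representative
  have hrep : ∀ m : MaximalSpectrum A, r m = m → ∀ c : H → A,
      (∀ g, ∑ h, (g * h) • a * c h ∈ m.asIdeal) → ∀ h, c h ∈ m.asIdeal := by
    intro m hm c hc h₀
    haveI := m.isMaximal
    have hout : ∀ k : H, k ∉ MulAction.stabilizer H m → k • a ∈ m.asIdeal := by
      intro k hk
      have h1 := ha (k⁻¹ • m)
      have hne : r (k⁻¹ • m) ≠ k⁻¹ • m := by
        rw [hr, hm]
        intro e
        exact hk (MulAction.mem_stabilizer_iff.2 (by conv_lhs => rw [e, smul_inv_smul]))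
      rwa [if_neg hne, sub_zero, hmem, inv_inv] at h1
    have := hα m (fun t => c (h₀ * (t : H))) (fun s => ?_) 1
    · simpa using this
    have h1 := hc ((s : H) * h₀⁻¹)
    rw [← Equiv.sum_comp (Equiv.mulLeft h₀)] at h1
    rw [← Ideal.Quotient.eq_zero_iff_mem, map_sum] at h1 ⊢
    rw [← h1]
    refine Finset.sum_bij_ne_zero (fun t _ _ => (t : H)) (fun _ _ _ => Finset.mem_univ _)
      (fun _ _ _ _ _ _ e => Subtype.ext e) ?_ ?_
    · intro k _ hk
      have hkS : k ∈ MulAction.stabilizer H m := by
        by_contra hk'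
        refine hk (Ideal.Quotient.eq_zero_iff_mem.2 ?_)
        simp only [Equiv.coe_mulLeft, mul_assoc, inv_mul_cancel_left]
        refine Ideal.mul_mem_right _ _ (hout _ fun e => hk' ?_)
        simpa using mul_mem (inv_mem s.2) e
      refine ⟨⟨k, hkS⟩, Finset.mem_univ _, ?_, rfl⟩
      intro h0
      apply hk
      rw [← h0]
      simp only [Equiv.coe_mulLeft, mul_assoc, inv_mul_cancel_left, map_mul]
      congr 1
      rw [Ideal.Quotient.eq]
      have h2 := ha m
      rw [if_pos hm] at h2
      have hsk : (s : H) * k ∈ MulAction.stabilizer H m := mul_mem s.2 hkS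
      have h3 := (hmem ((s : H) * k) m (((s : H) * k) • (a - α m))).2 (by rw [inv_smul_smul]; exact h2)
      rw [MulAction.mem_stabilizer_iff.1 hsk, smul_sub] at h3
      exact h3
    · intro t _ _
      simp only [Equiv.coe_mulLeft, mul_assoc, inv_mul_cancel_left, map_mul]
      congr 1
      rw [Ideal.Quotient.eq]
      have h2 := ha m
      rw [if_pos hm] at h2
      have hsk : (s : H) * t ∈ MulAction.stabilizer H m := mul_mem s.2 t.2
      have h3 := (hmem ((s : H) * t) m (((s : H) * t) • (a - α m))).2 (by rw [inv_smul_smul]; exact h2)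
      rw [MulAction.mem_stabilizer_iff.1 hsk, smul_sub] at h3
      rw [← neg_mem_iff, neg_sub]
      exact h3
  by_contra hu
  obtain ⟨M, hM, hdM⟩ := exists_max_ideal_of_mem_nonunits hu
  let mM : MaximalSpectrum A := ⟨M, hM⟩
  letI : Field (A ⧸ M) := Ideal.Quotient.field _
  have h0 : ((Matrix.of fun g h : H => (g * h) • a).map (Ideal.Quotient.mk M)).det = 0 := by
    rw [← RingHom.mapMatrix_apply, ← RingHom.map_det, Ideal.Quotient.eq_zero_iff_mem]
    exact hdM
  obtain ⟨v, hv, hv0⟩ := Matrix.exists_mulVec_eq_zero_iff.2 h0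
  choose c hc using fun h => Ideal.Quotient.mk_surjective (I := M) (v h)
  obtain ⟨x, hx⟩ := hrm mM
  apply hv
  funext h
  have key := hrep (r mM) (by simp only [r, Quotient.out_eq]) (fun h => x⁻¹ • c h) (fun g => ?_) h
  · have : c h ∈ mM.asIdeal := by rw [← hx, hmem]; exact key
    rw [← hc h]; exact Ideal.Quotient.eq_zero_iff_mem.2 this
  have h1 : ∑ k, (x * g * k) • a * c k ∈ mM.asIdeal := by
    rw [← Ideal.Quotient.eq_zero_iff_mem, map_sum]
    have := congrFun hv0 (x * g)
    simpa [Matrix.mulVec, dotProduct, hc, mM] using this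
  rw [← hx, hmem, Finset.smul_sum] at h1
  simpa [smul_mul', ← mul_smul, mul_assoc] using h1

/-- A unit matrix of conjugates makes every semilinear module free. -/
theorem isInternal_of_isUnit [Fintype H] [DecidableEq H] {k V : Type*} [Field k] [AddCommGroup V] [Module k V]
    (ι : A →+* Module.End k V) (T : H →* Module.End k V) (hT : ∀ h x, T h * ι x = ι (h • x) * T h)
    {a : A} (ha : IsUnit (Matrix.of fun g h : H => (g * h) • a).det) :
    ∃ W : Submodule k V, DirectSum.IsInternal fun h => W.map (T h) := by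
  classical
  set M : Matrix H H A := Matrix.of fun g h => (g * h) • a with hM
  set b : H → A := fun h => M⁻¹ h 1
  have hMN : M * Matrix.of (fun h g : H => g • b h) = 1 := by
    ext u g
    have h1 := congrFun (congrFun (Matrix.mul_nonsing_inv M ha) (g⁻¹ * u)) 1
    rw [Matrix.mul_apply] at h1 ⊢
    have h2 := congrArg (g • ·) h1
    simp only [Finset.smul_sum, smul_mul', M, Matrix.of_apply, ← mul_smul, mul_inv_cancel_left,
      ← mul_assoc, mul_inv_cancel, one_mul, Matrix.one_apply, inv_mul_eq_one] at h2 ⊢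
    simp only [b, M]
    rw [h2]
    by_cases e : u = g <;> simp [e, eq_comm]
  have hNM := mul_eq_one_comm.1 hMN
  let W0 : Submodule k V := ⨅ h : H, LinearMap.ker (T h - 1)
  have hW0 : ∀ {v}, v ∈ W0 ↔ ∀ h, T h v = v := fun {v} => by simp [W0, sub_eq_zero]
  have hmove : ∀ (h : H) (x : A) (v : V), T h (ι x v) = ι (h • x) (T h v) := fun h x v => by
    rw [← Module.End.mul_apply, hT, Module.End.mul_apply]
  refine ⟨W0.map (ι a), DirectSum.isInternal_submodule_of_iSupIndep_of_iSup_eq_top ?_ ?_⟩
  · rw [iSupIndep_iff_finset_sum_eq_zero_imp_eq_zero]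
    intro s u hu h0 i hi
    have hw : ∀ h ∈ s, ∃ w ∈ W0, u h = ι (h • a) w := fun h hh => by
      obtain ⟨y, ⟨w, hw, rfl⟩, hy⟩ := hu h hh
      exact ⟨w, hw, by rw [← hy, hmove, hW0.1 hw]⟩
    choose! w hw hwu using hw
    let D : Module.End k V := ∑ g, ι (g • b i) * T g
    have hD : ∀ h ∈ s, D (u h) = if i = h then w h else 0 := fun h hh => by
      have e := congrFun (congrFun hNM i) h
      rw [Matrix.mul_apply] at e
      simp only [M, Matrix.of_apply, mul_smul] at e
      have : D (u h) = ι (∑ g : H, g • b i * g • h • a) (w h) := by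
        rw [hwu h hh, map_sum]
        simp only [D, LinearMap.sum_apply, Module.End.mul_apply]
        refine Finset.sum_congr rfl fun g _ => ?_
        rw [hmove, hW0.1 (hw h hh), map_mul, Module.End.mul_apply]
      rw [this, e, Matrix.one_apply]
      split_ifs with h' <;> simp
    have e := congrArg D h0
    rw [map_sum, map_zero, Finset.sum_congr rfl hD, Finset.sum_ite_eq, if_pos hi] at e
    rw [hwu i hi, e, map_zero]
  · rw [eq_top_iff]
    intro v _
    have hv : v = ∑ h, ι (h • a) (∑ g, ι (g • b h) (T g v)) := by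
      symm
      simp only [map_sum]
      rw [Finset.sum_comm]
      have : ∀ g, ∑ h, ι (h • a) (ι (g • b h) (T g v)) = ι ((1 : Matrix H H A) 1 g) (T g v) := fun g => by
        rw [← hMN, Matrix.mul_apply, map_sum, LinearMap.sum_apply]
        simp [M]
      rw [Finset.sum_congr rfl fun g _ => this g, Finset.sum_eq_single (1 : H)]
      · simp
      · intro g _ hg; simp [Matrix.one_apply, Ne.symm hg]
      · simp
    rw [hv]
    refine Submodule.sum_mem _ fun h _ => Submodule.mem_iSup_of_mem h ?_
    refine ⟨_, ⟨∑ g, ι (g • b h) (T g v), hW0.2 fun x => ?_, rfl⟩, ?_⟩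
    · rw [map_sum]
      refine Fintype.sum_equiv (Equiv.mulLeft x) _ _ fun g => ?_
      rw [hmove, ← Module.End.mul_apply (T x), ← map_mul, ← mul_smul]
      rfl
    · rw [hmove, show T h (∑ g, ι (g • b h) (T g v)) = ∑ g, ι (g • b h) (T g v) from ?_]
      rw [map_sum]
      refine Fintype.sum_equiv (Equiv.mulLeft h) _ _ fun g => ?_
      rw [hmove, ← Module.End.mul_apply (T h), ← map_mul, ← mul_smul]
      rfl

end Ring

section Module

variable {k : Type*} [Field k] {H : Type*} [Group H] [Finite H]

/-- A `p`-group acting on a nonzero space in characteristic `p` fixes a nonzero vector. -/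
theorem exists_fixed_of_isPGroup {p : ℕ} [hp : Fact p.Prime] [CharP k p] {P : Type*} [Group P] [Finite P]
    (hP : IsPGroup p P) {V : Type*} [AddCommGroup V] [Module k V] (ρ : P →* Module.End k V) {u : V}
    (hu : u ≠ 0) : ∃ v ∈ Submodule.span k (Set.range fun g => ρ g u), v ≠ 0 ∧ ∀ g, ρ g v = v := by
  classical
  haveI := Fintype.ofFinite P
  let f : (P → ZMod p) →+ V :=
    { toFun := fun c => ∑ g, (ZMod.castHom dvd_rfl k (c g)) • ρ g u
      map_zero' := by simp
      map_add' := fun c d => by simp [add_smul, Finset.sum_add_distrib] }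
  have hinv : ∀ (x : P) (w : f.range), ρ x (w : V) ∈ f.range := by
    rintro x ⟨_, c, rfl⟩
    refine ⟨fun g => c (x⁻¹ * g), ?_⟩
    show ∑ g, _ = ρ x (∑ g, _)
    rw [map_sum]
    refine (Fintype.sum_equiv (Equiv.mulLeft x) _ _ fun g => ?_).symm
    simp [map_mul]
  letI : MulAction P f.range :=
    { smul := fun x w => ⟨ρ x (w : V), hinv x w⟩
      one_smul := fun w => Subtype.ext (show ρ 1 (w : V) = w by simp)
      mul_smul := fun x y w => Subtype.ext (show ρ (x * y) (w : V) = ρ x (ρ y w) by simp) }
  haveI : Finite f.range := Finite.of_surjective f.rangeRestrict f.rangeRestrict_surjective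
  have hu' : u ∈ f.range := ⟨Pi.single 1 1, by
    show ∑ g, _ = u
    rw [Finset.sum_eq_single (1 : P)]
    · simp
    · intro g _ hg; simp [hg]
    · simp⟩
  haveI : Nontrivial f.range := ⟨⟨⟨u, hu'⟩, 0, fun e => hu (congrArg Subtype.val e)⟩⟩
  have hd : p ∣ Nat.card f.range := by
    have h1 : Nat.card f.range ∣ p ^ Nat.card P := by
      have h := AddSubgroup.card_dvd_of_surjective f.rangeRestrict f.rangeRestrict_surjective
      rwa [Nat.card_fun, Nat.card_zmod] at h
    obtain ⟨i, -, hi⟩ := (Nat.dvd_prime_pow hp.out).1 h1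
    rcases i with _ | i
    · exact absurd hi (Finite.one_lt_card (α := f.range)).ne'
    · exact ⟨p ^ i, by rw [hi, pow_succ']⟩
  have hfix : (0 : f.range) ∈ MulAction.fixedPoints P f.range := fun x => Subtype.ext (map_zero (ρ x))
  obtain ⟨w, hw, hne⟩ := hP.exists_fixed_point_of_prime_dvd_card_of_fixed_point f.range hd hfix
  refine ⟨(w : V), ?_, fun h => hne (Subtype.ext h.symm), fun g => congrArg Subtype.val (hw g)⟩
  obtain ⟨c, hc⟩ := w.2
  rw [← hc]
  exact Submodule.sum_mem _ fun g _ => Submodule.smul_mem _ _ (Submodule.subset_span ⟨g, rfl⟩)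

/-- The case of an abelian kernel of order invertible in the field. -/
theorem exists_free_abelian {V : Type*} [AddCommGroup V] [Module k V] [FiniteDimensional k V]
    [DecidableEq H] {R : Type*} [CommGroup R] [Finite R] (hR : (Nat.card R : k) ≠ 0)
    (θ : H →* MulAut R) (hfpf : ∀ h, h ≠ 1 → ∀ x, θ h x = x → x = 1)
    (ρ : R →* Module.End k V) (T : H →* Module.End k V) (hT : ∀ h x, T h * ρ x = ρ (θ h x) * T h)
    (hfix : ∀ v, (∀ x, ρ x v = v) → v = 0) :
    ∃ W : Submodule k V, DirectSum.IsInternal fun h => W.map (T h) := by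
  classical
  haveI := Fintype.ofFinite R
  haveI := Fintype.ofFinite H
  set A : Subalgebra k (Module.End k V) := Algebra.adjoin k (Set.range ρ) with hA
  letI : CommRing A := Algebra.adjoinCommRingOfComm k (by
    rintro _ ⟨x, rfl⟩ _ ⟨y, rfl⟩
    rw [← map_mul, ← map_mul, mul_comm])
  have hTT : ∀ h, T h⁻¹ * T h = 1 := fun h => by rw [← map_mul, inv_mul_cancel, map_one]
  let c : H → Module.End k V →ₗ[k] Module.End k V := fun h =>
    { toFun := fun f => T h * f * T h⁻¹
      map_add' := fun f g => by rw [mul_add, add_mul]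
      map_smul' := fun a f => by simp }
  have hc : ∀ h, ∀ f ∈ A, c h f ∈ A := by
    intro h f hf
    induction hf using Algebra.adjoin_induction with
    | mem f hf =>
      obtain ⟨x, rfl⟩ := hf
      show T h * ρ x * T h⁻¹ ∈ A
      rw [hT, mul_assoc, ← map_mul, mul_inv_cancel, map_one, mul_one]
      exact Algebra.subset_adjoin ⟨_, rfl⟩
    | algebraMap r =>
      show T h * algebraMap k _ r * T h⁻¹ ∈ A
      rw [← Algebra.commutes, mul_assoc, ← map_mul, mul_inv_cancel, map_one, mul_one]
      exact A.algebraMap_mem r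
    | add f g _ _ hf hg => rw [map_add]; exact A.add_mem hf hg
    | mul f g _ _ hf hg =>
      have : c h (f * g) = c h f * c h g := by
        show _ = T h * f * T h⁻¹ * (T h * g * T h⁻¹)
        calc T h * (f * g) * T h⁻¹ = T h * f * (T h⁻¹ * T h) * g * T h⁻¹ := by
              rw [hTT, mul_one]; simp only [mul_assoc]
          _ = _ := by simp only [mul_assoc]
      rw [this]; exact A.mul_mem hf hg
  letI : MulSemiringAction H A :=
    { smul := fun h f => ⟨c h f, hc h f f.2⟩
      one_smul := fun f => Subtype.ext (show T 1 * (f : Module.End k V) * T 1⁻¹ = f by simp)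
      mul_smul := fun g h f => Subtype.ext (show T (g * h) * (f : Module.End k V) * T (g * h)⁻¹ =
        T g * (T h * f * T h⁻¹) * T g⁻¹ by rw [mul_inv_rev, map_mul, map_mul]; simp only [mul_assoc])
      smul_zero := fun h => Subtype.ext (map_zero (c h))
      smul_add := fun h f g => Subtype.ext (map_add (c h) _ _)
      smul_one := fun h => Subtype.ext (show T h * 1 * T h⁻¹ = 1 by
        rw [mul_one, ← map_mul, mul_inv_cancel, map_one])
      smul_mul := fun h f g => Subtype.ext (show T h * ((f : Module.End k V) * g) * T h⁻¹ =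
          T h * f * T h⁻¹ * (T h * g * T h⁻¹) by
        calc T h * ((f : Module.End k V) * g) * T h⁻¹ = T h * f * (T h⁻¹ * T h) * g * T h⁻¹ := by
              rw [hTT, mul_one]; simp only [mul_assoc]
          _ = _ := by simp only [mul_assoc]) }
  let r : R → A := fun x => ⟨ρ x, Algebra.subset_adjoin ⟨x, rfl⟩⟩
  have hsr : ∀ h x, h • r x = r (θ h x) := fun h x => Subtype.ext (show T h * ρ x * T h⁻¹ = ρ (θ h x) by
    rw [hT, mul_assoc, ← map_mul, mul_inv_cancel, map_one, mul_one])
  haveI : FiniteDimensional k A := FiniteDimensional.finiteDimensional_submodule (Subalgebra.toSubmodule A)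
  haveI : IsArtinianRing A := IsArtinianRing.of_finite k A
  have hfree : ∀ (m : MaximalSpectrum A) (h : H), h ≠ 1 → ∃ x : A, h • x - x ∉ m.asIdeal := by
    intro m h hh
    by_contra hcon
    push Not at hcon
    haveI := m.isMaximal
    letI : Field (A ⧸ m.asIdeal) := Ideal.Quotient.field _
    let χ : R →* A ⧸ m.asIdeal :=
      { toFun := fun x => Ideal.Quotient.mk _ (r x)
        map_one' := by rw [show r 1 = 1 from Subtype.ext (map_one ρ), map_one]
        map_mul' := fun x y => by rw [show r (x * y) = r x * r y from Subtype.ext (map_mul ρ x y), map_mul] }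
    have hχ : ∀ y, χ y = 1 := by
      have hsur : Function.Surjective fun x : R => x⁻¹ * θ h x := by
        refine Finite.surjective_of_injective fun a b hab => ?_
        refine mul_inv_eq_one.1 (hfpf h hh _ ?_)
        have h2 : θ h a = a * b⁻¹ * θ h b := by
          have := congrArg (fun z => a * z) hab
          simpa [mul_assoc] using this
        rw [map_mul, map_inv, h2, mul_assoc, mul_inv_cancel, mul_one]
      intro y
      obtain ⟨x, rfl⟩ := hsur y
      have e : χ (θ h x) = χ x := by
        show Ideal.Quotient.mk _ (r (θ h x)) = Ideal.Quotient.mk _ (r x)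
        rw [← hsr, Ideal.Quotient.eq]
        exact hcon _
      rw [map_mul, e, ← map_mul, inv_mul_cancel, map_one]
    have hsum : ∑ x, r x = 0 := by
      refine Subtype.ext ?_
      rw [show ((∑ x, r x : A) : Module.End k V) = ∑ x, ρ x by simp [r], ZeroMemClass.coe_zero]
      refine LinearMap.ext fun v => hfix _ fun y => ?_
      rw [← Module.End.mul_apply, Finset.mul_sum]
      congr 1
      exact Fintype.sum_equiv (Equiv.mulLeft y) _ _ fun x => (map_mul ρ y x).symm
    have e := congrArg (Ideal.Quotient.mk m.asIdeal) hsum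
    rw [map_sum, map_zero, Finset.sum_congr rfl (fun x _ => show Ideal.Quotient.mk _ (r x) = 1 from hχ x),
      Finset.sum_const, Finset.card_univ, nsmul_eq_mul, mul_one, ← Nat.card_eq_fintype_card,
      ← map_natCast (algebraMap k (A ⧸ m.asIdeal))] at e
    exact hR ((map_eq_zero _).1 e)
  obtain ⟨a, ha⟩ := exists_normal_element hfree
  refine isInternal_of_isUnit (k := k) (A.val : A →+* Module.End k V) T (fun h x => ?_) ha
  show T h * (x : Module.End k V) = T h * x * T h⁻¹ * T h
  rw [mul_assoc (T h * (x : Module.End k V)), hTT, mul_one]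

theorem isInternal_sup {V : Type*} [AddCommGroup V] [Module k V] [DecidableEq H] (T : H →* Module.End k V)
    {V1 V2 W1 W2 : Submodule k V} (hd : Disjoint V1 V2) (hs : V1 ⊔ V2 = ⊤)
    (h1 : iSupIndep fun h => W1.map (T h)) (h1' : ⨆ h, W1.map (T h) = V1)
    (h2 : iSupIndep fun h => W2.map (T h)) (h2' : ⨆ h, W2.map (T h) = V2) :
    DirectSum.IsInternal fun h => (W1 ⊔ W2).map (T h) := by
  classical
  refine DirectSum.isInternal_submodule_of_iSupIndep_of_iSup_eq_top ?_ ?_
  swap
  · simp only [Submodule.map_sup, iSup_sup_eq, h1', h2', hs]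
  rw [iSupIndep_iff_finset_sum_eq_zero_imp_eq_zero] at h1 h2 ⊢
  intro s u hu h0
  have hsplit : ∀ i ∈ s, ∃ p q, p ∈ W1.map (T i) ∧ q ∈ W2.map (T i) ∧ p + q = u i := fun i hi => by
    have := hu i hi
    rw [Submodule.map_sup, Submodule.mem_sup] at this
    obtain ⟨p, hp, q, hq, e⟩ := this
    exact ⟨p, q, hp, hq, e⟩
  choose! p q hp hq hpq using hsplit
  rw [← Finset.sum_congr rfl hpq, Finset.sum_add_distrib] at h0
  have hp1 : ∑ i ∈ s, p i ∈ V1 := h1' ▸ Submodule.sum_mem _ fun i hi => Submodule.mem_iSup_of_mem i (hp i hi)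
  have hq2 : ∑ i ∈ s, q i ∈ V2 := h2' ▸ Submodule.sum_mem _ fun i hi => Submodule.mem_iSup_of_mem i (hq i hi)
  have e1 : ∑ i ∈ s, p i = 0 := Submodule.disjoint_def.1 hd _ hp1 (by
    rw [eq_neg_of_add_eq_zero_left h0]; exact neg_mem hq2)
  rw [e1, zero_add] at h0
  intro i hi
  rw [← hpq i hi, h1 s p hp e1 i hi, h2 s q hq h0 i hi, add_zero]

/-- The operators induced on an invariant subspace. -/
def restrictHom {V : Type*} [AddCommGroup V] [Module k V] (U : Submodule k V) {M : Type*} [Monoid M]
    (f : M →* Module.End k V) (hf : ∀ m, ∀ v ∈ U, f m v ∈ U) : M →* Module.End k U where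
  toFun m := (f m).restrict (hf m)
  map_one' := LinearMap.ext fun v => Subtype.ext (by simp)
  map_mul' m m' := LinearMap.ext fun v => Subtype.ext (by simp)

/-- The case of a nilpotent kernel of order invertible in the field. -/
theorem exists_free_of_invertible {n : ℕ} : ∀ {V : Type*} [AddCommGroup V] [Module k V]
    [FiniteDimensional k V] [DecidableEq H] {F : Type*} [Group F] [Finite F] [Group.IsNilpotent F],
    Nat.card F = n → (Nat.card F : k) ≠ 0 → ∀ (θ : H →* MulAut F), (∀ h, h ≠ 1 → ∀ x, θ h x = x → x = 1) →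
    ∀ (ρ : F →* Module.End k V) (T : H →* Module.End k V), (∀ h x, T h * ρ x = ρ (θ h x) * T h) →
    (∀ v, (∀ x, ρ x v = v) → v = 0) →
    ∃ W : Submodule k V, DirectSum.IsInternal fun h => W.map (T h) := by
  induction n using Nat.strong_induction_on with
  | _ n ih =>
  intro V _ _ _ _ F _ _ _ hn hF θ hfpf ρ T hT hfix
  classical
  rcases subsingleton_or_nontrivial F with hs | hnt
  · refine ⟨⊥, ?_⟩
    haveI : Subsingleton V := ⟨fun v w => by
      rw [hfix v fun x => by rw [Subsingleton.elim x 1]; simp,
        hfix w fun x => by rw [Subsingleton.elim x 1]; simp]⟩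
    refine DirectSum.isInternal_submodule_of_iSupIndep_of_iSup_eq_top ?_ (Subsingleton.elim _ _)
    rw [iSupIndep_iff_finset_sum_eq_zero_imp_eq_zero]
    intros
    exact Subsingleton.elim _ _
  set Z := Subgroup.center F with hZ
  have hZne : Z ≠ ⊥ := by
    have := CfsgLib.Core.inf_center_ne_bot_of_isNilpotent (⊤ : Subgroup F) top_ne_bot
    rwa [top_inf_eq] at this
  haveI := Fintype.ofFinite Z
  letI : CommGroup Z := { (inferInstance : Group Z) with
    mul_comm := fun a b => Subtype.ext (Subgroup.mem_center_iff.1 b.2 a) }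
  have hZchar : ∀ h x, x ∈ Z → θ h x ∈ Z := fun h x hx => by
    rw [hZ, Subgroup.mem_center_iff] at hx ⊢
    intro y
    obtain ⟨y, rfl⟩ := (θ h).surjective y
    rw [← map_mul, hx y, map_mul]
  let θZ : H →* MulAut Z :=
    { toFun := fun h =>
        { toFun := fun x => ⟨θ h x, hZchar h x x.2⟩
          invFun := fun x => ⟨θ h⁻¹ x, hZchar h⁻¹ x x.2⟩
          left_inv := fun x => Subtype.ext (show θ h⁻¹ (θ h (x : F)) = x by
            rw [← MulAut.mul_apply, ← map_mul, inv_mul_cancel, map_one]; rfl)
          right_inv := fun x => Subtype.ext (show θ h (θ h⁻¹ (x : F)) = x by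
            rw [← MulAut.mul_apply, ← map_mul, mul_inv_cancel, map_one]; rfl)
          map_mul' := fun x y => Subtype.ext (map_mul (θ h) _ _) }
      map_one' := MulEquiv.ext fun x => Subtype.ext (show θ 1 (x : F) = x by simp)
      map_mul' := fun g h => MulEquiv.ext fun x => Subtype.ext (show θ (g * h) (x : F) = θ g (θ h x) by simp) }
  have hZk : (Nat.card Z : k) ≠ 0 := fun e => hF (by
    obtain ⟨d, hd⟩ := Z.card_subgroup_dvd_card
    rw [hd, Nat.cast_mul, e, zero_mul])
  -- the projection on the fixed space of the centre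
  let e : Module.End k V := (Nat.card Z : k)⁻¹ • ∑ z : Z, ρ (z : F)
  have hze : ∀ z : Z, ρ (z : F) * e = e := fun z => by
    simp only [e, mul_smul_comm, Finset.mul_sum]
    congr 1
    exact Fintype.sum_equiv (Equiv.mulLeft z) _ _ fun x => by simp
  have hee : ∀ v, (∀ z : Z, ρ (z : F) v = v) → e v = v := fun v hv => by
    simp only [e, LinearMap.smul_apply, LinearMap.sum_apply, hv, Finset.sum_const, Finset.card_univ,
      ← Nat.card_eq_fintype_card, ← Nat.cast_smul_eq_nsmul k, smul_smul, inv_mul_cancel₀ hZk, one_smul]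
  have hxe : ∀ x : F, ρ x * e = e * ρ x := fun x => by
    simp only [e, mul_smul_comm, smul_mul_assoc, Finset.mul_sum, Finset.sum_mul, ← map_mul]
    congr 1
    exact Finset.sum_congr rfl fun z _ => by rw [Subgroup.mem_center_iff.1 z.2 x]
  have hTe : ∀ h, T h * e = e * T h := fun h => by
    simp only [e, mul_smul_comm, smul_mul_assoc, Finset.mul_sum, Finset.sum_mul, hT]
    congr 1
    exact Fintype.sum_equiv (θZ h).toEquiv _ _ fun z => rfl
  have he2 : ∀ v, e (e v) = e v := fun v => hee _ fun z => by rw [← Module.End.mul_apply, hze]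
  set V1 := LinearMap.ker e with hV1
  set V2 := LinearMap.range e with hV2
  have hd : Disjoint V1 V2 := Submodule.disjoint_def.2 fun v h1 h2 => by
    obtain ⟨w, rfl⟩ := h2
    rw [← he2 w]
    exact h1
  have hs : V1 ⊔ V2 = ⊤ := by
    rw [eq_top_iff]
    intro v _
    rw [← sub_add_cancel v (e v)]
    exact Submodule.add_mem_sup (by rw [hV1, LinearMap.mem_ker, map_sub, he2, sub_self]) ⟨v, rfl⟩
  have hinv1 : ∀ (f : Module.End k V), f * e = e * f → ∀ v ∈ V1, f v ∈ V1 := fun f hf v hv => by
    rw [hV1, LinearMap.mem_ker] at hv ⊢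
    rw [← Module.End.mul_apply, ← hf, Module.End.mul_apply, hv, map_zero]
  have hinv2 : ∀ (f : Module.End k V), f * e = e * f → ∀ v ∈ V2, f v ∈ V2 := fun f hf v hv => by
    obtain ⟨w, rfl⟩ := hv
    exact ⟨f w, by rw [← Module.End.mul_apply, ← hf, Module.End.mul_apply]⟩
  obtain ⟨W1, hW1⟩ := exists_free_abelian hZk θZ
    (fun h hh x hx => Subtype.ext (hfpf h hh x (congrArg Subtype.val hx)))
    (restrictHom V1 (ρ.comp Z.subtype) fun z => hinv1 _ (hxe z)) (restrictHom V1 T fun h => hinv1 _ (hTe h))
    (fun h x => LinearMap.ext fun v => Subtype.ext (by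
      show T h (ρ (x : F) v) = ρ (θ h x) (T h v)
      rw [← Module.End.mul_apply, hT]; rfl))
    (fun v hv => by
      have h1 : e (v : V) = v := hee _ fun z => congrArg Subtype.val (hv z)
      refine Subtype.ext ?_
      rw [← h1]
      exact v.2)
  -- the centre acts trivially on the image
  have hker : Z ≤ (restrictHom V2 ρ fun x => hinv2 _ (hxe x)).ker := fun z hz => LinearMap.ext fun v => Subtype.ext (by
    obtain ⟨w, hw⟩ := v.2
    show ρ z (v : V) = v
    rw [← hw, ← Module.End.mul_apply, hze ⟨z, hz⟩])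
  let θQ : H →* MulAut (F ⧸ Z) :=
    { toFun := fun h => QuotientGroup.congr Z Z (θ h) (by
        ext y
        constructor
        · rintro ⟨x, hx, rfl⟩; exact hZchar h x hx
        · intro hy; exact ⟨θ h⁻¹ y, hZchar h⁻¹ y hy, show θ h (θ h⁻¹ y) = y by
            rw [← MulAut.mul_apply, ← map_mul, mul_inv_cancel, map_one]; rfl⟩)
      map_one' := MulEquiv.ext fun x => by
        obtain ⟨x, rfl⟩ := QuotientGroup.mk_surjective x
        show ((θ 1 x : F) : F ⧸ Z) = x
        simp
      map_mul' := fun g h => MulEquiv.ext fun x => by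
        obtain ⟨x, rfl⟩ := QuotientGroup.mk_surjective x
        show ((θ (g * h) x : F) : F ⧸ Z) = ((θ g (θ h x) : F) : F ⧸ Z)
        simp }
  have hfpfQ : ∀ h, h ≠ 1 → ∀ x : F ⧸ Z, θQ h x = x → x = 1 := by
    intro h hh
    let δ : F ⧸ Z → F ⧸ Z := fun x => x⁻¹ * θQ h x
    have hsur : Function.Surjective δ := by
      have hsurF : Function.Surjective fun x : F => x⁻¹ * θ h x := by
        refine Finite.surjective_of_injective fun a b hab => ?_
        refine mul_inv_eq_one.1 (hfpf h hh (a * b⁻¹) ?_)
        have h2 : θ h a = a * b⁻¹ * θ h b := by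
          have := congrArg (fun z => a * z) hab
          simpa [mul_assoc] using this
        rw [map_mul, map_inv, h2, mul_assoc, mul_inv_cancel, mul_one]
      intro y
      obtain ⟨y, rfl⟩ := QuotientGroup.mk_surjective y
      obtain ⟨x, hx⟩ := hsurF y
      exact ⟨x, show ((x⁻¹ * θ h x : F) : F ⧸ Z) = y by rw [← hx]⟩
    intro x hx
    exact (Finite.injective_iff_surjective.2 hsur) (show δ x = δ 1 by simp [δ, hx])
  have hlt : Nat.card (F ⧸ Z) < n := by
    have h1 := Z.card_mul_index
    rw [hn, Subgroup.index_eq_card] at h1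
    have h2 : 1 < Nat.card Z := (Subgroup.one_lt_card_iff_ne_bot Z).2 hZne
    have h3 : 0 < Nat.card (F ⧸ Z) := Nat.card_pos
    nlinarith
  obtain ⟨W2, hW2⟩ := ih _ hlt (V := V2) (F := F ⧸ Z) rfl
    (fun e => hF (by rw [← Z.card_mul_index, Subgroup.index_eq_card, Nat.cast_mul, e, mul_zero])) θQ hfpfQ
    (QuotientGroup.lift Z _ hker) (restrictHom V2 T fun h => hinv2 _ (hTe h))
    (fun h x => by
      obtain ⟨x, rfl⟩ := QuotientGroup.mk_surjective x
      refine LinearMap.ext fun v => Subtype.ext ?_
      show T h (ρ x (v : V)) = ρ (θ h x) (T h v)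
      rw [← Module.End.mul_apply, hT]; rfl)
    (fun v hv => Subtype.ext (hfix _ fun x => congrArg Subtype.val (hv x)))
  have push : ∀ (U : Submodule k V) (hU : ∀ h, ∀ v ∈ U, T h v ∈ U) (W : Submodule k U),
      DirectSum.IsInternal (fun h => W.map (restrictHom U T hU h)) →
      iSupIndep (fun h => (W.map U.subtype).map (T h)) ∧ ⨆ h, (W.map U.subtype).map (T h) = U := by
    intro U hU W hW
    have e : ∀ h, (W.map U.subtype).map (T h) = (W.map (restrictHom U T hU h)).map U.subtype := fun h => by
      rw [← Submodule.map_comp, ← Submodule.map_comp]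
      rfl
    simp only [e]
    refine ⟨?_, ?_⟩
    · have hi := hW.submodule_iSupIndep
      rw [iSupIndep_iff_finset_sum_eq_zero_imp_eq_zero] at hi ⊢
      intro s u hu h0
      choose! w hw hwu using fun i (hi : i ∈ s) => Submodule.mem_map.1 (hu i hi)
      intro i his
      have hz := hi s w hw (U.injective_subtype (by
        rw [map_sum, map_zero, Finset.sum_congr rfl hwu, h0])) i his
      rw [← hwu i his, hz, map_zero]
    · rw [← Submodule.map_iSup, hW.submodule_iSup_eq_top, Submodule.map_top, Submodule.range_subtype]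
  obtain ⟨i1, s1⟩ := push V1 _ W1 hW1
  obtain ⟨i2, s2⟩ := push V2 _ W2 hW2
  exact ⟨_, isInternal_sup T hd hs i1 s1 i2 s2⟩

/-- A module of a nilpotent group with a fixed-point-free group of operators is free over the
operators when the nilpotent group fixes no vector, in any characteristic. -/
theorem exists_free {V : Type*} [AddCommGroup V] [Module k V] [FiniteDimensional k V] [DecidableEq H]
    {F : Type*} [Group F] [Finite F] [Group.IsNilpotent F] (θ : H →* MulAut F)
    (hfpf : ∀ h, h ≠ 1 → ∀ x, θ h x = x → x = 1) (ρ : F →* Module.End k V) (T : H →* Module.End k V)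
    (hT : ∀ h x, T h * ρ x = ρ (θ h x) * T h) (hfix : ∀ v, (∀ x, ρ x v = v) → v = 0) :
    ∃ W : Submodule k V, DirectSum.IsInternal fun h => W.map (T h) := by
  classical
  by_cases hF : (Nat.card F : k) = 0
  swap
  · exact exists_free_of_invertible rfl hF θ hfpf ρ T hT hfix
  obtain ⟨p, hchar⟩ := CharP.exists k
  have hp : p.Prime := (CharP.char_is_prime_or_zero k p).resolve_right fun h0 => by
    subst h0
    haveI := CharP.charP_to_charZero k
    exact Nat.card_pos.ne' (Nat.cast_eq_zero.1 hF)
  haveI := Fact.mk hp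
  set N := Cfsg.pPrimeCore p F with hN
  haveI : N.Normal := CfsgLib.Core.normal_pPrimeCore p F
  have hNθ : ∀ h, ∀ x ∈ N, θ h x ∈ N := fun h x hx => by
    rw [hN, ← CfsgLib.Core.map_equiv_pPrimeCore (θ h)]
    exact ⟨x, hx, rfl⟩
  let θN : H →* MulAut N :=
    { toFun := fun h =>
        { toFun := fun x => ⟨θ h x, hNθ h x x.2⟩
          invFun := fun x => ⟨θ h⁻¹ x, hNθ h⁻¹ x x.2⟩
          left_inv := fun x => Subtype.ext (show θ h⁻¹ (θ h (x : F)) = x by
            rw [← MulAut.mul_apply, ← map_mul, inv_mul_cancel, map_one]; rfl)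
          right_inv := fun x => Subtype.ext (show θ h (θ h⁻¹ (x : F)) = x by
            rw [← MulAut.mul_apply, ← map_mul, mul_inv_cancel, map_one]; rfl)
          map_mul' := fun x y => Subtype.ext (map_mul (θ h) _ _) }
      map_one' := MulEquiv.ext fun x => Subtype.ext (show θ 1 (x : F) = x by simp)
      map_mul' := fun g h => MulEquiv.ext fun x => Subtype.ext (show θ (g * h) (x : F) = θ g (θ h x) by simp) }
  have hcN : (Nat.card N : k) ≠ 0 := fun e => by
    have h1 := (CharP.cast_eq_zero_iff k p _).1 e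
    have h2 := CfsgLib.Core.coprime_card_pPrimeCore p F
    exact (hp.coprime_iff_not_dvd.1 h2.symm) h1
  have hquot : IsPGroup p (F ⧸ N) := by
    have htop : (⊤ : Subgroup F) ≤ Cfsg.pCore p F ⊔ N := by
      refine le_trans (CfsgLib.Core.normal_le_finset_sup_pCore (⊤ : Subgroup F)) (Finset.sup_le fun q hq => ?_)
      by_cases hqp : q = p
      · subst hqp; exact le_sup_left
      · have hq' := Nat.prime_of_mem_primeFactors hq
        haveI := Fact.mk hq'
        haveI : (Cfsg.pCore q F).Normal := CfsgLib.Core.normal_pCore q F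
        refine le_trans (CfsgLib.Core.le_pPrimeCore (p := p) ?_) le_sup_right
        obtain ⟨i, hi⟩ := IsPGroup.iff_card.1 (CfsgLib.Core.isPGroup_pCore q F)
        rw [hi]
        exact Nat.Coprime.pow_left _ ((Nat.coprime_primes hq' hp).2 hqp)
    intro x
    obtain ⟨x, rfl⟩ := QuotientGroup.mk_surjective x
    haveI : (Cfsg.pCore p F).Normal := CfsgLib.Core.normal_pCore p F
    obtain ⟨a, ha, b, hb, rfl⟩ := Subgroup.mem_sup_of_normal_right.1 (htop (Subgroup.mem_top x))
    obtain ⟨i, hi⟩ := CfsgLib.Core.isPGroup_pCore p F ⟨a, ha⟩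
    refine ⟨i, ?_⟩
    rw [QuotientGroup.mk_mul, (QuotientGroup.eq_one_iff b).2 hb, mul_one, ← QuotientGroup.mk_pow,
      show a ^ p ^ i = 1 from congrArg Subtype.val hi, QuotientGroup.mk_one]
  refine exists_free_of_invertible (F := N) rfl hcN θN
    (fun h hh x hx => Subtype.ext (hfpf h hh x (congrArg Subtype.val hx))) (ρ.comp N.subtype) T
    (fun h x => hT h x) ?_
  by_contra hcon
  push Not at hcon
  obtain ⟨u, hu, hu0⟩ := hcon
  -- the fixed space of `N` is invariant and acted on by the `p`-group quotient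
  let U : Submodule k V := ⨅ z : N, LinearMap.ker (ρ (z : F) - 1)
  have hUm : ∀ {v}, v ∈ U ↔ ∀ z : N, ρ (z : F) v = v := fun {v} => by simp [U, sub_eq_zero]
  have hUinv : ∀ x, ∀ v ∈ U, ρ x v ∈ U := fun x v hv => hUm.2 fun z => by
    have h := hUm.1 hv ⟨x⁻¹ * z * x, by simpa using (‹N.Normal›).conj_mem _ z.2 x⁻¹⟩
    conv_rhs => rw [← h]
    rw [← Module.End.mul_apply, ← Module.End.mul_apply, ← map_mul, ← map_mul, ← mul_assoc, ← mul_assoc,
      mul_inv_cancel, one_mul]
  have hkerU : N ≤ (restrictHom U ρ hUinv).ker := fun z hz =>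
    LinearMap.ext fun v => Subtype.ext (hUm.1 v.2 ⟨z, hz⟩)
  obtain ⟨v, -, hv0, hv⟩ := exists_fixed_of_isPGroup hquot (QuotientGroup.lift N _ hkerU)
    (u := (⟨u, hUm.2 hu⟩ : U)) (fun e => hu0 (congrArg Subtype.val e))
  exact hv0 (Subtype.ext (hfix _ fun x => congrArg Subtype.val (hv (x : F ⧸ N))))

end Module

end CfsgLib.Core.FrobReg
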