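import Mathlib.Algebra.Lie.Basic
import Mathlib.Algebra.BigOperators.Group.List.Basic
import Mathlib.Algebra.Order.Ring.GeomSum
import Mathlib.Algebra.Field.ZMod
import Mathlib.Data.Fintype.BigOperators
import Mathlib.Tactic

/-!
# Lie rings graded by `ZMod p` with trivial zero component

The theorems of Kreknin and Higman: such a Lie ring is solvable of derived length at most
`2 ^ (p - 1) - 1` and nilpotent of class bounded in terms of `p`.
-/

set_option autoImplicit false
set_option linter.all false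

namespace CfsgLib.Core.HKK

variable {L : Type*} [LieRing L]

/-- The additive subgroup generated by brackets. -/
def br (A B : AddSubgroup L) : AddSubgroup L :=
  AddSubgroup.closure {z | ∃ a ∈ A, ∃ b ∈ B, ⁅a, b⁆ = z}

theorem mem_br {A B : AddSubgroup L} {a b : L} (ha : a ∈ A) (hb : b ∈ B) : ⁅a, b⁆ ∈ br A B :=
  AddSubgroup.subset_closure ⟨a, ha, b, hb, rfl⟩

theorem br_le {A B C : AddSubgroup L} (h : ∀ a ∈ A, ∀ b ∈ B, ⁅a, b⁆ ∈ C) : br A B ≤ C :=
  (AddSubgroup.closure_le _).mpr (by rintro _ ⟨a, ha, b, hb, rfl⟩; exact h a ha b hb)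

theorem br_mono {A B A' B' : AddSubgroup L} (hA : A ≤ A') (hB : B ≤ B') : br A B ≤ br A' B' :=
  br_le fun a ha b hb => mem_br (hA ha) (hB hb)

theorem closure_bracket {S T : Set L} {U : AddSubgroup L} (h : ∀ s ∈ S, ∀ t ∈ T, ⁅s, t⁆ ∈ U)
    {x y : L} (hx : x ∈ AddSubgroup.closure S) (hy : y ∈ AddSubgroup.closure T) : ⁅x, y⁆ ∈ U := by
  induction hx using AddSubgroup.closure_induction with
  | mem s hs =>
    induction hy using AddSubgroup.closure_induction with
    | mem t ht => exact h s hs t ht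
    | zero => rw [lie_zero]; exact zero_mem U
    | add a b _ _ ha hb => rw [lie_add]; exact add_mem ha hb
    | neg a _ ha => rw [lie_neg]; exact neg_mem ha
  | zero => rw [zero_lie]; exact zero_mem U
  | add a b _ _ ha hb => rw [add_lie]; exact add_mem ha hb
  | neg a _ ha => rw [neg_lie]; exact neg_mem ha

theorem skew_mem {U : AddSubgroup L} {x y : L} (h : ⁅x, y⁆ ∈ U) : ⁅y, x⁆ ∈ U := by
  rw [← lie_skew]; exact neg_mem h

theorem lie_lie_right (x y z : L) : ⁅x, ⁅y, z⁆⁆ = ⁅⁅x, y⁆, z⁆ - ⁅⁅x, z⁆, y⁆ := by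
  rw [leibniz_lie, ← lie_skew y ⁅x, z⁆, sub_eq_add_neg]

/-- The derived series relative to a subring. -/
def D (A : AddSubgroup L) : ℕ → AddSubgroup L
  | 0 => A
  | n + 1 => br (D A n) (D A n)

theorem D_add (A : AddSubgroup L) (n m : ℕ) : D A (n + m) = D (D A n) m := by
  induction m with
  | zero => rfl
  | succ m ih => rw [← Nat.add_assoc]; show br _ _ = br _ _; rw [ih]

theorem D_mono {A B : AddSubgroup L} (h : A ≤ B) : ∀ n, D A n ≤ D B n
  | 0 => h
  | n + 1 => br_mono (D_mono h n) (D_mono h n)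

theorem D_succ_le {A : AddSubgroup L} (h : br A A ≤ A) : ∀ n, D A (n + 1) ≤ D A n
  | 0 => h
  | n + 1 => br_mono (D_succ_le h n) (D_succ_le h n)

/-- The lower central series. -/
def C : ℕ → AddSubgroup L
  | 0 => ⊤
  | n + 1 => br (C n) ⊤

theorem C_antitone : ∀ {m n : ℕ}, m ≤ n → C n ≤ (C m : AddSubgroup L) := by
  intro m n h
  induction h with
  | refl => exact le_rfl
  | @step k _ ih =>
    refine le_trans ?_ ih
    have hs : ∀ k, C (k + 1) ≤ (C k : AddSubgroup L) := by
      intro k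
      induction k with
      | zero => exact le_top
      | succ k ihk => exact br_mono ihk le_rfl
    exact hs k

theorem br_C_le : ∀ (b a : ℕ), br (C a) (C b) ≤ (C (a + b + 1) : AddSubgroup L) := by
  intro b
  induction b with
  | zero => intro a; exact le_rfl
  | succ b ih =>
    intro a
    refine br_le fun x hx y hy => ?_
    change y ∈ AddSubgroup.closure _ at hy
    refine closure_bracket (S := {x}) (fun s hs t ht => ?_) (AddSubgroup.subset_closure rfl) hy
    obtain ⟨u, hu, v, -, rfl⟩ := ht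
    rw [Set.mem_singleton_iff.mp hs, lie_lie_right]
    refine sub_mem ?_ ?_
    · exact mem_br (ih a (mem_br hx hu)) (AddSubgroup.mem_top v)
    · have := ih (a + 1) (mem_br (mem_br hx (AddSubgroup.mem_top v)) hu)
      rwa [show a + (b + 1) + 1 = a + 1 + b + 1 by omega]

/-- A grading by `ZMod p`, given with its projections, with trivial zero component. -/
structure Grading (p : ℕ) [NeZero p] (L : Type*) [LieRing L] where
  part : ZMod p → AddSubgroup L
  proj : ZMod p → L →+ L
  lie_mem : ∀ {i j x y}, x ∈ part i → y ∈ part j → ⁅x, y⁆ ∈ part (i + j)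
  part_zero : part 0 = ⊥
  proj_self : ∀ {i x}, x ∈ part i → proj i x = x
  proj_ne : ∀ {i j x}, j ≠ i → x ∈ part j → proj i x = 0
  proj_mem : ∀ i x, proj i x ∈ part i
  sum_proj : ∀ x, ∑ i, proj i x = x

namespace Grading

variable {p : ℕ} [NeZero p] (𝒢 : Grading p L)

/-- The homogeneous elements of a subgroup. -/
def hset (A : AddSubgroup L) : Set L := {x | x ∈ A ∧ ∃ i, x ∈ 𝒢.part i}

/-- A subgroup generated by its homogeneous elements. -/
def Homog (A : AddSubgroup L) : Prop := A ≤ AddSubgroup.closure (𝒢.hset A)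

theorem homog_top : 𝒢.Homog ⊤ := fun x _ => by
  rw [← 𝒢.sum_proj x]
  exact sum_mem fun i _ => AddSubgroup.subset_closure ⟨AddSubgroup.mem_top _, i, 𝒢.proj_mem i x⟩

theorem homog_br {A B : AddSubgroup L} (hA : 𝒢.Homog A) (hB : 𝒢.Homog B) : 𝒢.Homog (br A B) := by
  refine br_le fun a ha b hb => closure_bracket ?_ (hA ha) (hB hb)
  rintro s ⟨hs, i, hi⟩ t ⟨ht, j, hj⟩
  exact AddSubgroup.subset_closure ⟨mem_br hs ht, i + j, 𝒢.lie_mem hi hj⟩

theorem homog_D {A : AddSubgroup L} (hA : 𝒢.Homog A) : ∀ n, 𝒢.Homog (D A n)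
  | 0 => hA
  | n + 1 => 𝒢.homog_br (homog_D hA n) (homog_D hA n)

theorem homog_C : ∀ n, 𝒢.Homog (C n)
  | 0 => 𝒢.homog_top
  | n + 1 => 𝒢.homog_br (homog_C n) 𝒢.homog_top

/-- The homogeneous elements of degree above `k`. -/
def gen (k : ℕ) (A : AddSubgroup L) : Set L := {x | x ∈ A ∧ ∃ i, k < i.val ∧ x ∈ 𝒢.part i}

/-- The subring they generate. -/
def sub (k : ℕ) (A : AddSubgroup L) : AddSubgroup L :=
  sInf {B | 𝒢.gen k A ⊆ B ∧ br B B ≤ B}

theorem gen_subset_sub (k : ℕ) (A : AddSubgroup L) : 𝒢.gen k A ⊆ 𝒢.sub k A := fun x hx =>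
  AddSubgroup.mem_sInf.mpr fun _ hB => hB.1 hx

theorem br_sub_le (k : ℕ) (A : AddSubgroup L) : br (𝒢.sub k A) (𝒢.sub k A) ≤ 𝒢.sub k A :=
  br_le fun a ha b hb => AddSubgroup.mem_sInf.mpr fun B hB =>
    hB.2 (mem_br (AddSubgroup.mem_sInf.mp ha B hB) (AddSubgroup.mem_sInf.mp hb B hB))

theorem sub_le {k : ℕ} {A B : AddSubgroup L} (h : 𝒢.gen k A ⊆ B) (hB : br B B ≤ B) :
    𝒢.sub k A ≤ B := sInf_le ⟨h, hB⟩

theorem homog_sub (k : ℕ) (A : AddSubgroup L) : 𝒢.Homog (𝒢.sub k A) := by
  refine 𝒢.sub_le (fun x hx => AddSubgroup.subset_closure ?_) (br_le fun a ha b hb => ?_)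
  · obtain ⟨-, i, -, hi⟩ := id hx
    exact ⟨𝒢.gen_subset_sub k A hx, i, hi⟩
  · refine closure_bracket ?_ ha hb
    rintro s ⟨hs, i, hi⟩ t ⟨ht, j, hj⟩
    exact AddSubgroup.subset_closure ⟨𝒢.br_sub_le k A (mem_br hs ht), i + j, 𝒢.lie_mem hi hj⟩

/-- The brackets of the subring are spanned by brackets with its generators. -/
theorem br_sub_span (k : ℕ) (A : AddSubgroup L) : br (𝒢.sub k A) (𝒢.sub k A) ≤
    AddSubgroup.closure {z | ∃ t ∈ 𝒢.hset (𝒢.sub k A), ∃ g ∈ 𝒢.gen k A, ⁅t, g⁆ = z} := by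
  generalize hW : AddSubgroup.closure {z | ∃ t ∈ 𝒢.hset (𝒢.sub k A), ∃ g ∈ 𝒢.gen k A, ⁅t, g⁆ = z} = W
  let B : AddSubgroup L :=
    { carrier := {y | y ∈ 𝒢.sub k A ∧ ∀ x ∈ 𝒢.sub k A, ⁅x, y⁆ ∈ W}
      zero_mem' := ⟨zero_mem _, fun x _ => by rw [lie_zero]; exact zero_mem W⟩
      add_mem' := fun {a b} ha hb => ⟨add_mem ha.1 hb.1, fun x hx => by
        rw [lie_add]; exact add_mem (ha.2 x hx) (hb.2 x hx)⟩
      neg_mem' := fun {a} ha => ⟨neg_mem ha.1, fun x hx => by
        rw [lie_neg]; exact neg_mem (ha.2 x hx)⟩ }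
  have hle : 𝒢.sub k A ≤ B := by
    refine 𝒢.sub_le (fun g hg => ⟨𝒢.gen_subset_sub k A hg, fun x hx => ?_⟩)
      (br_le fun y hy z hz => ⟨𝒢.br_sub_le k A (mem_br hy.1 hz.1), fun x hx => ?_⟩)
    · refine closure_bracket (T := {g}) ?_ (𝒢.homog_sub k A hx) (AddSubgroup.subset_closure rfl)
      intro s hs t ht
      rw [Set.mem_singleton_iff.mp ht, ← hW]
      exact AddSubgroup.subset_closure ⟨s, hs, g, hg, rfl⟩
    · rw [lie_lie_right]
      exact sub_mem (hz.2 _ (𝒢.br_sub_le k A (mem_br hx hy.1)))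
        (hy.2 _ (𝒢.br_sub_le k A (mem_br hx hz.1)))
  exact br_le fun a ha b hb => (hle hb).2 a ha

/-- Kreknin's theorem. -/
theorem D_le_sub : ∀ k, k ≤ p - 1 → ∀ A : AddSubgroup L, 𝒢.Homog A → br A A ≤ A →
    D A (2 ^ k - 1) ≤ 𝒢.sub k A := by
  intro k
  induction k with
  | zero =>
    intro _ A hA _
    refine hA.trans ((AddSubgroup.closure_le _).mpr ?_)
    rintro x ⟨hx, i, hi⟩
    by_cases h0 : i = 0
    · rw [h0, 𝒢.part_zero, AddSubgroup.mem_bot] at hi
      rw [hi]; exact zero_mem _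
    · exact 𝒢.gen_subset_sub 0 A ⟨hx, i, Nat.pos_of_ne_zero fun h => h0 ((ZMod.val_eq_zero i).mp h), hi⟩
  | succ k ih =>
    intro hk A hA hAc
    generalize hn : 2 ^ k - 1 = n at ih
    have hB := ih (by omega) A hA hAc
    have hA'A : D A (n + 1) ≤ A := by
      clear hB ih hn
      induction n with
      | zero => exact hAc
      | succ n ihn => exact (D_succ_le hAc (n + 1)).trans ihn
    have hA'c : br (D A (n + 1)) (D A (n + 1)) ≤ D A (n + 1) := D_succ_le hAc (n + 1)
    have h2 := ih (by omega) (D A (n + 1)) (𝒢.homog_D hA _) hA'c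
    have hidx : 2 ^ (k + 1) - 1 = n + 1 + n := by
      have := Nat.one_le_two_pow (n := k); rw [pow_succ]; omega
    rw [hidx, D_add]
    refine h2.trans (𝒢.sub_le ?_ (𝒢.br_sub_le _ _))
    rintro x ⟨hx, i, hik, hi⟩
    rcases Nat.lt_or_ge (k + 1) i.val with hlt | hge
    · exact 𝒢.gen_subset_sub (k + 1) A ⟨hA'A hx, i, hlt, hi⟩
    have hiv : i.val = k + 1 := by omega
    rw [← 𝒢.proj_self hi]
    have hmap : (br (𝒢.sub k A) (𝒢.sub k A)).map (𝒢.proj i) ≤ 𝒢.sub (k + 1) A := by
      refine (AddSubgroup.map_mono (𝒢.br_sub_span k A)).trans ?_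
      rw [AddMonoidHom.map_closure, AddSubgroup.closure_le]
      rintro _ ⟨_, ⟨t, ⟨ht, d, hd⟩, g, ⟨hg, j, hjk, hj⟩, rfl⟩, rfl⟩
      by_cases hdj : d + j = i
      · rw [𝒢.proj_self (hdj ▸ 𝒢.lie_mem hd hj)]
        by_cases hd0 : d = 0
        · rw [hd0, 𝒢.part_zero, AddSubgroup.mem_bot] at hd
          rw [hd, zero_lie]; exact zero_mem _
        have hji : j ≠ i := fun e => hd0 (by rwa [e, add_eq_right] at hdj)
        have hval : (d.val + j.val) % p = k + 1 := by rw [← ZMod.val_add, hdj, hiv]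
        have hjne : j.val ≠ k + 1 := fun e => hji (ZMod.val_injective p (e.trans hiv.symm))
        have hdlt := d.val_lt
        have hjlt := j.val_lt
        have hdgt : k + 1 < d.val := by
          rcases Nat.lt_or_ge (d.val + j.val) p with h | h
          · rw [Nat.mod_eq_of_lt h] at hval; omega
          · rw [Nat.mod_eq_sub_mod h, Nat.mod_eq_of_lt (by omega)] at hval; omega
        have htA : t ∈ A := 𝒢.sub_le (fun y hy => hy.1) hAc ht
        exact 𝒢.br_sub_le _ _ (mem_br (𝒢.gen_subset_sub _ A ⟨htA, d, hdgt, hd⟩)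
          (𝒢.gen_subset_sub _ A ⟨hg, j, by omega, hj⟩))
      · rw [𝒢.proj_ne hdj (𝒢.lie_mem hd hj)]
        exact zero_mem _
    exact hmap ⟨x, br_mono hB hB hx, rfl⟩

include 𝒢 in
theorem D_top_eq_bot : D (⊤ : AddSubgroup L) (2 ^ (p - 1) - 1) = ⊥ := by
  refine le_bot_iff.mp ((𝒢.D_le_sub (p - 1) le_rfl ⊤ 𝒢.homog_top le_top).trans (𝒢.sub_le ?_ ?_))
  · rintro x ⟨-, i, hi, -⟩
    have := i.val_lt
    omega
  · exact br_le fun a ha b hb => by rw [AddSubgroup.mem_bot.mp ha, zero_lie]; exact zero_mem _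

/-- Iterated bracket with a list of (weight, degree, element). -/
def app (m : L) (l : List (ℕ × ZMod p × L)) : L := l.foldl (fun u e => ⁅u, e.2.2⁆) m

theorem app_nil (m : L) : app (p := p) m [] = m := rfl

theorem app_cons (m : L) (e : ℕ × ZMod p × L) (l : List (ℕ × ZMod p × L)) :
    app m (e :: l) = app ⁅m, e.2.2⁆ l := rfl

theorem app_append (m : L) (l l' : List (ℕ × ZMod p × L)) : app m (l ++ l') = app (app m l) l' :=
  List.foldl_append

theorem app_sub (l : List (ℕ × ZMod p × L)) : ∀ a b : L, app (a - b) l = app a l - app b l := by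
  induction l with
  | nil => intro a b; rfl
  | cons e l ih => intro a b; rw [app_cons, app_cons, app_cons, sub_lie, ih]

theorem app_zero (l : List (ℕ × ZMod p × L)) : app (0 : L) l = 0 := by
  have := app_sub l (0 : L) 0
  rwa [sub_self, sub_self] at this

theorem app_mem {I : AddSubgroup L} (hI : br I ⊤ ≤ I) :
    ∀ (l : List (ℕ × ZMod p × L)) {u : L}, u ∈ I → app u l ∈ I := by
  intro l
  induction l with
  | nil => intro u hu; exact hu
  | cons e l ih => intro u hu; exact ih (hI (mem_br hu (AddSubgroup.mem_top _)))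

theorem app_part : ∀ (l : List (ℕ × ZMod p × L)) {u : L} {i : ZMod p}, u ∈ 𝒢.part i →
    (∀ e ∈ l, e.2.2 ∈ 𝒢.part e.2.1) → app u l ∈ 𝒢.part (i + (l.map fun e => e.2.1).sum) := by
  intro l
  induction l with
  | nil => intro u i hu _; rw [app_nil]; simpa using hu
  | cons e l ih =>
    intro u i hu hl
    rw [app_cons, List.map_cons, List.sum_cons, ← add_assoc]
    exact ih (𝒢.lie_mem hu (hl e (List.mem_cons_self ..))) fun e' he' =>
      hl e' (List.mem_cons_of_mem _ he')

end Grading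

theorem zmod_two_aux : ∀ i j : ZMod 2, i + j ≠ 0 → i ≠ 0 → j = 0 := by decide

theorem zmod_three_aux : ∀ i j k : ZMod 3, i = 0 ∨ j = 0 ∨ k = 0 ∨ i + j = 0 ∨ i + j + k = 0 ∨
    (i + k = 0 ∧ j + k = 0) := by decide

theorem exists_sublist_sum {p : ℕ} [hp : Fact p.Prime] (l : List (ZMod p)) (h0 : ∀ a ∈ l, a ≠ 0)
    (hlen : p - 1 ≤ l.length) (t : ZMod p) : ∃ l' : List (ZMod p), l'.Sublist l ∧ l'.sum = t := by
  classical
  suffices h : ∀ l : List (ZMod p), (∀ a ∈ l, a ≠ 0) → ∃ S : Finset (ZMod p), 0 ∈ S ∧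
      min p (l.length + 1) ≤ S.card ∧ ∀ s ∈ S, ∃ l' : List (ZMod p), l'.Sublist l ∧ l'.sum = s by
    obtain ⟨S, -, hcard, hS⟩ := h l h0
    have hp0 := hp.out.pos
    have hS' : S = Finset.univ := Finset.eq_univ_of_card S (le_antisymm
      ((Finset.card_le_univ S).trans le_rfl) (by rw [ZMod.card]; omega))
    exact hS t (hS' ▸ Finset.mem_univ t)
  intro l
  induction l with
  | nil => exact fun _ => ⟨{0}, by simp, by simp, fun s hs => ⟨[], List.Sublist.refl _, by simp_all⟩⟩
  | cons a l ih =>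
    intro h0
    obtain ⟨S, hS0, hcard, hS⟩ := ih fun b hb => h0 b (List.mem_cons_of_mem _ hb)
    refine ⟨S ∪ S.image (a + ·), Finset.mem_union_left _ hS0, ?_, ?_⟩
    · by_cases hsub : S.image (a + ·) ⊆ S
      · have hall : ∀ n : ℕ, (n : ZMod p) * a ∈ S := by
          intro n
          induction n with
          | zero => simpa using hS0
          | succ n ihn =>
            have := hsub (Finset.mem_image_of_mem (a + ·) ihn)
            rwa [Nat.cast_succ, add_one_mul, add_comm]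
        have hu : (Finset.univ : Finset (ZMod p)) ⊆ S := fun s _ => by
          have := hall (s * a⁻¹).val
          rwa [ZMod.natCast_val, ZMod.cast_id, mul_assoc,
            inv_mul_cancel₀ (h0 a (List.mem_cons_self ..)), mul_one] at this
        have h1 := Finset.card_le_card (hu.trans (Finset.subset_union_left (s₂ := S.image (a + ·))))
        rw [Finset.card_univ, ZMod.card] at h1
        omega
      · have hlt : S.card < (S ∪ S.image (a + ·)).card := Finset.card_lt_card
          (Finset.ssubset_iff_subset_ne.mpr ⟨Finset.subset_union_left,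
            fun e => hsub ((Finset.subset_union_right (s₁ := S)).trans e.ge)⟩)
        simp only [List.length_cons]
        omega
    · intro s hs
      rcases Finset.mem_union.mp hs with hs | hs
      · obtain ⟨l', h1, h2⟩ := hS s hs
        exact ⟨l', h1.cons a, h2⟩
      · obtain ⟨s', hs', rfl⟩ := Finset.mem_image.mp hs
        obtain ⟨l', h1, h2⟩ := hS s' hs'
        exact ⟨a :: l', h1.cons_cons a, by rw [List.sum_cons, h2]⟩

namespace Grading

variable {p : ℕ} [hp : Fact p.Prime] (𝒢 : Grading p L)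

/-- A listed element of given weight and degree. -/
def Good (e : ℕ × ZMod p × L) : Prop := 1 ≤ e.1 ∧ e.2.2 ∈ C (e.1 - 1) ∧ e.2.2 ∈ 𝒢.part e.2.1

/-- The heart of Higman's argument. -/
theorem app_mem_of_weight {c : ℕ} {M I : AddSubgroup L} (hM : br M ⊤ ≤ M) (hI : br I ⊤ ≤ I)
    (hMI : br M M ≤ I) (hcM : C c ≤ M) :
    ∀ (r : ℕ) (l : List (ℕ × ZMod p × L)), l.length = r → (∀ e ∈ l, 𝒢.Good e) →
      (p - 2) * c + 1 ≤ (l.map Prod.fst).sum → ∀ m ∈ M, ∀ i, m ∈ 𝒢.part i → app m l ∈ I := by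
  intro r
  induction r using Nat.strong_induction_on with
  | _ r ih =>
  -- a swap changes the product only by a shorter one
  have hswap : ∀ l l' : List (ℕ × ZMod p × L), l.Perm l' → ∀ pre, (pre ++ l).length = r →
      (∀ e ∈ pre ++ l, 𝒢.Good e) → (p - 2) * c + 1 ≤ ((pre ++ l).map Prod.fst).sum →
      ∀ m ∈ M, ∀ i, m ∈ 𝒢.part i → app m (pre ++ l) - app m (pre ++ l') ∈ I := by
    intro l l' hperm
    induction hperm with
    | nil => intro pre _ _ _ m _ i _; rw [sub_self]; exact zero_mem I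
    | @cons x l₁ l₂ _ ihp =>
      intro pre h1 h2 h3 m hm i hi
      have := ihp (pre ++ [x]) (by simpa using h1) (by simpa using h2) (by simpa using h3) m hm i hi
      simpa using this
    | @swap x y l₁ =>
      intro pre h1 h2 h3 m hm i hi
      obtain ⟨hy1, hy2, hy3⟩ := h2 y (by simp)
      obtain ⟨hx1, hx2, hx3⟩ := h2 x (by simp)
      generalize hz : ((y.1 + x.1, y.2.1 + x.2.1, ⁅y.2.2, x.2.2⁆) : ℕ × ZMod p × L) = z
      have e1 : app m (pre ++ y :: x :: l₁) - app m (pre ++ x :: y :: l₁) =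
          app m (pre ++ z :: l₁) := by
        rw [app_append, app_append, app_append, app_cons, app_cons, app_cons, app_cons, app_cons,
          ← app_sub, ← hz, lie_lie_right]
      rw [e1]
      refine ih (r - 1) (by simp at h1; omega) _ (by simp at h1 ⊢; omega) ?_ ?_ m hm i hi
      · intro e he
        simp only [List.mem_append, List.mem_cons] at he
        rcases he with he | rfl | he
        · exact h2 e (by simp [he])
        · rw [← hz]
          refine ⟨by simp only; omega, ?_, 𝒢.lie_mem hy3 hx3⟩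
          have := br_C_le _ _ (mem_br hy2 hx2)
          simp only
          rwa [show y.1 + x.1 - 1 = y.1 - 1 + (x.1 - 1) + 1 by omega]
        · exact h2 e (by simp [he])
      · rw [← hz]
        simp only [List.map_append, List.map_cons, List.sum_append, List.sum_cons] at h3 ⊢
        omega
    | @trans l₁ l₂ l₃ h12 _ ih12 ih23 =>
      intro pre h1 h2 h3 m hm i hi
      have hp' : (pre ++ l₁).Perm (pre ++ l₂) := h12.append_left pre
      have e := add_mem (ih12 pre h1 h2 h3 m hm i hi) (ih23 pre (hp'.length_eq ▸ h1)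
        (fun e he => h2 e (hp'.mem_iff.mpr he))
        ((hp'.map Prod.fst).sum_eq ▸ h3) m hm i hi)
      rwa [sub_add_sub_cancel] at e
  intro l hlen hl hwt m hm i hi
  -- a big weight
  by_cases hbig : ∃ e ∈ l, c < e.1
  · obtain ⟨e, he, hec⟩ := hbig
    obtain ⟨l1, l2, rfl⟩ := List.append_of_mem he
    rw [app_append, app_cons]
    refine app_mem hI l2 (hMI (mem_br (app_mem hM l1 hm) (hcM (C_antitone ?_ (hl e he).2.1))))
    omega
  push Not at hbig
  -- a zero degree
  by_cases hzero : ∃ e ∈ l, e.2.1 = 0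
  · obtain ⟨e, he, he0⟩ := hzero
    obtain ⟨l1, l2, rfl⟩ := List.append_of_mem he
    have hx := (hl e he).2.2
    rw [he0, 𝒢.part_zero, AddSubgroup.mem_bot] at hx
    rw [app_append, app_cons, hx, lie_zero, app_zero]
    exact zero_mem I
  push Not at hzero
  have hsum : (l.map Prod.fst).sum ≤ l.length * c := by
    have := List.sum_le_card_nsmul (l.map Prod.fst) c (fun x hx => by
      obtain ⟨e, he, rfl⟩ := List.mem_map.mp hx
      exact hbig e he)
    simpa using this
  have hr : p - 1 ≤ l.length := by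
    by_contra h
    have h' : l.length ≤ p - 2 := by omega
    have := Nat.mul_le_mul_right c h'
    omega
  obtain ⟨d, hd, hds⟩ := exists_sublist_sum (l.map fun e => e.2.1)
    (fun a ha => by obtain ⟨e, he, rfl⟩ := List.mem_map.mp ha; exact hzero e he)
    (by simpa using hr) (-i)
  obtain ⟨sub, hsub, rfl⟩ := List.sublist_map_iff.mp hd
  obtain ⟨rest, hperm⟩ := hsub.exists_perm_append
  have h := hswap l (sub ++ rest) hperm [] hlen hl hwt m hm i hi
  rw [List.nil_append, List.nil_append] at h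
  have hz : app m (sub ++ rest) = 0 := by
    have h0 := 𝒢.app_part sub hi fun e he => (hl e (hsub.subset he)).2.2
    rw [hds, add_neg_cancel, 𝒢.part_zero, AddSubgroup.mem_bot] at h0
    rw [app_append, h0, app_zero]
  rwa [hz, sub_zero] at h

/-- The class bound as a function of the derived length. -/
def bound (p n : ℕ) : ℕ := ∑ i ∈ Finset.range n, (p - 1) ^ i

theorem bound_succ (p n : ℕ) : bound p (n + 1) = (p - 1) * bound p n + 1 := geom_sum_succ

include 𝒢 in
/-- Higman's theorem, by induction on the derived length. -/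
theorem C_le_of_D_le (n : ℕ) : ∀ I : AddSubgroup L, br I ⊤ ≤ I → D ⊤ n ≤ I →
    C (bound p n) ≤ I := by
  induction n with
  | zero => intro I _ h; rw [show bound p 0 = 0 from rfl]; exact h
  | succ n ih =>
    intro I hI hD
    have hDid : ∀ k, br (D (⊤ : AddSubgroup L) k) ⊤ ≤ D ⊤ k := by
      intro k
      induction k with
      | zero => exact le_top
      | succ k ihk =>
        refine br_le fun x hx y _ => closure_bracket (T := {y}) ?_ hx (AddSubgroup.subset_closure rfl)
        rintro _ ⟨a, ha, b, hb, rfl⟩ t ht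
        rw [Set.mem_singleton_iff.mp ht]
        apply skew_mem
        rw [lie_lie_right]
        exact sub_mem (mem_br (skew_mem (ihk (mem_br ha (AddSubgroup.mem_top y)))) hb)
          (mem_br (skew_mem (ihk (mem_br hb (AddSubgroup.mem_top y)))) ha)
    generalize hM : D ⊤ n ⊔ I = M
    have hM' : br M ⊤ ≤ M := by
      rw [← hM]
      refine br_le fun x hx y _ => ?_
      obtain ⟨a, ha, b, hb, rfl⟩ := AddSubgroup.mem_sup.mp hx
      rw [add_lie]
      exact AddSubgroup.mem_sup.mpr ⟨_, hDid n (mem_br ha (AddSubgroup.mem_top y)),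
        _, hI (mem_br hb (AddSubgroup.mem_top y)), rfl⟩
    have hMI : br M M ≤ I := by
      rw [← hM]
      refine br_le fun x hx y hy => ?_
      obtain ⟨a, ha, b, hb, rfl⟩ := AddSubgroup.mem_sup.mp hx
      obtain ⟨a', ha', b', hb', rfl⟩ := AddSubgroup.mem_sup.mp hy
      rw [add_lie, lie_add, lie_add]
      exact add_mem (add_mem (hD (mem_br ha ha')) (skew_mem (hI (mem_br hb' (AddSubgroup.mem_top a)))))
        (add_mem (hI (mem_br hb (AddSubgroup.mem_top a'))) (hI (mem_br hb (AddSubgroup.mem_top b'))))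
    have hcM := ih M hM' (hM ▸ le_sup_left)
    generalize hc : bound p n = c at hcM
    have hspan : ∀ r, C (c + r) ≤ AddSubgroup.closure {z | ∃ (m : L) (l : List (ℕ × ZMod p × L)),
        l.length = r ∧ (∀ e ∈ l, 𝒢.Good e ∧ e.1 = 1) ∧ m ∈ 𝒢.hset (C c) ∧ app m l = z} := by
      intro r
      induction r with
      | zero =>
        exact (𝒢.homog_C c).trans (AddSubgroup.closure_mono fun z hz =>
          ⟨z, [], rfl, by simp, hz, rfl⟩)
      | succ r ihr =>
        refine br_le fun x hx y _ => closure_bracket ?_ (ihr hx) (𝒢.homog_top (AddSubgroup.mem_top y))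
        rintro _ ⟨m, l, hl1, hl2, hm, rfl⟩ t ⟨-, j, hj⟩
        refine AddSubgroup.subset_closure ⟨m, l ++ [(1, j, t)], by simp [hl1], ?_, hm, ?_⟩
        · intro e he
          simp only [List.mem_append, List.mem_singleton] at he
          rcases he with he | rfl
          · exact hl2 e he
          · exact ⟨⟨le_rfl, AddSubgroup.mem_top _, hj⟩, rfl⟩
        · rw [app_append]; rfl
    have hb : (p - 1) * c + 1 = c + ((p - 2) * c + 1) := by
      have := hp.out.two_le
      obtain ⟨q, rfl⟩ : ∃ q, p = q + 2 := ⟨p - 2, by omega⟩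
      simp only [show q + 2 - 1 = q + 1 by omega, show q + 2 - 2 = q by omega]
      ring
    rw [bound_succ, hc, hb]
    refine (hspan _).trans ((AddSubgroup.closure_le _).mpr ?_)
    rintro _ ⟨m, l, hl1, hl2, ⟨hm, i, hi⟩, rfl⟩
    refine 𝒢.app_mem_of_weight hM' hI hMI hcM _ l hl1 (fun e he => (hl2 e he).1) ?_ m (hcM hm) i hi
    rw [List.sum_eq_card_nsmul _ 1 (fun x hx => by
      obtain ⟨e, he, rfl⟩ := List.mem_map.mp hx
      exact (hl2 e he).2), List.length_map, hl1, smul_eq_mul, mul_one]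

include 𝒢 in
theorem C_eq_bot : C (bound p (2 ^ (p - 1) - 1)) = (⊥ : AddSubgroup L) :=
  le_bot_iff.mp (𝒢.C_le_of_D_le _ ⊥
    (br_le fun a ha b _ => by rw [AddSubgroup.mem_bot.mp ha, zero_lie]; exact zero_mem _)
    𝒢.D_top_eq_bot.le)

include 𝒢 in
theorem C_one_eq_bot (hp2 : p = 2) : C 1 = (⊥ : AddSubgroup L) := by
  refine le_bot_iff.mp (br_le fun x hx y _ => closure_bracket ?_ (𝒢.homog_top (AddSubgroup.mem_top x))
    (𝒢.homog_top (AddSubgroup.mem_top y)))
  rintro s ⟨-, i, hi⟩ t ⟨-, j, hj⟩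
  subst hp2
  by_cases h : i + j = 0
  · rw [← 𝒢.part_zero, ← h]; exact 𝒢.lie_mem hi hj
  by_cases h0 : i = 0
  · rw [h0, 𝒢.part_zero, AddSubgroup.mem_bot] at hi
    rw [hi, zero_lie]; exact zero_mem _
  have hj0 : j = 0 := by
    exact zmod_two_aux i j h h0
  rw [hj0, 𝒢.part_zero, AddSubgroup.mem_bot] at hj
  rw [hj, lie_zero]; exact zero_mem _

include 𝒢 in
theorem C_two_eq_bot (hp3 : p = 3) : C 2 = (⊥ : AddSubgroup L) := by
  refine le_bot_iff.mp (br_le fun x hx z _ => ?_)
  refine closure_bracket ?_ (𝒢.homog_C 1 hx) (𝒢.homog_top (AddSubgroup.mem_top z))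
  rintro s ⟨hs, -⟩ t ⟨-, k, hk⟩
  refine closure_bracket (T := {t}) ?_ hs (AddSubgroup.subset_closure rfl)
  rintro _ ⟨a, -, b, -, rfl⟩ t' ht'
  rw [Set.mem_singleton_iff.mp ht', ← lie_skew]
  refine neg_mem ?_
  refine closure_bracket (S := {t}) (T := {⁅a, b⁆}) ?_ (AddSubgroup.subset_closure rfl)
    (AddSubgroup.subset_closure rfl)
  intro u hu v hv
  rw [Set.mem_singleton_iff.mp hu, Set.mem_singleton_iff.mp hv, ← lie_skew]
  refine neg_mem ?_
  -- reduce to homogeneous `a`, `b`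
  let W : AddSubgroup L :=
    { carrier := {w | ⁅w, t⁆ = 0}
      zero_mem' := zero_lie t
      add_mem' := fun {p q} (hp : ⁅p, t⁆ = 0) (hq : ⁅q, t⁆ = 0) => show ⁅p + q, t⁆ = 0 by
        rw [add_lie, hp, hq, add_zero]
      neg_mem' := fun {p} (hp : ⁅p, t⁆ = 0) => show ⁅-p, t⁆ = 0 by rw [neg_lie, hp, neg_zero] }
  rw [AddSubgroup.mem_bot]
  refine (closure_bracket (U := W) ?_ (𝒢.homog_top (AddSubgroup.mem_top a))
    (𝒢.homog_top (AddSubgroup.mem_top b)) :)
  rintro a ⟨-, i, hi⟩ b ⟨-, j, hj⟩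
  show ⁅⁅a, b⁆, t⁆ = 0
  subst hp3
  have hz : ∀ {w : L} {d : ZMod 3}, d = 0 → w ∈ 𝒢.part d → w = 0 := fun hd hw => by
    rwa [hd, 𝒢.part_zero, AddSubgroup.mem_bot] at hw
  by_cases h1 : i = 0
  · rw [hz h1 hi, zero_lie, zero_lie]
  by_cases h2 : j = 0
  · rw [hz h2 hj, lie_zero, zero_lie]
  by_cases h3 : k = 0
  · rw [hz h3 hk, lie_zero]
  by_cases h4 : i + j = 0
  · rw [hz h4 (𝒢.lie_mem hi hj), zero_lie]
  by_cases h5 : i + j + k = 0
  · rw [hz h5 (𝒢.lie_mem (𝒢.lie_mem hi hj) hk)]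
  have hik : i + k = 0 ∧ j + k = 0 := by
    rcases zmod_three_aux i j k with h | h | h | h | h | h
    exacts [absurd h h1, absurd h h2, absurd h h3, absurd h h4, absurd h h5, h]
  have e := lie_lie_right a b t
  rw [hz hik.2 (𝒢.lie_mem hj hk), lie_zero, hz hik.1 (𝒢.lie_mem hi hk), zero_lie, sub_zero] at e
  exact e.symm

end Grading

end CfsgLib.Core.HKK
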