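import Cfsg.Agent.Lib.Core.AssociatedLie
import Cfsg.Agent.Lib.Core.GradedLie
import Cfsg.Agent.Lib.Core.FPFFour
import Mathlib.Algebra.Lie.BaseChange
import Mathlib.RingTheory.AdjoinRoot
import Mathlib.RingTheory.Polynomial.Cyclotomic.Basic

/-!
# The bound of Higman, Kreknin and Kostrikin

* `C_eq_bot_of_norm_zero`: bounds for graded rings apply to a Lie ring with an automorphism
  of prime order whose norm map vanishes
* `lowerCentralSeries_eq_bot`: such a bound applies to nilpotent groups with a fixed point free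
  automorphism of prime order
-/

set_option autoImplicit false
set_option linter.all false

namespace CfsgLib.Core.HKK

open Polynomial
open scoped TensorProduct

variable (p : ℕ) [hp : Fact p.Prime]

/-- The ring of integers with a primitive root of unity. -/
abbrev Cyc : Type := AdjoinRoot (cyclotomic p ℤ)

/-- The root of unity. -/
noncomputable def root : Cyc p := AdjoinRoot.root (cyclotomic p ℤ)

theorem sum_root : ∑ k ∈ Finset.range p, root p ^ k = 0 := by
  have h : AdjoinRoot.mk (cyclotomic p ℤ) (cyclotomic p ℤ) = 0 := AdjoinRoot.mk_self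
  conv_lhs at h => arg 2; rw [cyclotomic_prime ℤ p]
  simpa [root, map_sum] using h

theorem root_pow : root p ^ p = 1 := by
  have h := geom_sum_mul (root p) p
  rw [sum_root, zero_mul] at h
  exact sub_eq_zero.mp h.symm

/-- The powers of the root. -/
noncomputable def e (i : ZMod p) : Cyc p := root p ^ i.val

theorem e_zero : e p 0 = 1 := by rw [e, ZMod.val_zero, pow_zero]

theorem e_add (i j : ZMod p) : e p (i + j) = e p i * e p j := by
  rw [e, e, e, ← pow_add, ZMod.val_add, ← pow_eq_pow_mod _ (root_pow p)]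

theorem sum_e : ∑ j : ZMod p, e p j = 0 := by
  refine Eq.trans ?_ (sum_root p)
  refine Finset.sum_nbij' (fun j => j.val) (fun k => (k : ZMod p)) ?_ ?_ ?_ ?_ ?_
  · intro j _; exact Finset.mem_range.mpr (ZMod.val_lt j)
  · intro k _; exact Finset.mem_univ _
  · intro j _; exact ZMod.natCast_zmod_val j
  · intro k hk; exact ZMod.val_natCast_of_lt (Finset.mem_range.mp hk)
  · intro j _; rfl

theorem sum_e_mul {i : ZMod p} (hi : i ≠ 0) : ∑ j : ZMod p, e p (j * i) = 0 :=
  (Equiv.sum_comp (Equiv.mulRight₀ i hi) (e p)).trans (sum_e p)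

set_option backward.isDefEq.respectTransparency false in
/-- Bounds for graded rings apply to a Lie ring with a suitable automorphism of order `p`. -/
theorem C_eq_bot_of_norm_zero.{u} {L : Type u} [LieRing L] (Φ : L →+ L)
    (hlie : ∀ x y, Φ ⁅x, y⁆ = ⁅Φ x, Φ y⁆) (hper : ∀ x, (⇑Φ)^[p] x = x)
    (hnorm : ∀ x, ∑ k ∈ Finset.range p, (⇑Φ)^[k] x = 0) {n : ℕ} (hn : n.Coprime p)
    (hnx : ∀ x : L, n • x = 0) (m : ℕ)
    (hm : ∀ (M : Type u) [LieRing M], Grading p M → C m = (⊥ : AddSubgroup M)) :
    C m = (⊥ : AddSubgroup L) := by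
  have hnM : ∀ z : Cyc p ⊗[ℤ] L, n • z = 0 := by
    intro z
    induction z using TensorProduct.induction_on with
    | zero => simp
    | tmul a x => rw [← TensorProduct.tmul_smul, hnx, TensorProduct.tmul_zero]
    | add z w hz hw => rw [smul_add, hz, hw, add_zero]
  obtain ⟨u, hu⟩ : ∃ u : ℕ, ∀ z : Cyc p ⊗[ℤ] L, (u * p) • z = z := by
    have h1 := Nat.gcd_eq_gcd_ab p n
    rw [show Nat.gcd p n = 1 from hn.symm] at h1
    refine ⟨(Nat.gcdA p n % n).toNat, fun z => ?_⟩
    by_cases hn0 : n = 0
    · subst hn0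
      exact absurd (Nat.coprime_zero_left _ |>.mp hn) hp.out.ne_one
    have hz : (n : ℤ) • z = 0 := by rw [natCast_zsmul, hnM]
    have hw : ∀ k : ℤ, (k * n) • z = 0 := fun k => by rw [mul_smul, hz, smul_zero]
    have h2 : (((Nat.gcdA p n % n).toNat * p : ℕ) : ℤ) =
        1 + (-(Nat.gcdA p n / n * p) - Nat.gcdB p n) * n := by
      rw [Nat.cast_mul, Int.toNat_of_nonneg (Int.emod_nonneg _ (by exact_mod_cast hn0)),
        Int.emod_def]
      push_cast at h1 ⊢
      linarith
    rw [← natCast_zsmul, h2, add_smul, hw, one_smul, add_zero]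
  let F : Module.End (Cyc p) (Cyc p ⊗[ℤ] L) := Φ.toIntLinearMap.baseChange (Cyc p)
  have hFt : ∀ a x, F (a ⊗ₜ x) = a ⊗ₜ Φ x := fun a x => rfl
  have hFk : ∀ (k : ℕ) a x, (F ^ k) (a ⊗ₜ x) = a ⊗ₜ (⇑Φ)^[k] x := by
    intro k a x
    induction k with
    | zero => rfl
    | succ k ih => rw [pow_succ', Module.End.mul_apply, ih, hFt, Function.iterate_succ_apply']
  have hFp : F ^ p = 1 := by
    refine LinearMap.ext fun z => ?_
    induction z using TensorProduct.induction_on with
    | zero => simp
    | tmul a x => rw [hFk, hper]; rfl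
    | add z w hz hw => rw [map_add, map_add, hz, hw]
  have hFN : ∀ z, ∑ k ∈ Finset.range p, (F ^ k) z = 0 := by
    intro z
    induction z using TensorProduct.induction_on with
    | zero => simp
    | tmul a x => simp only [hFk]; rw [← TensorProduct.tmul_sum, hnorm, TensorProduct.tmul_zero]
    | add z w hz hw => simp only [map_add, Finset.sum_add_distrib, hz, hw, add_zero]
  have haddl : ∀ x y z : Cyc p ⊗[ℤ] L, ⁅x + y, z⁆ = ⁅x, z⁆ + ⁅y, z⁆ := fun x y z => add_lie x y z
  have haddr : ∀ x y z : Cyc p ⊗[ℤ] L, ⁅x, y + z⁆ = ⁅x, y⁆ + ⁅x, z⁆ := fun x y z => lie_add x y z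
  have hzl : ∀ x : Cyc p ⊗[ℤ] L, ⁅(0 : Cyc p ⊗[ℤ] L), x⁆ = 0 := fun x => zero_lie x
  have hzr : ∀ x : Cyc p ⊗[ℤ] L, ⁅x, (0 : Cyc p ⊗[ℤ] L)⁆ = 0 := fun x => lie_zero x
  have hsmul : ∀ (a b : Cyc p) (x y : Cyc p ⊗[ℤ] L), ⁅a • x, b • y⁆ = (a * b) • ⁅x, y⁆ :=
    fun a b x y => (LieAlgebra.lie_smul b (a • x) y).trans (by
      rw [mul_comm, mul_smul]
      exact congrArg (b • ·) (smul_lie a x y))
  have hFlie : ∀ z w, F ⁅z, w⁆ = ⁅F z, F w⁆ := by
    intro z w
    induction z using TensorProduct.induction_on with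
    | zero => simp only [map_zero, hzl]
    | add z z' hz hz' => simp only [haddl, map_add, hz, hz']
    | tmul a x =>
      induction w using TensorProduct.induction_on with
      | zero => simp only [map_zero, hzr]
      | add w w' hw hw' => simp only [haddr, map_add, hw, hw']
      | tmul b y =>
        rw [LieAlgebra.ExtendScalars.bracket_tmul, hFt, hFt, hFt,
          LieAlgebra.ExtendScalars.bracket_tmul, hlie]
  let P : ZMod p → Module.End (Cyc p) (Cyc p ⊗[ℤ] L) := fun j => F ^ j.val
  have hP : ∀ j, F * P j = P (j + 1) := fun j => by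
    rw [← pow_succ', show P (j + 1) = F ^ (j + 1).val from rfl, ZMod.val_add, ZMod.val_one,
      ← pow_eq_pow_mod _ hFp]
  have hmem : ∀ {i : ZMod p} {z}, z ∈ LinearMap.ker (F - e p i • (1 : Module.End (Cyc p) _)) ↔
      F z = e p i • z := by
    intro i z
    rw [LinearMap.mem_ker, LinearMap.sub_apply, LinearMap.smul_apply, Module.End.one_apply,
      sub_eq_zero]
  have hpow : ∀ {i : ZMod p} {z}, F z = e p i • z → ∀ j, P j z = e p (j * i) • z := by
    intro i z hz j
    have h : ∀ k : ℕ, (F ^ k) z = e p ((k : ZMod p) * i) • z := by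
      intro k
      induction k with
      | zero => rw [Nat.cast_zero, zero_mul, e_zero, one_smul, pow_zero]; rfl
      | succ k ih =>
        rw [pow_succ', Module.End.mul_apply, ih, map_smul, hz, smul_smul, ← e_add, Nat.cast_succ,
          add_one_mul]
    rw [← ZMod.natCast_zmod_val j]
    simpa [P] using h j.val
  let π : ZMod p → Module.End (Cyc p) (Cyc p ⊗[ℤ] L) := fun i => u • ∑ j, e p (-(i * j)) • P j
  have hπ : ∀ i z, π i z = u • ∑ j, e p (-(i * j)) • P j z := fun i z => by
    simp only [π, LinearMap.smul_apply, LinearMap.sum_apply]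
  have hpu : ∀ z : Cyc p ⊗[ℤ] L, u • p • z = z := fun z => by rw [← mul_smul, hu]
  let 𝒢 : Grading p (Cyc p ⊗[ℤ] L) :=
    { part := fun i => (LinearMap.ker (F - e p i • (1 : Module.End (Cyc p) _))).toAddSubgroup
      proj := fun i => (π i).toAddMonoidHom
      lie_mem := fun {i j x y} hx hy => by
        rw [Submodule.mem_toAddSubgroup, hmem] at hx hy ⊢
        rw [hFlie, hx, hy, e_add]
        exact hsmul _ _ x y
      part_zero := by
        refine le_bot_iff.mp fun z hz => ?_
        rw [Submodule.mem_toAddSubgroup, hmem, e_zero, one_smul] at hz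
        have h1 : ∀ k : ℕ, (F ^ k) z = z := by
          intro k
          induction k with
          | zero => rfl
          | succ k ih => rw [pow_succ', Module.End.mul_apply, ih, hz]
        have h2 : p • z = 0 := by
          have := hFN z
          simpa [h1] using this
        rw [AddSubgroup.mem_bot, ← hpu z, h2, smul_zero]
      proj_self := fun {i x} hx => by
        rw [Submodule.mem_toAddSubgroup, hmem] at hx
        show π i x = x
        rw [hπ]
        have h : ∀ j, e p (-(i * j)) • P j x = x := fun j => by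
          rw [hpow hx, smul_smul, ← e_add, mul_comm i, neg_add_cancel, e_zero, one_smul]
        rw [Finset.sum_congr rfl fun j _ => h j, Finset.sum_const, Finset.card_univ, ZMod.card]
        exact hpu x
      proj_ne := fun {i j x} hne hx => by
        rw [Submodule.mem_toAddSubgroup, hmem] at hx
        show π i x = 0
        rw [hπ]
        have h : ∀ k, e p (-(i * k)) • P k x = e p (k * (j - i)) • x := fun k => by
          rw [hpow hx, smul_smul, ← e_add]
          congr 2; ring
        rw [Finset.sum_congr rfl fun k _ => h k, ← Finset.sum_smul,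
          sum_e_mul p (sub_ne_zero.mpr hne), zero_smul, smul_zero]
      proj_mem := fun i x => by
        rw [Submodule.mem_toAddSubgroup, hmem]
        show F (π i x) = e p i • π i x
        rw [hπ, map_nsmul, map_sum, smul_comm (e p i) u, Finset.smul_sum (r := e p i)]
        congr 1
        refine Fintype.sum_equiv (Equiv.addRight 1) _ _ fun j => ?_
        rw [map_smul, ← Module.End.mul_apply, hP, Equiv.coe_addRight, smul_smul, ← e_add]
        congr 2; ring
      sum_proj := fun x => by
        show ∑ i, π i x = x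
        simp only [hπ]
        rw [← Finset.smul_sum, Finset.sum_comm]
        have h : ∀ j : ZMod p, ∑ i, e p (-(i * j)) • P j x = if j = 0 then p • x else 0 := by
          intro j
          rw [← Finset.sum_smul]
          split_ifs with hj
          · subst hj
            simp [e_zero, P, Nat.cast_smul_eq_nsmul]
          · rw [Finset.sum_congr rfl fun i _ => congrArg (e p) (neg_mul_eq_mul_neg i j),
              sum_e_mul p (neg_ne_zero.mpr hj), zero_smul]
        rw [Finset.sum_congr rfl fun j _ => h j, Finset.sum_ite_eq' Finset.univ (0 : ZMod p),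
          if_pos (Finset.mem_univ _)]
        exact hpu x }
  have hbot := hm _ 𝒢
  have hC : ∀ k, ∀ x ∈ (C k : AddSubgroup L),
      (1 : Cyc p) ⊗ₜ[ℤ] x ∈ (C k : AddSubgroup (Cyc p ⊗[ℤ] L)) := by
    intro k
    induction k with
    | zero => exact fun x _ => AddSubgroup.mem_top _
    | succ k ih =>
      intro x hx
      induction hx using AddSubgroup.closure_induction with
      | mem x hx =>
        obtain ⟨a, ha, b, hb, rfl⟩ := hx
        have := mem_br (ih a ha) (AddSubgroup.mem_top ((1 : Cyc p) ⊗ₜ[ℤ] b))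
        rwa [LieAlgebra.ExtendScalars.bracket_tmul, one_mul] at this
      | zero => rw [TensorProduct.tmul_zero]; exact zero_mem _
      | add a b _ _ ha hb => rw [TensorProduct.tmul_add]; exact add_mem ha hb
      | neg a _ ha => rw [TensorProduct.tmul_neg]; exact neg_mem ha
  refine le_bot_iff.mp fun x hx => ?_
  have h0 : (1 : Cyc p) ⊗ₜ[ℤ] x = 0 := by
    have := hC m x hx
    rwa [hbot, AddSubgroup.mem_bot] at this
  have hone : (AdjoinRoot.modByMonicHom (cyclotomic.monic p ℤ) (1 : Cyc p)).coeff 0 = 1 := by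
    rw [← map_one (AdjoinRoot.mk (cyclotomic p ℤ)), AdjoinRoot.modByMonicHom_mk,
      (modByMonic_eq_self_iff (cyclotomic.monic p ℤ)).mpr, coeff_one_zero]
    rw [degree_one, degree_cyclotomic]
    exact_mod_cast Nat.totient_pos.mpr hp.out.pos
  have h3 := congrArg ((TensorProduct.lid ℤ L).toLinearMap ∘ₗ
    ((Polynomial.lcoeff ℤ 0 ∘ₗ AdjoinRoot.modByMonicHom (cyclotomic.monic p ℤ)).rTensor L)) h0
  rw [map_zero] at h3
  simpa [LinearMap.rTensor_tmul, hone] using h3

end CfsgLib.Core.HKK

namespace CfsgLib.Core.HKK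

open Subgroup Assoc
open scoped commutatorElement

variable {G : Type*} [Group G]

theorem mk_mem_C (w : ℕ) : ∀ g (hg : g ∈ (lcs G).H (w + 1)),
    (lcs G).mk (w + 1) g hg ∈ (C w : AddSubgroup (lcs G).Ring') := by
  induction w with
  | zero => exact fun g hg => AddSubgroup.mem_top _
  | succ w ih =>
    let K : Subgroup G :=
      { carrier := {g | ∃ hg : g ∈ (lcs G).H (w + 1 + 1),
          (lcs G).mk (w + 1 + 1) g hg ∈ (C (w + 1) : AddSubgroup (lcs G).Ring')}
        one_mem' := ⟨one_mem _, by
          rw [(lcs G).mk_eq_zero.mpr (one_mem _)]; exact zero_mem _⟩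
        mul_mem' := fun {a b} ⟨ha, ha'⟩ ⟨hb, hb'⟩ => ⟨mul_mem ha hb, by
          rw [(lcs G).mk_mul _ ha hb]; exact add_mem ha' hb'⟩
        inv_mem' := fun {a} ⟨ha, ha'⟩ => ⟨inv_mem ha, by
          rw [(lcs G).mk_inv _ ha]; exact neg_mem ha'⟩ }
    have hle : (lcs G).H (w + 1 + 1) ≤ K := by
      show (⊤ : Subgroup G).lowerCentralSeries (w + 1) ≤ K
      rw [Subgroup.lowerCentralSeries_succ]
      refine commutator_le.mpr fun a ha b _ => ?_
      have hb : b ∈ (lcs G).H 1 := by rw [(lcs G).one]; exact mem_top b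
      refine ⟨(lcs G).comm_mem le_rfl (show a ∈ (lcs G).H (w + 1) from ha) hb, ?_⟩
      rw [← (lcs G).lie_mk (show a ∈ (lcs G).H (w + 1) from ha) hb]
      exact mem_br (ih a ha) (AddSubgroup.mem_top _)
    exact fun g hg => (hle hg).2

/-- A bound for graded Lie rings bounds the class of a nilpotent group with a fixed point free
automorphism of prime order. -/
theorem lowerCentralSeries_eq_bot.{u} {G : Type u} [Group G] [Finite G] [Group.IsNilpotent G]
    {p : ℕ} [hp : Fact p.Prime] (α : MulAut G) (hα : α ^ p = 1)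
    (hfpf : ∀ g : G, α g = g → g = 1) (m : ℕ)
    (hm : ∀ (M : Type u) [LieRing M], Grading p M → C m = (⊥ : AddSubgroup M)) :
    (⊤ : Subgroup G).lowerCentralSeries m = ⊥ := by
  have hcop : (Nat.card G).Coprime p := by
    have hP : IsPGroup p (Subgroup.zpowers α) := fun g => ⟨1, by
      obtain ⟨k, hk⟩ := g.2
      refine Subtype.ext ?_
      show (g : MulAut G) ^ p ^ 1 = 1
      rw [← hk, pow_one, ← zpow_natCast, ← zpow_mul, mul_comm, zpow_mul, zpow_natCast, hα,
        one_zpow]⟩
    have h := hP.card_modEq_card_fixedPoints G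
    have h1 : MulAction.fixedPoints (Subgroup.zpowers α) G = {1} := by
      ext g
      refine ⟨fun hg => hfpf g (hg ⟨α, mem_zpowers α⟩), fun hg => ?_⟩
      rw [Set.mem_singleton_iff.mp hg]
      exact fun a => map_one (a : MulAut G)
    rw [h1, Nat.card_coe_set_eq, Set.ncard_singleton] at h
    refine (hp.out.coprime_iff_not_dvd.mpr fun hd => hp.out.ne_one ?_).symm
    exact Nat.dvd_one.mp ((Nat.ModEq.dvd_iff h dvd_rfl).mp hd)
  have hφ : ∀ w x, x ∈ (lcs G).H w → α x ∈ (lcs G).H w := fun w x hx =>
    ((Subgroup.lowerCentralSeries_characteristic (⊤ : Subgroup G) (w - 1)).fixed α).ge hx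
  have hiter : ∀ (n w : ℕ) x, x ∈ (lcs G).H w → (α ^ n) x ∈ (lcs G).H w := by
    intro n w x hx
    induction n with
    | zero => exact hx
    | succ n ih => rw [pow_succ', MulAut.mul_apply]; exact hφ w _ ih
  set Φ := (lcs G).mapAut α hφ with hΦ
  have hper : ∀ x, (⇑Φ)^[p] x = x := by
    intro x
    induction x using (lcs G).induction with
    | h0 => exact iterate_map_zero Φ p
    | hadd x y hx hy => rw [iterate_map_add, hx, hy]
    | hmk w x hx =>
      rw [hΦ, (lcs G).mapAut_iterate α hφ p hx (hiter p w x hx)]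
      exact (lcs G).mk_congr rfl (by rw [hα]; rfl) _ _
  have hnorm : ∀ x, ∑ k ∈ Finset.range p, (⇑Φ)^[k] x = 0 := by
    intro x
    induction x using (lcs G).induction with
    | h0 => simp [iterate_map_zero]
    | hadd x y hx hy => simp only [iterate_map_add, Finset.sum_add_distrib, hx, hy, add_zero]
    | hmk w x hx =>
      obtain ⟨h, hh, hsum⟩ : ∃ h, ∃ hh : h ∈ (lcs G).H w,
          ∑ k ∈ Finset.range p, (⇑Φ)^[k] ((lcs G).mk w x hx) = (lcs G).mk w h hh := by
        generalize p = n
        induction n with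
        | zero => exact ⟨1, one_mem _, by
            rw [Finset.range_zero, Finset.sum_empty, eq_comm, (lcs G).mk_eq_zero]; exact one_mem _⟩
        | succ n ih =>
          obtain ⟨h, hh, hsum⟩ := ih
          refine ⟨h * (α ^ n) x, mul_mem hh (hiter n w x hx), ?_⟩
          rw [Finset.sum_range_succ, hsum, hΦ, (lcs G).mapAut_iterate α hφ n hx (hiter n w x hx),
            (lcs G).mk_mul]
      rw [hsum, (lcs G).mk_eq_zero]
      have hfix : Φ ((lcs G).mk w h hh) = (lcs G).mk w h hh := by
        rw [← hsum, map_sum]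
        simp only [← Function.iterate_succ_apply']
        have h1 := Finset.sum_range_succ' (fun k => (⇑Φ)^[k] ((lcs G).mk w x hx)) p
        rw [Finset.sum_range_succ, hper] at h1
        exact (add_right_cancel h1).symm
      rw [hΦ, (lcs G).mapAut_mk] at hfix
      let N := (lcs G).H (w + 1)
      haveI : N.Normal := (lcs G).normal (w + 1)
      have hN : N.map α.toMonoidHom = N :=
        Subgroup.characteristic_iff_map_eq.mp (Subgroup.lowerCentralSeries_characteristic (⊤ : Subgroup G) w) α
      have h2 : α h * h⁻¹ ∈ N := by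
        rw [← (lcs G).mk_eq_zero (hx := mul_mem (hφ w h hh) (inv_mem hh)), (lcs G).mk_mul _ (hφ w h hh) (inv_mem hh),
          (lcs G).mk_inv _ hh, hfix, add_neg_cancel]
      refine (QuotientGroup.eq_one_iff h).mp (FPFFour.quotient_eq_one_of_fixed hfpf N hN _ ?_)
      show ((α h : G) : G ⧸ N) = (h : G ⧸ N)
      exact (QuotientGroup.eq_iff_div_mem).mpr (by rwa [div_eq_mul_inv])
  have hC := C_eq_bot_of_norm_zero p Φ ((lcs G).mapAut_lie α hφ) hper hnorm hcop
    (fun x => (lcs G).nsmul_card x) m hm
  have hstep : (⊤ : Subgroup G).lowerCentralSeries m ≤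
      (⊤ : Subgroup G).lowerCentralSeries (m + 1) := fun g hg => by
    have h := mk_mem_C m g hg
    rw [hC, AddSubgroup.mem_bot] at h
    exact (lcs G).mk_eq_zero.mp h
  have hall : ∀ k, (⊤ : Subgroup G).lowerCentralSeries m ≤
      (⊤ : Subgroup G).lowerCentralSeries (m + k) := by
    intro k
    induction k with
    | zero => exact le_rfl
    | succ k ih =>
      refine hstep.trans ?_
      rw [Subgroup.lowerCentralSeries_succ, ← Nat.add_assoc, Subgroup.lowerCentralSeries_succ]
      exact commutator_mono ih le_rfl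
  obtain ⟨n, hn⟩ := _root_.nilpotent_iff_lowerCentralSeries.mp (inferInstance : Group.IsNilpotent G)
  refine le_bot_iff.mp ((hall n).trans (hn ▸ ?_))
  exact Subgroup.lowerCentralSeries_antitone _ (Nat.le_add_left n m)

end CfsgLib.Core.HKK
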