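import Cfsg.Agent.Lib.Core.Hall
import Cfsg.Agent.Lib.Char.Burnside

/-!
# Converses of Hall's theorem

* `isSolvable_of_three` (Wielandt), `isSolvable_of_hall_complements` (Hall),
  `isSolvable_of_sylow_system`, `exists_sylow_system`
-/

set_option autoImplicit false
set_option linter.all false

namespace CfsgLib.Core

open scoped Pointwise

open Cfsg Subgroup

universe u

theorem relIndex_eq_index_of_mul {G : Type*} [Group G] {H K : Subgroup G}
    (h : ∀ g : G, ∃ x ∈ H, ∃ y ∈ K, g = x * y) : K.relIndex H = K.index := by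
  haveI : MulAction.IsPretransitive H (G ⧸ K) := by
    have h1 : ∀ q : G ⧸ K, ∃ a : H, a • ((1 : G) : G ⧸ K) = q := by
      intro q
      obtain ⟨g, rfl⟩ := QuotientGroup.mk_surjective q
      obtain ⟨x, hx, y, hy, rfl⟩ := h g
      refine ⟨⟨x, hx⟩, ?_⟩
      show ((x * 1 : G) : G ⧸ K) = ((x * y : G) : G ⧸ K)
      rw [mul_one]
      exact QuotientGroup.eq.mpr (by simpa using hy)
    refine ⟨fun a b => ?_⟩
    obtain ⟨c, rfl⟩ := h1 a
    obtain ⟨d, rfl⟩ := h1 b
    exact ⟨d * c⁻¹, by rw [mul_smul, inv_smul_smul]⟩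
  have hs : MulAction.stabilizer H ((1 : G) : G ⧸ K) = K.subgroupOf H := by
    ext a
    rw [MulAction.mem_stabilizer_iff, mem_subgroupOf]
    show ((a * 1 : G) : G ⧸ K) = ((1 : G) : G ⧸ K) ↔ _
    rw [mul_one, eq_comm, QuotientGroup.eq, inv_one, one_mul]
  show (K.subgroupOf H).index = K.index
  rw [← hs, MulAction.index_stabilizer_of_transitive, index_eq_card]

private theorem three_aux (n : ℕ) :
    ∀ (G : Type u) [Group G] [Finite G], Nat.card G = n → ∀ H₁ H₂ H₃ : Subgroup G,
      Group.IsSolvable H₁ → Group.IsSolvable H₂ → Group.IsSolvable H₃ →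
      (∀ g : G, ∃ x ∈ H₁, ∃ y ∈ H₂, g = x * y) → (∀ g : G, ∃ x ∈ H₁, ∃ y ∈ H₃, g = x * y) →
      H₂.index.Coprime H₃.index → Group.IsSolvable G := by
  induction n using Nat.strongRecOn with
  | ind n ih =>
    intro G _ _ hG H₁ H₂ H₃ h₁ h₂ h₃ h12 h13 hcop
    subst hG
    by_cases hb : H₁ = ⊥
    · subst hb
      have : H₂ = ⊤ := by
        refine top_unique fun g _ => ?_
        obtain ⟨x, hx, y, hy, rfl⟩ := h12 g
        rwa [mem_bot.mp hx, one_mul]
      subst this
      exact Group.isSolvable_of_surjective (f := (⊤ : Subgroup G).subtype) fun g =>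
        ⟨⟨g, mem_top g⟩, rfl⟩
    haveI := h₁
    haveI : Nontrivial H₁ := H₁.nontrivial_iff_ne_bot.mpr hb
    obtain ⟨p, hp, hpc⟩ := exists_pCore_ne_bot (G := H₁)
    haveI := Fact.mk hp
    generalize hM : (pCore p H₁).map H₁.subtype = M
    have hMb : M ≠ ⊥ := fun h => hpc ((map_eq_bot_iff_of_injective _ H₁.subtype_injective).mp (hM ▸ h))
    have hMH : M ≤ H₁ := hM ▸ map_subtype_le _
    have key : ∀ H : Subgroup G, (∀ g : G, ∃ x ∈ H₁, ∃ y ∈ H, g = x * y) → ¬ p ∣ H.index →
        normalClosure (M : Set G) ≤ H := by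
      intro H hprod hpi
      have hidx : (H.subgroupOf H₁).index = H.index := relIndex_eq_index_of_mul hprod
      obtain ⟨e, he⟩ := IsPGroup.iff_card.mp (isPGroup_pCore p H₁)
      have hle : pCore p H₁ ≤ H.subgroupOf H₁ :=
        le_of_coprime_index (le_normalizer_of_normal _ _)
          (by rw [hidx, he]; exact Nat.Coprime.pow_left e ((hp.coprime_iff_not_dvd).mpr hpi))
      have hMH' : M ≤ H := by
        rw [← hM, map_le_iff_le_comap]; exact hle
      refine (closure_le _).mpr fun z hz => ?_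
      obtain ⟨m, hm, hc⟩ := Group.mem_conjugatesOfSet_iff.mp hz
      obtain ⟨g, hg⟩ := isConj_iff.mp hc
      -- write `g = y⁻¹ * x` with `y ∈ H`, `x ∈ H₁`
      obtain ⟨x, hx, y, hy, hxy⟩ := hprod g⁻¹
      have hg' : g = y⁻¹ * x⁻¹ := by rw [← mul_inv_rev, ← hxy, inv_inv]
      have hxm : x⁻¹ * m * x ∈ H := by
        apply hMH'
        rw [← hM] at hm ⊢
        obtain ⟨w, hw, rfl⟩ := hm
        exact ⟨(⟨x, hx⟩ : H₁)⁻¹ * w * ⟨x, hx⟩,
          by simpa using (normal_pCore p H₁).conj_mem w hw (⟨x, hx⟩ : H₁)⁻¹, rfl⟩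
      rw [SetLike.mem_coe, ← hg, hg']
      have := H.mul_mem (H.mul_mem (H.inv_mem hy) hxm) hy
      simpa [mul_assoc] using this
    have hN : ∃ H : Subgroup G, Group.IsSolvable H ∧ normalClosure (M : Set G) ≤ H := by
      by_cases hp2 : p ∣ H₂.index
      · exact ⟨H₃, h₃, key H₃ h13 fun h => hp.ne_one (Nat.eq_one_of_dvd_coprimes hcop hp2 h)⟩
      · exact ⟨H₂, h₂, key H₂ h12 hp2⟩
    obtain ⟨H, hHs, hle⟩ := hN
    generalize hNdef : normalClosure (M : Set G) = N at hle
    haveI : N.Normal := hNdef ▸ normalClosure_normal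
    have hNb : N ≠ ⊥ := fun h => hMb (le_bot_iff.mp (h ▸ hNdef ▸ le_normalClosure))
    let π := QuotientGroup.mk' N
    have hprod : ∀ K : Subgroup G, (∀ g : G, ∃ x ∈ H₁, ∃ y ∈ K, g = x * y) →
        ∀ q : G ⧸ N, ∃ x ∈ H₁.map π, ∃ y ∈ K.map π, q = x * y := by
      intro K hK q
      obtain ⟨g, rfl⟩ := QuotientGroup.mk'_surjective N q
      obtain ⟨x, hx, y, hy, rfl⟩ := hK g
      exact ⟨π x, mem_map_of_mem π hx, π y, mem_map_of_mem π hy, map_mul π x y⟩
    haveI := isSolvable_of_le hHs hle
    haveI := ih _ (card_quotient_lt N hNb) (G ⧸ N) rfl _ _ _ (isSolvable_map π h₁)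
      (isSolvable_map π h₂) (isSolvable_map π h₃) (hprod _ h12) (hprod _ h13)
      ((hcop.coprime_dvd_left (index_map_dvd H₂ (QuotientGroup.mk'_surjective N))).coprime_dvd_right
        (index_map_dvd H₃ (QuotientGroup.mk'_surjective N)))
    exact (Group.isSolvable_iff_subgroup_quotient N).mpr ⟨inferInstance, inferInstance⟩

variable {G : Type u} [Group G] [Finite G]

theorem isSolvable_of_three {H₁ H₂ H₃ : Subgroup G} (h₁ : Group.IsSolvable H₁)
    (h₂ : Group.IsSolvable H₂) (h₃ : Group.IsSolvable H₃)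
    (h12 : ∀ g : G, ∃ x ∈ H₁, ∃ y ∈ H₂, g = x * y) (h13 : ∀ g : G, ∃ x ∈ H₁, ∃ y ∈ H₃, g = x * y)
    (hcop : H₂.index.Coprime H₃.index) : Group.IsSolvable G :=
  three_aux _ G rfl H₁ H₂ H₃ h₁ h₂ h₃ h12 h13 hcop

private theorem complements_aux (n : ℕ) :
    ∀ (G : Type u) [Group G] [Finite G], Nat.card G = n →
      (∀ p : ℕ, p.Prime → ∃ H : Subgroup G, H.index = p ^ (Nat.card G).factorization p) →
      Group.IsSolvable G := by
  induction n using Nat.strongRecOn with
  | ind n ih =>
    intro G _ _ hG h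
    subst hG
    by_cases h2 : ∃ p q a b : ℕ, p.Prime ∧ q.Prime ∧ Nat.card G = p ^ a * q ^ b
    · obtain ⟨p, q, a, b, hp, hq, hc⟩ := h2
      exact Burnside.isSolvable_of_card_eq hp hq hc
    have hn0 : Nat.card G ≠ 0 := Nat.card_pos.ne'
    -- every Hall complement for a prime divisor is solvable
    have hsolv : ∀ p : ℕ, p.Prime → p ∣ Nat.card G → ∀ H : Subgroup G,
        H.index = p ^ (Nat.card G).factorization p → Group.IsSolvable H := by
      intro p hp hpd H hH
      have hH1 : H ≠ ⊤ := by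
        intro hc
        rw [hc, index_top] at hH
        exact (hp.factorization_pos_of_dvd hn0 hpd).ne'
          (Nat.pow_right_injective hp.two_le (hH.symm.trans (pow_zero p).symm))
      have hcard : Nat.card H = Nat.card G / p ^ (Nat.card G).factorization p := by
        rw [← hH]
        exact (Nat.div_eq_of_eq_mul_left (Nat.pos_of_ne_zero index_ne_zero_of_finite)
          H.card_mul_index.symm).symm
      refine ih _ (card_subgroup_lt H hH1) H rfl fun q hq => ?_
      have hf : (Nat.card H).factorization q = if q = p then 0 else (Nat.card G).factorization q := by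
        rw [hcard]
        split_ifs with hqp
        · subst hqp
          exact Nat.factorization_eq_zero_of_not_dvd (Nat.not_dvd_ordCompl hq hn0)
        · rw [Nat.factorization_ordCompl, Finsupp.erase_ne hqp]
      by_cases hqp : q = p
      · exact ⟨⊤, by rw [index_top, hf, if_pos hqp, pow_zero]⟩
      obtain ⟨K, hK⟩ := h q hq
      refine ⟨K.subgroupOf H, ?_⟩
      show K.relIndex H = _
      rw [hf, if_neg hqp, ← hK]
      refine relIndex_eq_index_of_mul (exists_mul_of_coprime_index ?_)
      rw [hH, hK]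
      exact Nat.Coprime.pow _ _ ((Nat.coprime_primes hp hq).mpr (Ne.symm hqp))
    have hnpq : ∀ p q : ℕ, p.Prime → q.Prime → ∃ r : ℕ, r.Prime ∧ r ∣ Nat.card G ∧ r ≠ p ∧ r ≠ q := by
      intro p q hp hq
      by_contra hc
      push Not at hc
      by_cases hpq : p = q
      · subst hpq
        refine h2 ⟨p, p, (Nat.card G).factorization p, 0, hp, hp, ?_⟩
        rw [pow_zero, mul_one]
        refine Nat.eq_of_factorization_eq hn0 (pow_ne_zero _ hp.ne_zero) fun r => ?_
        rw [hp.factorization_pow, Finsupp.single_apply]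
        split_ifs with hr
        · rw [hr]
        · by_contra hne
          exact hr ((hc r (Nat.prime_of_mem_primeFactors (Nat.support_factorization _ ▸
            Finsupp.mem_support_iff.mpr hne)) (Nat.dvd_of_factorization_pos hne)
            (Ne.symm hr)).symm)
      refine h2 ⟨p, q, (Nat.card G).factorization p, (Nat.card G).factorization q, hp, hq, ?_⟩
      refine Nat.eq_of_factorization_eq hn0
        (mul_ne_zero (pow_ne_zero _ hp.ne_zero) (pow_ne_zero _ hq.ne_zero)) fun r => ?_
      rw [Nat.factorization_mul (pow_ne_zero _ hp.ne_zero) (pow_ne_zero _ hq.ne_zero),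
        hp.factorization_pow, hq.factorization_pow, Finsupp.add_apply, Finsupp.single_apply,
        Finsupp.single_apply]
      by_cases hrp : p = r
      · subst hrp; rw [if_pos rfl, if_neg (Ne.symm hpq), add_zero]
      by_cases hrq : q = r
      · subst hrq; rw [if_pos rfl, if_neg hrp, zero_add]
      rw [if_neg hrp, if_neg hrq, add_zero]
      by_contra hne
      exact hrq (hc r (Nat.prime_of_mem_primeFactors (Nat.support_factorization _ ▸
        Finsupp.mem_support_iff.mpr hne)) (Nat.dvd_of_factorization_pos hne)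
        (Ne.symm hrp)).symm
    obtain ⟨p, hp, hpd, -, -⟩ := hnpq 2 2 Nat.prime_two Nat.prime_two
    obtain ⟨q, hq, hqd, hqp, -⟩ := hnpq p p hp hp
    obtain ⟨r, hr, hrd, hrp, hrq⟩ := hnpq p q hp hq
    obtain ⟨Hp, hHp⟩ := h p hp
    obtain ⟨Hq, hHq⟩ := h q hq
    obtain ⟨Hr, hHr⟩ := h r hr
    refine isSolvable_of_three (hsolv p hp hpd Hp hHp) (hsolv q hq hqd Hq hHq)
      (hsolv r hr hrd Hr hHr) (exists_mul_of_coprime_index ?_) (exists_mul_of_coprime_index ?_) ?_
    · rw [hHp, hHq]; exact Nat.Coprime.pow _ _ ((Nat.coprime_primes hp hq).mpr (Ne.symm hqp))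
    · rw [hHp, hHr]; exact Nat.Coprime.pow _ _ ((Nat.coprime_primes hp hr).mpr (Ne.symm hrp))
    · rw [hHq, hHr]; exact Nat.Coprime.pow _ _ ((Nat.coprime_primes hq hr).mpr (Ne.symm hrq))

/-- Hall's converse theorem. -/
theorem isSolvable_of_hall_complements
    (h : ∀ p : ℕ, p.Prime → ∃ H : Subgroup G, H.index = p ^ (Nat.card G).factorization p) :
    Group.IsSolvable G :=
  complements_aux _ G rfl h

/-! ### Sylow systems -/

theorem prod_primes_pow_dvd (e : Nat.Primes → ℕ) {N : ℕ} {s : Finset Nat.Primes}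
    (h : ∀ q ∈ s, (q : ℕ) ^ e q ∣ N) : ∏ q ∈ s, (q : ℕ) ^ e q ∣ N := by
  classical
  induction s using Finset.induction with
  | empty => simp
  | @insert a s ha ih =>
    rw [Finset.prod_insert ha]
    refine Nat.Coprime.mul_dvd_of_dvd_of_dvd (Nat.Coprime.prod_right fun b hb => ?_)
      (h a (Finset.mem_insert_self a s)) (ih fun q hq => h q (Finset.mem_insert_of_mem hq))
    exact Nat.Coprime.pow _ _ ((Nat.coprime_primes a.2 b.2).mpr fun hab => ha (Subtype.ext hab ▸ hb))

section Systems

variable (S : (p : Nat.Primes) → Sylow (p : ℕ) G)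

theorem sylow_card (p : Nat.Primes) :
    Nat.card (S p) = (p : ℕ) ^ (Nat.card G).factorization p :=
  haveI := Fact.mk p.2
  (S p).card_eq_multiplicity

variable (hS : ∀ p q : Nat.Primes, (S p : Set G) * (S q : Set G) = (S q : Set G) * (S p : Set G))

include hS

theorem system_sup (s : Finset Nat.Primes) :
    (∀ q : Nat.Primes, ((s.sup fun p => (S p : Subgroup G) : Subgroup G) : Set G) * (S q : Set G) =
      (S q : Set G) * ((s.sup fun p => (S p : Subgroup G) : Subgroup G) : Set G)) ∧
    Nat.card (s.sup fun p => (S p : Subgroup G) : Subgroup G) ≤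
      ∏ p ∈ s, (p : ℕ) ^ (Nat.card G).factorization p := by
  classical
  induction s using Finset.induction with
  | empty => simp
  | @insert a s ha ih =>
    obtain ⟨hc, hle⟩ := ih
    rw [Finset.sup_insert, Finset.prod_insert ha]
    generalize (s.sup fun p => (S p : Subgroup G)) = T at hc hle
    have hset : (((S a : Subgroup G) ⊔ T : Subgroup G) : Set G) =
        (S a : Set G) * (T : Set G) := by
      let W : Subgroup G :=
        { carrier := (S a : Set G) * (T : Set G)
          mul_mem' := fun {x y} hx hy => by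
            obtain ⟨x1, hx1, x2, hx2, rfl⟩ := hx
            obtain ⟨y1, hy1, y2, hy2, rfl⟩ := hy
            have hmid : x2 * y1 ∈ (S a : Set G) * (T : Set G) := by
              rw [← hc a]; exact Set.mul_mem_mul hx2 hy1
            obtain ⟨z1, hz1, z2, hz2, hz⟩ := hmid
            refine ⟨x1 * z1, (S a : Subgroup G).mul_mem hx1 hz1, z2 * y2, T.mul_mem hz2 hy2, ?_⟩
            simp only at hz ⊢
            rw [show x1 * x2 * (y1 * y2) = x1 * (x2 * y1) * y2 by group, ← hz]
            group
          one_mem' := ⟨1, (S a : Subgroup G).one_mem, 1, T.one_mem, mul_one 1⟩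
          inv_mem' := fun {x} hx => by
            obtain ⟨x1, hx1, x2, hx2, rfl⟩ := hx
            simp only [mul_inv_rev]
            rw [← hc a]
            exact Set.mul_mem_mul (T.inv_mem hx2) ((S a : Subgroup G).inv_mem hx1) }
      refine le_antisymm (fun x hx => ?_) ?_
      · exact (sup_le (fun x hx => ⟨x, hx, 1, T.one_mem, mul_one x⟩)
          (fun x hx => ⟨1, (S a : Subgroup G).one_mem, x, hx, one_mul x⟩) :
            (S a : Subgroup G) ⊔ T ≤ W) hx
      · rintro _ ⟨x1, hx1, x2, hx2, rfl⟩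
        exact mul_mem (mem_sup_left hx1) (mem_sup_right hx2)
    refine ⟨fun q => ?_, ?_⟩
    · rw [hset, mul_assoc, hc q, ← mul_assoc, hS a q, mul_assoc]
    · have h1 : Nat.card (((S a : Subgroup G) ⊔ T : Subgroup G) : Set G) ≤
          Nat.card (S a : Set G) * Nat.card (T : Set G) := by
        rw [hset]; exact Set.natCard_mul_le
      refine h1.trans (Nat.mul_le_mul (le_of_eq ?_) hle)
      exact sylow_card S a

theorem isSolvable_of_sylow_system : Group.IsSolvable G := by
  classical
  refine isSolvable_of_hall_complements fun p hp => ?_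
  have hn0 : Nat.card G ≠ 0 := Nat.card_pos.ne'
  let s : Finset Nat.Primes :=
    Finset.subtype (fun n => Nat.Prime n) ((Nat.card G).primeFactors.erase p)
  have hs : ∀ q : Nat.Primes, q ∈ s ↔ (q : ℕ) ∈ (Nat.card G).primeFactors.erase p :=
    fun q => Finset.mem_subtype
  obtain ⟨-, hle⟩ := system_sup S hS s
  generalize hT : (s.sup fun q => (S q : Subgroup G)) = T at hle
  refine ⟨T, ?_⟩
  have hprod : ∏ q ∈ s, (q : ℕ) ^ (Nat.card G).factorization q =
      ∏ q ∈ (Nat.card G).primeFactors.erase p, q ^ (Nat.card G).factorization q :=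
    Finset.prod_nbij (fun q : Nat.Primes => (q : ℕ)) (fun q hq => (hs q).mp hq)
      (fun a _ b _ h => Subtype.ext h)
      (fun q hq => ⟨⟨q, Nat.prime_of_mem_primeFactors (Finset.mem_of_mem_erase hq)⟩,
        (hs _).mpr hq, rfl⟩)
      (fun q _ => rfl)
  have hdvd : ∏ q ∈ s, (q : ℕ) ^ (Nat.card G).factorization q ∣ Nat.card T := by
    refine prod_primes_pow_dvd _ fun q hq => ?_
    rw [← sylow_card S q]
    exact card_dvd_of_le (hT ▸ Finset.le_sup (f := fun q => (S q : Subgroup G)) hq)
  have hTc := le_antisymm hle (Nat.le_of_dvd Nat.card_pos hdvd)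
  rw [hprod] at hTc
  have hG' : Nat.card G = p ^ (Nat.card G).factorization p *
      ∏ q ∈ (Nat.card G).primeFactors.erase p, q ^ (Nat.card G).factorization q := by
    conv_lhs => rw [← Nat.prod_factorization_pow_eq_self hn0]
    rw [Finsupp.prod, Nat.support_factorization]
    by_cases hpm : p ∈ (Nat.card G).primeFactors
    · exact (Finset.mul_prod_erase _ _ hpm).symm
    · rw [Finset.erase_eq_of_notMem hpm, Finsupp.notMem_support_iff.mp
        (by rwa [Nat.support_factorization]), pow_zero, one_mul]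
  apply Nat.eq_of_mul_eq_mul_left (Nat.card_pos (α := T))
  rw [card_mul_index, hTc]
  exact hG'.trans (mul_comm _ _)

end Systems

theorem index_finset_inf (K : Nat.Primes → Subgroup G) (e : Nat.Primes → ℕ)
    (hK : ∀ p : Nat.Primes, (K p).index = (p : ℕ) ^ e p) (s : Finset Nat.Primes) :
    (s.inf K).index = ∏ p ∈ s, (p : ℕ) ^ e p := by
  classical
  induction s using Finset.induction with
  | empty => simp
  | @insert a s ha ih =>
    rw [Finset.inf_insert, Finset.prod_insert ha, index_inf_of_coprime, ih, hK]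
    rw [ih, hK]
    exact Nat.Coprime.prod_right fun b hb =>
      Nat.Coprime.pow _ _ ((Nat.coprime_primes a.2 b.2).mpr fun h => ha (Subtype.ext h ▸ hb))

theorem exists_sylow_system [Group.IsSolvable G] :
    ∃ S : (p : Nat.Primes) → Sylow (p : ℕ) G,
      ∀ p q : Nat.Primes, (S p : Set G) * (S q : Set G) = (S q : Set G) * (S p : Set G) := by
  classical
  have hn0 : Nat.card G ≠ 0 := Nat.card_pos.ne'
  have hex : ∀ p : Nat.Primes, ∃ H : Subgroup G,
      H.index = (p : ℕ) ^ (Nat.card G).factorization p := by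
    intro p
    have hmk : Nat.card G = Nat.card G / (p : ℕ) ^ (Nat.card G).factorization p *
        (p : ℕ) ^ (Nat.card G).factorization p :=
      (Nat.div_mul_cancel (Nat.ordProj_dvd _ _)).symm
    obtain ⟨H, hH⟩ := exists_subgroup_card_eq hmk
      ((Nat.coprime_ordCompl p.2 hn0).symm.pow_right _)
    refine ⟨H, Nat.eq_of_mul_eq_mul_left (Nat.card_pos (α := H)) ?_⟩
    rw [card_mul_index, hH]
    exact hmk
  choose K hK using hex
  let s : Finset Nat.Primes := Finset.subtype (fun n => Nat.Prime n) (Nat.card G).primeFactors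
  have hs : ∀ q : Nat.Primes, q ∈ s ↔ (q : ℕ) ∈ (Nat.card G).primeFactors :=
    fun q => Finset.mem_subtype
  have hfull : ∏ r ∈ s, (r : ℕ) ^ (Nat.card G).factorization r = Nat.card G := by
    conv_rhs => rw [← Nat.prod_factorization_pow_eq_self hn0]
    rw [Finsupp.prod, Nat.support_factorization]
    exact Finset.prod_nbij (fun q : Nat.Primes => (q : ℕ)) (fun q hq => (hs q).mp hq)
      (fun a _ b _ h => Subtype.ext h)
      (fun q hq => ⟨⟨q, Nat.prime_of_mem_primeFactors hq⟩, (hs _).mpr hq, rfl⟩) (fun q _ => rfl)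
  have hcard : ∀ t : Finset Nat.Primes, t ⊆ s →
      Nat.card ((s \ t).inf K : Subgroup G) = ∏ r ∈ t, (r : ℕ) ^ (Nat.card G).factorization r := by
    intro t ht
    have h1 := ((s \ t).inf K).card_mul_index
    have h2 := Finset.prod_sdiff (f := fun r : Nat.Primes => (r : ℕ) ^ (Nat.card G).factorization r) ht
    rw [index_finset_inf K _ hK] at h1
    refine Nat.eq_of_mul_eq_mul_right (Finset.prod_pos fun r _ => pow_pos r.2.pos _)
      (h1.trans ?_)
    rw [mul_comm, h2]
    exact hfull.symm
  have hzero : ∀ p : Nat.Primes, p ∉ s → (Nat.card G).factorization p = 0 := by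
    intro p hp
    by_contra h
    exact hp ((hs p).mpr (Nat.support_factorization _ ▸ Finsupp.mem_support_iff.mpr h))
  have hP : ∀ p : Nat.Primes, Nat.card ((s \ ({p} ∩ s)).inf K : Subgroup G) =
      (p : ℕ) ^ (Nat.card G).factorization p := by
    intro p
    rw [hcard _ Finset.inter_subset_right]
    by_cases hp : p ∈ s
    · rw [Finset.singleton_inter_of_mem hp, Finset.prod_singleton]
    · rw [Finset.singleton_inter_of_notMem hp, Finset.prod_empty, hzero p hp, pow_zero]
  refine ⟨fun p => haveI := Fact.mk p.2; Sylow.ofCard _ (hP p), fun p q => ?_⟩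
  haveI := Fact.mk p.2
  haveI := Fact.mk q.2
  by_cases hpq : p = q
  · rw [hpq]
  show (((s \ ({p} ∩ s)).inf K : Subgroup G) : Set G) * (((s \ ({q} ∩ s)).inf K : Subgroup G) : Set G)
    = (((s \ ({q} ∩ s)).inf K : Subgroup G) : Set G) * (((s \ ({p} ∩ s)).inf K : Subgroup G) : Set G)
  generalize hA : (s \ ({p} ∩ s)).inf K = A
  generalize hB : (s \ ({q} ∩ s)).inf K = B
  generalize hE : (s \ ({p, q} ∩ s)).inf K = E
  have hAE : A ≤ E := hA ▸ hE ▸ Finset.inf_mono (Finset.sdiff_subset_sdiff le_rfl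
    (Finset.inter_subset_inter_right (Finset.singleton_subset_iff.mpr (Finset.mem_insert_self p _))))
  have hBE : B ≤ E := hB ▸ hE ▸ Finset.inf_mono (Finset.sdiff_subset_sdiff le_rfl
    (Finset.inter_subset_inter_right (Finset.singleton_subset_iff.mpr
      (Finset.mem_insert_of_mem (Finset.mem_singleton_self q)))))
  have hEc : Nat.card E = Nat.card A * Nat.card B := by
    rw [← hA, ← hB, hP p, hP q, ← hE, hcard _ Finset.inter_subset_right,
      ← Finset.prod_pair (f := fun r : Nat.Primes => (r : ℕ) ^ (Nat.card G).factorization r) hpq]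
    refine Finset.prod_subset Finset.inter_subset_left fun r hr hr' => ?_
    rw [hzero r fun h => hr' (Finset.mem_inter.mpr ⟨hr, h⟩), pow_zero]
  have hcop : (Nat.card A).Coprime (Nat.card B) := by
    rw [← hA, ← hB, hP p, hP q]
    exact Nat.Coprime.pow _ _ ((Nat.coprime_primes p.2 q.2).mpr fun h => hpq (Subtype.ext h))
  have key : ∀ X Y : Subgroup G, X ≤ E → Y ≤ E → Nat.card E = Nat.card X * Nat.card Y →
      (Nat.card X).Coprime (Nat.card Y) → (X : Set G) * (Y : Set G) ⊇ (E : Set G) := by
    intro X Y hX hY hc hco z hz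
    have hcX : Nat.card (X.subgroupOf E) = Nat.card X :=
      Nat.card_congr (subgroupOfEquivOfLe hX).toEquiv
    have hcY : Nat.card (Y.subgroupOf E) = Nat.card Y :=
      Nat.card_congr (subgroupOfEquivOfLe hY).toEquiv
    have hcompl : IsComplement' (X.subgroupOf E) (Y.subgroupOf E) :=
      isComplement'_of_coprime (by rw [hcX, hcY, hc]) (by rw [hcX, hcY]; exact hco)
    obtain ⟨⟨x, y⟩, hxy, -⟩ := hcompl.existsUnique ⟨z, hz⟩
    exact ⟨(x : E), x.2, (y : E), y.2, congrArg Subtype.val hxy⟩
  have hsub : ∀ X Y : Subgroup G, X ≤ E → Y ≤ E → (X : Set G) * (Y : Set G) ⊆ (E : Set G) :=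
    fun X Y hX hY => mul_subset hX hY
  exact (Set.Subset.antisymm (hsub A B hAE hBE) (key A B hAE hBE hEc hcop)).trans
    (Set.Subset.antisymm (key B A hBE hAE (hEc.trans (mul_comm _ _)) hcop.symm) (hsub B A hBE hAE))

end CfsgLib.Core
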