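import Cfsg.Agent.Lib.Core.OpSetup

/-!
# Fitting height two from the operator setup

`exists_nilpotent_quotient`: if in every operator setup the operated group is nilpotent, a solvable
group with coprime fixed point free operators `A` is nilpotent by nilpotent.
-/

set_option autoImplicit false
set_option linter.all false

universe u v

namespace CfsgLib.Core.OpSetup

open Subgroup Cfsg

theorem exists_of_two_quotients {G : Type u} [Group G] [Finite G] (V W : Subgroup G) [V.Normal]
    [W.Normal] (hVW : V ⊓ W = ⊥) (hV : Group.IsNilpotent ((G ⧸ V) ⧸ fittingSubgroup (G ⧸ V)))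
    (hW : Group.IsNilpotent ((G ⧸ W) ⧸ fittingSubgroup (G ⧸ W))) :
    Group.IsNilpotent (G ⧸ fittingSubgroup G) := by
  generalize hN : (fittingSubgroup (G ⧸ V)).comap (QuotientGroup.mk' V) ⊓
    (fittingSubgroup (G ⧸ W)).comap (QuotientGroup.mk' W) = N
  haveI : N.Normal := hN ▸ inferInstance
  have hmem : ∀ x : G, x ∈ N ↔ (x : G ⧸ V) ∈ fittingSubgroup (G ⧸ V) ∧
      (x : G ⧸ W) ∈ fittingSubgroup (G ⧸ W) := fun x => by rw [← hN]; rfl
  haveI := isNilpotent_fittingSubgroup (G ⧸ V)
  haveI := isNilpotent_fittingSubgroup (G ⧸ W)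
  have hNn : Group.IsNilpotent N := by
    let f : N →* fittingSubgroup (G ⧸ V) × fittingSubgroup (G ⧸ W) :=
      (((QuotientGroup.mk' V).comp N.subtype).codRestrict _ fun x => ((hmem x).mp x.2).1).prod
        (((QuotientGroup.mk' W).comp N.subtype).codRestrict _ fun x => ((hmem x).mp x.2).2)
    refine _root_.isNilpotent_of_ker_le_center f ?_
    intro x hx
    rw [MonoidHom.mem_ker, Prod.ext_iff] at hx
    have hx1 : (x : G) ∈ V := (QuotientGroup.eq_one_iff _).mp (congrArg Subtype.val hx.1)
    have hx2 : (x : G) ∈ W := (QuotientGroup.eq_one_iff _).mp (congrArg Subtype.val hx.2)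
    have : x = 1 := Subtype.ext (mem_bot.mp (hVW ▸ ⟨hx1, hx2⟩))
    exact this ▸ one_mem _
  let π : G →* ((G ⧸ V) ⧸ fittingSubgroup (G ⧸ V)) × ((G ⧸ W) ⧸ fittingSubgroup (G ⧸ W)) :=
    ((QuotientGroup.mk' _).comp (QuotientGroup.mk' V)).prod
      ((QuotientGroup.mk' _).comp (QuotientGroup.mk' W))
  have hker : π.ker ≤ fittingSubgroup G := by
    refine le_trans ?_ (le_fittingSubgroup hNn)
    intro x hx
    rw [MonoidHom.mem_ker, Prod.ext_iff] at hx
    exact (hmem x).mpr ⟨(QuotientGroup.eq_one_iff (x : G ⧸ V)).mp hx.1,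
      (QuotientGroup.eq_one_iff (x : G ⧸ W)).mp hx.2⟩
  haveI := hV
  haveI := hW
  haveI : Group.IsNilpotent π.range := inferInstance
  haveI : Group.IsNilpotent (G ⧸ π.ker) :=
    Group.nilpotent_of_mulEquiv (QuotientGroup.quotientKerEquivRange π).symm
  exact Group.nilpotent_of_surjective
    (QuotientGroup.map π.ker (fittingSubgroup G) (MonoidHom.id G) hker) (by
      intro y
      obtain ⟨g, rfl⟩ := QuotientGroup.mk_surjective y
      exact ⟨QuotientGroup.mk g, rfl⟩)

variable {A : Type v} [Group A] [Fintype A]

private theorem height_aux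
    (main : ∀ (X : Type u) [Group X] [Finite X] [Group.IsSolvable X] (M : Type u) [AddCommGroup M]
      [Finite M], Setup A X M → (Nat.card A).Coprime (Nat.card X) →
      (Nat.card M).Coprime (Nat.card A) → (Nat.card M).Coprime (Nat.card (fittingSubgroup X)) →
      Group.IsNilpotent (X ⧸ fittingSubgroup X) → Group.IsNilpotent X)
    (n : ℕ) :
    ∀ (G : Type u) [Group G] [Finite G] (φ : A →* MulAut G), Nat.card G = n → Group.IsSolvable G →
      (Nat.card A).Coprime (Nat.card G) → (∀ x, (∀ g, φ g x = x) → x = 1) →
      Group.IsNilpotent (G ⧸ fittingSubgroup G) := by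
  induction n using Nat.strong_induction_on with
  | _ n ih =>
  intro G _ _ φ hn hsolv hcop hfp
  subst hn
  haveI := hsolv
  have hinvt : ∀ (N : Subgroup G) (g : A), N.map (φ g).toMonoidHom = N → ∀ x ∈ N, φ g x ∈ N :=
    fun N g h x hx => h.le (mem_map_of_mem _ hx)
  -- induced actions
  have hact : ∀ (N : Subgroup G) [N.Normal], (∀ g, N.map (φ g).toMonoidHom = N) →
      ∃ ψ : A →* MulAut (G ⧸ N), (∀ g (x : G), ψ g (x : G ⧸ N) = ((φ g x : G) : G ⧸ N)) ∧
        ∀ y, (∀ g, ψ g y = y) → y = 1 := by
    intro N _ hN
    let ψ : A →* MulAut (G ⧸ N) :=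
      { toFun := fun g => QuotientGroup.congr N N (φ g) (hN g)
        map_one' := MulEquiv.ext fun y => by
          obtain ⟨x, rfl⟩ := QuotientGroup.mk_surjective y
          show ((φ 1 x : G) : G ⧸ N) = _
          rw [map_one]; rfl
        map_mul' := fun g h => MulEquiv.ext fun y => by
          obtain ⟨x, rfl⟩ := QuotientGroup.mk_surjective y
          show ((φ (g * h) x : G) : G ⧸ N) = ((φ g (φ h x) : G) : G ⧸ N)
          rw [map_mul]; rfl }
    refine ⟨ψ, fun g x => rfl, fun y hy => ?_⟩
    obtain ⟨x, rfl⟩ := QuotientGroup.mk_surjective y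
    obtain ⟨n, hn, hfx⟩ := FPFSymThree.exists_fixed_in_coset φ N (fun g => hinvt N g (hN g))
      (hcop.coprime_dvd_right N.card_subgroup_dvd_card) inferInstance x
      (fun g => (QuotientGroup.eq).mp (hy g).symm)
    rw [QuotientGroup.eq_one_iff, eq_inv_of_mul_eq_one_left (hfp _ hfx)]
    exact inv_mem hn
  have hquo : ∀ (N : Subgroup G) [N.Normal], (∀ g, N.map (φ g).toMonoidHom = N) → N ≠ ⊥ →
      Group.IsNilpotent ((G ⧸ N) ⧸ fittingSubgroup (G ⧸ N)) := by
    intro N _ hN hne
    obtain ⟨ψ, -, hψ⟩ := hact N hN
    exact ih _ (card_quotient_lt N hne) (G ⧸ N) ψ rfl inferInstance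
      (hcop.coprime_dvd_right N.card_quotient_dvd_card) hψ
  rcases subsingleton_or_nontrivial G with hG | hG
  · haveI : Subsingleton (G ⧸ fittingSubgroup G) :=
      (QuotientGroup.mk'_surjective (fittingSubgroup G)).subsingleton
    haveI : Fact (Nat.Prime 2) := ⟨Nat.prime_two⟩
    haveI : Group.IsNilpotent G :=
      (IsPGroup.of_card (p := 2) (n := 0) (by rw [Nat.card_unique, pow_zero])).isNilpotent
    exact Group.nilpotent_of_surjective _ (QuotientGroup.mk'_surjective (fittingSubgroup G))
  -- the Frattini subgroup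
  by_cases hΦ : frattini G = ⊥
  swap
  · haveI := hquo (frattini G) (fun g => characteristic_iff_map_eq.mp frattini_characteristic (φ g)) hΦ
    let π : G →* (G ⧸ frattini G) ⧸ fittingSubgroup (G ⧸ frattini G) :=
      (QuotientGroup.mk' _).comp (QuotientGroup.mk' (frattini G))
    have hker : π.ker ≤ fittingSubgroup G := by
      intro x hx
      have h1 : QuotientGroup.mk' (frattini G) x ∈ fittingSubgroup (G ⧸ frattini G) :=
        (QuotientGroup.eq_one_iff _).mp hx
      rw [fittingSubgroup_quotient_frattini, ← mem_comap, comap_map_eq, QuotientGroup.ker_mk',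
        sup_eq_left.mpr frattini_le_fittingSubgroup] at h1
      exact h1
    haveI : Group.IsNilpotent (G ⧸ π.ker) :=
      Group.nilpotent_of_mulEquiv (QuotientGroup.quotientKerEquivOfSurjective π
        ((QuotientGroup.mk'_surjective _).comp (QuotientGroup.mk'_surjective _))).symm
    exact Group.nilpotent_of_surjective
      (QuotientGroup.map π.ker (fittingSubgroup G) (MonoidHom.id G) hker) (by
        intro y
        obtain ⟨g, rfl⟩ := QuotientGroup.mk_surjective y
        exact ⟨QuotientGroup.mk g, rfl⟩)
  -- two invariant normal subgroups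
  by_cases hprod : ∃ V W : Subgroup G, V.Normal ∧ W.Normal ∧ (∀ g, V.map (φ g).toMonoidHom = V) ∧
      (∀ g, W.map (φ g).toMonoidHom = W) ∧ V ≠ ⊥ ∧ W ≠ ⊥ ∧ V ⊓ W = ⊥
  · obtain ⟨V, W, hVn, hWn, hV, hW, hVb, hWb, hVW⟩ := hprod
    exact exists_of_two_quotients V W hVW (hquo V hV hVb) (hquo W hW hWb)
  push Not at hprod
  obtain ⟨q, hq, hb⟩ := exists_pCore_ne_bot (G := G)
  haveI := Fact.mk hq
  have hFq : fittingSubgroup G = pCore q G := by
    refine le_antisymm ?_ (pCore_le_fittingSubgroup q)
    rw [fittingSubgroup_eq_iSup_pCore]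
    refine iSup_le fun r => ?_
    by_cases hr : (r : ℕ) = q
    · rw [hr]
    · by_cases hrb : pCore (r : ℕ) G = ⊥
      · rw [hrb]; exact bot_le
      · refine absurd (disjoint_iff.mp ?_) (hprod _ _ inferInstance inferInstance
          (fun g => map_equiv_pCore (φ g)) (fun g => map_equiv_pCore (φ g)) hrb hb)
        haveI := Fact.mk r.2
        exact IsPGroup.disjoint_of_ne r q hr _ _ (isPGroup_pCore _ G) (isPGroup_pCore _ G)
  obtain ⟨F, hF⟩ : ∃ F, fittingSubgroup G = F := ⟨_, rfl⟩
  rw [hF] at hFq
  haveI : F.Normal := hF ▸ inferInstance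
  have hFi : ∀ g, F.map (φ g).toMonoidHom = F := fun g => hF ▸ map_equiv_fittingSubgroup (φ g)
  have hFp : IsPGroup q F := hFq ▸ isPGroup_pCore q G
  haveI : Group.IsNilpotent F := hFp.isNilpotent
  haveI hFc : IsMulCommutative F := by
    rw [isMulCommutative_iff_commutator_eq_bot]
    have h1 : (frattini F).map F.subtype = ⊥ :=
      le_bot_iff.mp ((FPFFour.map_frattini_le_frattini F).trans hΦ.le)
    rw [← le_bot_iff, ← h1, ← map_subtype_commutator]
    exact map_mono CfsgLib.PGroups.commutator_le_frattini
  have hCF : centralizer (F : Set G) ≤ F := by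
    rw [← hF]; exact Components.centralizer_fitting_le_of_isSolvable
  -- the conjugation representation of the quotient
  have hlift : F ≤ (MulAut.conjNormal (H := F)).ker := by
    intro a ha
    rw [MonoidHom.mem_ker]
    ext x
    rw [MulAut.conjNormal_apply, MulAut.one_apply, mul_inv_eq_iff_eq_mul]
    exact setLike_mul_comm ha x.2
  let r₀ : G ⧸ F →* MulAut F := QuotientGroup.lift F MulAut.conjNormal hlift
  have hr : ∀ (g : G) (x : F), ((r₀ (g : G ⧸ F) x : F) : G) = g * x * g⁻¹ := fun g x => by
    show ((MulAut.conjNormal g x : F) : G) = _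
    rw [MulAut.conjNormal_apply]
  obtain ⟨θ, hθv, hθf⟩ := hact F hFi
  let s₀ : A → MulAut F := fun g => ((φ g).subgroupMap F).trans (MulEquiv.subgroupCongr (hFi g))
  have hsv : ∀ g (x : F), ((s₀ g x : F) : G) = φ g x := fun g x => rfl
  open scoped IsMulCommutative in
  have main' : Group.IsNilpotent (G ⧸ F) := by
    let r : G ⧸ F →* AddMonoid.End (Additive F) :=
      { toFun := fun x => MonoidHom.toAdditive (r₀ x).toMonoidHom
        map_one' := by ext a; simp [MulEquiv.toMonoidHom]; rfl
        map_mul' := fun a b => by ext x; simp [MulEquiv.toMonoidHom]; rfl }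
    let σ : A →* AddMonoid.End (Additive F) :=
      { toFun := fun g => MonoidHom.toAdditive (s₀ g).toMonoidHom
        map_one' := by
          ext a
          show φ 1 _ = _
          rw [map_one]; rfl
        map_mul' := fun g h => by
          ext a
          show φ (g * h) _ = φ g (φ h _)
          rw [map_mul]; rfl }
    have hco : (Nat.card (Additive F)).Coprime (Nat.card (fittingSubgroup (G ⧸ F))) := by
      have hX : pCore q (G ⧸ F) = ⊥ := by
        have h1 : IsPGroup q ((pCore q (G ⧸ F)).comap (QuotientGroup.mk' F)) :=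
          (isPGroup_pCore q _).comap_of_ker_isPGroup _ (by rw [QuotientGroup.ker_mk']; exact hFp)
        have h2 := le_pCore h1
        rw [← hFq] at h2
        rw [← le_bot_iff, ← map_comap_eq_self_of_surjective (QuotientGroup.mk'_surjective F)
          (pCore q (G ⧸ F))]
        exact (map_mono h2).trans (le_of_eq (QuotientGroup.map_mk'_self _))
      have hle : fittingSubgroup (G ⧸ F) ≤ pPrimeCore q (G ⧸ F) := by
        rw [fittingSubgroup_eq_iSup_pCore]
        refine iSup_le fun r => ?_
        by_cases hr : (r : ℕ) = q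
        · rw [hr, hX]; exact bot_le
        · exact pCore_le_pPrimeCore_of_ne hq r.2 hr
      obtain ⟨i, hi⟩ := IsPGroup.iff_card.mp hFp
      show (Nat.card F).Coprime _
      rw [hi]
      exact (((coprime_card_pPrimeCore q (G ⧸ F)).coprime_dvd_left (card_dvd_of_le hle)).symm).pow_left i
    have hX : Group.IsNilpotent ((G ⧸ F) ⧸ fittingSubgroup (G ⧸ F)) :=
      ih _ (card_quotient_lt F (hFq ▸ hb)) (G ⧸ F) θ rfl inferInstance
        (hcop.coprime_dvd_right F.card_quotient_dvd_card) hθf
    let D : Setup A (G ⧸ F) (Additive F) :=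
      { r := r
        σ := σ
        θ := θ
        comp := fun g x m => by
          obtain ⟨y, rfl⟩ := QuotientGroup.mk_surjective x
          refine congrArg Additive.ofMul (Subtype.ext ?_)
          show φ g (r₀ (y : G ⧸ F) (Additive.toMul m) : F) =
            ((r₀ (θ g (y : G ⧸ F)) (s₀ g (Additive.toMul m)) : F) : G)
          rw [hθv, hr, hr, hsv, map_mul, map_mul, map_inv]
        norm := fun m => by
          have h : ∀ k, σ k (∑ g, σ g m) = ∑ g, σ g m := fun k => by
            rw [map_sum]
            refine Fintype.sum_equiv (Equiv.mulLeft k) _ _ fun g => ?_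
            show σ k (σ g m) = σ (k * g) m
            rw [map_mul σ k g]; rfl
          exact Additive.toMul.injective (Subtype.ext (hfp _ fun g =>
            congrArg Subtype.val (congrArg Additive.toMul (h g))))
        fixX := hθf
        inj := fun x hx => by
          obtain ⟨g, rfl⟩ := QuotientGroup.mk_surjective x
          refine (QuotientGroup.eq_one_iff g).mpr (hCF (mem_centralizer_iff.mpr fun f hf => ?_))
          have h1 := congrArg Subtype.val (congrArg Additive.toMul (hx (Additive.ofMul ⟨f, hf⟩)))
          have h2 : ((r₀ (g : G ⧸ F) ⟨f, hf⟩ : F) : G) = f := h1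
          rw [hr] at h2
          exact (mul_inv_eq_iff_eq_mul.mp h2).symm
        noFix := fun N hN hNi hNb m hm => by
          haveI := hN
          obtain ⟨B, hBn, hBb, hBN, hBmin⟩ := exists_minimal_normal_le' N hNb
          haveI := hBn
          haveI hBc := commutative_of_minimal_normal B inferInstance hBb hBmin
          haveI : Fact q.Prime := ⟨hq⟩
          haveI hBnil : Group.IsNilpotent B := by
            let : CommGroup B := { (inferInstance : Group B) with mul_comm := fun a b => mul_comm' a b }
            exact CommGroup.isNilpotent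
          have hBF : B ≤ fittingSubgroup (G ⧸ F) := le_fittingSubgroup hBnil
          generalize hZ : N ⊓ fittingSubgroup (G ⧸ F) = Z
          haveI : Z.Normal := hZ ▸ inferInstance
          have hZb : Z ≠ ⊥ := fun h => hBb (le_bot_iff.mp (h ▸ hZ ▸ le_inf hBN hBF))
          have hZi : ∀ g, ∀ z ∈ Z, θ g z ∈ Z := fun g z hz => by
            rw [← hZ] at hz ⊢
            exact ⟨hNi g z hz.1, (map_equiv_fittingSubgroup (θ g)).le (mem_map_of_mem _ hz.2)⟩
          have hcopFZ : (Nat.card F).Coprime (Nat.card Z) :=
            (show (Nat.card F).Coprime _ from hco).coprime_dvd_right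
              (card_dvd_of_le (hZ ▸ inf_le_right))
          have hmfix : ∀ z : Z, r₀ z (Additive.toMul m) = Additive.toMul m := fun z =>
            congrArg Additive.toMul (hm z (hZ.symm.le z.2).1)
          -- fixed points and the kernel of the norm
          haveI := Fintype.ofFinite Z
          let nrm : F →* F := ∏ z : Z, (r₀ (z : G ⧸ F)).toMonoidHom
          have hnv : ∀ f, nrm f = ∏ z : Z, r₀ (z : G ⧸ F) f := fun f => by
            simp [nrm, MonoidHom.finsetProd_apply]
          let C : Subgroup F := ⨅ z : Z, MonoidHom.eqLocus (r₀ (z : G ⧸ F)).toMonoidHom (MonoidHom.id F)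
          have hCm : ∀ f, f ∈ C ↔ ∀ z : Z, r₀ z f = f := fun f => by simp [C, mem_iInf]; rfl
          have hZconj : ∀ x : G ⧸ F, ∀ z : Z, x⁻¹ * z * x ∈ Z := fun x z => by
            simpa using (inferInstance : Z.Normal).conj_mem _ z.2 x⁻¹
          have hnrm : ∀ x : G ⧸ F, ∀ f, nrm (r₀ x f) = r₀ x (nrm f) := by
            intro x f
            rw [hnv, hnv, map_prod]
            refine Fintype.prod_bijective (fun z : Z => (⟨x⁻¹ * z * x, hZconj x z⟩ : Z)) ?_ _ _
              fun z => ?_
            · refine Finite.injective_iff_bijective.mp fun a b hab => Subtype.ext ?_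
              simpa using congrArg (fun t : Z => x * (t : G ⧸ F) * x⁻¹) hab
            · simp only [← MulAut.mul_apply, ← map_mul]
              congr 1
              congr 1
              group
          have hcomp : ∀ g x f, s₀ g (r₀ x f) = r₀ (θ g x) (s₀ g f) := by
            intro g x f
            obtain ⟨y, rfl⟩ := QuotientGroup.mk_surjective x
            refine Subtype.ext ?_
            rw [hθv, hsv, hr, hr, hsv, map_mul, map_mul, map_inv]
          have hnrms : ∀ g f, nrm (s₀ g f) = s₀ g (nrm f) := by
            intro g f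
            rw [hnv, hnv, map_prod]
            simp only [hcomp]
            have hb : Function.Bijective fun z : Z => (⟨θ g z, hZi g z z.2⟩ : Z) :=
              Finite.injective_iff_bijective.mp fun a b hab =>
                Subtype.ext ((θ g).injective (congrArg Subtype.val hab))
            exact (Fintype.prod_bijective _ hb _ _ fun z => rfl).symm
          have hKn : (nrm.ker.map F.subtype).Normal := by
            refine ⟨?_⟩
            rintro _ ⟨f, hf, rfl⟩ g
            refine ⟨r₀ (g : G ⧸ F) f, ?_, hr g f⟩
            rw [SetLike.mem_coe, MonoidHom.mem_ker] at hf ⊢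
            rw [hnrm, hf, map_one]
          have hCn : (C.map F.subtype).Normal := by
            refine ⟨?_⟩
            rintro _ ⟨f, hf, rfl⟩ g
            refine ⟨r₀ (g : G ⧸ F) f, (hCm _).mpr fun z => ?_, hr g f⟩
            have h1 := (hCm f).mp hf ⟨_, hZconj (g : G ⧸ F) z⟩
            conv_rhs => rw [← h1]
            simp only [← MulAut.mul_apply, ← map_mul]
            congr 1
            congr 1
            group
          have hinvar : ∀ S : Subgroup F, (∀ g, ∀ f ∈ S, s₀ g f ∈ S) →
              ∀ g, (S.map F.subtype).map (φ g).toMonoidHom = S.map F.subtype := by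
            intro S hS g
            refine eq_of_le_of_card_ge ?_
              (le_of_eq (card_map_of_injective (f := (φ g).toMonoidHom) (φ g).injective).symm)
            rintro _ ⟨_, ⟨f, hf, rfl⟩, rfl⟩
            exact ⟨s₀ g f, hS g f hf, hsv g f⟩
          have hKi := hinvar nrm.ker fun g f hf => by
            rw [MonoidHom.mem_ker] at hf ⊢
            rw [hnrms, hf, map_one]
          have hCi := hinvar C fun g f hf => (hCm _).mpr fun z => by
            have h1 := congrArg (s₀ g) ((hCm f).mp hf ⟨θ g⁻¹ z, hZi g⁻¹ z z.2⟩)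
            have e : θ g (θ g⁻¹ (z : G ⧸ F)) = z := by
              rw [← MulAut.mul_apply, ← map_mul θ, mul_inv_cancel, map_one, MulAut.one_apply]
            rw [hcomp] at h1
            simp only [e] at h1
            exact h1
          have hdisj : C ⊓ nrm.ker = ⊥ := by
            rw [eq_bot_iff]
            rintro f ⟨hf, hn⟩
            replace hn : nrm f = 1 := hn
            rw [hnv, Finset.prod_congr rfl fun z _ => (hCm f).mp hf z, Finset.prod_const,
              Finset.card_univ, ← Nat.card_eq_fintype_card] at hn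
            have := pow_gcd_eq_one.mpr ⟨hn, pow_card_eq_one' (x := f)⟩
            rwa [Nat.Coprime.gcd_eq_one hcopFZ.symm, pow_one] at this
          by_contra hm0
          have hCb : C.map F.subtype ≠ ⊥ := fun h => hm0 (Additive.toMul.injective (Subtype.ext
            (mem_bot.mp (h ▸ mem_map_of_mem F.subtype ((hCm _).mpr hmfix)))))
          have hKb : nrm.ker.map F.subtype = ⊥ := by
            by_contra hKb
            refine hprod _ _ hCn hKn hCi hKi hCb hKb ?_
            rw [← map_inf _ _ _ F.subtype_injective, hdisj, Subgroup.map_bot]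
          rw [map_eq_bot_iff_of_injective _ F.subtype_injective] at hKb
          have hinjn : Function.Injective nrm := (MonoidHom.ker_eq_bot_iff _).mp hKb
          refine hZb ((eq_bot_iff_forall _).mpr fun z hz => ?_)
          have hz1 : ∀ f, r₀ z f = f := fun f => hinjn (by
            rw [hnv, hnv]
            simp only [← MulAut.mul_apply, ← map_mul]
            exact Fintype.prod_equiv (Equiv.mulRight (⟨z, hz⟩ : Z)) _ _ fun t => rfl)
          obtain ⟨y, rfl⟩ := QuotientGroup.mk_surjective z
          refine (QuotientGroup.eq_one_iff y).mpr (hCF (mem_centralizer_iff.mpr fun f hf => ?_))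
          have h2 := congrArg Subtype.val (hz1 ⟨f, hf⟩)
          rw [hr] at h2
          exact (mul_inv_eq_iff_eq_mul.mp h2).symm }
    exact main (G ⧸ F) (Additive F) D (hcop.coprime_dvd_right F.card_quotient_dvd_card)
      ((hcop.coprime_dvd_right F.card_subgroup_dvd_card).symm) hco hX
  haveI := main'
  exact Group.nilpotent_of_mulEquiv (QuotientGroup.quotientMulEquivOfEq hF.symm)

theorem exists_nilpotent_quotient {G : Type u} [Group G] [Finite G]
    (main : ∀ (X : Type u) [Group X] [Finite X] [Group.IsSolvable X] (M : Type u) [AddCommGroup M]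
      [Finite M], Setup A X M → (Nat.card A).Coprime (Nat.card X) →
      (Nat.card M).Coprime (Nat.card A) → (Nat.card M).Coprime (Nat.card (fittingSubgroup X)) →
      Group.IsNilpotent (X ⧸ fittingSubgroup X) → Group.IsNilpotent X)
    (φ : A →* MulAut G) (hsolv : Group.IsSolvable G) (hcop : (Nat.card A).Coprime (Nat.card G))
    (hfp : ∀ x, (∀ g, φ g x = x) → x = 1) : Group.IsNilpotent (G ⧸ fittingSubgroup G) :=
  height_aux main _ G φ rfl hsolv hcop hfp

end CfsgLib.Core.OpSetup
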