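import Cfsg.Agent.Lib.Core.Hall
import Cfsg.Agent.Lib.Classical.LinearOrder
import Cfsg.Agent.Lib.Classical.Dickson.PlatonicIff
import Cfsg.Agent.Lib.Known.SL2Char.Normalizers

/-!
# Hall `{2,3}`-subgroups of `PSL(2, q)`

* `exists_torusNormalizer`: solvable subgroups of order `q - 1` and `q + 1` of `PSL(2, q)`, `q` odd
* `hall_two_three_iff`
-/

set_option autoImplicit false
set_option linter.all false

namespace CfsgLib.Core.PSLHall

open Matrix CfsgLib.SL2Char CfsgLib.PLocal.SLTwo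

variable {F : Type*} [Field F] [Fintype F]

/-- The image in `PSL` of the normaliser of a torus: solvable, of the order of the torus. -/
theorem torusNormalizer_image (h2 : (2 : F) ≠ 0) {x w : S2 F} (hx : NonScalar x)
    (hd : tr x ^ 2 ≠ 4) (hw : w * x * w⁻¹ = x⁻¹) :
    ∃ D : Subgroup (ProjectiveSpecialLinearGroup (Fin 2) F), Group.IsSolvable D ∧
      Nat.card D = Nat.card (Subgroup.centralizer ({x} : Set (S2 F))) := by
  set C := Subgroup.centralizer ({x} : Set (S2 F)) with hC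
  set N := Subgroup.normalizer (C : Set (S2 F)) with hN
  haveI := Classical.Two.isCyclic_centralizer hx hd
  have hNc : Nat.card N = 2 * Nat.card C := card_normalizer h2 hx hd hw
  have hsol : Group.IsSolvable N := by
    haveI : (C.subgroupOf N).Normal :=
      Subgroup.normal_subgroupOf_of_le_normalizer le_rfl
    haveI : Group.IsSolvable (C.subgroupOf N) :=
      Group.isSolvable_of_comm fun a b =>
        Subtype.ext (Subtype.ext (congrArg (fun z : C => (z : S2 F))
          (IsCyclic.commGroup.mul_comm (⟨(a : S2 F), a.2⟩ : C) ⟨(b : S2 F), b.2⟩)))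
    have hidx : (C.subgroupOf N).index = 2 := by
      have h := (C.subgroupOf N).index_mul_card
      rw [hNc, Nat.card_congr (Subgroup.subgroupOfEquivOfLe Subgroup.le_normalizer).toEquiv] at h
      exact Nat.eq_of_mul_eq_mul_right Nat.card_pos h
    haveI : Fact (Nat.Prime 2) := ⟨Nat.prime_two⟩
    haveI : IsCyclic (N ⧸ C.subgroupOf N) := isCyclic_of_prime_card hidx
    haveI : Group.IsSolvable (N ⧸ C.subgroupOf N) :=
      Group.isSolvable_of_comm fun a b => IsCyclic.commGroup.mul_comm a b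
    exact Group.isSolvable_of_ker_le_range (C.subgroupOf N).subtype
      (QuotientGroup.mk' (C.subgroupOf N)) (by rw [Subgroup.range_subtype, QuotientGroup.ker_mk'])
  set π := QuotientGroup.mk' (Subgroup.center (S2 F)) with hπ
  refine ⟨N.map π, isSolvable_map π hsol, ?_⟩
  have hZN : Subgroup.center (S2 F) ≤ N :=
    (Subgroup.center_le_centralizer ({x} : Set (S2 F))).trans Subgroup.le_normalizer
  have h := CfsgLib.Core.card_mul_card_map_mk' (Subgroup.center (S2 F)) N hZN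
  have hZ : Nat.card (Subgroup.center (S2 F)) = 2 := by
    haveI : NeZero (2 : F) := ⟨h2⟩
    rw [CfsgLib.Classical.card_center_SL, Fintype.card_fin]
    refine Nat.gcd_eq_left ?_
    have hodd : Fintype.card F % 2 = 1 := FiniteField.odd_card_of_char_ne_two fun h => h2 (by
      haveI : CharP F 2 := h ▸ ringChar.charP F
      exact CharTwo.two_eq_zero)
    omega
  rw [hZ, hNc] at h
  exact Nat.eq_of_mul_eq_mul_left two_pos h

theorem exists_torusNormalizer (h2 : (2 : F) ≠ 0) (hq : 3 < Fintype.card F) :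
    (∃ D : Subgroup (ProjectiveSpecialLinearGroup (Fin 2) F), Group.IsSolvable D ∧
      Nat.card D = Fintype.card F - 1) ∧
    (∃ D : Subgroup (ProjectiveSpecialLinearGroup (Fin 2) F), Group.IsSolvable D ∧
      Nat.card D = Fintype.card F + 1) := by
  constructor
  · obtain ⟨a, ha⟩ := exists_unit_sq_ne_one hq
    obtain ⟨D, hD, hc⟩ := torusNormalizer_image h2 (x := diagS a) (w := weylS)
      (nonScalar_diag rfl rfl ha) (tr_sq_ne_diag rfl rfl ha) (weylS_conj_diag rfl rfl)
    refine ⟨D, hD, ?_⟩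
    rw [hc, card_centralizer_diag rfl rfl ha, Nat.card_eq_fintype_card]
  · obtain ⟨x, hx⟩ := exists_elliptic_SL (F := F)
    obtain ⟨w, hw⟩ := exists_inverter hx
    obtain ⟨D, hD, hc⟩ := torusNormalizer_image h2 (nonScalar_of_elliptic hx)
      (tr_sq_ne_of_elliptic hx) hw
    exact ⟨D, hD, hc.trans (card_centralizer_SL hx)⟩

/-! ### Arithmetic -/

theorem not_dvd_six_of {n : ℕ} (h : ∀ p : ℕ, p.Prime → p ∈ ({2, 3} : Set ℕ) → ¬ p ∣ n) :
    ¬ 2 ∣ n ∧ ¬ 3 ∣ n :=
  ⟨h 2 Nat.prime_two (by simp), h 3 Nat.prime_three (by simp)⟩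

theorem piPart_eq {n i j t : ℕ} (hn : n = 2 ^ i * 3 ^ j * t) (h2 : ¬ 2 ∣ t) (h3 : ¬ 3 ∣ t) :
    2 ^ n.factorization 2 * 3 ^ n.factorization 3 = 2 ^ i * 3 ^ j := by
  have ht : t ≠ 0 := fun h => h2 (h ▸ dvd_zero 2)
  subst hn
  rw [Nat.factorization_mul (by positivity) ht, Nat.factorization_mul (by positivity) (by positivity),
    Finsupp.add_apply, Finsupp.add_apply, Finsupp.add_apply, Finsupp.add_apply,
    Nat.Prime.factorization_pow Nat.prime_two, Nat.Prime.factorization_pow Nat.prime_three,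
    Nat.factorization_eq_zero_of_not_dvd h2, Nat.factorization_eq_zero_of_not_dvd h3]
  simp

theorem pow_dvd_piPart {n r k : ℕ} (hn : n ≠ 0) (hr : r = 2 ∨ r = 3) (h : r ^ k ∣ n) :
    r ^ k ∣ 2 ^ n.factorization 2 * 3 ^ n.factorization 3 := by
  rcases hr with rfl | rfl
  · exact dvd_mul_of_dvd_left
      (pow_dvd_pow 2 ((Nat.prime_two.pow_dvd_iff_le_factorization hn).mp h)) _
  · exact dvd_mul_of_dvd_right
      (pow_dvd_pow 3 ((Nat.prime_three.pow_dvd_iff_le_factorization hn).mp h)) _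

theorem two_pow_dvd_of_piPart {n k : ℕ}
    (h : 2 ^ k ∣ 2 ^ n.factorization 2 * 3 ^ n.factorization 3) : 2 ^ k ∣ n :=
  (((Nat.coprime_pow_primes _ _ Nat.prime_two Nat.prime_three (by norm_num)).dvd_of_dvd_mul_right
    h)).trans (Nat.ordProj_dvd n 2)

/-- Arithmetical core: what a subgroup of index prime to `6` of dihedral or cyclic shape forces. -/
theorem shape_cyclic {q n i : ℕ} (hq : q % 2 = 1) (hG : 2 * (n * i) = q * ((q + 1) * (q - 1)))
    (hn : 0 < n) (hdvd : n ∣ (q + 1) / 2 ∨ n ∣ (q - 1) / 2) : 2 ∣ i := by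
  rcases hdvd with ⟨k, hk⟩ | ⟨k, hk⟩
  · have hb : q + 1 = 2 * (n * k) := by omega
    obtain ⟨c, hc⟩ : 2 ∣ q - 1 := by omega
    rw [hb, hc] at hG
    refine ⟨q * k * c, Nat.eq_of_mul_eq_mul_left (show 0 < 2 * n by omega) ?_⟩
    linarith
  · have ha : q - 1 = 2 * (n * k) := by omega
    obtain ⟨c, hc⟩ : 2 ∣ q + 1 := by omega
    rw [ha, hc] at hG
    refine ⟨q * k * c, Nat.eq_of_mul_eq_mul_left (show 0 < 2 * n by omega) ?_⟩
    linarith

theorem shape_dihedral {q n i : ℕ} (hq : q % 2 = 1) (hG : 2 * (2 * n * i) = q * ((q + 1) * (q - 1)))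
    (hn : 0 < n) (hdvd : n ∣ (q + 1) / 2 ∨ n ∣ (q - 1) / 2) (h3 : 3 ∣ n) (hi : ¬ 2 ∣ i) :
    (3 ∣ q - 1 ∧ q % 4 = 1) ∨ (3 ∣ q + 1 ∧ q % 4 = 3) := by
  rcases hdvd with ⟨k, hk⟩ | ⟨k, hk⟩
  · have hb : q + 1 = 2 * (n * k) := by omega
    refine Or.inr ⟨hb ▸ (h3.mul_right k).mul_left 2, ?_⟩
    by_contra h4
    obtain ⟨c, hc⟩ : 4 ∣ q - 1 := by omega
    rw [hb, hc] at hG
    refine hi ⟨q * k * c, Nat.eq_of_mul_eq_mul_left (show 0 < 4 * n by omega) ?_⟩
    linarith
  · have ha : q - 1 = 2 * (n * k) := by omega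
    refine Or.inl ⟨ha ▸ (h3.mul_right k).mul_left 2, ?_⟩
    by_contra h4
    obtain ⟨c, hc⟩ : 4 ∣ q + 1 := by omega
    rw [ha, hc] at hG
    refine hi ⟨q * k * c, Nat.eq_of_mul_eq_mul_left (show 0 < 4 * n by omega) ?_⟩
    linarith

/-! ### The criterion -/

theorem hall_two_three_iff {p : ℕ} [Fact p.Prime] [CharP F p] (hp : 5 ≤ p) (q : ℕ)
    (hq : Fintype.card F = q) :
    (∃ H : Subgroup (ProjectiveSpecialLinearGroup (Fin 2) F), Cfsg.IsPiHall ({2, 3} : Set ℕ) H) ↔
      (3 ∣ q - 1 ∧ q % 4 = 1) ∨ (3 ∣ q + 1 ∧ q % 4 = 3) ∨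
        2 ^ (q ^ 2 - 1).factorization 2 * 3 ^ (q ^ 2 - 1).factorization 3 = 24 ∨
        2 ^ (q ^ 2 - 1).factorization 2 * 3 ^ (q ^ 2 - 1).factorization 3 = 48 := by
  have hpp : p.Prime := Fact.out
  obtain ⟨f, hpf, hqf⟩ : ∃ f : ℕ, p.Prime ∧ q = p ^ f ∧ 1 ≤ f := by
    obtain ⟨n, -, hn⟩ := FiniteField.card F p
    exact ⟨n, hpp, hq ▸ hn, n.pos⟩
  have hqf' := hqf.1
  have hp2 : ¬ 2 ∣ p := fun h => by have := (Nat.prime_dvd_prime_iff_eq Nat.prime_two hpp).mp h; omega
  have hp3 : ¬ 3 ∣ p := fun h => by have := (Nat.prime_dvd_prime_iff_eq Nat.prime_three hpp).mp h; omega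
  have hq2 : ¬ 2 ∣ q := fun h => hp2 (Nat.prime_two.dvd_of_dvd_pow (hqf' ▸ h))
  have hq3 : ¬ 3 ∣ q := fun h => hp3 (Nat.prime_three.dvd_of_dvd_pow (hqf' ▸ h))
  have hq5 : 5 ≤ q := hqf' ▸ hp.trans (Nat.le_self_pow (by omega) p)
  have hqodd : q % 2 = 1 := by omega
  have h2 : (2 : F) ≠ 0 := Classical.Two.two_ne_zero_of_char (p := p) (by omega)
  have hsq : q ^ 2 - 1 = (q + 1) * (q - 1) := by rw [← Nat.sq_sub_sq, one_pow]
  have hsq0 : q ^ 2 - 1 ≠ 0 := by
    rw [hsq]; exact Nat.mul_ne_zero (by omega) (by omega)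
  have hgcd : Nat.gcd 2 (q - 1) = 2 := Nat.gcd_eq_left (by omega)
  set G := ProjectiveSpecialLinearGroup (Fin 2) F
  have hG : 2 * Nat.card G = q * ((q + 1) * (q - 1)) := by
    have h := Classical.Two.card_PSL_two (F := F)
    rw [hq, hgcd, hsq] at h
    exact h
  constructor
  · rintro ⟨H, hH1, hH2⟩
    obtain ⟨hi2, hi3⟩ := not_dvd_six_of hH2
    have hHi : Nat.card H * H.index = Nat.card G := H.card_mul_index
    have hG' : 2 * (Nat.card H * H.index) = q * ((q + 1) * (q - 1)) := by rw [hHi]; exact hG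
    have hpH : ¬ p ∣ Nat.card H := fun h => by
      have := hH1 p hpp h
      simp only [Set.mem_insert_iff, Set.mem_singleton_iff] at this
      omega
    have h3H : 3 ∣ Nat.card H := by
      have : 3 ∣ 2 * (Nat.card H * H.index) := by
        rw [hG']
        refine dvd_mul_of_dvd_right ?_ _
        have : 3 ∣ q + 1 ∨ 3 ∣ q - 1 := by
          rcases (show q % 3 = 1 ∨ q % 3 = 2 by omega) with h | h
          · exact Or.inr (by omega)
          · exact Or.inl (by omega)
        rcases this with h | h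
        · exact h.mul_right _
        · exact h.mul_left _
      rcases Nat.prime_three.dvd_mul.mp this with h | h
      · omega
      · exact (Nat.prime_three.dvd_mul.mp h).resolve_right hi3
    have hsmall : ∀ i j : ℕ, Nat.card H * 2 = 2 ^ i * 3 ^ j →
        2 ^ (q ^ 2 - 1).factorization 2 * 3 ^ (q ^ 2 - 1).factorization 3 = 2 ^ i * 3 ^ j := by
      intro i j hij
      have h : 2 ^ i * 3 ^ j * H.index = q * (q ^ 2 - 1) := by rw [← hij, hsq, ← hG']; ring
      have hqi : q ∣ H.index := by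
        refine Nat.Coprime.dvd_of_dvd_mul_left ?_ ⟨q ^ 2 - 1, h⟩
        exact ((Nat.prime_two.coprime_iff_not_dvd.mpr hq2).symm.pow_right i).mul_right
          ((Nat.prime_three.coprime_iff_not_dvd.mpr hq3).symm.pow_right j)
      obtain ⟨t, ht⟩ := hqi
      refine piPart_eq (t := t) ?_ (fun h' => hi2 (ht ▸ h'.mul_left q))
        (fun h' => hi3 (ht ▸ h'.mul_left q))
      refine Nat.eq_of_mul_eq_mul_left (show 0 < q by omega) ?_
      rw [← h, ht]; ring
    rcases Classical.Dickson.subgroup_cases p hq H with ⟨-, -, hd⟩ | ⟨hpd, -⟩ |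
      ⟨n, hn2, -, hd, ⟨e⟩⟩ | ⟨⟨e⟩⟩ | ⟨⟨e⟩⟩ | ⟨⟨e⟩⟩ | ⟨a, m, -, -, ha, h⟩
    · rw [hgcd] at hd
      exact absurd (shape_cyclic hqodd hG' Nat.card_pos hd) hi2
    · exact absurd hpd hpH
    · rw [hgcd] at hd
      have hc : Nat.card H = 2 * n := by rw [Nat.card_congr e.toEquiv, DihedralGroup.nat_card]
      rw [hc] at hG' h3H
      have h3n : 3 ∣ n := by omega
      rcases shape_dihedral hqodd hG' (by omega) hd h3n hi2 with h | h
      · exact Or.inl h
      · exact Or.inr (Or.inl h)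
    · refine Or.inr (Or.inr (Or.inl ?_))
      have hc : Nat.card H = 12 := by
        rw [Nat.card_congr e.toEquiv, nat_card_alternatingGroup, Nat.card_fin]; rfl
      exact (hsmall 3 1 (by rw [hc]; norm_num)).trans (by norm_num)
    · refine Or.inr (Or.inr (Or.inr ?_))
      have hc : Nat.card H = 24 := by
        rw [Nat.card_congr e.toEquiv, Nat.card_perm, Nat.card_fin]; rfl
      exact (hsmall 4 1 (by rw [hc]; norm_num)).trans (by norm_num)
    · have hc : Nat.card H = 60 := by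
        rw [Nat.card_congr e.toEquiv, nat_card_alternatingGroup, Nat.card_fin]; rfl
      have := hH1 5 (by norm_num) (hc ▸ by norm_num)
      simp at this
    · exfalso
      rcases h with ⟨hc, -⟩ | ⟨-, hc, -⟩
      · exact hpH (hc ▸ (dvd_pow_self p ha).mul_right _)
      · have : p ∣ 2 * Nat.card H := hc ▸ (dvd_pow_self p ha).mul_right _
        rcases hpp.dvd_mul.mp this with h | h
        · have := Nat.le_of_dvd two_pos h; omega
        · exact hpH h
  · intro h
    have key : ∀ D : Subgroup G, Group.IsSolvable D → ∀ c : ℕ, Nat.card D * (2 * c) =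
        q * ((q + 1) * (q - 1)) → ¬ 2 ∣ c → ¬ 3 ∣ c →
        ∃ H : Subgroup G, Cfsg.IsPiHall ({2, 3} : Set ℕ) H := by
      intro D hD c hc hc2 hc3
      haveI := hD
      obtain ⟨H, hH1, hH2⟩ := CfsgLib.Core.exists_piHall (G := D) ({2, 3} : Set ℕ)
      have hDi : D.index = c := by
        refine Nat.eq_of_mul_eq_mul_left (Nat.card_pos (α := D)) ?_
        have := D.card_mul_index
        nlinarith
      refine ⟨H.map D.subtype, fun r hr hd => hH1 r hr ?_, fun r hr hrπ hd => ?_⟩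
      · rwa [Subgroup.card_map_of_injective D.subtype_injective] at hd
      · rw [Subgroup.index_map_subtype, hDi] at hd
        rcases hr.dvd_mul.mp hd with h | h
        · exact hH2 r hr hrπ h
        · simp only [Set.mem_insert_iff, Set.mem_singleton_iff] at hrπ
          rcases hrπ with rfl | rfl
          · exact hc2 h
          · exact hc3 h
    have small : ∀ (D : Subgroup G) (i : ℕ), (∀ r : ℕ, r.Prime → r ∣ Nat.card D → r ∈ ({2, 3} : Set ℕ)) →
        Nat.card D * 2 = 2 ^ i * 3 →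
        2 ^ (q ^ 2 - 1).factorization 2 * 3 ^ (q ^ 2 - 1).factorization 3 = 2 ^ i * 3 →
        Cfsg.IsPiHall ({2, 3} : Set ℕ) D := by
      intro D i hD hc hP
      refine ⟨hD, fun r hr hrπ hd => ?_⟩
      obtain ⟨t, ht⟩ := hd
      have h : 2 ^ i * 3 * (r * t) = q * (q ^ 2 - 1) := by
        rw [← hc, hsq, ← hG, ← D.card_mul_index, ht]; ring
      simp only [Set.mem_insert_iff, Set.mem_singleton_iff] at hrπ
      rcases hrπ with rfl | rfl
      · have hd' : 2 ^ (i + 1) ∣ q ^ 2 - 1 :=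
          ((Nat.prime_two.coprime_iff_not_dvd.mpr hq2).pow_left (i + 1)).dvd_of_dvd_mul_left
            ⟨3 * t, by rw [← h]; ring⟩
        have hd'' := pow_dvd_piPart hsq0 (Or.inl rfl) hd'
        rw [hP, pow_succ, Nat.mul_dvd_mul_iff_left (by positivity)] at hd''
        norm_num at hd''
      · have hd' : 3 ^ 2 ∣ q ^ 2 - 1 :=
          ((Nat.prime_three.coprime_iff_not_dvd.mpr hq3).pow_left 2).dvd_of_dvd_mul_left
            ⟨2 ^ i * t, by rw [← h]; ring⟩
        have hd'' := pow_dvd_piPart hsq0 (Or.inr rfl) hd'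
        rw [hP, sq, Nat.mul_dvd_mul_iff_right (by norm_num)] at hd''
        exact absurd (Nat.prime_three.dvd_of_dvd_pow hd'') (by norm_num)
    have hprime : ∀ r : ℕ, r.Prime → ∀ k : ℕ, r ∣ 2 ^ k * 3 → r ∈ ({2, 3} : Set ℕ) := by
      intro r hr k hd
      rcases hr.dvd_mul.mp hd with h | h
      · simp [(Nat.prime_dvd_prime_iff_eq hr Nat.prime_two).mp (hr.dvd_of_dvd_pow h)]
      · simp [(Nat.prime_dvd_prime_iff_eq hr Nat.prime_three).mp h]
    obtain ⟨⟨Da, hDa, hDac⟩, ⟨Db, hDb, hDbc⟩⟩ := exists_torusNormalizer (F := F) h2 (by omega)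
    rw [hq] at hDac hDbc
    rcases h with ⟨h3, h4⟩ | ⟨h3, h4⟩ | h24 | h48
    · obtain ⟨c, hc⟩ : 2 ∣ q + 1 := by omega
      refine key Da hDa (q * c) (by rw [hDac, hc]; ring) (fun h => ?_) (fun h => ?_)
      · rcases Nat.prime_two.dvd_mul.mp h with h | h <;> omega
      · rcases Nat.prime_three.dvd_mul.mp h with h | h <;> omega
    · obtain ⟨c, hc⟩ : 2 ∣ q - 1 := by omega
      refine key Db hDb (q * c) (by rw [hDbc, hc]; ring) (fun h => ?_) (fun h => ?_)
      · rcases Nat.prime_two.dvd_mul.mp h with h | h <;> omega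
      · rcases Nat.prime_three.dvd_mul.mp h with h | h <;> omega
    · obtain ⟨D, ⟨e⟩⟩ := (Classical.Dickson.alt_four_iff p f (hq.trans hqf')).mpr (fun h => by omega)
      have hc : Nat.card D = 12 := by
        rw [Nat.card_congr e.toEquiv, nat_card_alternatingGroup, Nat.card_fin]; rfl
      refine ⟨D, small D 3 (fun r hr hd => ?_) (by rw [hc]; norm_num) (h24.trans (by norm_num))⟩
      rw [hc] at hd
      exact hprime r hr (2 : ℕ) (hd.trans (by norm_num))
    · have h16 : 2 ^ 4 ∣ q ^ 2 - 1 := two_pow_dvd_of_piPart (h48 ▸ by norm_num)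
      have hmod : q ^ 2 % 16 = 1 := by
        have : 1 ≤ q ^ 2 := Nat.one_le_pow _ _ (by omega)
        omega
      obtain ⟨D, ⟨e⟩⟩ := (Classical.Dickson.perm_four_iff hq).mpr hmod
      have hc : Nat.card D = 24 := by
        rw [Nat.card_congr e.toEquiv, Nat.card_perm, Nat.card_fin]; rfl
      refine ⟨D, small D 4 (fun r hr hd => ?_) (by rw [hc]; norm_num) (h48.trans (by norm_num))⟩
      rw [hc] at hd
      exact hprime r hr (3 : ℕ) (hd.trans (by norm_num))

end CfsgLib.Core.PSLHall
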