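import Mathlib
import Cfsg.Prelude.Def_HallClasses
import Cfsg.Agent.Lib.Transfer.Conj

/-!
# Pronormality of overgroups of Sylow subgroups

* `pronormal_map`, `pronormal_subgroupOf`, `pronormal_comap`, `pronormal_of_selfNormalizing`
* `image_normalizer`, `extension_criterion`
-/

set_option autoImplicit false
set_option linter.all false

namespace CfsgLib.Core.PronormalOver

open Subgroup

universe u v

variable {G : Type u} [Group G]

theorem map_conj_mul (K : Subgroup G) (a b : G) : K.map (MulAut.conj (a * b)).toMonoidHom =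
    (K.map (MulAut.conj b).toMonoidHom).map (MulAut.conj a).toMonoidHom := by
  rw [Subgroup.map_map]; congr 1; ext y; simp [mul_assoc]

theorem map_conj_hom {H : Type v} [Group H] (f : G →* H) (K : Subgroup G) (g : G) :
    (K.map (MulAut.conj g).toMonoidHom).map f = (K.map f).map (MulAut.conj (f g)).toMonoidHom := by
  rw [Subgroup.map_map, Subgroup.map_map]; congr 1; ext y; simp

theorem pronormal_map {H : Type v} [Group H] (f : G →* H) (hf : Function.Surjective f) {K : Subgroup G}
    (h : Cfsg.IsPronormal K) : Cfsg.IsPronormal (K.map f) := by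
  intro y
  obtain ⟨g, rfl⟩ := hf y
  obtain ⟨x, hx, he⟩ := h g
  refine ⟨f x, ?_, ?_⟩
  · rw [← map_conj_hom, ← Subgroup.map_sup]
    exact mem_map_of_mem f hx
  · rw [← map_conj_hom, he, map_conj_hom]

theorem pronormal_subgroupOf {K N : Subgroup G} (hK : K ≤ N) (h : Cfsg.IsPronormal K) :
    Cfsg.IsPronormal (K.subgroupOf N) := by
  intro a
  obtain ⟨x, hx, he⟩ := h (a : G)
  have hmap := map_subgroupOf_eq_of_le hK
  have e : ∀ b : N, ((K.subgroupOf N).map (MulAut.conj b).toMonoidHom).map N.subtype =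
      K.map (MulAut.conj (b : G)).toMonoidHom := fun b => by
    rw [map_conj_hom, hmap]; rfl
  have hsup : ((K.subgroupOf N ⊔ (K.subgroupOf N).map (MulAut.conj a).toMonoidHom)).map N.subtype =
      K ⊔ K.map (MulAut.conj (a : G)).toMonoidHom := by rw [Subgroup.map_sup, hmap, e]
  rw [← hsup] at hx
  obtain ⟨x', hx', rfl⟩ := hx
  exact ⟨x', hx', Subgroup.map_injective N.subtype_injective (by rw [e, e]; exact he)⟩

theorem pronormal_equiv_iff {H : Type v} [Group H] (e : G ≃* H) (K : Subgroup G) :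
    Cfsg.IsPronormal (K.map e.toMonoidHom) ↔ Cfsg.IsPronormal K := by
  refine ⟨fun h => ?_, pronormal_map _ e.surjective⟩
  have := pronormal_map e.symm.toMonoidHom e.symm.surjective h
  rwa [Subgroup.map_map, show e.symm.toMonoidHom.comp e.toMonoidHom = MonoidHom.id G by ext x; simp,
    Subgroup.map_id] at this

theorem exists_sylow_le_iff [Finite G] {p : ℕ} [Fact p.Prime] {K : Subgroup G} :
    (∃ P : Sylow p G, (P : Subgroup G) ≤ K) ↔ ¬ p ∣ K.index := by
  constructor
  · rintro ⟨P, hP⟩ hd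
    exact P.not_dvd_index (hd.trans (Subgroup.index_dvd_of_le hP))
  · intro hd
    obtain ⟨Q⟩ := (Sylow.nonempty : Nonempty (Sylow p K))
    have hp : IsPGroup p ((Q : Subgroup K).map K.subtype) := Q.isPGroup'.map _
    refine ⟨hp.toSylow ?_, map_subtype_le _⟩
    rw [Subgroup.index_map_subtype]
    exact fun h => ((Fact.out : p.Prime).dvd_mul.1 h).elim Q.not_dvd_index hd

/-- Elements normalising a pronormal subgroup modulo `A` come from its normalizer. -/
theorem image_normalizer [Finite G] {A : Subgroup G} [A.Normal] {K : Subgroup G} (h : Cfsg.IsPronormal K) :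
    (Subgroup.normalizer (K : Set G)).map (QuotientGroup.mk' A) =
      Subgroup.normalizer ((K.map (QuotientGroup.mk' A) : Subgroup (G ⧸ A)) : Set (G ⧸ A)) := by
  refine le_antisymm ?_ ?_
  · exact le_normalizer_map _
  intro y hy
  obtain ⟨g, rfl⟩ := QuotientGroup.mk'_surjective A y
  obtain ⟨x, hx, he⟩ := h g
  have hKA : x ∈ (K.map (QuotientGroup.mk' A)).comap (QuotientGroup.mk' A) := by
    refine (sup_le (le_comap_map _ _) ?_) hx
    refine map_le_iff_le_comap.1 ?_
    rw [map_conj_hom, CfsgLib.Transfer.map_conj_eq_self_iff.2 hy]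
  obtain ⟨k, hk, hkx⟩ := mem_comap.1 hKA
  have hn : x⁻¹ * g ∈ Subgroup.normalizer (K : Set G) := by
    rw [← CfsgLib.Transfer.map_conj_eq_self_iff, map_conj_mul, he, ← map_conj_mul, inv_mul_cancel]
    ext z; simp
  refine ⟨k * (x⁻¹ * g), mul_mem (le_normalizer hk) hn, ?_⟩
  rw [map_mul, hkx, ← map_mul, mul_inv_cancel_left]

theorem pronormal_of_selfNormalizing [Finite G] {p : ℕ} [Fact p.Prime] (P : Sylow p G)
    (hP : Subgroup.normalizer ((P : Subgroup G) : Set G) = P) {K : Subgroup G} (hPK : (P : Subgroup G) ≤ K) :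
    Subgroup.normalizer (K : Set G) = K ∧ Cfsg.IsPronormal K := by
  have hfr : ∀ g : G, ∀ R : Subgroup G, K ≤ R → K.map (MulAut.conj g).toMonoidHom ≤ R →
      ∃ x ∈ R, x⁻¹ * g ∈ K := by
    intro g R hKR hgR
    have h1 : (P : Subgroup G) ≤ R := hPK.trans hKR
    have h2 : ((g • P : Sylow p G) : Subgroup G) ≤ R := (Subgroup.map_mono hPK).trans hgR
    obtain ⟨x, hx⟩ := MulAction.exists_smul_eq R (P.subtype h1) ((g • P).subtype h2)
    have hx' : (x : G) • P = g • P := by
      rw [Sylow.smul_subtype h1 x] at hx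
      exact Sylow.subtype_injective hx
    refine ⟨x, x.2, hPK (hP.le ?_)⟩
    refine Sylow.smul_eq_iff_mem_normalizer.1 ?_
    rw [mul_smul, ← hx', inv_smul_smul]
  refine ⟨le_antisymm (fun g hg => ?_) le_normalizer, fun g => ?_⟩
  · obtain ⟨x, hx, hxg⟩ := hfr g K le_rfl (CfsgLib.Transfer.map_conj_eq_self_iff.2 hg).le
    have := mul_mem hx hxg
    rwa [mul_inv_cancel_left] at this
  · obtain ⟨x, hx, hxg⟩ := hfr g _ le_sup_left le_sup_right
    refine ⟨x, hx, ?_⟩
    rw [show g = x * (x⁻¹ * g) by group, map_conj_mul,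
      CfsgLib.Transfer.map_conj_eq_self_iff.2 (le_normalizer hxg)]

/-- The extension criterion. -/
theorem extension_criterion [Finite G] {p : ℕ} [Fact p.Prime] (A : Subgroup G) [A.Normal]
    (hA : ∀ K : Subgroup A, ¬ p ∣ K.index → Cfsg.IsPronormal K)
    (hQ : ∀ K : Subgroup (G ⧸ A), ¬ p ∣ K.index → Cfsg.IsPronormal K)
    (P : Sylow p A) (N : Subgroup G) (hN : N = Subgroup.normalizer (((P : Subgroup A).map A.subtype : Subgroup G) : Set G))
    [hTn : (((P : Subgroup A).map A.subtype).subgroupOf N).Normal] :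
    (∀ K : Subgroup G, ¬ p ∣ K.index → Cfsg.IsPronormal K) ↔
      ((∀ K : Subgroup (N ⧸ ((P : Subgroup A).map A.subtype).subgroupOf N), ¬ p ∣ K.index → Cfsg.IsPronormal K) ∧
        ∀ K : Subgroup G, ¬ p ∣ K.index → (Subgroup.normalizer (K : Set G)).map (QuotientGroup.mk' A) =
          Subgroup.normalizer ((K.map (QuotientGroup.mk' A) : Subgroup (G ⧸ A)) : Set (G ⧸ A))) := by
  set T := (P : Subgroup A).map A.subtype with hT
  have hTA : T ≤ A := map_subtype_le _
  have hTN : T ≤ N := hN ▸ le_normalizer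
  -- a Sylow subgroup meets `A` in a Sylow subgroup
  have hinter : ∀ S : Sylow p G, ∃ b ∈ A, ((S : Subgroup G) ⊓ A) = T.map (MulAut.conj b).toMonoidHom := by
    intro S
    obtain ⟨S₁, hS₁⟩ := P.exists_comap_subtype_eq
    obtain ⟨g, hg⟩ := MulAction.exists_smul_eq G S₁ S
    have hp : IsPGroup p (((S : Subgroup G) ⊓ A).subgroupOf A) :=
      (S.isPGroup'.to_le inf_le_left).of_equiv (subgroupOfEquivOfLe inf_le_right).symm
    have hcard : Nat.card T ≤ Nat.card ((S : Subgroup G) ⊓ A : Subgroup G) := by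
      have h1 : T ≤ (S₁ : Subgroup G) ⊓ A := by
        refine le_inf ?_ hTA
        rw [hT, ← hS₁]; exact map_comap_le _ _
      have h2 : ((S₁ : Subgroup G) ⊓ A).map (MulAut.conj g).toMonoidHom ≤ (S : Subgroup G) ⊓ A := by
        refine le_inf ?_ ?_
        · rw [← hg]; exact Subgroup.map_mono inf_le_left
        · rintro _ ⟨a, ha, rfl⟩; exact (‹A.Normal›).conj_mem a ha.2 g
      calc Nat.card T ≤ Nat.card ((S₁ : Subgroup G) ⊓ A : Subgroup G) := Subgroup.card_le_of_le h1
        _ = _ := (CfsgLib.Transfer.card_map_conj g _).symm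
        _ ≤ _ := Subgroup.card_le_of_le h2
    obtain ⟨R, hR⟩ := hp.exists_le_sylow
    obtain ⟨b, hb⟩ := MulAction.exists_smul_eq A P R
    refine ⟨b, b.2, Subgroup.eq_of_le_of_card_ge ?_ ?_⟩
    · intro x hx
      have h3 := hR (show (⟨x, hx.2⟩ : A) ∈ ((S : Subgroup G) ⊓ A).subgroupOf A from hx)
      rw [← hb, Sylow.coe_subgroup_smul] at h3
      obtain ⟨y, hy, hyx⟩ := h3
      exact ⟨y, mem_map_of_mem _ hy, congrArg Subtype.val hyx⟩
    · rw [CfsgLib.Transfer.card_map_conj]; exact hcard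
  have hconjA : ∀ b ∈ A, ∀ S : Sylow p G, ((S : Subgroup G) ⊓ A) = T.map (MulAut.conj b).toMonoidHom →
      ((b⁻¹ • S : Sylow p G) : Subgroup G) ⊓ A = T := by
    intro b hb S h
    have h2 : ((S : Subgroup G) ⊓ A).map (MulAut.conj b⁻¹).toMonoidHom = T := by
      rw [h, ← map_conj_mul, inv_mul_cancel]; ext z; simp
    rw [← h2, Subgroup.map_inf _ _ _ (MulAut.conj b⁻¹).injective,
      (CfsgLib.Transfer.map_conj_eq_self_iff (H := A)).2 (by rw [normalizer_eq_top_iff.2 ‹A.Normal›]; trivial)]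
    rfl
  obtain ⟨S₀, hS₀⟩ : ∃ S : Sylow p G, (S : Subgroup G) ⊓ A = T := by
    obtain ⟨S⟩ := (Sylow.nonempty : Nonempty (Sylow p G))
    obtain ⟨b, hb, h⟩ := hinter S
    exact ⟨_, hconjA b hb S h⟩
  have hSN : ∀ S : Sylow p G, (S : Subgroup G) ⊓ A = T → (S : Subgroup G) ≤ N := fun S h => by
    rw [hN]
    intro s hs
    rw [← CfsgLib.Transfer.map_conj_eq_self_iff, ← h, Subgroup.map_inf _ _ _ (MulAut.conj s).injective,
      CfsgLib.Transfer.map_conj_eq_self_iff.2 (le_normalizer hs),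
      (CfsgLib.Transfer.map_conj_eq_self_iff (H := A)).2 (by rw [normalizer_eq_top_iff.2 ‹A.Normal›]; trivial)]
  have hNi : ¬ p ∣ N.index := exists_sylow_le_iff.1 ⟨S₀, hSN S₀ hS₀⟩
  constructor
  · intro hG
    refine ⟨fun K hK => ?_, fun K hK => image_normalizer (hG K hK)⟩
    set π := QuotientGroup.mk' (T.subgroupOf N)
    set L := (K.comap π).map N.subtype with hL
    have hLN : L ≤ N := map_subtype_le _
    have hLi : ¬ p ∣ L.index := by
      rw [hL, Subgroup.index_map_subtype, index_comap_of_surjective _ (QuotientGroup.mk'_surjective _)]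
      exact fun h => ((Fact.out : p.Prime).dvd_mul.1 h).elim hK hNi
    have h1 := pronormal_subgroupOf hLN (hG L hLi)
    rw [hL, subgroupOf, comap_map_eq_self_of_injective N.subtype_injective] at h1
    have h2 := pronormal_map π (QuotientGroup.mk'_surjective _) h1
    rwa [map_comap_eq_self_of_surjective (QuotientGroup.mk'_surjective _)] at h2
  rintro ⟨hi, hii⟩ H hH
  obtain ⟨S, hS⟩ := exists_sylow_le_iff.2 hH
  -- it suffices to treat a conjugate
  obtain ⟨b, hb, hbS⟩ := hinter S
  rw [← pronormal_equiv_iff (MulAut.conj b⁻¹) H]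
  set H₁ := H.map (MulAut.conj b⁻¹).toMonoidHom with hH₁
  have hS₁ : ((b⁻¹ • S : Sylow p G) : Subgroup G) ⊓ A = T := hconjA b hb S hbS
  have hS₁H : ((b⁻¹ • S : Sylow p G) : Subgroup G) ≤ H₁ := Subgroup.map_mono hS
  have hH₁i : ¬ p ∣ H₁.index := exists_sylow_le_iff.1 ⟨_, hS₁H⟩
  clear_value H₁
  clear hH₁ hH hS hbS hb H
  set S₁ := (b⁻¹ • S : Sylow p G) with hS₁d
  -- notation: conjugation and the subgroup generated by two conjugates
  have hcl : ∀ (g x : G), x ∈ H₁ ⊔ H₁.map (MulAut.conj g).toMonoidHom →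
      (∃ y ∈ H₁ ⊔ H₁.map (MulAut.conj (x⁻¹ * g)).toMonoidHom,
        H₁.map (MulAut.conj (x⁻¹ * g)).toMonoidHom = H₁.map (MulAut.conj y).toMonoidHom) →
      ∃ y ∈ H₁ ⊔ H₁.map (MulAut.conj g).toMonoidHom,
        H₁.map (MulAut.conj g).toMonoidHom = H₁.map (MulAut.conj y).toMonoidHom := by
    rintro g x hx ⟨y, hy, he⟩
    set J := H₁ ⊔ H₁.map (MulAut.conj g).toMonoidHom
    have : y ∈ J := by
      refine SetLike.le_def.1 (sup_le le_sup_left ?_) hy
      rw [map_conj_mul]
      refine le_trans (Subgroup.map_mono (le_sup_right : _ ≤ J)) ?_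
      rintro _ ⟨z, hz, rfl⟩
      exact mul_mem (mul_mem (inv_mem hx) hz) (by rw [inv_inv]; exact hx)
    refine ⟨x * y, mul_mem hx this, ?_⟩
    rw [map_conj_mul _ x y, ← he, ← map_conj_mul, mul_inv_cancel_left]
  have hAn : ∀ g, A.map (MulAut.conj g).toMonoidHom = A := fun g =>
    (CfsgLib.Transfer.map_conj_eq_self_iff (H := A)).2 (by rw [normalizer_eq_top_iff.2 ‹A.Normal›]; trivial)
  set K := H₁ ⊓ A with hK
  have hTK : T ≤ K := by rw [← hS₁]; exact inf_le_inf_right A hS₁H
  -- the case of an element normalising `T` and `K`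
  have case3 : ∀ a ∈ A, a ∈ N → K.map (MulAut.conj a).toMonoidHom = K →
      ∃ y ∈ H₁ ⊔ H₁.map (MulAut.conj a).toMonoidHom,
        H₁.map (MulAut.conj a).toMonoidHom = H₁.map (MulAut.conj y).toMonoidHom := by
    intro a haA haN haK
    set π := QuotientGroup.mk' (T.subgroupOf N)
    set M := (H₁ ⊓ N).subgroupOf N with hM
    have hker : T.subgroupOf N ≤ M := fun z hz => ⟨(hTK hz).1, z.2⟩
    have hMi : ¬ p ∣ (M.map π).index := by
      rw [Subgroup.index_map_eq M (QuotientGroup.mk'_surjective _)]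
      swap
      · rw [QuotientGroup.ker_mk']; exact hker
      exact exists_sylow_le_iff.1 ⟨S₁.subtype (hSN _ hS₁), fun z hz => ⟨hS₁H hz, z.2⟩⟩
    obtain ⟨y, hy, he⟩ := hi _ hMi (π ⟨a, haN⟩)
    have hmapM : ∀ c : N, (M.map (MulAut.conj c).toMonoidHom).map N.subtype =
        (H₁ ⊓ N).map (MulAut.conj (c : G)).toMonoidHom := fun c => by
      rw [map_conj_hom, hM, map_subgroupOf_eq_of_le inf_le_right]; rfl
    have hkc : ∀ c : N, T.subgroupOf N ≤ M.map (MulAut.conj c).toMonoidHom := fun c => by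
      intro z hz
      exact ⟨c⁻¹ * z * c, hker (by simpa using hTn.conj_mem z hz c⁻¹), by simp [mul_assoc]⟩
    rw [← map_conj_hom, ← Subgroup.map_sup] at hy
    obtain ⟨c, hc, rfl⟩ := hy
    rw [← map_conj_hom, ← map_conj_hom] at he
    have he' : M.map (MulAut.conj (⟨a, haN⟩ : N)).toMonoidHom = M.map (MulAut.conj c).toMonoidHom := by
      have := congrArg (comap π) he
      rwa [comap_map_eq_self (by rw [QuotientGroup.ker_mk']; exact hkc _),
        comap_map_eq_self (by rw [QuotientGroup.ker_mk']; exact hkc _)] at this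
    have hcJ : (c : G) ∈ H₁ ⊔ H₁.map (MulAut.conj a).toMonoidHom := by
      have h1 := mem_map_of_mem N.subtype hc
      rw [Subgroup.map_sup, hmapM, hM, map_subgroupOf_eq_of_le inf_le_right] at h1
      exact sup_le_sup inf_le_left (Subgroup.map_mono inf_le_left) h1
    refine ⟨c, hcJ, ?_⟩
    have hH₁K : H₁ = K ⊔ (H₁ ⊓ N) := by
      refine le_antisymm (fun h hh => ?_) (sup_le inf_le_left inf_le_left)
      -- Frattini argument for `T` inside `K`
      have hhK : K.map (MulAut.conj h).toMonoidHom = K := by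
        rw [hK, Subgroup.map_inf _ _ _ (MulAut.conj h).injective,
          CfsgLib.Transfer.map_conj_eq_self_iff.2 (le_normalizer hh), hAn]
      obtain ⟨k, hk, hkT⟩ : ∃ k ∈ K, T.map (MulAut.conj k).toMonoidHom = T.map (MulAut.conj h).toMonoidHom := by
        have hTp : IsPGroup p (T.subgroupOf K) := (P.isPGroup'.map _).of_equiv (subgroupOfEquivOfLe hTK).symm
        have hTi : ¬ p ∣ (T.subgroupOf K).index := fun h => P.not_dvd_index (by
          have h' : (T.relIndex K) ∣ T.relIndex A :=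
            ⟨_, (relIndex_mul_relIndex T K A hTK inf_le_right).symm⟩
          have e : T.relIndex A = (P : Subgroup A).index := by
            rw [relIndex, hT, subgroupOf, comap_map_eq_self_of_injective A.subtype_injective]
          exact e ▸ h.trans h')
        have hle : T.map (MulAut.conj h).toMonoidHom ≤ K := (Subgroup.map_mono hTK).trans hhK.le
        obtain ⟨R, hR⟩ := (((P.isPGroup'.map A.subtype).map (MulAut.conj h).toMonoidHom).of_equiv
          (subgroupOfEquivOfLe hle).symm : IsPGroup p ((T.map (MulAut.conj h).toMonoidHom).subgroupOf K)).exists_le_sylow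
        obtain ⟨k, hk⟩ := MulAction.exists_smul_eq K (hTp.toSylow hTi) R
        refine ⟨k, k.2, (Subgroup.eq_of_le_of_card_ge (fun x hx => ?_) ?_).symm⟩
        · have h3 := hR (show (⟨x, hle hx⟩ : K) ∈ (T.map (MulAut.conj h).toMonoidHom).subgroupOf K from hx)
          rw [← hk, Sylow.coe_subgroup_smul] at h3
          obtain ⟨z, hz, hzx⟩ := h3
          exact ⟨z, hz, congrArg Subtype.val hzx⟩
        · rw [CfsgLib.Transfer.card_map_conj, CfsgLib.Transfer.card_map_conj]
      have hn : k⁻¹ * h ∈ H₁ ⊓ N := ⟨H₁.mul_mem (H₁.inv_mem hk.1) hh, by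
        show k⁻¹ * h ∈ N
        rw [hN, ← CfsgLib.Transfer.map_conj_eq_self_iff, map_conj_mul, ← hkT, ← map_conj_mul, inv_mul_cancel]
        ext z; simp⟩
      rw [show h = k * (k⁻¹ * h) by group]
      exact mul_mem (mem_sup_left hk) (mem_sup_right hn)
    have hJK : H₁ ⊔ H₁.map (MulAut.conj a).toMonoidHom ≤ Subgroup.normalizer (K : Set G) := by
      have h1 : H₁ ≤ Subgroup.normalizer (K : Set G) := fun h hh => by
        rw [← CfsgLib.Transfer.map_conj_eq_self_iff, hK, Subgroup.map_inf _ _ _ (MulAut.conj h).injective,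
          CfsgLib.Transfer.map_conj_eq_self_iff.2 (le_normalizer hh), hAn]
      refine sup_le h1 ?_
      calc H₁.map (MulAut.conj a).toMonoidHom ≤ (Subgroup.normalizer (K : Set G)).map (MulAut.conj a).toMonoidHom :=
            Subgroup.map_mono h1
        _ = _ := by rw [← CfsgLib.Transfer.normalizer_map_conj, haK]
    conv_lhs => rw [hH₁K]
    conv_rhs => rw [hH₁K]
    rw [Subgroup.map_sup, Subgroup.map_sup, haK, CfsgLib.Transfer.map_conj_eq_self_iff.2 (hJK hcJ),
      ← hmapM ⟨a, haN⟩, he', hmapM]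
  -- the case of an element of `A`
  have case2 : ∀ a ∈ A, ∃ y ∈ H₁ ⊔ H₁.map (MulAut.conj a).toMonoidHom,
      H₁.map (MulAut.conj a).toMonoidHom = H₁.map (MulAut.conj y).toMonoidHom := by
    intro a haA
    have hKi : ¬ p ∣ (K.subgroupOf A).index := exists_sylow_le_iff.1 ⟨P, fun z hz => hTK (mem_map_of_mem _ hz)⟩
    obtain ⟨x, hx, he⟩ := hA _ hKi ⟨a, haA⟩
    have hxJ : (x : G) ∈ H₁ ⊔ H₁.map (MulAut.conj a).toMonoidHom := by
      have h1 := mem_map_of_mem A.subtype hx
      rw [Subgroup.map_sup, map_conj_hom, map_subgroupOf_eq_of_le inf_le_right] at h1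
      exact sup_le_sup inf_le_left (Subgroup.map_mono inf_le_left) h1
    have hax : K.map (MulAut.conj ((x : G)⁻¹ * a)).toMonoidHom = K := by
      have h1 := congrArg (Subgroup.map A.subtype) he
      rw [map_conj_hom, map_conj_hom, map_subgroupOf_eq_of_le inf_le_right] at h1
      rw [map_conj_mul]
      erw [h1]
      rw [← map_conj_mul]
      simp only [Subgroup.coe_subtype, inv_mul_cancel]
      ext z; simp [hK]
    refine hcl a x hxJ ?_
    set a' := (x : G)⁻¹ * a
    have ha'A : a' ∈ A := mul_mem (inv_mem x.2) haA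
    -- move `T` back by an element of `K`
    obtain ⟨k, hk, hkT⟩ : ∃ k ∈ K, T.map (MulAut.conj k).toMonoidHom = T.map (MulAut.conj a').toMonoidHom := by
      have hle : T.map (MulAut.conj a').toMonoidHom ≤ K := (Subgroup.map_mono hTK).trans hax.le
      have hTp : IsPGroup p (T.subgroupOf K) := (P.isPGroup'.map _).of_equiv (subgroupOfEquivOfLe hTK).symm
      have hTi : ¬ p ∣ (T.subgroupOf K).index := fun h => P.not_dvd_index (by
        have h' : (T.relIndex K) ∣ T.relIndex A :=
          ⟨_, (relIndex_mul_relIndex T K A hTK inf_le_right).symm⟩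
        have e : T.relIndex A = (P : Subgroup A).index := by
          rw [relIndex, hT, subgroupOf, comap_map_eq_self_of_injective A.subtype_injective]
        exact e ▸ h.trans h')
      obtain ⟨R, hR⟩ := (((P.isPGroup'.map A.subtype).map (MulAut.conj a').toMonoidHom).of_equiv
        (subgroupOfEquivOfLe hle).symm : IsPGroup p ((T.map (MulAut.conj a').toMonoidHom).subgroupOf K)).exists_le_sylow
      obtain ⟨k, hk⟩ := MulAction.exists_smul_eq K (hTp.toSylow hTi) R
      refine ⟨k, k.2, (Subgroup.eq_of_le_of_card_ge (fun x hx => ?_) ?_).symm⟩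
      · have h3 := hR (show (⟨x, hle hx⟩ : K) ∈ (T.map (MulAut.conj a').toMonoidHom).subgroupOf K from hx)
        rw [← hk, Sylow.coe_subgroup_smul] at h3
        obtain ⟨z, hz, hzx⟩ := h3
        exact ⟨z, hz, congrArg Subtype.val hzx⟩
      · rw [CfsgLib.Transfer.card_map_conj, CfsgLib.Transfer.card_map_conj]
    refine hcl a' k (mem_sup_left hk.1) (case3 _ (mul_mem (inv_mem hk.2) ha'A) ?_ ?_)
    · rw [hN, ← CfsgLib.Transfer.map_conj_eq_self_iff, map_conj_mul, ← hkT, ← map_conj_mul, inv_mul_cancel]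
      ext z; simp
    · rw [map_conj_mul, hax, CfsgLib.Transfer.map_conj_eq_self_iff]
      exact inv_mem (le_normalizer hk)
  -- the general case
  intro g
  have hHi : ¬ p ∣ (H₁.map (QuotientGroup.mk' A)).index := fun h =>
    hH₁i (h.trans (Subgroup.index_map_dvd _ (QuotientGroup.mk'_surjective _)))
  obtain ⟨y, hy, he⟩ := hQ _ hHi (QuotientGroup.mk' A g)
  rw [← map_conj_hom, ← Subgroup.map_sup] at hy
  obtain ⟨x, hx, rfl⟩ := hy
  refine hcl g x hx ?_
  have hn : QuotientGroup.mk' A (x⁻¹ * g) ∈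
      Subgroup.normalizer ((H₁.map (QuotientGroup.mk' A) : Subgroup (G ⧸ A)) : Set (G ⧸ A)) := by
    rw [← CfsgLib.Transfer.map_conj_eq_self_iff, map_mul, map_conj_mul, he, ← map_conj_mul, map_inv, inv_mul_cancel]
    ext z; simp
  rw [← hii H₁ hH₁i] at hn
  obtain ⟨n, hn, hne⟩ := hn
  rw [QuotientGroup.mk'_eq_mk'] at hne
  obtain ⟨a, ha, hna⟩ := hne
  have hg' : H₁.map (MulAut.conj (x⁻¹ * g)).toMonoidHom = H₁.map (MulAut.conj (n * a * n⁻¹)).toMonoidHom := by
    conv_rhs => rw [map_conj_mul, CfsgLib.Transfer.map_conj_eq_self_iff.2 (inv_mem hn), hna]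
  rw [hg']
  exact case2 _ ((‹A.Normal›).conj_mem a ha n)

end CfsgLib.Core.PronormalOver
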