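import Mathlib.GroupTheory.GroupAction.Quotient
import Mathlib.LinearAlgebra.Eigenspace.Basic
import Mathlib.LinearAlgebra.Eigenspace.Minpoly
import Mathlib.LinearAlgebra.Eigenspace.Triangularizable
import Mathlib.RingTheory.RootsOfUnity.AlgebraicallyClosed
import Mathlib.Algebra.Order.Chebyshev
import Mathlib.Tactic

/-!
# Irreducible modules of groups of class two

`U` acts irreducibly, `Z ⊇ U'` acts by scalars and the commutator pairing on `U ⧸ Z` is
nondegenerate. Then the cosets of `Z` give a basis of the endomorphisms. If `θ` is an automorphism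
of prime order `q` fixing `Z` and `f` cosets, then it is induced by an operator, and this has all
`q`-th roots of unity as eigenvalues unless `|U : Z| ≤ (q - 1) ^ 2 * f`.
-/

set_option autoImplicit false
set_option linter.all false

namespace CfsgLib.Core.Sympl

open scoped commutatorElement

variable {k : Type*} [Field k] {U : Type*} [Group U] [Finite U] {W : Type*} [AddCommGroup W]
  [Module k W]

/-- The standing hypotheses. -/
structure Data (k : Type*) [Field k] (U : Type*) [Group U] (W : Type*) [AddCommGroup W]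
    [Module k W] where
  r : U →* Module.End k W
  Z : Subgroup U
  normal : Z.Normal
  c : U → k
  scal : ∀ z ∈ Z, r z = c z • 1
  comm : ∀ u v : U, ⁅u, v⁆ ∈ Z
  nd : ∀ u, u ∉ Z → ∃ v, c ⁅u, v⁆ ≠ 1
  irr : ∀ W' : Submodule k W, (∀ u, ∀ w ∈ W', r u w ∈ W') → W' = ⊥ ∨ W' = ⊤
  nontriv : Nontrivial W
  card_ne : (Nat.card (U ⧸ Z) : k) ≠ 0

namespace Data

variable (D : Data k U W)

theorem r_mul (u v : U) : D.r (u * v) = D.r u * D.r v := map_mul _ _ _

include D in
theorem smul_one_inj {a b : k} (h : a • (1 : Module.End k W) = b • 1) : a = b := by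
  haveI := D.nontriv
  obtain ⟨w, hw⟩ := exists_ne (0 : W)
  exact smul_left_injective k hw (LinearMap.congr_fun h w)

theorem r_inv_mul (u : U) : D.r u⁻¹ * D.r u = 1 := by rw [← D.r_mul, inv_mul_cancel, map_one]

theorem r_mul_inv (u : U) : D.r u * D.r u⁻¹ = 1 := by rw [← D.r_mul, mul_inv_cancel, map_one]

theorem comm_rel (u v : U) : D.r u * D.r v = D.c ⁅u, v⁆ • (D.r v * D.r u) := by
  rw [← D.r_mul, ← D.r_mul, show u * v = ⁅u, v⁆ * (v * u) by rw [commutatorElement_def]; group,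
    D.r_mul, D.scal _ (D.comm u v), smul_mul_assoc, one_mul]

theorem c_eq {u v : U} {a : k} (h : D.r u * D.r v = a • (D.r v * D.r u)) : D.c ⁅u, v⁆ = a := by
  apply D.smul_one_inj
  have e := congrArg (· * (D.r u⁻¹ * D.r v⁻¹)) ((D.comm_rel u v).symm.trans h)
  simp only [smul_mul_assoc, ← D.r_mul] at e
  simpa [mul_assoc] using e

theorem c_mul_left (u u' v : U) : D.c ⁅u * u', v⁆ = D.c ⁅u, v⁆ * D.c ⁅u', v⁆ := by
  apply D.c_eq
  rw [D.r_mul, mul_assoc, D.comm_rel u', mul_smul_comm, ← mul_assoc, D.comm_rel u, smul_mul_assoc,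
    smul_smul, mul_assoc, mul_comm (D.c _)]

theorem c_swap (u v : U) : D.c ⁅u, v⁆ * D.c ⁅v, u⁆ = 1 := by
  apply D.smul_one_inj
  have h := D.comm_rel u v
  rw [D.comm_rel v u, smul_smul, ← D.r_mul] at h
  have e := congrArg (· * D.r (u * v)⁻¹) h
  simp only [smul_mul_assoc, ← D.r_mul, mul_inv_cancel, map_one] at e
  rw [one_smul]; exact e.symm

theorem c_one_left (v : U) : D.c ⁅(1 : U), v⁆ = 1 := D.c_eq (by simp)

theorem c_inv_left (u v : U) : D.c ⁅u⁻¹, v⁆ = D.c ⁅v, u⁆ := by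
  have h := D.c_mul_left u⁻¹ u v
  rw [inv_mul_cancel, D.c_one_left] at h
  calc D.c ⁅u⁻¹, v⁆ = D.c ⁅u⁻¹, v⁆ * (D.c ⁅u, v⁆ * D.c ⁅v, u⁆) := by rw [D.c_swap, mul_one]
    _ = _ := by rw [← mul_assoc, ← h, one_mul]

theorem c_left_of_mem {z : U} (hz : z ∈ D.Z) (v : U) : D.c ⁅z, v⁆ = 1 := by
  apply D.c_eq
  rw [D.scal z hz, smul_mul_assoc, one_mul, mul_smul_comm, mul_one, one_smul]

theorem c_congr {u u' : U} (h : (u : U ⧸ D.Z) = u') (v : U) : D.c ⁅u, v⁆ = D.c ⁅u', v⁆ := by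
  rw [QuotientGroup.eq] at h
  rw [show u' = u * (u⁻¹ * u') by group, D.c_mul_left, D.c_left_of_mem h, mul_one]

/-- The pairing. -/
noncomputable def χ (x : U ⧸ D.Z) (v : U) : k := D.c ⁅x.out, v⁆

theorem χ_mk (u v : U) : D.χ (u : U ⧸ D.Z) v = D.c ⁅u, v⁆ := D.c_congr (Quotient.out_eq _) v

section
variable [Fintype (U ⧸ D.Z)]

theorem sum_χ {w : U} (hw : w ∉ D.Z) : ∑ x, D.χ x w = 0 := by
  haveI := D.normal
  obtain ⟨v, hv⟩ := D.nd w hw
  have hv' : D.c ⁅v, w⁆ ≠ 1 := fun e => hv (by simpa [e] using D.c_swap w v)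
  have h : ∑ x, D.χ x w = D.c ⁅v, w⁆ * ∑ x, D.χ x w := by
    rw [Finset.mul_sum]
    refine (Fintype.sum_equiv (Equiv.mulLeft (v : U ⧸ D.Z)) _ _ fun x => ?_).symm
    induction x using QuotientGroup.induction_on with
    | _ u =>
      show D.c ⁅v, w⁆ * D.χ (u : U ⧸ D.Z) w = D.χ ((v * u : U) : U ⧸ D.Z) w
      rw [D.χ_mk, D.χ_mk, D.c_mul_left]
  by_contra hne
  exact hv' (mul_right_cancel₀ hne (by rw [one_mul]; exact h.symm))

theorem sum_χ_mem {w : U} (hw : w ∈ D.Z) : ∑ x, D.χ x w = (Nat.card (U ⧸ D.Z) : k) := by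
  have h : ∀ x, D.χ x w = 1 := fun x => by
    simpa [χ, D.c_left_of_mem hw] using D.c_swap x.out w
  simp [h]

/-- The average over the conjugates. -/
noncomputable def avg (X : Module.End k W) : Module.End k W :=
  ∑ x : U ⧸ D.Z, D.r x.out * X * D.r x.out⁻¹

theorem conj_congr {u u' : U} (h : (u : U ⧸ D.Z) = u') (X : Module.End k W) :
    D.r u * X * D.r u⁻¹ = D.r u' * X * D.r u'⁻¹ := by
  rw [QuotientGroup.eq] at h
  obtain ⟨z, hz, rfl⟩ : ∃ z ∈ D.Z, u' = u * z := ⟨_, h, by group⟩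
  have hc : D.c z • D.c z⁻¹ • (1 : Module.End k W) = 1 := by
    rw [← D.scal _ (inv_mem hz), ← one_mul (D.r z⁻¹), ← smul_mul_assoc, ← D.scal z hz, D.r_mul_inv]
  calc D.r u * X * D.r u⁻¹ = D.r u * (X * (D.c z • D.c z⁻¹ • 1)) * D.r u⁻¹ := by
        rw [hc, mul_one, mul_assoc]
    _ = D.r u * (D.r z * X * D.r z⁻¹) * D.r u⁻¹ := by
        rw [D.scal z hz, D.scal _ (inv_mem hz)]
        simp only [mul_smul_comm, smul_mul_assoc, mul_one, one_mul, smul_smul, mul_comm (D.c z)]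
    _ = D.r (u * z) * X * D.r (u * z)⁻¹ := by
        rw [mul_inv_rev, D.r_mul, D.r_mul]
        simp only [mul_assoc]

theorem avg_comm (X : Module.End k W) (u : U) : D.r u * D.avg X = D.avg X * D.r u := by
  haveI := D.normal
  rw [avg, Finset.mul_sum, Finset.sum_mul]
  refine Fintype.sum_equiv (Equiv.mulLeft (u : U ⧸ D.Z)) _ _ fun x => ?_
  induction x using QuotientGroup.induction_on with
  | _ v =>
    show D.r u * (D.r (v : U ⧸ D.Z).out * X * D.r (v : U ⧸ D.Z).out⁻¹) =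
      D.r ((u * v : U) : U ⧸ D.Z).out * X * D.r ((u * v : U) : U ⧸ D.Z).out⁻¹ * D.r u
    rw [D.conj_congr (u' := v) (Quotient.out_eq _),
      D.conj_congr (u' := u * v) (Quotient.out_eq _), mul_inv_rev,
      D.r_mul, D.r_mul]
    simp only [mul_assoc, D.r_inv_mul, mul_one]

end

variable [FiniteDimensional k W] [IsAlgClosed k]

/-- Schur's lemma. -/
theorem scalar_of_commute (X : Module.End k W) (h : ∀ u, D.r u * X = X * D.r u) :
    ∃ a : k, X = a • 1 := by
  haveI := D.nontriv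
  obtain ⟨a, ha⟩ := Module.End.exists_eigenvalue X
  refine ⟨a, ?_⟩
  rcases D.irr (X.eigenspace a) (fun u w hw => by
    rw [Module.End.mem_eigenspace_iff] at hw ⊢
    rw [← Module.End.mul_apply, ← h, Module.End.mul_apply, hw, map_smul]) with h0 | h1
  · exact absurd h0 ha
  · refine LinearMap.ext fun w => ?_
    exact Module.End.mem_eigenspace_iff.mp (h1.ge Submodule.mem_top)

variable [Fintype (U ⧸ D.Z)]

theorem exists_avg (X : Module.End k W) : ∃ a : k, D.avg X = a • 1 :=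
  D.scalar_of_commute _ (D.avg_comm X)

/-- The scalar of the average. -/
noncomputable def av (X : Module.End k W) : k := (D.exists_avg X).choose

theorem avg_eq (X : Module.End k W) : D.avg X = D.av X • 1 := (D.exists_avg X).choose_spec

/-- The basis vectors. -/
noncomputable def e (x : U ⧸ D.Z) : Module.End k W := D.r x.out

theorem avg_r (w : U) : D.avg (D.r w) = (∑ x, D.χ x w) • D.r w := by
  rw [avg, Finset.sum_smul]
  refine Finset.sum_congr rfl fun x _ => ?_
  rw [D.comm_rel, smul_mul_assoc, mul_assoc, D.r_mul_inv, mul_one]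
  rfl

theorem span (X : Module.End k W) : ∃ a : U ⧸ D.Z → k, X = ∑ x, a x • D.e x := by
  haveI := D.normal
  refine ⟨fun x => (Nat.card (U ⧸ D.Z) : k)⁻¹ * D.av (X * D.r x.out⁻¹), ?_⟩
  simp only [← smul_smul, ← Finset.smul_sum]
  have h : ∀ x : U ⧸ D.Z, D.av (X * D.r x.out⁻¹) • D.e x =
      ∑ y : U ⧸ D.Z, D.r y.out * (X * D.r x.out⁻¹) * D.r y.out⁻¹ * D.r x.out := by
    intro x
    rw [← Finset.sum_mul, show ∑ y : U ⧸ D.Z, D.r y.out * (X * D.r x.out⁻¹) * D.r y.out⁻¹ =
      D.avg (X * D.r x.out⁻¹) from rfl, D.avg_eq, smul_mul_assoc, one_mul]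
    rfl
  have h2 : ∀ x y : U ⧸ D.Z, D.r y.out * (X * D.r x.out⁻¹) * D.r y.out⁻¹ * D.r x.out =
      D.χ x y.out • (D.r y.out * X * D.r y.out⁻¹) := by
    intro x y
    have e1 : D.r x.out⁻¹ * D.r y.out⁻¹ * D.r x.out =
        D.c ⁅x.out⁻¹, y.out⁻¹⁆ • D.r y.out⁻¹ := by
      rw [D.comm_rel, smul_mul_assoc, mul_assoc, D.r_inv_mul, mul_one]
    rw [show D.r y.out * (X * D.r x.out⁻¹) * D.r y.out⁻¹ * D.r x.out =
      D.r y.out * X * (D.r x.out⁻¹ * D.r y.out⁻¹ * D.r x.out) by simp only [mul_assoc], e1,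
      mul_smul_comm]
    congr 1
    rw [D.c_inv_left, D.c_inv_left]
    rfl
  rw [Finset.sum_congr rfl fun x _ => h x, Finset.sum_comm,
    Finset.sum_congr rfl fun y _ => Finset.sum_congr rfl fun x _ => h2 x y]
  simp only [← Finset.sum_smul]
  rw [Finset.sum_eq_single ((1 : U) : U ⧸ D.Z)]
  · have hm : ((1 : U) : U ⧸ D.Z).out ∈ D.Z :=
      (QuotientGroup.eq_one_iff _).mp (by rw [QuotientGroup.out_eq']; rfl)
    rw [D.sum_χ_mem hm, smul_smul, inv_mul_cancel₀ D.card_ne, one_smul,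
      D.conj_congr (u' := 1) (Quotient.out_eq _)]
    simp
  · intro y _ hy
    rw [D.sum_χ (fun hm => hy ?_), zero_smul]
    rw [← QuotientGroup.out_eq' y, (QuotientGroup.eq_one_iff _).mpr hm]; rfl
  · intro h; exact absurd (Finset.mem_univ _) h

theorem indep (a : U ⧸ D.Z → k) (h : ∑ x, a x • D.e x = 0) (y : U ⧸ D.Z) : a y = 0 := by
  haveI := D.normal
  have h1 : D.avg ((∑ x, a x • D.e x) * D.r y.out⁻¹) = 0 := by simp [avg, h]
  simp only [Finset.sum_mul, smul_mul_assoc, e, ← D.r_mul] at h1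
  have hlin : D.avg (∑ x, a x • D.r (x.out * y.out⁻¹)) =
      ∑ x, a x • D.avg (D.r (x.out * y.out⁻¹)) := by
    simp only [avg, Finset.mul_sum, Finset.sum_mul, mul_smul_comm, smul_mul_assoc, Finset.smul_sum]
    exact Finset.sum_comm
  rw [hlin, Finset.sum_eq_single y] at h1
  · rw [mul_inv_cancel, D.avg_r, D.sum_χ_mem (one_mem _), map_one, smul_smul] at h1
    have := D.smul_one_inj (h1.trans (zero_smul k _).symm)
    exact (mul_eq_zero.mp this).resolve_right D.card_ne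
  · intro x _ hx
    rw [D.avg_r, D.sum_χ, zero_smul, smul_zero]
    intro hm
    apply hx
    have hm' := (QuotientGroup.eq_one_iff (N := D.Z) _).mpr hm
    rw [QuotientGroup.mk_mul, QuotientGroup.mk_inv, QuotientGroup.out_eq', QuotientGroup.out_eq',
      mul_inv_eq_one] at hm'
    exact hm'
  · intro h; exact absurd (Finset.mem_univ _) h

/-- The cosets give a basis of the endomorphisms. -/
theorem finrank_sq : Module.finrank k W * Module.finrank k W = Nat.card (U ⧸ D.Z) := by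
  rw [← Module.finrank_linearMap (R := k) (S := k), Nat.card_eq_fintype_card]
  let L : (U ⧸ D.Z → k) →ₗ[k] Module.End k W :=
    { toFun := fun a => ∑ x, a x • D.e x
      map_add' := fun a b => by simp [add_smul, Finset.sum_add_distrib]
      map_smul' := fun t a => by simp [Finset.smul_sum, smul_smul] }
  rw [← Module.finrank_fintype_fun_eq_card k (η := U ⧸ D.Z)]
  refine (LinearEquiv.ofBijective L ⟨?_, fun X => ?_⟩).finrank_eq.symm
  · exact LinearMap.ker_eq_bot.mp (LinearMap.ker_eq_bot'.mpr fun a ha => funext (D.indep a ha))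
  · obtain ⟨a, ha⟩ := D.span X
    exact ⟨a, ha.symm⟩

variable {q : ℕ} [hq : Fact q.Prime] (θ : MulAut U)

/-- An automorphism fixing the centre is induced by an operator. -/
theorem exists_intertwiner (hθ : ∀ z ∈ D.Z, θ z = z) :
    ∃ a : Module.End k W, Function.Bijective a ∧ ∀ u, a * D.r u = D.r (θ u) * a := by
  haveI := D.normal
  let B : Module.End k W → Module.End k W := fun X =>
    ∑ x : U ⧸ D.Z, D.r (θ x.out) * X * D.r x.out⁻¹
  have hcongr : ∀ {u u' : U}, (u : U ⧸ D.Z) = u' → ∀ X : Module.End k W,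
      D.r (θ u) * X * D.r u⁻¹ = D.r (θ u') * X * D.r u'⁻¹ := by
    intro u u' h X
    rw [QuotientGroup.eq] at h
    obtain ⟨z, hz, rfl⟩ : ∃ z ∈ D.Z, u' = u * z := ⟨_, h, by group⟩
    rw [map_mul, hθ z hz, mul_inv_rev, D.r_mul, D.r_mul, D.scal z hz, D.scal _ (inv_mem hz)]
    have hc : D.c z * D.c z⁻¹ = 1 := D.smul_one_inj (by
      rw [one_smul, ← smul_smul, ← D.scal _ (inv_mem hz), ← one_mul (D.r z⁻¹), ← smul_mul_assoc,
        ← D.scal z hz, D.r_mul_inv])
    simp only [mul_smul_comm, smul_mul_assoc, mul_one, one_mul, smul_smul]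
    rw [mul_comm (D.c z⁻¹), hc, one_smul]
  have hB : ∀ X u, B X * D.r u = D.r (θ u) * B X := by
    intro X u
    refine Eq.symm ?_
    simp only [B, Finset.mul_sum, Finset.sum_mul]
    refine Fintype.sum_equiv (Equiv.mulLeft (u : U ⧸ D.Z)) _ _ fun x => ?_
    induction x using QuotientGroup.induction_on with
    | _ v =>
      show D.r (θ u) * (D.r (θ (v : U ⧸ D.Z).out) * X * D.r (v : U ⧸ D.Z).out⁻¹) =
        D.r (θ ((u * v : U) : U ⧸ D.Z).out) * X * D.r ((u * v : U) : U ⧸ D.Z).out⁻¹ * D.r u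
      rw [hcongr (u' := v) (Quotient.out_eq _),
        hcongr (u' := u * v) (Quotient.out_eq _), mul_inv_rev, map_mul θ,
        D.r_mul, D.r_mul]
      simp only [mul_assoc, D.r_inv_mul, mul_one]
  by_cases hall : ∀ X, B X = 0
  · exfalso
    have h0 : ∑ y : U ⧸ D.Z, D.r (θ y.out⁻¹) * B (D.r (θ y.out)) = 0 := by simp [hall]
    have h1 : ∀ y x : U ⧸ D.Z,
        D.r (θ y.out⁻¹) * (D.r (θ x.out) * D.r (θ y.out) * D.r x.out⁻¹) =
          D.χ y x.out⁻¹ • (D.r (θ x.out) * D.r x.out⁻¹) := by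
      intro y x
      have e : D.r (θ x.out) * D.r (θ y.out) =
          D.c ⁅x.out, y.out⁆ • (D.r (θ y.out) * D.r (θ x.out)) := by
        rw [D.comm_rel, ← map_commutatorElement θ, hθ _ (D.comm _ _)]
      rw [e, smul_mul_assoc, mul_smul_comm, map_inv, ← mul_assoc, ← mul_assoc, D.r_inv_mul, one_mul]
      congr 1
      calc D.c ⁅x.out, y.out⁆ = D.c ⁅x.out, y.out⁆ * (D.c ⁅y.out, x.out⁻¹⁆ * D.c ⁅x.out⁻¹, y.out⁆) := by
            rw [D.c_swap, mul_one]
        _ = D.c ⁅y.out, x.out⁻¹⁆ * (D.c ⁅x.out, y.out⁆ * D.c ⁅y.out, x.out⁆) := by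
            rw [D.c_inv_left]; ring
        _ = D.χ y x.out⁻¹ := by rw [D.c_swap, mul_one]; rfl
    simp only [B, Finset.mul_sum] at h0
    rw [Finset.sum_comm, Finset.sum_congr rfl fun x _ => Finset.sum_congr rfl fun y _ => h1 y x]
      at h0
    simp only [← Finset.sum_smul] at h0
    rw [Finset.sum_eq_single ((1 : U) : U ⧸ D.Z)] at h0
    · have hm : ((1 : U) : U ⧸ D.Z).out ∈ D.Z :=
        (QuotientGroup.eq_one_iff _).mp (by rw [QuotientGroup.out_eq']; rfl)
      rw [D.sum_χ_mem (inv_mem hm), hθ _ hm, D.r_mul_inv] at h0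
      exact D.card_ne (D.smul_one_inj (h0.trans (zero_smul k _).symm))
    · intro x _ hx
      rw [D.sum_χ (fun hm => hx ?_), zero_smul]
      rw [← QuotientGroup.out_eq' x, (QuotientGroup.eq_one_iff _).mpr (inv_mem_iff.mp hm)]; rfl
    · intro h; exact absurd (Finset.mem_univ _) h
  · push Not at hall
    obtain ⟨X, hX⟩ := hall
    refine ⟨B X, ?_, hB X⟩
    have hinj : Function.Injective (B X) := by
      rw [← LinearMap.ker_eq_bot]
      refine (D.irr _ fun u w hw => ?_).resolve_right fun ht => hX (LinearMap.ker_eq_top.mp ht)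
      rw [LinearMap.mem_ker] at hw ⊢
      rw [← Module.End.mul_apply, hB, Module.End.mul_apply, hw, map_zero]
    exact ⟨hinj, LinearMap.injective_iff_surjective.mp hinj⟩

end Data

end CfsgLib.Core.Sympl
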